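import Mathlib
import Groth.Agent.Lib.Lead.RLR2

/-! Regular local rings: lifting regularity along a nonzerodivisor. -/

namespace Groth.Agent.Lead.RLR

open IsLocalRing Ideal RingTheory.Sequence

universe u
variable {R : Type u} [CommRing R]

/-- An ideal `J` and an ideal `m` containing the kernel of a surjection with the same image are
equal. -/
theorem eq_of_map_eq_of_ker_le {S : Type*} [CommRing S] (f : R →+* S)
    (hf : Function.Surjective f) {J m : Ideal R} (hJ : RingHom.ker f ≤ J) (hm : RingHom.ker f ≤ m)
    (h : J.map f = m.map f) : J = m := by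
  have h1 := Ideal.comap_map_of_surjective f hf J
  have h2 := Ideal.comap_map_of_surjective f hf m
  rw [h, h2] at h1
  have e1 : m ⊔ Ideal.comap f ⊥ = m := sup_eq_left.mpr hm
  have e2 : J ⊔ Ideal.comap f ⊥ = J := sup_eq_left.mpr hJ
  rw [e1, e2] at h1
  exact h1.symm

theorem spanFinrank_maximalIdeal_le_quotient_add_one [IsLocalRing R] [IsNoetherianRing R]
    {x : R} (hx : x ∈ maximalIdeal R) [IsLocalRing (R ⧸ Ideal.span {x})] :
    (maximalIdeal R).spanFinrank ≤ (maximalIdeal (R ⧸ Ideal.span {x})).spanFinrank + 1 := by
  classical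
  set f := Ideal.Quotient.mk (Ideal.span {x}) with hf
  have hfs : Function.Surjective f := Ideal.Quotient.mk_surjective
  obtain ⟨s, hs1, hs2⟩ := Submodule.FG.exists_span_finset_card_eq_spanFinrank
    ((maximalIdeal (R ⧸ Ideal.span {x})).fg_of_isNoetherianRing)
  let g := Function.surjInv hfs
  have hg : ∀ a, f (g a) = a := Function.surjInv_eq hfs
  let T : Finset R := insert x (s.image g)
  have hker : RingHom.ker f = Ideal.span {x} := Ideal.mk_ker
  have hmap : (Ideal.span (T : Set R)).map f = (maximalIdeal R).map f := by
    rw [map_maximalIdeal_of_surjective f hfs, Ideal.map_span]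
    have : f '' (T : Set R) = insert 0 (s : Set (R ⧸ Ideal.span {x})) := by
      simp only [T, Finset.coe_insert, Finset.coe_image, Set.image_insert_eq]
      congr 1
      · exact Ideal.Quotient.eq_zero_iff_mem.mpr (Ideal.subset_span rfl)
      · rw [Set.image_image]
        simp [hg]
    rw [this]
    refine Eq.trans ?_ hs2
    exact Submodule.span_insert_zero
  have hJ : Ideal.span (T : Set R) = maximalIdeal R := by
    apply eq_of_map_eq_of_ker_le f hfs _ _ hmap
    · rw [hker]
      apply Ideal.span_mono
      simp [T]
    · rw [hker]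
      exact (Ideal.span_singleton_le_iff_mem _).mpr hx
  have h1 := Submodule.spanFinrank_span_le_ncard_of_finite (R := R) (T.finite_toSet)
  have h1' : (maximalIdeal R).spanFinrank ≤ (T : Set R).ncard := by
    have e : Submodule.span R (T : Set R) = maximalIdeal R := hJ
    rwa [e] at h1
  rw [Set.ncard_coe_finset] at h1'
  have h2 : T.card ≤ (s.image g).card + 1 := Finset.card_insert_le _ _
  have h3 : (s.image g).card ≤ s.card := Finset.card_image_le
  omega

/-- If `x ∈ 𝔪` is a nonzerodivisor and `R ⧸ (x)` is regular, then `R` is regular. -/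
theorem of_quotient_regular [IsLocalRing R] [IsNoetherianRing R] (x : R)
    (hx : x ∈ maximalIdeal R) (hreg : x ∈ nonZeroDivisors R)
    [IsRegularLocalRing (R ⧸ Ideal.span ({x} : Set R))] : IsRegularLocalRing R := by
  apply IsRegularLocalRing.of_spanFinrank_maximalIdeal_le
  rw [← ringKrullDim_quotient_span_singleton_succ_eq_ringKrullDim_of_mem_nonZeroDivisors hreg hx,
    ← IsRegularLocalRing.spanFinrank_maximalIdeal]
  exact_mod_cast spanFinrank_maximalIdeal_le_quotient_add_one hx

end Groth.Agent.Lead.RLR
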