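import Mathlib
import Groth.Agent.Lib.Lead.RLR3

/-! Regular local rings: quotients that are regular are cut out by part of a regular system of
parameters. -/

namespace Groth.Agent.Lead.RLR

open IsLocalRing Ideal RingTheory.Sequence

universe u
variable {R : Type u} [CommRing R]

theorem spanFinrank_maximalIdeal_le_quotient_add [IsLocalRing R] [IsNoetherianRing R]
    {I : Ideal R} (hI : I ≤ maximalIdeal R) [IsLocalRing (R ⧸ I)] :
    (maximalIdeal R).spanFinrank ≤ (maximalIdeal (R ⧸ I)).spanFinrank + I.spanFinrank := by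
  classical
  set f := Ideal.Quotient.mk I with hf
  have hfs : Function.Surjective f := Ideal.Quotient.mk_surjective
  obtain ⟨s, hs1, hs2⟩ := Submodule.FG.exists_span_finset_card_eq_spanFinrank
    ((maximalIdeal (R ⧸ I)).fg_of_isNoetherianRing)
  obtain ⟨t, ht1, ht2⟩ := Submodule.FG.exists_span_finset_card_eq_spanFinrank
    (I.fg_of_isNoetherianRing)
  let g := Function.surjInv hfs
  have hg : ∀ a, f (g a) = a := Function.surjInv_eq hfs
  let T : Finset R := t ∪ (s.image g)
  have hker : RingHom.ker f = I := Ideal.mk_ker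
  have hT : Ideal.span (T : Set R) = I ⊔ Ideal.span ((s.image g : Finset R) : Set R) := by
    simp only [T, Finset.coe_union, Ideal.span_union]
    congr 1
  have hmap : (Ideal.span (T : Set R)).map f = (maximalIdeal R).map f := by
    rw [map_maximalIdeal_of_surjective f hfs, hT, Ideal.map_sup, Ideal.map_quotient_self,
      bot_sup_eq, Ideal.map_span]
    have : f '' ((s.image g : Finset R) : Set R) = (s : Set (R ⧸ I)) := by
      simp only [Finset.coe_image]
      rw [Set.image_image]
      simp [hg]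
    rw [this]
    exact hs2
  have hJ : Ideal.span (T : Set R) = maximalIdeal R := by
    apply eq_of_map_eq_of_ker_le f hfs _ _ hmap
    · rw [hker, hT]
      exact le_sup_left
    · rw [hker]
      exact hI
  have h1 := Submodule.spanFinrank_span_le_ncard_of_finite (R := R) (T.finite_toSet)
  have h1' : (maximalIdeal R).spanFinrank ≤ (T : Set R).ncard := by
    have e : Submodule.span R (T : Set R) = maximalIdeal R := hJ
    rwa [e] at h1
  rw [Set.ncard_coe_finset] at h1'
  have h2 : T.card ≤ t.card + (s.image g).card := Finset.card_union_le _ _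
  have h3 : (s.image g).card ≤ s.card := Finset.card_image_le
  omega

theorem spanFinrank_maximalIdeal_quotient_le_of_le_sup_sq [IsLocalRing R] [IsNoetherianRing R]
    {J I : Ideal R} (hI : I ≤ J ⊔ maximalIdeal R ^ 2) (hIm : I ≤ maximalIdeal R)
    [IsLocalRing (R ⧸ J)] [IsLocalRing (R ⧸ I)] :
    (maximalIdeal (R ⧸ J)).spanFinrank ≤ (maximalIdeal (R ⧸ I)).spanFinrank := by
  classical
  set f := Ideal.Quotient.mk I with hf
  have hfs : Function.Surjective f := Ideal.Quotient.mk_surjective
  set fJ := Ideal.Quotient.mk J with hfJ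
  have hfJs : Function.Surjective fJ := Ideal.Quotient.mk_surjective
  obtain ⟨s, hs1, hs2⟩ := Submodule.FG.exists_span_finset_card_eq_spanFinrank
    ((maximalIdeal (R ⧸ I)).fg_of_isNoetherianRing)
  let g := Function.surjInv hfs
  have hg : ∀ a, f (g a) = a := Function.surjInv_eq hfs
  let T : Finset R := s.image g
  have hker : RingHom.ker f = I := Ideal.mk_ker
  have hmap : (I ⊔ Ideal.span (T : Set R)).map f = (maximalIdeal R).map f := by
    rw [map_maximalIdeal_of_surjective f hfs, Ideal.map_sup, Ideal.map_quotient_self,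
      bot_sup_eq, Ideal.map_span]
    have : f '' (T : Set R) = (s : Set (R ⧸ I)) := by
      simp only [T, Finset.coe_image]
      rw [Set.image_image]
      simp [hg]
    rw [this]
    exact hs2
  have hm : I ⊔ Ideal.span (T : Set R) = maximalIdeal R := by
    apply eq_of_map_eq_of_ker_le f hfs _ _ hmap
    · rw [hker]
      exact le_sup_left
    · rw [hker]
      exact hIm
  -- Nakayama in `R ⧸ J`
  have hle : maximalIdeal (R ⧸ J) ≤ Ideal.span (fJ '' (T : Set R)) := by
    apply Submodule.le_of_le_smul_of_le_jacobson_bot (I := maximalIdeal (R ⧸ J))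
      ((maximalIdeal (R ⧸ J)).fg_of_isNoetherianRing)
      (IsLocalRing.jacobson_eq_maximalIdeal ⊥ bot_ne_top).ge
    have e1 : maximalIdeal (R ⧸ J) = (I ⊔ Ideal.span (T : Set R)).map fJ := by
      rw [hm, map_maximalIdeal_of_surjective fJ hfJs]
    have e2 : (I ⊔ Ideal.span (T : Set R)).map fJ ≤
        ((J ⊔ maximalIdeal R ^ 2) ⊔ Ideal.span (T : Set R)).map fJ :=
      Ideal.map_mono (sup_le_sup_right hI _)
    have e3 : ((J ⊔ maximalIdeal R ^ 2) ⊔ Ideal.span (T : Set R)).map fJ =
        Ideal.span (fJ '' (T : Set R)) ⊔ maximalIdeal (R ⧸ J) • maximalIdeal (R ⧸ J) := by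
      rw [Ideal.map_sup, Ideal.map_sup, Ideal.map_quotient_self, bot_sup_eq, Ideal.map_pow,
        map_maximalIdeal_of_surjective fJ hfJs, Ideal.map_span, smul_eq_mul, ← pow_two, sup_comm]
    rw [← e3]
    exact e1.le.trans e2
  have h1 := Submodule.spanFinrank_span_le_ncard_of_finite (R := R ⧸ J)
    ((T.finite_toSet).image fJ)
  have hge : Ideal.span (fJ '' (T : Set R)) ≤ maximalIdeal (R ⧸ J) := by
    rw [← Ideal.map_span, ← map_maximalIdeal_of_surjective fJ hfJs, ← hm]
    exact Ideal.map_mono le_sup_right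
  have h2 : (maximalIdeal (R ⧸ J)).spanFinrank ≤ (fJ '' (T : Set R)).ncard := by
    have e : Submodule.span (R ⧸ J) (fJ '' (T : Set R)) = maximalIdeal (R ⧸ J) :=
      le_antisymm hge hle
    rwa [e] at h1
  have h3 : (fJ '' (T : Set R)).ncard ≤ (T : Set R).ncard :=
    Set.ncard_image_le T.finite_toSet
  rw [Set.ncard_coe_finset] at h3
  have h4 : T.card ≤ s.card := Finset.card_image_le
  omega

/-- If `J ≤ I`, `R ⧸ J` is a domain and `dim R ⧸ J ≤ n ≤ dim R ⧸ I` then `I = J`. -/
theorem eq_of_le_of_ringKrullDim_le {J I : Ideal R} (hJI : J ≤ I) [IsDomain (R ⧸ J)] {n : ℕ}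
    (h1 : ringKrullDim (R ⧸ J) ≤ n) (h2 : (n : WithBot ℕ∞) ≤ ringKrullDim (R ⧸ I)) : I = J := by
  by_contra hne
  have : ¬ I ≤ J := fun h => hne (le_antisymm h hJI)
  obtain ⟨a, haI, haJ⟩ := Set.not_subset.mp this
  have hne0 : Ideal.Quotient.mk J a ≠ 0 := fun h => haJ (Ideal.Quotient.eq_zero_iff_mem.mp h)
  have h3 := ringKrullDim_succ_le_of_surjective (Ideal.Quotient.factor hJI)
    (Ideal.Quotient.factor_surjective hJI) (r := Ideal.Quotient.mk J a)
    (mem_nonZeroDivisors_of_ne_zero hne0)
    (by rw [Ideal.Quotient.factor_mk]; exact Ideal.Quotient.eq_zero_iff_mem.mpr haI)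
  have h4 : ((n : WithBot ℕ∞)) + 1 ≤ n := (add_le_add_left h2 1).trans (h3.trans h1)
  have h5 : ((n + 1 : ℕ) : WithBot ℕ∞) ≤ (n : ℕ) := by exact_mod_cast h4
  have h6 : n + 1 ≤ n := by exact_mod_cast h5
  omega

end Groth.Agent.Lead.RLR
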