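import Mathlib
import Groth.Agent.Lib.Lead.RLR5

/-! Regular local rings: regular quotients are cut out by part of a regular system of parameters. -/

namespace Groth.Agent.Lead.RLR

open IsLocalRing Ideal RingTheory.Sequence

universe u
variable {R : Type u} [CommRing R]

/-- Minimal generators of the maximal ideal are linearly independent in the cotangent space. -/
theorem linearIndependent_toCotangent [IsLocalRing R] [IsNoetherianRing R] {d : ℕ}
    (z : Fin d → R) (hz : Ideal.span (Set.range z) = maximalIdeal R)
    (hd : (maximalIdeal R).spanFinrank = d)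
    (hzm : ∀ i, z i ∈ maximalIdeal R) :
    LinearIndependent (ResidueField R)
      (fun i => ((maximalIdeal R).toCotangent ⟨z i, hzm i⟩ : CotangentSpace R)) := by
  apply linearIndependent_of_top_le_span_of_card_eq_finrank
  · rw [top_le_iff]
    have h1 : Set.range (fun i => ((maximalIdeal R).toCotangent ⟨z i, hzm i⟩ : CotangentSpace R)) =
        (maximalIdeal R).toCotangent '' (Set.range (fun i => (⟨z i, hzm i⟩ : maximalIdeal R))) := by
      rw [← Set.range_comp]
      rfl
    rw [h1, CotangentSpace.span_image_eq_top_iff]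
    apply Submodule.map_injective_of_injective (maximalIdeal R).injective_subtype
    rw [Submodule.map_span, Submodule.map_top, Submodule.range_subtype, ← Set.range_comp]
    exact hz
  · rw [Fintype.card_fin, ← spanFinrank_maximalIdeal_eq_finrank_cotangentSpace, hd]

theorem mem_maximalIdeal_of_sum_mem_sq [IsLocalRing R] [IsNoetherianRing R] {d c : ℕ}
    (z : Fin d → R) (hz : Ideal.span (Set.range z) = maximalIdeal R)
    (hd : (maximalIdeal R).spanFinrank = d) (ι : Fin c → Fin d) (hι : Function.Injective ι)
    (r : Fin c → R) (h : ∑ i, r i * z (ι i) ∈ maximalIdeal R ^ 2) (i : Fin c) :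
    r i ∈ maximalIdeal R := by
  have hzm : ∀ i, z i ∈ maximalIdeal R := fun i => hz ▸ Ideal.subset_span ⟨i, rfl⟩
  have hli := (linearIndependent_toCotangent z hz hd hzm).comp ι hι
  rw [Fintype.linearIndependent_iff] at hli
  have h0 : ∑ i, (residue R (r i)) • (((maximalIdeal R).toCotangent ⟨z (ι i), hzm (ι i)⟩ :
      CotangentSpace R)) = 0 := by
    have h1 : ∀ i, (residue R (r i)) • (((maximalIdeal R).toCotangent ⟨z (ι i), hzm (ι i)⟩ :
      CotangentSpace R)) = (maximalIdeal R).toCotangent (r i • ⟨z (ι i), hzm (ι i)⟩) :=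
      fun i => residue_smul_toCotangent _ _
    simp only [h1]
    rw [← map_sum, Ideal.toCotangent_eq_zero]
    convert h using 1
    simp [Submodule.coe_sum]
  have := hli (fun i => residue R (r i)) h0 i
  exact (IsLocalRing.residue_eq_zero_iff _).mp this

theorem inf_sq_eq_mul_of_generators [IsLocalRing R] [IsNoetherianRing R] {d c : ℕ}
    (z : Fin d → R) (hz : Ideal.span (Set.range z) = maximalIdeal R)
    (hd : (maximalIdeal R).spanFinrank = d) (ι : Fin c → Fin d) (hι : Function.Injective ι) :
    Ideal.span (Set.range (fun i => z (ι i))) ⊓ maximalIdeal R ^ 2 =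
      maximalIdeal R * Ideal.span (Set.range (fun i => z (ι i))) := by
  apply le_antisymm
  · rintro a ⟨han, ham⟩
    obtain ⟨r, rfl⟩ := (Ideal.mem_span_range_iff_exists_fun).mp han
    apply Ideal.sum_mem
    intro i _
    apply Ideal.mul_mem_mul
    · exact mem_maximalIdeal_of_sum_mem_sq z hz hd ι hι r ham i
    · exact Ideal.subset_span ⟨i, rfl⟩
  · apply le_inf
    · exact Ideal.mul_le_right
    · rw [pow_two]
      apply Ideal.mul_mono_right
      rw [← hz]
      apply Ideal.span_mono
      rintro _ ⟨i, rfl⟩
      exact ⟨_, rfl⟩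

/-- If `R` and `R ⧸ I` are regular local rings then `I` is generated by part of a minimal system of
generators of the maximal ideal. -/
theorem exists_adapted_generators_of_regular_quotient [IsRegularLocalRing R] (I : Ideal R)
    [IsRegularLocalRing (R ⧸ I)] :
    ∃ (c e : ℕ) (z : Fin (c + e) → R), c + e = (maximalIdeal R).spanFinrank ∧
      Ideal.span (Set.range z) = maximalIdeal R ∧
      I = Ideal.span (Set.range (fun i : Fin c => z (Fin.castAdd e i))) := by
  have hItop : I ≠ ⊤ := Ideal.Quotient.nontrivial_iff.mp inferInstance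
  have hIm : I ≤ maximalIdeal R := IsLocalRing.le_maximalIdeal hItop
  obtain ⟨c, e, z, hce, hz, hzI, hIle⟩ := exists_generators_adapted I hIm
  refine ⟨c, e, z, hce, hz, ?_⟩
  set J := Ideal.span (Set.range (fun i : Fin c => z (Fin.castAdd e i))) with hJ
  have hJI : J ≤ I := by
    rw [hJ, Ideal.span_le]
    rintro _ ⟨i, rfl⟩
    exact hzI i
  have hJtop : J ≠ ⊤ := fun h => hItop (top_le_iff.mp (h ▸ hJI))
  haveI : IsLocalRing (R ⧸ J) := isLocalRing_quotient hJtop
  obtain ⟨hreg, hdim⟩ := isRegularLocalRing_quotient_span_range z hz hce.symm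
  haveI : IsRegularLocalRing (R ⧸ J) := hreg
  haveI : IsDomain (R ⧸ J) := isDomain (R ⧸ J)
  have h1 := spanFinrank_maximalIdeal_quotient_le_of_le_sup_sq (J := J) (I := I) hIle hIm
  have h2 : (e : WithBot ℕ∞) ≤ ringKrullDim (R ⧸ I) := by
    rw [← IsRegularLocalRing.spanFinrank_maximalIdeal (R := R ⧸ I)]
    have : e = (maximalIdeal (R ⧸ J)).spanFinrank :=
      (spanFinrank_maximalIdeal_eq_of_dim hdim).symm
    rw [this]
    exact_mod_cast h1
  exact eq_of_le_of_ringKrullDim_le hJI hdim.le h2

end Groth.Agent.Lead.RLR
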