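import Mathlib
import Groth.Agent.Lib.Lead.RLR6

/-! Height + dimension of quotient, and a regularity criterion. -/

namespace Groth.Agent.Lead.RLR

open IsLocalRing Ideal

universe u
variable {R : Type u} [CommRing R]

theorem height_add_ringKrullDim_quotient_le (p : Ideal R) [hp : p.IsPrime] :
    (p.height : WithBot ℕ∞) + ringKrullDim (R ⧸ p) ≤ ringKrullDim R := by
  let P : PrimeSpectrum R := ⟨p, hp⟩
  have h1 : p.height = Order.height P := PrimeSpectrum.height_eq_orderHeight P
  have h2 : ringKrullDim (R ⧸ p) = (Order.coheight P : ℕ∞) := by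
    rw [ringKrullDim_quotient, Order.coheight_eq_krullDim_Ici]
    congr 1
  rw [h1, h2]
  have : Nonempty (PrimeSpectrum R) := ⟨P⟩
  rw [ringKrullDim, Order.krullDim_eq_iSup_height_add_coheight_of_nonempty]
  exact_mod_cast le_iSup (fun a : PrimeSpectrum R => Order.height a + Order.coheight a) P

theorem isRegularLocalRing_of_quotient_of_spanFinrank_eq_height [IsLocalRing R]
    [IsNoetherianRing R] (p : Ideal R) [p.IsPrime] [IsRegularLocalRing (R ⧸ p)]
    (hgen : (Submodule.spanFinrank p : ℕ∞) = p.height) : IsRegularLocalRing R := by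
  apply IsRegularLocalRing.of_spanFinrank_maximalIdeal_le
  have hpm : p ≤ maximalIdeal R := IsLocalRing.le_maximalIdeal (Ideal.IsPrime.ne_top')
  have h1 := spanFinrank_maximalIdeal_le_quotient_add hpm
  have h2 := height_add_ringKrullDim_quotient_le p
  rw [← hgen, ← IsRegularLocalRing.spanFinrank_maximalIdeal (R := R ⧸ p)] at h2
  refine le_trans ?_ h2
  rw [add_comm]
  exact_mod_cast h1

end Groth.Agent.Lead.RLR
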