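import Mathlib
import Groth.Agent.Lib.Lead.RLR7

/-! Change of rings for projective dimension and finite global dimension of regular local rings
(finite modules). -/

namespace Groth.Agent.Lead.Hom

open CategoryTheory IsLocalRing Module Groth.Agent.Lead.RLR

universe u
variable {R : Type u} [CommRing R]

/-- Reduction mod `x` of an injective map with `x`-regular cokernel is injective. -/
theorem quotSMulTop_map_injective {K P N : Type*} [AddCommGroup K] [Module R K] [AddCommGroup P]
    [Module R P] [AddCommGroup N] [Module R N] (x : R) {f : K →ₗ[R] P} {g : P →ₗ[R] N}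
    (hf : Function.Injective f) (hfg : Function.Exact f g) (hN : IsSMulRegular N x) :
    Function.Injective (QuotSMulTop.map x f) := by
  rw [← LinearMap.ker_eq_bot, LinearMap.ker_eq_bot']
  intro a ha
  obtain ⟨k, rfl⟩ := Submodule.Quotient.mk_surjective _ a
  have h1 : (QuotSMulTop.map x f) (Submodule.Quotient.mk k) = Submodule.Quotient.mk (f k) := rfl
  rw [h1, Submodule.Quotient.mk_eq_zero] at ha
  obtain ⟨p, -, hp⟩ := (Submodule.mem_smul_pointwise_iff_exists _ _ _).mp ha
  have h2 : x • g p = 0 := by
    rw [← map_smul, hp]
    exact hfg.apply_apply_eq_zero k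
  have h3 : g p = 0 := hN.right_eq_zero_of_smul h2
  obtain ⟨k', rfl⟩ := (hfg p).mp h3
  have h4 : k = x • k' := hf (by rw [map_smul, hp])
  rw [Submodule.Quotient.mk_eq_zero, h4]
  exact Submodule.smul_mem_pointwise_smul _ _ _ Submodule.mem_top

/-- Change of rings: if `x ∈ 𝔪` is `R`-regular and `N`-regular and `N ⧸ xN` has projective
dimension `≤ n` over `R ⧸ (x)`, then `N` has projective dimension `≤ n` over `R`. -/
theorem hasProjectiveDimensionLT_of_quotSMulTop [IsLocalRing R] [IsNoetherianRing R] {x : R}
    (hx : x ∈ maximalIdeal R) (hxR : x ∈ nonZeroDivisors R) :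
    ∀ (n : ℕ) (N : Type u) [AddCommGroup N] [Module R N] [Module.Finite R N],
      IsSMulRegular N x →
      HasProjectiveDimensionLT (ModuleCat.of (R ⧸ Ideal.span {x}) (QuotSMulTop x N)) (n + 1) →
      HasProjectiveDimensionLT (ModuleCat.of R N) (n + 1) := by
  haveI : IsLocalRing (R ⧸ Ideal.span {x}) := isLocalRing_quotient (span_singleton_ne_top hx)
  have hjac : x ∈ (⊥ : Ideal R).jacobson := by
    rw [IsLocalRing.jacobson_eq_maximalIdeal ⊥ bot_ne_top]; exact hx
  intro n
  induction n with
  | zero =>
    intro N _ _ _ hN h
    rw [zero_add, ← projective_iff_hasProjectiveDimensionLT_one, ← IsProjective.iff_projective] at h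
    rw [zero_add, ← projective_iff_hasProjectiveDimensionLT_one, ← IsProjective.iff_projective]
    haveI := h
    haveI : Module.Finite (R ⧸ Ideal.span {x}) (QuotSMulTop x N) :=
      Module.Finite.of_restrictScalars_finite R (R ⧸ Ideal.span {x}) (QuotSMulTop x N)
    haveI : Module.Free (R ⧸ Ideal.span {x}) (QuotSMulTop x N) := Module.free_of_flat_of_isLocalRing
    haveI : Module.FinitePresentation R N := Module.finitePresentation_of_finite R N
    haveI : Module.Free R N := (Module.free_quotSMulTop_iff_free R N hjac hN).mp inferInstance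
    exact Module.Projective.of_free
  | succ n ih =>
    intro N _ _ _ hN h
    obtain ⟨P, _, _, _, _, f, surjf⟩ := Module.exists_finite_presentation R N
    let S := f.shortComplexKer
    have hS : S.ShortExact := LinearMap.shortExact_shortComplexKer surjf
    have hP : IsSMulRegular P x := Module.Flat.isSMulRegular_of_nonZeroDivisors hxR
    have hK : IsSMulRegular (LinearMap.ker f) x := hP.submodule _ x
    -- the reduced sequence
    let A := R ⧸ Ideal.span {x}
    have hex : Function.Exact (LinearMap.ker f).subtype f := f.exact_subtype_ker_map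
    let f1 : QuotSMulTop x (LinearMap.ker f) →ₗ[A] QuotSMulTop x P :=
      LinearMap.extendScalarsOfSurjective Ideal.Quotient.mk_surjective
        (QuotSMulTop.map x (LinearMap.ker f).subtype)
    let g1 : QuotSMulTop x P →ₗ[A] QuotSMulTop x N :=
      LinearMap.extendScalarsOfSurjective Ideal.Quotient.mk_surjective (QuotSMulTop.map x f)
    have hex1 : Function.Exact f1 g1 := QuotSMulTop.map_exact x hex surjf
    have hinj1 : Function.Injective f1 :=
      quotSMulTop_map_injective x (LinearMap.ker f).injective_subtype hex hN
    have hsurj1 : Function.Surjective g1 := QuotSMulTop.map_surjective x surjf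
    let S1 : ShortComplex (ModuleCat.{u} A) :=
      ModuleCat.shortComplexOfCompEqZero f1 g1 hex1.linearMap_comp_eq_zero
    have hS1 : S1.ShortExact := ModuleCat.shortComplex_shortExact S1 hex1 hinj1 hsurj1
    have hX2 : HasProjectiveDimensionLT S1.X₂ (n + 1) := by
      haveI : Module.Projective A (QuotSMulTop x P) := Module.Projective.of_free
      haveI : Projective S1.X₂ := (IsProjective.iff_projective _).mp inferInstance
      exact hasProjectiveDimensionLT_of_ge S1.X₂ 1 (n + 1) (by omega)
    have hX1 : HasProjectiveDimensionLT S1.X₁ (n + 1) :=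
      hS1.hasProjectiveDimensionLT_X₁ (n + 1) hX2 h
    have hKpd : HasProjectiveDimensionLT (ModuleCat.of R (LinearMap.ker f)) (n + 1) :=
      ih (LinearMap.ker f) hK hX1
    have hPpd : HasProjectiveDimensionLT S.X₂ (n + 1 + 1) := by
      haveI : Module.Projective R P := Module.Projective.of_free
      haveI : Projective S.X₂ := (IsProjective.iff_projective _).mp inferInstance
      exact hasProjectiveDimensionLT_of_ge S.X₂ 1 (n + 1 + 1) (by omega)
    exact hS.hasProjectiveDimensionLT_X₃ (n + 1) hKpd hPpd

end Groth.Agent.Lead.Hom
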