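import Mathlib
import Groth.Agent.Lib.Lead.Hom1

/-! Finite modules over a regular local ring of dimension `d` have projective dimension `≤ d`. -/

namespace Groth.Agent.Lead.Hom

open CategoryTheory IsLocalRing Module Groth.Agent.Lead.RLR

universe u

theorem exists_mem_maximalIdeal_notMem_sq {R : Type u} [CommRing R] [IsLocalRing R]
    [IsNoetherianRing R] (h : maximalIdeal R ≠ ⊥) :
    ∃ x ∈ maximalIdeal R, x ∉ maximalIdeal R ^ 2 := by
  by_contra hcon
  push Not at hcon
  apply h
  have hfg : (maximalIdeal R).FG := (maximalIdeal R).fg_of_isNoetherianRing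
  apply Submodule.eq_bot_of_le_smul_of_le_jacobson_bot (maximalIdeal R) (maximalIdeal R) hfg
  · rw [smul_eq_mul, ← pow_two]; exact hcon
  · exact (IsLocalRing.jacobson_eq_maximalIdeal ⊥ bot_ne_top).ge

theorem hasProjectiveDimensionLT_of_finite_aux : ∀ (d : ℕ) (R : Type u) [CommRing R]
    [IsRegularLocalRing R], (maximalIdeal R).spanFinrank = d →
    ∀ (M : Type u) [AddCommGroup M] [Module R M] [Module.Finite R M],
    HasProjectiveDimensionLT (ModuleCat.of R M) (d + 1) := by
  intro d
  induction d with
  | zero =>
    intro R _ _ hd M _ _ _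
    have hfg : (maximalIdeal R).FG := (maximalIdeal R).fg_of_isNoetherianRing
    have h0 : maximalIdeal R = ⊥ := (Submodule.spanFinrank_eq_zero_iff_eq_bot hfg).mp hd
    have hf : IsField R := IsLocalRing.isField_iff_maximalIdeal_eq.mpr h0
    rw [zero_add, ← projective_iff_hasProjectiveDimensionLT_one, ← IsProjective.iff_projective]
    letI := hf.toField
    haveI : Module.Free R M := Module.Free.of_divisionRing R M
    exact Module.Projective.of_free
  | succ d ih =>
    intro R _ _ hd M _ _ _
    haveI := isDomain R
    have hne : maximalIdeal R ≠ ⊥ := by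
      intro h0
      rw [h0, Submodule.spanFinrank_bot] at hd
      omega
    obtain ⟨x, hxm, hx2⟩ := exists_mem_maximalIdeal_notMem_sq hne
    have hx0 : x ≠ 0 := fun h => hx2 (h ▸ Ideal.zero_mem _)
    have hxR : x ∈ nonZeroDivisors R := mem_nonZeroDivisors_of_ne_zero hx0
    obtain ⟨n', y, hn', hspan⟩ := exists_generators_of_notMem_sq hxm hx2
    have hnn : n' = d := by omega
    subst hnn
    haveI := isLocalRing_quotient (span_singleton_ne_top hxm)
    obtain ⟨hreg, hdimQ⟩ := isRegularLocalRing_quotient_aux x y hspan hn'
    haveI := hreg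
    have hdQ : (maximalIdeal (R ⧸ Ideal.span {x})).spanFinrank = n' :=
      spanFinrank_maximalIdeal_eq_of_dim hdimQ
    obtain ⟨P, _, _, _, _, f, surjf⟩ := Module.exists_finite_presentation R M
    let S := f.shortComplexKer
    have hS : S.ShortExact := LinearMap.shortExact_shortComplexKer surjf
    have hP : IsSMulRegular P x := Module.Flat.isSMulRegular_of_nonZeroDivisors hxR
    have hK : IsSMulRegular (LinearMap.ker f) x := hP.submodule _ x
    have h1 : HasProjectiveDimensionLT
        (ModuleCat.of (R ⧸ Ideal.span {x}) (QuotSMulTop x (LinearMap.ker f))) (n' + 1) := by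
      haveI : Module.Finite (R ⧸ Ideal.span {x}) (QuotSMulTop x (LinearMap.ker f)) :=
        Module.Finite.of_restrictScalars_finite R (R ⧸ Ideal.span {x}) _
      exact ih (R ⧸ Ideal.span {x}) hdQ (QuotSMulTop x (LinearMap.ker f))
    have hKpd : HasProjectiveDimensionLT (ModuleCat.of R (LinearMap.ker f)) (n' + 1) :=
      hasProjectiveDimensionLT_of_quotSMulTop hxm hxR n' (LinearMap.ker f) hK h1
    have hPpd : HasProjectiveDimensionLT S.X₂ (n' + 1 + 1) := by
      haveI : Module.Projective R P := Module.Projective.of_free
      haveI : Projective S.X₂ := (IsProjective.iff_projective _).mp inferInstance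
      exact hasProjectiveDimensionLT_of_ge S.X₂ 1 (n' + 1 + 1) (by omega)
    exact hS.hasProjectiveDimensionLT_X₃ (n' + 1) hKpd hPpd

/-- Finite modules over a regular local ring of dimension `d` have projective dimension `≤ d`. -/
theorem hasProjectiveDimensionLT_of_finite {R : Type u} [CommRing R] [IsRegularLocalRing R]
    {d : ℕ} (hd : ringKrullDim R = d) (M : Type u) [AddCommGroup M] [Module R M]
    [Module.Finite R M] : HasProjectiveDimensionLT (ModuleCat.of R M) (d + 1) :=
  hasProjectiveDimensionLT_of_finite_aux d R (spanFinrank_maximalIdeal_eq_of_dim hd) M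

end Groth.Agent.Lead.Hom
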