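import Mathlib
import Groth.Agent.Lib.Lead.Hom2

/-! Auslander's theorem: the global dimension is determined by the cyclic modules. -/

namespace Groth.Agent.Lead.Hom

open CategoryTheory Abelian IsLocalRing Module

universe u
variable {R : Type u} [CommRing R]

/-- The short exact sequence `0 → I → R → R ⧸ I → 0`. -/
noncomputable def idealShortComplex (I : Ideal R) : ShortComplex (ModuleCat.{u} R) :=
  ModuleCat.shortComplexOfCompEqZero (I.subtype : I →ₗ[R] R) (Submodule.mkQ I)
    (by ext x; simpa using Ideal.Quotient.eq_zero_iff_mem.mpr x.2)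

theorem idealShortComplex_shortExact (I : Ideal R) : (idealShortComplex I).ShortExact := by
  refine ModuleCat.shortComplex_shortExact _ ?_ I.injective_subtype (Submodule.mkQ_surjective I)
  intro x
  constructor
  · intro hx
    have hx' : (Submodule.mkQ I) x = 0 := hx
    rw [Submodule.mkQ_apply, Submodule.Quotient.mk_eq_zero] at hx'
    exact ⟨⟨x, hx'⟩, rfl⟩
  · rintro ⟨y, rfl⟩
    have hy : ((I.subtype : I →ₗ[R] R) y) ∈ I := (y : I).2
    show (Submodule.mkQ I) ((I.subtype : I →ₗ[R] R) y) = 0
    rw [Submodule.mkQ_apply, Submodule.Quotient.mk_eq_zero]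
    exact hy

/-- Baer's criterion in terms of `Ext¹`. -/
theorem injective_of_ext_one_quotient (N : ModuleCat.{u} R)
    (h : ∀ I : Ideal R, Subsingleton (Ext (ModuleCat.of R (R ⧸ I)) N 1)) : Injective N := by
  have hN : Injective (ModuleCat.of R N) := by
    rw [← Module.injective_iff_injective_object]
    apply Module.Baer.injective
    intro I g
    have hS := idealShortComplex_shortExact I
    let x₁ : Ext (idealShortComplex I).X₁ N 0 := Ext.mk₀ (ModuleCat.ofHom g)
    have hx₁ : hS.extClass.comp x₁ (add_zero 1) = 0 :=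
      (h I).elim _ _
    obtain ⟨x₂, hx₂⟩ := Ext.contravariant_sequence_exact₁ hS N x₁ (add_zero 1) hx₁
    obtain ⟨g', rfl⟩ := (Ext.mk₀_bijective _ _).2 x₂
    rw [Ext.mk₀_comp_mk₀] at hx₂
    have h3 := (Ext.mk₀_bijective _ _).1 hx₂
    refine ⟨g'.hom, ?_⟩
    intro x hx
    have h4 := congrArg (fun φ => φ.hom ⟨x, hx⟩) h3
    exact h4
  exact hN

theorem hasInjectiveDimensionLT_of_ext_quotient : ∀ (n : ℕ) (N : ModuleCat.{u} R),
    (∀ I : Ideal R, Subsingleton (Ext (ModuleCat.of R (R ⧸ I)) N (n + 1))) →
    HasInjectiveDimensionLT N (n + 1) := by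
  intro n
  induction n with
  | zero =>
    intro N h
    rw [zero_add, ← injective_iff_hasInjectiveDimensionLT_one]
    exact injective_of_ext_one_quotient N h
  | succ n ih =>
    intro N h
    obtain ⟨p⟩ := EnoughInjectives.presentation N
    let S : ShortComplex (ModuleCat.{u} R) :=
      ShortComplex.mk p.f (Limits.cokernel.π p.f) (Limits.cokernel.condition p.f)
    have hS : S.ShortExact := { exact := ShortComplex.exact_cokernel p.f }
    have hC : HasInjectiveDimensionLT S.X₃ (n + 1) := by
      apply ih
      intro I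
      refine ⟨fun a b => ?_⟩
      have key : ∀ c : Ext (ModuleCat.of R (R ⧸ I)) S.X₃ (n + 1), c = 0 := by
        intro c
        have h0 : c.comp hS.extClass (rfl : n + 1 + 1 = n + 1 + 1) = 0 := (h I).elim _ _
        obtain ⟨x₂, hx₂⟩ := Ext.covariant_sequence_exact₃ _ hS c rfl h0
        have : x₂ = 0 := Ext.eq_zero_of_injective x₂
        rw [this, Ext.zero_comp] at hx₂
        exact hx₂.symm
      rw [key a, key b]
    have hJ : HasInjectiveDimensionLT S.X₂ (n + 1 + 1) := by
      haveI : Injective S.X₂ := p.injective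
      exact hasInjectiveDimensionLT_of_ge S.X₂ 1 (n + 1 + 1) (by omega)
    exact hS.hasInjectiveDimensionLT_X₁ (n + 1) hC hJ

/-- Auslander: if all cyclic modules have projective dimension `≤ n`, so do all modules. -/
theorem hasProjectiveDimensionLT_of_quotient (n : ℕ)
    (h : ∀ I : Ideal R, HasProjectiveDimensionLT (ModuleCat.of R (R ⧸ I)) (n + 1))
    (M : ModuleCat.{u} R) : HasProjectiveDimensionLT M (n + 1) := by
  apply HasProjectiveDimensionLT.mk
  intro i hi N e
  haveI : HasInjectiveDimensionLT N (n + 1) :=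
    hasInjectiveDimensionLT_of_ext_quotient n N
      (fun I => HasProjectiveDimensionLT.subsingleton _ (n + 1) (n + 1) le_rfl N)
  exact (HasInjectiveDimensionLT.subsingleton N (n + 1) i hi M).elim _ _

/-- A regular local ring of dimension `d` has global dimension `≤ d`. -/
theorem hasProjectiveDimensionLT_of_isRegularLocalRing [IsRegularLocalRing R] {d : ℕ}
    (hd : ringKrullDim R = d) (M : ModuleCat.{u} R) : HasProjectiveDimensionLT M (d + 1) :=
  hasProjectiveDimensionLT_of_quotient d
    (fun I => hasProjectiveDimensionLT_of_finite hd (R ⧸ I)) M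

end Groth.Agent.Lead.Hom
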