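import Mathlib
import Groth.Agent.Lib.Lead.Hom3

/-! Minimal covers; finite projective dimension + depth zero implies free. -/

namespace Groth.Agent.Lead.Hom

open CategoryTheory Abelian IsLocalRing Module Groth.Agent.Lead.RLR

universe u
variable {R : Type u} [CommRing R]

/-- A minimal free cover of a finite module over a local ring. -/
theorem exists_minimal_cover [IsLocalRing R] (M : Type u) [AddCommGroup M] [Module R M]
    [Module.Finite R M] :
    ∃ (r : ℕ) (f : (Fin r → R) →ₗ[R] M), Function.Surjective f ∧
      LinearMap.ker f ≤ (maximalIdeal R) • (⊤ : Submodule R (Fin r → R)) := by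
  classical
  obtain ⟨s, hs1, hs2⟩ := Submodule.FG.exists_span_finset_card_eq_spanFinrank
    (Module.Finite.fg_top (R := R) (M := M))
  let e := s.equivFin
  let b : Fin s.card → M := fun i => (e.symm i : M)
  have hb : Set.range b = (s : Set M) := by
    ext z
    constructor
    · rintro ⟨i, rfl⟩
      exact (e.symm i).2
    · intro hz
      exact ⟨e ⟨z, hz⟩, by simp [b]⟩
  refine ⟨s.card, Fintype.linearCombination R b, ?_, ?_⟩
  · rw [← LinearMap.range_eq_top, Fintype.range_linearCombination, hb, hs2]
  · intro c hc
    have hc0 : ∑ j, c j • b j = 0 := by
      have := LinearMap.mem_ker.mp hc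
      rwa [Fintype.linearCombination_apply] at this
    have hcm : ∀ i, c i ∈ maximalIdeal R := by
      intro i
      by_contra hci
      have hu : IsUnit (c i) := IsLocalRing.notMem_maximalIdeal.mp hci
      obtain ⟨u, hu'⟩ := hu
      let T : Finset M := (Finset.univ.erase i).image b
      have hsum : c i • b i + ∑ j ∈ Finset.univ.erase i, c j • b j = 0 := by
        rw [Finset.add_sum_erase Finset.univ (fun j => c j • b j) (Finset.mem_univ i)]
        exact hc0
      have hbi : b i ∈ Submodule.span R (T : Set M) := by
        have h1 : c i • b i = - ∑ j ∈ Finset.univ.erase i, c j • b j :=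
          eq_neg_of_add_eq_zero_left hsum
        have h2 : b i = (↑u⁻¹ : R) • (c i • b i) := by
          rw [smul_smul, ← hu', Units.inv_mul, one_smul]
        rw [h2, h1]
        apply Submodule.smul_mem
        apply Submodule.neg_mem
        apply Submodule.sum_mem
        intro j hj
        apply Submodule.smul_mem
        apply Submodule.subset_span
        exact Finset.mem_coe.mpr (Finset.mem_image_of_mem b hj)
      have htop : Submodule.span R (T : Set M) = ⊤ := by
        rw [eq_top_iff, ← hs2, Submodule.span_le, ← hb]
        rintro _ ⟨j, rfl⟩
        by_cases hji : j = i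
        · rw [hji]; exact hbi
        · apply Submodule.subset_span
          exact Finset.mem_coe.mpr (Finset.mem_image_of_mem b (Finset.mem_erase.mpr
            ⟨hji, Finset.mem_univ j⟩))
      have h3 := Submodule.spanFinrank_span_le_ncard_of_finite (R := R) (T.finite_toSet)
      rw [htop, Set.ncard_coe_finset] at h3
      have h4 : T.card ≤ (Finset.univ.erase i).card := Finset.card_image_le
      rw [Finset.card_erase_of_mem (Finset.mem_univ i), Finset.card_univ, Fintype.card_fin] at h4
      have h5 : 0 < s.card := Fin.pos i
      omega
    rw [pi_eq_sum_univ c]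
    apply Submodule.sum_mem
    intro i _
    exact Submodule.smul_mem_smul (hcm i) Submodule.mem_top

/-- Over a Noetherian local ring of depth zero (`𝔪 a = 0` for some `a ≠ 0`), a finite module of
finite projective dimension is free. -/
theorem free_of_hasProjectiveDimensionLT_of_depth_zero [IsLocalRing R] [IsNoetherianRing R]
    {a : R} (ha : a ≠ 0) (ham : ∀ r ∈ maximalIdeal R, r * a = 0) :
    ∀ (n : ℕ) (M : Type u) [AddCommGroup M] [Module R M] [Module.Finite R M],
      HasProjectiveDimensionLT (ModuleCat.of R M) (n + 1) → Module.Free R M := by
  intro n
  induction n with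
  | zero =>
    intro M _ _ _ h
    rw [zero_add, ← projective_iff_hasProjectiveDimensionLT_one, ← IsProjective.iff_projective] at h
    haveI := h
    exact Module.free_of_flat_of_isLocalRing
  | succ n ih =>
    intro M _ _ _ h
    obtain ⟨r, f, surjf, hker⟩ := exists_minimal_cover (R := R) M
    let S := f.shortComplexKer
    have hS : S.ShortExact := LinearMap.shortExact_shortComplexKer surjf
    have hPpd : HasProjectiveDimensionLT S.X₂ (n + 1) := by
      haveI : Module.Projective R (Fin r → R) := Module.Projective.of_free
      haveI : Projective S.X₂ := (IsProjective.iff_projective _).mp inferInstance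
      exact hasProjectiveDimensionLT_of_ge S.X₂ 1 (n + 1) (by omega)
    have hKpd : HasProjectiveDimensionLT (ModuleCat.of R (LinearMap.ker f)) (n + 1) :=
      hS.hasProjectiveDimensionLT_X₁ (n + 1) hPpd h
    haveI : Module.Free R (LinearMap.ker f) := ih (LinearMap.ker f) hKpd
    -- `a` kills the kernel
    have hak : ∀ k : LinearMap.ker f, a • k = 0 := by
      intro k
      have hk : (k : Fin r → R) ∈ (maximalIdeal R) • (⊤ : Submodule R (Fin r → R)) := hker k.2
      have : a • (k : Fin r → R) = 0 := by
        refine Submodule.smul_induction_on hk ?_ ?_
        · intro t ht p _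
          rw [smul_smul, mul_comm, ham t ht, zero_smul]
        · intro p q hp hq
          rw [smul_add, hp, hq, add_zero]
      exact Subtype.ext this
    have hsub : Subsingleton (LinearMap.ker f) := by
      by_contra hns
      rw [not_subsingleton_iff_nontrivial] at hns
      let bK := Module.Free.chooseBasis R (LinearMap.ker f)
      haveI : Nonempty (Module.Free.ChooseBasisIndex R (LinearMap.ker f)) := by
        by_contra hemp
        rw [not_nonempty_iff] at hemp
        have : Subsingleton (LinearMap.ker f) := bK.repr.toEquiv.subsingleton
        exact (not_subsingleton_iff_nontrivial.mpr hns) this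
      obtain ⟨i⟩ := this
      have h1 := hak (bK i)
      have h2 := congrArg (fun v => bK.repr v i) h1
      simp at h2
      exact ha h2
    have hinj : Function.Injective f := by
      rw [← LinearMap.ker_eq_bot]
      exact Submodule.eq_bot_of_subsingleton
    exact Module.Free.of_equiv (LinearEquiv.ofBijective f ⟨hinj, surjf⟩)

end Groth.Agent.Lead.Hom
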