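import Mathlib
import Groth.Agent.Lib.Lead.Hom4

/-! Depth zero dichotomy for Noetherian local rings. -/

namespace Groth.Agent.Lead.Hom

open CategoryTheory Abelian IsLocalRing Module Groth.Agent.Lead.RLR

universe u
variable {R : Type u} [CommRing R]

theorem depth_zero_or_exists_nonZeroDivisor [IsLocalRing R] [IsNoetherianRing R]
    (hne : maximalIdeal R ≠ ⊥) :
    (∃ a : R, a ≠ 0 ∧ ∀ r ∈ maximalIdeal R, r * a = 0) ∨
    (∃ x ∈ maximalIdeal R, x ∉ maximalIdeal R ^ 2 ∧ x ∈ nonZeroDivisors R) := by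
  classical
  by_cases h : ∃ x ∈ maximalIdeal R, x ∉ maximalIdeal R ^ 2 ∧ x ∈ nonZeroDivisors R
  · exact Or.inr h
  left
  push Not at h
  have hfg : (maximalIdeal R).FG := (maximalIdeal R).fg_of_isNoetherianRing
  have hfin : (associatedPrimes R R).Finite := associatedPrimes.finite R R
  have hsub : ((maximalIdeal R : Set R) ⊆ ((maximalIdeal R ^ 2 : Ideal R) : Set R) ∪
      ((maximalIdeal R ^ 2 : Ideal R) : Set R) ∪
      ⋃ p ∈ (hfin.toFinset : Set (Ideal R)), (p : Set R)) := by
    intro x hx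
    by_cases hx2 : x ∈ maximalIdeal R ^ 2
    · exact Or.inl (Or.inl hx2)
    · right
      have hx3 : x ∉ nonZeroDivisors R := h x hx hx2
      have hx4 : x ∈ ((nonZeroDivisors R : Set R))ᶜ := hx3
      rw [← biUnion_associatedPrimes_eq_compl_nonZeroDivisors] at hx4
      simp only [Set.mem_iUnion] at hx4 ⊢
      obtain ⟨p, hp, hxp⟩ := hx4
      exact ⟨p, by simpa using hp, hxp⟩
  rcases (Ideal.subset_union_prime' (s := hfin.toFinset) (f := fun p : Ideal R => p)
    (a := maximalIdeal R ^ 2) (b := maximalIdeal R ^ 2)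
    (fun p hp => (hfin.mem_toFinset.mp hp).isPrime)).mp hsub with h1 | h1 | ⟨p, hp, h1⟩
  · exfalso
    apply hne
    apply Submodule.eq_bot_of_le_smul_of_le_jacobson_bot (maximalIdeal R) (maximalIdeal R) hfg
    · rw [smul_eq_mul, ← pow_two]; exact h1
    · exact (IsLocalRing.jacobson_eq_maximalIdeal ⊥ bot_ne_top).ge
  · exfalso
    apply hne
    apply Submodule.eq_bot_of_le_smul_of_le_jacobson_bot (maximalIdeal R) (maximalIdeal R) hfg
    · rw [smul_eq_mul, ← pow_two]; exact h1
    · exact (IsLocalRing.jacobson_eq_maximalIdeal ⊥ bot_ne_top).ge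
  · have hpa : IsAssociatedPrime p R := hfin.mem_toFinset.mp hp
    haveI : p.IsPrime := hpa.isPrime
    have hpm : p = maximalIdeal R :=
      le_antisymm (le_maximalIdeal (Ideal.IsPrime.ne_top')) h1
    rw [isAssociatedPrime_iff] at hpa
    obtain ⟨_, a, hpa⟩ := hpa
    rw [hpm] at hpa
    refine ⟨a, ?_, ?_⟩
    · intro ha0
      have : (1 : R) ∈ maximalIdeal R := by
        rw [hpa, Submodule.mem_colon_singleton, ha0]
        simp
      exact (maximalIdeal.isMaximal R).ne_top ((Ideal.eq_top_iff_one _).mpr this)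
    · intro r hr
      rw [hpa, Submodule.mem_colon_singleton] at hr
      simpa using hr

end Groth.Agent.Lead.Hom
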