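import Mathlib
import Groth.Agent.Lib.Lead.Hom5

/-! If `x ∈ 𝔪 ∖ 𝔪²` then the residue field is a direct summand of `𝔪 ⧸ x𝔪` over `R ⧸ (x)`. -/

namespace Groth.Agent.Lead.Hom

open CategoryTheory Abelian IsLocalRing Module Groth.Agent.Lead.RLR Pointwise

universe u
variable {R : Type u} [CommRing R]

theorem exists_retract_residueField_quotSMulTop [IsLocalRing R] {x : R}
    (hx : x ∈ maximalIdeal R) (hx2 : x ∉ maximalIdeal R ^ 2)
    [IsLocalRing (R ⧸ Ideal.span {x})] :
    ∃ (i : ResidueField (R ⧸ Ideal.span {x}) →ₗ[R ⧸ Ideal.span {x}]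
          QuotSMulTop x (maximalIdeal R))
      (p : QuotSMulTop x (maximalIdeal R) →ₗ[R ⧸ Ideal.span {x}]
          ResidueField (R ⧸ Ideal.span {x})), p ∘ₗ i = LinearMap.id := by
  classical
  let A := R ⧸ Ideal.span {x}
  let kR := ResidueField R
  let kA := ResidueField A
  let V := CotangentSpace R
  let W := QuotSMulTop x (maximalIdeal R)
  haveI : IsLocalHom (algebraMap R A) :=
    IsLocalHom.of_surjective (Ideal.Quotient.mk (Ideal.span {x})) Ideal.Quotient.mk_surjective
  let xm : maximalIdeal R := ⟨x, hx⟩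
  let v : V := (maximalIdeal R).toCotangent xm
  have hv : v ≠ 0 := fun h0 => hx2 (((maximalIdeal R).toCotangent_eq_zero xm).mp h0)
  -- a functional with `φ v = 1`
  have hker : LinearMap.ker (LinearMap.toSpanSingleton kR V v) = ⊥ := by
    rw [LinearMap.ker_eq_bot']
    intro c hc
    rw [LinearMap.toSpanSingleton_apply] at hc
    exact (smul_eq_zero.mp hc).resolve_right hv
  obtain ⟨φ, hφ⟩ := LinearMap.exists_leftInverse_of_injective _ hker
  have hφv : φ v = 1 := by
    have := congrArg (fun g => g (1 : kR)) hφ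
    simpa using this
  -- the retraction
  let pR : maximalIdeal R →ₗ[R] kA :=
    ((Algebra.linearMap kR kA).restrictScalars R) ∘ₗ (φ.restrictScalars R) ∘ₗ
      (maximalIdeal R).toCotangent
  have hpRx : pR xm = 1 := by
    show (Algebra.linearMap kR kA) (φ v) = 1
    rw [hφv]
    exact map_one (algebraMap kR kA)
  have hx0 : (algebraMap R A) x = 0 :=
    Ideal.Quotient.eq_zero_iff_mem.mpr (Ideal.subset_span rfl)
  have hle : x • (⊤ : Submodule R (maximalIdeal R)) ≤ LinearMap.ker pR := by
    intro z hz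
    obtain ⟨w, -, rfl⟩ := (Submodule.mem_smul_pointwise_iff_exists _ _ _).mp hz
    rw [LinearMap.mem_ker, map_smul, ← algebraMap_smul A x (pR w), hx0, zero_smul]
  let pW : W →ₗ[R] kA := Submodule.liftQ _ pR hle
  let pA : W →ₗ[A] kA :=
    LinearMap.extendScalarsOfSurjective (Ideal.Quotient.mk_surjective) pW
  -- the section
  let w0 : W := Submodule.Quotient.mk xm
  have hle' : maximalIdeal A ≤ LinearMap.ker (LinearMap.toSpanSingleton A W w0) := by
    intro a ha
    obtain ⟨r, rfl⟩ := Ideal.Quotient.mk_surjective a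
    have hr : r ∈ maximalIdeal R := by
      by_contra hr
      have hu : IsUnit r := IsLocalRing.notMem_maximalIdeal.mp hr
      exact (IsLocalRing.mem_maximalIdeal _).mp ha (hu.map _)
    rw [LinearMap.mem_ker, LinearMap.toSpanSingleton_apply]
    show (algebraMap R A r) • w0 = 0
    rw [algebraMap_smul]
    show Submodule.Quotient.mk (r • xm) = 0
    rw [Submodule.Quotient.mk_eq_zero]
    have : r • xm = x • (⟨r, hr⟩ : maximalIdeal R) := by
      apply Subtype.ext
      simp [xm, mul_comm]
    rw [this]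
    exact Submodule.smul_mem_pointwise_smul _ _ _ Submodule.mem_top
  let iA : kA →ₗ[A] W :=
    Submodule.liftQ (maximalIdeal A) (LinearMap.toSpanSingleton A W w0) hle'
  refine ⟨iA, pA, ?_⟩
  apply LinearMap.ext
  intro c
  obtain ⟨a, rfl⟩ := IsLocalRing.residue_surjective c
  have h1 : iA (residue A a) = a • w0 := rfl
  show pA (iA (residue A a)) = residue A a
  rw [h1, map_smul]
  have h2 : pA w0 = 1 := hpRx
  rw [h2]
  rw [Algebra.smul_def, mul_one]
  rfl

end Groth.Agent.Lead.Hom
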