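import Mathlib
import Groth.Agent.Lib.Lead.Hom6

/-! Reduction of projective dimension modulo a regular element. -/

namespace Groth.Agent.Lead.Hom

open CategoryTheory Abelian IsLocalRing Module Groth.Agent.Lead.RLR

universe u
variable {R : Type u} [CommRing R]

/-- If `x` is `R`-regular and `N`-regular and `N` has projective dimension `≤ n` over `R`, then
`N ⧸ xN` has projective dimension `≤ n` over `R ⧸ (x)`. -/
theorem hasProjectiveDimensionLT_quotSMulTop [IsLocalRing R] [IsNoetherianRing R] {x : R}
    (hxR : x ∈ nonZeroDivisors R) :
    ∀ (n : ℕ) (N : Type u) [AddCommGroup N] [Module R N] [Module.Finite R N],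
      IsSMulRegular N x → HasProjectiveDimensionLT (ModuleCat.of R N) (n + 1) →
      HasProjectiveDimensionLT (ModuleCat.of (R ⧸ Ideal.span {x}) (QuotSMulTop x N)) (n + 1) := by
  intro n
  induction n with
  | zero =>
    intro N _ _ _ hN h
    rw [zero_add, ← projective_iff_hasProjectiveDimensionLT_one, ← IsProjective.iff_projective] at h
    rw [zero_add, ← projective_iff_hasProjectiveDimensionLT_one, ← IsProjective.iff_projective]
    haveI := h
    haveI : Module.Free R N := Module.free_of_flat_of_isLocalRing
    exact Module.Projective.of_free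
  | succ n ih =>
    intro N _ _ _ hN h
    obtain ⟨P, _, _, _, _, f, surjf⟩ := Module.exists_finite_presentation R N
    let S := f.shortComplexKer
    have hS : S.ShortExact := LinearMap.shortExact_shortComplexKer surjf
    have hP : IsSMulRegular P x := Module.Flat.isSMulRegular_of_nonZeroDivisors hxR
    have hK : IsSMulRegular (LinearMap.ker f) x := hP.submodule _ x
    let A := R ⧸ Ideal.span {x}
    have hex : Function.Exact (LinearMap.ker f).subtype f := f.exact_subtype_ker_map
    let f1 : QuotSMulTop x (LinearMap.ker f) →ₗ[A] QuotSMulTop x P :=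
      LinearMap.extendScalarsOfSurjective Ideal.Quotient.mk_surjective
        (QuotSMulTop.map x (LinearMap.ker f).subtype)
    let g1 : QuotSMulTop x P →ₗ[A] QuotSMulTop x N :=
      LinearMap.extendScalarsOfSurjective Ideal.Quotient.mk_surjective (QuotSMulTop.map x f)
    have hex1 : Function.Exact f1 g1 := QuotSMulTop.map_exact x hex surjf
    have hinj1 : Function.Injective f1 :=
      quotSMulTop_map_injective x (LinearMap.ker f).injective_subtype hex hN
    have hsurj1 : Function.Surjective g1 := QuotSMulTop.map_surjective x surjf
    let S1 : ShortComplex (ModuleCat.{u} A) :=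
      ModuleCat.shortComplexOfCompEqZero f1 g1 hex1.linearMap_comp_eq_zero
    have hS1 : S1.ShortExact := ModuleCat.shortComplex_shortExact S1 hex1 hinj1 hsurj1
    have hPpd : HasProjectiveDimensionLT S.X₂ (n + 1) := by
      haveI : Module.Projective R P := Module.Projective.of_free
      haveI : Projective S.X₂ := (IsProjective.iff_projective _).mp inferInstance
      exact hasProjectiveDimensionLT_of_ge S.X₂ 1 (n + 1) (by omega)
    have hKpd : HasProjectiveDimensionLT (ModuleCat.of R (LinearMap.ker f)) (n + 1) :=
      hS.hasProjectiveDimensionLT_X₁ (n + 1) hPpd h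
    have hK1 : HasProjectiveDimensionLT S1.X₁ (n + 1) := ih (LinearMap.ker f) hK hKpd
    have hX2 : HasProjectiveDimensionLT S1.X₂ (n + 1 + 1) := by
      haveI : Module.Projective A (QuotSMulTop x P) := Module.Projective.of_free
      haveI : Projective S1.X₂ := (IsProjective.iff_projective _).mp inferInstance
      exact hasProjectiveDimensionLT_of_ge S1.X₂ 1 (n + 1 + 1) (by omega)
    exact hS1.hasProjectiveDimensionLT_X₃ (n + 1) hK1 hX2

end Groth.Agent.Lead.Hom
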