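import Mathlib
import Groth.Agent.Lib.Lead.Hom7

/-! Serre's theorem: a Noetherian local ring whose residue field has finite projective dimension is
regular. -/

namespace Groth.Agent.Lead.Hom

open CategoryTheory Abelian IsLocalRing Module Groth.Agent.Lead.RLR

universe u

/-- A free module killed by a nonzero element is trivial; here: if `𝔪` kills a nontrivial free
module then `𝔪 = ⊥`. -/
theorem maximalIdeal_eq_bot_of_free_residueField {R : Type u} [CommRing R] [IsLocalRing R]
    [Module.Free R (ResidueField R)] : maximalIdeal R = ⊥ := by
  rw [eq_bot_iff]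
  intro r hr
  let b := Module.Free.chooseBasis R (ResidueField R)
  haveI : Nonempty (Module.Free.ChooseBasisIndex R (ResidueField R)) := by
    by_contra hemp
    rw [not_nonempty_iff] at hemp
    have : Subsingleton (ResidueField R) := b.repr.toEquiv.subsingleton
    exact not_subsingleton (ResidueField R) this
  obtain ⟨i⟩ := this
  have h1 : r • b i = 0 := by
    rw [Algebra.smul_def]
    have : algebraMap R (ResidueField R) r = 0 := (residue_eq_zero_iff r).mpr hr
    rw [this, zero_mul]
  have h2 := congrArg (fun v => b.repr v i) h1
  simp at h2
  exact h2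

theorem isRegularLocalRing_of_residueField_aux : ∀ (e : ℕ) (R : Type u) [CommRing R]
    [IsLocalRing R] [IsNoetherianRing R], (maximalIdeal R).spanFinrank ≤ e →
    ∀ n : ℕ, HasProjectiveDimensionLT (ModuleCat.of R (ResidueField R)) (n + 1) →
    IsRegularLocalRing R := by
  intro e
  induction e with
  | zero =>
    intro R _ _ _ he n _
    apply IsRegularLocalRing.of_spanFinrank_maximalIdeal_le
    have h0 : (maximalIdeal R).spanFinrank = 0 := by omega
    rw [h0]
    exact ringKrullDim_nonneg_of_nontrivial
  | succ e ih =>
    intro R _ _ _ he n hpd
    by_cases hne : maximalIdeal R = ⊥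
    · apply IsRegularLocalRing.of_spanFinrank_maximalIdeal_le
      rw [hne, Submodule.spanFinrank_bot]
      exact ringKrullDim_nonneg_of_nontrivial
    rcases depth_zero_or_exists_nonZeroDivisor hne with ⟨a, ha, ham⟩ | ⟨x, hxm, hx2, hxR⟩
    · exfalso
      haveI : Module.Free R (ResidueField R) :=
        free_of_hasProjectiveDimensionLT_of_depth_zero ha ham n (ResidueField R) hpd
      exact hne maximalIdeal_eq_bot_of_free_residueField
    · haveI : IsLocalRing (R ⧸ Ideal.span {x}) :=
        isLocalRing_quotient (span_singleton_ne_top hxm)
      -- embedding dimension drops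
      obtain ⟨n', y, hn', hspan⟩ := exists_generators_of_notMem_sq hxm hx2
      have hle := spanFinrank_maximalIdeal_quotient_le x y hspan
      have hle' : (maximalIdeal (R ⧸ Ideal.span {x})).spanFinrank ≤ e := by omega
      -- `pd 𝔪 < n + 1`
      have hS := idealShortComplex_shortExact (maximalIdeal R)
      have hX3 : HasProjectiveDimensionLT (idealShortComplex (maximalIdeal R)).X₃ (n + 1 + 1) :=
        hasProjectiveDimensionLT_of_ge (ModuleCat.of R (ResidueField R)) (n + 1) (n + 1 + 1)
          (by omega)
      have hX2 : HasProjectiveDimensionLT (idealShortComplex (maximalIdeal R)).X₂ (n + 1) := by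
        haveI : Module.Projective R R := Module.Projective.of_free
        haveI : Projective (idealShortComplex (maximalIdeal R)).X₂ :=
          (IsProjective.iff_projective R).mp inferInstance
        exact hasProjectiveDimensionLT_of_ge _ 1 (n + 1) (by omega)
      have hm : HasProjectiveDimensionLT (ModuleCat.of R (maximalIdeal R)) (n + 1) :=
        hS.hasProjectiveDimensionLT_X₁ (n + 1) hX2 hX3
      have hreg : IsSMulRegular (maximalIdeal R) x :=
        (Module.Flat.isSMulRegular_of_nonZeroDivisors hxR : IsSMulRegular R x).submodule _ x
      have hW := hasProjectiveDimensionLT_quotSMulTop hxR n (maximalIdeal R) hreg hm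
      obtain ⟨i, p, hip⟩ := exists_retract_residueField_quotSMulTop hxm hx2
      have hretr : Retract (ModuleCat.of (R ⧸ Ideal.span {x})
            (ResidueField (R ⧸ Ideal.span {x})))
          (ModuleCat.of (R ⧸ Ideal.span {x}) (QuotSMulTop x (maximalIdeal R))) :=
        { i := ModuleCat.ofHom i
          r := ModuleCat.ofHom p
          retract := by
            rw [← ModuleCat.ofHom_comp, hip]
            rfl }
      have hkA := hretr.hasProjectiveDimensionLT (n + 1)
      haveI : IsRegularLocalRing (R ⧸ Ideal.span {x}) := ih _ hle' n hkA
      exact of_quotient_regular x hxm hxR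

/-- Serre: if the residue field of a Noetherian local ring has finite projective dimension, the
ring is regular. -/
theorem isRegularLocalRing_of_residueField {R : Type u} [CommRing R] [IsLocalRing R]
    [IsNoetherianRing R] (n : ℕ)
    (h : HasProjectiveDimensionLT (ModuleCat.of R (ResidueField R)) n) : IsRegularLocalRing R :=
  isRegularLocalRing_of_residueField_aux _ R le_rfl n
    (hasProjectiveDimensionLT_of_ge _ n (n + 1) (by omega))

end Groth.Agent.Lead.Hom
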