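import Mathlib
import Groth.Agent.Lib.Lead.Hom8

/-! Projective dimension of the residue field of a regular local ring; global dimension from the
residue field. -/

namespace Groth.Agent.Lead.Hom

open CategoryTheory Abelian IsLocalRing Module Groth.Agent.Lead.RLR

universe u
variable {R : Type u} [CommRing R]

theorem exists_generators_maximalIdeal [IsLocalRing R] [IsNoetherianRing R] :
    ∃ x : Fin (maximalIdeal R).spanFinrank → R,
      Ideal.span (Set.range x) = maximalIdeal R := by
  classical
  obtain ⟨s, hs1, hs2⟩ := Submodule.FG.exists_span_finset_card_eq_spanFinrank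
    ((maximalIdeal R).fg_of_isNoetherianRing)
  let e := s.equivFin
  refine ⟨fun i => ((e.symm (Fin.cast hs1.symm i) : s) : R), ?_⟩
  refine Eq.trans ?_ hs2
  congr 1
  ext z
  constructor
  · rintro ⟨i, rfl⟩
    exact (e.symm _).2
  · intro hz
    refine ⟨Fin.cast hs1 (e ⟨z, hz⟩), ?_⟩
    simp

/-- The residue field of a regular local ring of dimension `d` has projective dimension `d`. -/
theorem projectiveDimension_residueField [IsRegularLocalRing R] {d : ℕ}
    (hd : ringKrullDim R = d) :
    projectiveDimension (ModuleCat.of R (ResidueField R)) = d := by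
  have hsf := spanFinrank_maximalIdeal_eq_of_dim hd
  obtain ⟨x, hx⟩ := exists_generators_maximalIdeal (R := R)
  have hd' : ringKrullDim R = ((maximalIdeal R).spanFinrank : ℕ) := by rw [hd, hsf]
  have hreg := isRegular_ofFn hd' x hx
  have h1 := ModuleCat.projectiveDimension_quotient_eq_length.{u} (List.ofFn x) hreg
  have hI : Ideal.ofList (List.ofFn x) = maximalIdeal R := by
    refine Eq.trans ?_ hx
    unfold Ideal.ofList
    congr 1
    ext z
    simp [List.mem_ofFn]
  let e : (Shrink.{u} (R ⧸ Ideal.ofList (List.ofFn x))) ≃ₗ[R] ResidueField R :=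
    (Shrink.linearEquiv R _).trans (Submodule.quotEquivOfEq _ _ hI)
  rw [projectiveDimension_eq_of_iso e.toModuleIso] at h1
  rw [h1, List.length_ofFn, hsf]

/-- If the residue field of a Noetherian local ring has projective dimension `≤ n`, then every
module has projective dimension `≤ n`. -/
theorem hasProjectiveDimensionLT_of_residueField [IsLocalRing R] [IsNoetherianRing R] (n : ℕ)
    (hk : HasProjectiveDimensionLT (ModuleCat.of R (ResidueField R)) (n + 1))
    (M : ModuleCat.{u} R) : HasProjectiveDimensionLT M (n + 1) := by
  haveI : IsRegularLocalRing R := isRegularLocalRing_of_residueField (n + 1) hk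
  obtain ⟨d, hd⟩ : ∃ d : ℕ, ringKrullDim R = d := by
    obtain ⟨e, he, -⟩ := exists_nat_of_le (ringKrullDim_nonneg_of_nontrivial (R := R))
      (ringKrullDim_le_spanFinrank_maximalIdeal R)
    exact ⟨e, he⟩
  have h1 := projectiveDimension_residueField hd
  have h2 := projectiveDimension_lt_iff.mpr hk
  rw [h1] at h2
  have h3 : d < n + 1 := by exact_mod_cast h2
  haveI := hasProjectiveDimensionLT_of_isRegularLocalRing hd M
  exact hasProjectiveDimensionLT_of_ge M (d + 1) (n + 1) (by omega)

/-- If the residue field has projective dimension `< d`, the cotangent space has dimension `< d`. -/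
theorem finrank_cotangentSpace_lt [IsLocalRing R] [IsNoetherianRing R] (d : ℕ)
    (hd : HasProjectiveDimensionLT (ModuleCat.of R (ResidueField R)) d) :
    Module.finrank (ResidueField R) (CotangentSpace R) < d := by
  haveI : IsRegularLocalRing R := isRegularLocalRing_of_residueField d hd
  obtain ⟨e, he⟩ : ∃ e : ℕ, ringKrullDim R = e := by
    obtain ⟨e, he, -⟩ := exists_nat_of_le (ringKrullDim_nonneg_of_nontrivial (R := R))
      (ringKrullDim_le_spanFinrank_maximalIdeal R)
    exact ⟨e, he⟩
  have h1 := projectiveDimension_residueField he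
  have h2 := projectiveDimension_lt_iff.mpr hd
  rw [h1] at h2
  have h3 : e < d := by exact_mod_cast h2
  rw [← spanFinrank_maximalIdeal_eq_finrank_cotangentSpace, spanFinrank_maximalIdeal_eq_of_dim he]
  exact h3

end Groth.Agent.Lead.Hom
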