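import Mathlib
import Groth.Agent.Lib.Lead.Hom9

/-! Localizations of regular local rings at primes are regular. -/

namespace Groth.Agent.Lead.Hom

open CategoryTheory Abelian IsLocalRing Module Groth.Agent.Lead.RLR

universe u
variable {R : Type u} [CommRing R]

/-- The natural map `R ⧸ p → κ(p)`. -/
noncomputable def toResidueFieldAtPrime (p : Ideal R) [p.IsPrime] :
    (R ⧸ p) →ₗ[R] ResidueField (Localization.AtPrime p) :=
  Submodule.liftQ p (Algebra.linearMap R (ResidueField (Localization.AtPrime p))) (by
    intro r hr
    rw [LinearMap.mem_ker, Algebra.linearMap_apply,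
      IsScalarTower.algebraMap_apply R (Localization.AtPrime p)]
    show residue _ (algebraMap R (Localization.AtPrime p) r) = 0
    rw [residue_eq_zero_iff]
    rw [← IsLocalization.AtPrime.under_maximalIdeal (Localization.AtPrime p) p] at hr
    exact hr)

theorem toResidueFieldAtPrime_mk (p : Ideal R) [p.IsPrime] (r : R) :
    toResidueFieldAtPrime p (Submodule.Quotient.mk r) =
      residue _ (algebraMap R (Localization.AtPrime p) r) := rfl

instance isLocalizedModule_toResidueFieldAtPrime (p : Ideal R) [p.IsPrime] :
    IsLocalizedModule p.primeCompl (toResidueFieldAtPrime p) where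
  map_units s := by
    rw [Module.End.isUnit_iff]
    have hu : IsUnit (algebraMap R (ResidueField (Localization.AtPrime p)) s) := by
      rw [IsScalarTower.algebraMap_apply R (Localization.AtPrime p)]
      exact (IsLocalization.map_units (Localization.AtPrime p) s).map _
    constructor
    · intro a b hab
      simp only [Module.algebraMap_end_apply, Algebra.smul_def] at hab
      exact hu.mul_right_injective hab
    · intro a
      obtain ⟨u, hu'⟩ := hu
      refine ⟨(↑u⁻¹ : ResidueField (Localization.AtPrime p)) * a, ?_⟩
      simp only [Module.algebraMap_end_apply, Algebra.smul_def]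
      rw [← hu', ← mul_assoc, Units.mul_inv, one_mul]
  surj y := by
    obtain ⟨z, rfl⟩ := residue_surjective y
    obtain ⟨⟨a, s⟩, h⟩ := IsLocalization.surj p.primeCompl z
    refine ⟨⟨Submodule.Quotient.mk a, s⟩, ?_⟩
    rw [toResidueFieldAtPrime_mk]
    simp only at h ⊢
    rw [← h, map_mul, Submonoid.smul_def, Algebra.smul_def, mul_comm,
      IsScalarTower.algebraMap_apply R (Localization.AtPrime p)]
    rfl
  exists_of_eq {x y} h := by
    refine ⟨1, ?_⟩
    rw [one_smul, one_smul]
    obtain ⟨a, rfl⟩ := Submodule.Quotient.mk_surjective _ x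
    obtain ⟨b, rfl⟩ := Submodule.Quotient.mk_surjective _ y
    rw [toResidueFieldAtPrime_mk, toResidueFieldAtPrime_mk, ← sub_eq_zero, ← map_sub, ← map_sub,
      residue_eq_zero_iff] at h
    rw [Submodule.Quotient.eq]
    rw [← IsLocalization.AtPrime.under_maximalIdeal (Localization.AtPrime p) p]
    exact h

/-- A localization of a regular local ring at a prime is a regular local ring. -/
theorem isRegularLocalRing_localization [IsRegularLocalRing R] (p : Ideal R) [p.IsPrime] :
    IsRegularLocalRing (Localization.AtPrime p) := by
  obtain ⟨d, hd⟩ : ∃ d : ℕ, ringKrullDim R = d := by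
    obtain ⟨e, he, -⟩ := exists_nat_of_le (ringKrullDim_nonneg_of_nontrivial (R := R))
      (ringKrullDim_le_spanFinrank_maximalIdeal R)
    exact ⟨e, he⟩
  haveI h1 : HasProjectiveDimensionLE (ModuleCat.of R (R ⧸ p)) d :=
    hasProjectiveDimensionLT_of_finite hd (R ⧸ p)
  have h2 := ModuleCat.localizedModule_hasProjectiveDimensionLE.{u} d p.primeCompl
    (ModuleCat.of R (R ⧸ p))
  haveI := ModuleCat.localizedModule_isLocalizedModule.{u} (ModuleCat.of R (R ⧸ p)) p.primeCompl
  let e0 := IsLocalizedModule.linearEquiv p.primeCompl
    ((ModuleCat.of R (R ⧸ p)).localizedModuleMkLinearMap p.primeCompl) (toResidueFieldAtPrime p)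
  let e1 : ((ModuleCat.of R (R ⧸ p)).localizedModule p.primeCompl) ≃ₗ[Localization.AtPrime p]
      ResidueField (Localization.AtPrime p) :=
    LinearEquiv.extendScalarsOfIsLocalization p.primeCompl (Localization.AtPrime p) e0
  have h3 : HasProjectiveDimensionLT
      (ModuleCat.of (Localization.AtPrime p) (ResidueField (Localization.AtPrime p))) (d + 1) :=
    hasProjectiveDimensionLT_of_iso e1.toModuleIso (d + 1)
  exact isRegularLocalRing_of_residueField (d + 1) h3

end Groth.Agent.Lead.Hom
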