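import Mathlib
import Groth.Agent.Lib.Lead.Hom10

/-! Projective dimension of a module of finite projective dimension is detected by `Ext(M, R)`. -/

namespace Groth.Agent.Lead.Hom

open CategoryTheory Abelian IsLocalRing Module Groth.Agent.Lead.RLR

universe u
variable {R : Type u} [CommRing R]

theorem ext_eq_zero_of_subsingleton {M : ModuleCat.{u} R} {N : ModuleCat.{u} R} [Subsingleton N]
    {m : ℕ} (e : Ext M N m) : e = 0 := by
  have h0 : (𝟙 N : N ⟶ N) = 0 := (ModuleCat.isZero_of_subsingleton N).eq_of_tgt _ _
  have := Ext.comp_mk₀_id e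
  rw [h0, Ext.mk₀_zero, Ext.comp_zero] at this
  exact this.symm

theorem ext_subsingleton_of_generators {M : ModuleCat.{u} R} (m : ℕ)
    (h1 : Subsingleton (Ext M (ModuleCat.of R R) m))
    (h2 : ∀ L : ModuleCat.{u} R, Subsingleton (Ext M L (m + 1))) :
    ∀ (r : ℕ) (N : Type u) [AddCommGroup N] [Module R N] (s : Fin r → N),
      Submodule.span R (Set.range s) = ⊤ → Subsingleton (Ext M (ModuleCat.of R N) m) := by
  intro r
  induction r with
  | zero =>
    intro N _ _ s hs
    have : Subsingleton N := by
      have hr : Set.range s = ∅ := Set.range_eq_empty s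
      rw [hr, Submodule.span_empty] at hs
      refine ⟨fun a b => ?_⟩
      have ha : a ∈ (⊥ : Submodule R N) := hs ▸ Submodule.mem_top
      have hb : b ∈ (⊥ : Submodule R N) := hs ▸ Submodule.mem_top
      rw [Submodule.mem_bot] at ha hb
      rw [ha, hb]
    exact ⟨fun a b => by rw [ext_eq_zero_of_subsingleton a, ext_eq_zero_of_subsingleton b]⟩
  | succ r ih =>
    intro N _ _ s hs
    let N' : Submodule R N := Submodule.span R {s 0}
    -- the cyclic part
    have hN' : Subsingleton (Ext M (ModuleCat.of R N') m) := by
      let g : R →ₗ[R] N' := LinearMap.toSpanSingleton R N' ⟨s 0, Submodule.subset_span rfl⟩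
      have hg : Function.Surjective g := by
        rintro ⟨z, hz⟩
        obtain ⟨c, rfl⟩ := Submodule.mem_span_singleton.mp hz
        exact ⟨c, Subtype.ext (by simp [g])⟩
      have hS := LinearMap.shortExact_shortComplexKer hg
      refine ⟨fun a b => ?_⟩
      have key : ∀ c : Ext M (ModuleCat.of R N') m, c = 0 := by
        intro c
        have h0 : c.comp hS.extClass (rfl : m + 1 = m + 1) = 0 := (h2 _).elim _ _
        obtain ⟨x₂, hx₂⟩ := Ext.covariant_sequence_exact₃ M hS c rfl h0
        have : x₂ = 0 := h1.elim _ _
        rw [this, Ext.zero_comp] at hx₂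
        exact hx₂.symm
      rw [key a, key b]
    -- the quotient
    have hQ : Subsingleton (Ext M (ModuleCat.of R (N ⧸ N')) m) := by
      apply ih (N ⧸ N') (fun j => N'.mkQ (s j.succ))
      rw [eq_top_iff]
      rintro z -
      obtain ⟨w, rfl⟩ := N'.mkQ_surjective z
      have hw : w ∈ Submodule.span R (Set.range s) := hs ▸ Submodule.mem_top
      refine Submodule.span_induction ?_ ?_ ?_ ?_ hw
      · rintro _ ⟨j, rfl⟩
        induction j using Fin.cases with
        | zero =>
          have : N'.mkQ (s 0) = 0 := by
            rw [Submodule.mkQ_apply, Submodule.Quotient.mk_eq_zero]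
            exact Submodule.subset_span rfl
          rw [this]
          exact Submodule.zero_mem _
        | succ j => exact Submodule.subset_span ⟨j, rfl⟩
      · rw [map_zero]; exact Submodule.zero_mem _
      · intro a b _ _ ha hb
        rw [map_add]; exact Submodule.add_mem _ ha hb
      · intro c a _ ha
        rw [map_smul]; exact Submodule.smul_mem _ c ha
    -- the middle
    let S : ShortComplex (ModuleCat.{u} R) :=
      ModuleCat.shortComplexOfCompEqZero N'.subtype N'.mkQ (by ext x; simp)
    have hS : S.ShortExact := by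
      refine ModuleCat.shortComplex_shortExact S ?_ N'.injective_subtype N'.mkQ_surjective
      intro x
      constructor
      · intro hx
        have hx' : N'.mkQ x = 0 := hx
        rw [Submodule.mkQ_apply, Submodule.Quotient.mk_eq_zero] at hx'
        exact ⟨⟨x, hx'⟩, rfl⟩
      · rintro ⟨y, rfl⟩
        have hy : (N'.subtype y) ∈ N' := (y : N').2
        show N'.mkQ (N'.subtype y) = 0
        rw [Submodule.mkQ_apply, Submodule.Quotient.mk_eq_zero]
        exact hy
    refine ⟨fun a b => ?_⟩
    have key : ∀ c : Ext M (ModuleCat.of R N) m, c = 0 := by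
      intro c
      have h0 : c.comp (Ext.mk₀ S.g) (add_zero m) = 0 := hQ.elim _ _
      obtain ⟨x₁, hx₁⟩ := Ext.covariant_sequence_exact₂ M hS c h0
      have : x₁ = 0 := hN'.elim _ _
      rw [this, Ext.zero_comp] at hx₁
      exact hx₁.symm
    rw [key a, key b]

theorem hasProjectiveDimensionLT_of_ext_ring [IsNoetherianRing R] (M : Type u) [AddCommGroup M]
    [Module R M] [Module.Finite R M] (q d : ℕ)
    (hd : HasProjectiveDimensionLT (ModuleCat.of R M) (d + 1))
    (h : ∀ i : ℕ, q < i → Subsingleton (Ext (ModuleCat.of R M) (ModuleCat.of R R) i)) :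
    HasProjectiveDimensionLT (ModuleCat.of R M) (q + 1) := by
  have key : ∀ k : ℕ, HasProjectiveDimensionLT (ModuleCat.of R M) (q + 1 + k) →
      HasProjectiveDimensionLT (ModuleCat.of R M) (q + 1) := by
    intro k
    induction k with
    | zero => intro hk; exact hk
    | succ k ih =>
      intro hk
      apply ih
      apply ModuleCat.hasProjectiveDimensionLT_of_forall_finite
      intro L hL
      obtain ⟨r, s, hs⟩ := Module.Finite.exists_fin (R := R) (M := L)
      exact ext_subsingleton_of_generators (q + 1 + k) (h _ (by omega))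
        (fun L' => HasProjectiveDimensionLT.subsingleton _ (q + 1 + (k + 1)) _ (by omega) L')
        r L s hs
  apply key d
  exact hasProjectiveDimensionLT_of_ge _ (d + 1) (q + 1 + d) (by omega)

end Groth.Agent.Lead.Hom
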