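import Mathlib
import Groth.Agent.Lib.Lead.Hom11

/-! Global versions over regular rings of finite Krull dimension. -/

namespace Groth.Agent.Lead.Hom

open CategoryTheory Abelian IsLocalRing Module Groth.Agent.Lead.RLR

universe u
variable {R : Type u} [CommRing R]

theorem exists_nat_ringKrullDim_le (hdim : ringKrullDim R < ⊤) :
    ∃ D : ℕ, ringKrullDim R ≤ D := by
  rcases h : ringKrullDim R with _ | x
  · exact ⟨0, bot_le⟩
  · rcases x with _ | n
    · rw [h] at hdim
      exact absurd hdim (lt_irrefl _)
    · exact ⟨n, le_rfl⟩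

/-- Over a Noetherian ring whose localizations at maximal ideals are regular and of finite Krull
dimension `≤ D`, every finite module has projective dimension `≤ D`. -/
theorem hasProjectiveDimensionLT_of_regular_of_dim_le [IsNoetherianRing R]
    (hreg : ∀ m : MaximalSpectrum R, IsRegularLocalRing (Localization.AtPrime m.asIdeal))
    {D : ℕ} (hD : ringKrullDim R ≤ D) (M : Type u) [AddCommGroup M] [Module R M]
    [Module.Finite R M] : HasProjectiveDimensionLT (ModuleCat.of R M) (D + 1) := by
  rw [← HasProjectiveDimensionLE,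
    ModuleCat.hasProjectiveDimensionLE_iff_forall_maximalSpectrum.{u}]
  intro m
  haveI := hreg m
  obtain ⟨e, he⟩ : ∃ e : ℕ, ringKrullDim (Localization.AtPrime m.asIdeal) = e := by
    obtain ⟨e, he, -⟩ := exists_nat_of_le
      (ringKrullDim_nonneg_of_nontrivial (R := Localization.AtPrime m.asIdeal))
      (ringKrullDim_le_spanFinrank_maximalIdeal (Localization.AtPrime m.asIdeal))
    exact ⟨e, he⟩
  have h1 : ringKrullDim (Localization.AtPrime m.asIdeal) ≤ ringKrullDim R := by
    rw [IsLocalization.AtPrime.ringKrullDim_eq_height m.asIdeal]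
    exact Ideal.height_le_ringKrullDim_of_ne_top m.isMaximal.ne_top
  have h2 : (e : WithBot ℕ∞) ≤ D := by rw [← he]; exact h1.trans hD
  have h3 : e ≤ D := by exact_mod_cast h2
  haveI := hasProjectiveDimensionLT_of_isRegularLocalRing he
    ((ModuleCat.of R M).localizedModule m.asIdeal.primeCompl)
  exact hasProjectiveDimensionLT_of_ge _ (e + 1) (D + 1) (by omega)

end Groth.Agent.Lead.Hom
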