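import Mathlib
import Groth.Agent.Lib.Lead.Hom12

/-!
# Descent of projective dimension along faithfully flat maps
-/

set_option autoImplicit false
set_option linter.style.haveILetI false
universe u
open CategoryTheory IsLocalRing TensorProduct

namespace Groth.Agent.Lead.Hom

/-- Projectivity of finitely presented modules descends along faithfully flat ring maps. -/
theorem projective_of_baseChange {A B : Type u} [CommRing A] [CommRing B]
    [Algebra A B] [Module.FaithfullyFlat A B]
    (M : Type u) [AddCommGroup M] [Module A M] [Module.FinitePresentation A M]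
    (h : Module.Projective B (B ⊗[A] M)) : Module.Projective A M := by
  haveI : Module.Flat B (B ⊗[A] M) := inferInstance
  haveI : Module.Flat A M := Module.Flat.of_flat_tensorProduct A M B
  exact Module.Flat.projective_of_finitePresentation

/-- The base change of a short exact sequence along a flat ring map. -/
theorem baseChange_shortExact {A B : Type u} [CommRing A] [CommRing B]
    [Algebra A B] [Module.Flat A B]
    {K P M : Type u} [AddCommGroup K] [AddCommGroup P] [AddCommGroup M]
    [Module A K] [Module A P] [Module A M]
    (f : K →ₗ[A] P) (g : P →ₗ[A] M) (hex : Function.Exact f g)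
    (hf : Function.Injective f) (hg : Function.Surjective g) :
    ∃ S : ShortComplex (ModuleCat.{u} B), S.ShortExact ∧
      S.X₁ = ModuleCat.of B (B ⊗[A] K) ∧ S.X₂ = ModuleCat.of B (B ⊗[A] P) ∧
      S.X₃ = ModuleCat.of B (B ⊗[A] M) := by
  have hex1 : Function.Exact (f.baseChange B) (g.baseChange B) := by
    have := Module.Flat.lTensor_exact B hex
    intro y
    have h2 := this y
    rw [← LinearMap.baseChange_eq_ltensor (A := B), ← LinearMap.baseChange_eq_ltensor (A := B)] at h2
    exact h2
  have hinj1 : Function.Injective (f.baseChange B) := by
    rw [LinearMap.baseChange_eq_ltensor]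
    exact Module.Flat.lTensor_preserves_injective_linearMap f hf
  have hsurj1 : Function.Surjective (g.baseChange B) := by
    rw [LinearMap.baseChange_eq_ltensor]
    exact LinearMap.lTensor_surjective B hg
  refine ⟨ModuleCat.shortComplexOfCompEqZero (f.baseChange B) (g.baseChange B)
    hex1.linearMap_comp_eq_zero, ?_, rfl, rfl, rfl⟩
  exact ModuleCat.shortComplex_shortExact _ hex1 hinj1 hsurj1

/-- **Descent of projective dimension**: for `B` faithfully flat over a Noetherian ring `A` and `M`
a finite `A`-module, `pd_B (B ⊗ M) ≤ n` implies `pd_A M ≤ n`. -/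
theorem hasProjectiveDimensionLT_of_baseChange {A B : Type u} [CommRing A] [CommRing B]
    [IsNoetherianRing A] [Algebra A B] [Module.FaithfullyFlat A B] (n : ℕ) :
    ∀ (M : Type u) [AddCommGroup M] [Module A M] [Module.Finite A M],
      HasProjectiveDimensionLT (ModuleCat.of B (B ⊗[A] M)) (n + 1) →
      HasProjectiveDimensionLT (ModuleCat.of A M) (n + 1) := by
  induction n with
  | zero =>
    intro M _ _ _ h
    haveI : Module.FinitePresentation A M := Module.finitePresentation_of_finite A M
    haveI : Projective (ModuleCat.of B (B ⊗[A] M)) :=
      projective_iff_hasProjectiveDimensionLT_one.mpr h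
    have hp : Module.Projective B (B ⊗[A] M) := (IsProjective.iff_projective _).mpr inferInstance
    haveI := projective_of_baseChange M hp
    haveI : Projective (ModuleCat.of A M) := (IsProjective.iff_projective _).mp inferInstance
    exact projective_iff_hasProjectiveDimensionLT_one.mp inferInstance
  | succ n ih =>
    intro M _ _ _ h
    obtain ⟨P, _, _, _, _, f, surjf⟩ := Module.exists_finite_presentation A M
    let S := f.shortComplexKer
    have hS : S.ShortExact := LinearMap.shortExact_shortComplexKer surjf
    obtain ⟨S1, hS1, e1, e2, e3⟩ := baseChange_shortExact (B := B) (LinearMap.ker f).subtype f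
      (LinearMap.exact_subtype_ker_map f) (LinearMap.ker f).injective_subtype surjf
    have hX2 : HasProjectiveDimensionLT S1.X₂ (n + 1) := by
      rw [e2]
      haveI : Module.Projective B (B ⊗[A] P) := inferInstance
      haveI : Projective (ModuleCat.of B (B ⊗[A] P)) :=
        (IsProjective.iff_projective _).mp inferInstance
      exact hasProjectiveDimensionLT_of_ge _ 1 (n + 1) (by omega)
    have hX3 : HasProjectiveDimensionLT S1.X₃ (n + 1 + 1) := by rw [e3]; exact h
    have hK1 : HasProjectiveDimensionLT (ModuleCat.of B (B ⊗[A] (LinearMap.ker f))) (n + 1) := by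
      rw [← e1]; exact hS1.hasProjectiveDimensionLT_X₁ (n + 1) hX2 hX3
    have hK : HasProjectiveDimensionLT (ModuleCat.of A (LinearMap.ker f)) (n + 1) :=
      ih (LinearMap.ker f) hK1
    have hPpd : HasProjectiveDimensionLT S.X₂ (n + 1 + 1) := by
      haveI : Module.Projective A P := Module.Projective.of_free
      haveI : Projective S.X₂ := (IsProjective.iff_projective _).mp inferInstance
      exact hasProjectiveDimensionLT_of_ge S.X₂ 1 (n + 1 + 1) (by omega)
    exact hS.hasProjectiveDimensionLT_X₃ (n + 1) hK hPpd

end Groth.Agent.Lead.Hom
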