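import Mathlib
import Groth.Agent.Lib.Lead.Hom13

/-!
# Descent of regularity along (faithfully) flat maps
-/

set_option autoImplicit false
set_option linter.style.haveILetI false
universe u
open CategoryTheory IsLocalRing TensorProduct

namespace Groth.Agent.Lead.Hom

/-- Flat local homomorphism of Noetherian local rings with regular target: the source is regular. -/
theorem isRegularLocalRing_of_flat (R : Type u) [CommRing R]
    [IsLocalRing R] [IsNoetherianRing R] (S : Type u) [CommRing S] [IsRegularLocalRing S]
    [Algebra R S] [IsLocalHom (algebraMap R S)] [Module.Flat R S] : IsRegularLocalRing R := by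
  haveI : Module.FaithfullyFlat R S := Module.FaithfullyFlat.of_flat_of_isLocalHom
  have hd : ringKrullDim S = ((IsLocalRing.maximalIdeal S).spanFinrank : ℕ) :=
    (IsRegularLocalRing.spanFinrank_maximalIdeal (R := S)).symm
  have h1 := hasProjectiveDimensionLT_of_isRegularLocalRing hd
    (ModuleCat.of S (TensorProduct R S (IsLocalRing.ResidueField R)))
  have h2 := hasProjectiveDimensionLT_of_baseChange (A := R) (B := S)
    (IsLocalRing.maximalIdeal S).spanFinrank (IsLocalRing.ResidueField R) h1
  exact isRegularLocalRing_of_residueField _ h2

/-- Ring-hom version. -/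
theorem isRegularLocalRing_of_flat_ringHom (R : Type u) [CommRing R]
    [IsLocalRing R] [IsNoetherianRing R] (S : Type u) [CommRing S] [IsRegularLocalRing S]
    (f : R →+* S) [hl : IsLocalHom f] (hf : f.Flat) : IsRegularLocalRing R := by
  letI : Algebra R S := f.toAlgebra
  haveI : IsLocalHom (algebraMap R S) := by rw [RingHom.algebraMap_toAlgebra]; exact hl
  haveI : Module.Flat R S := hf
  exact isRegularLocalRing_of_flat R S

/-- Noetherianity descends along faithfully flat maps. -/
theorem isNoetherianRing_of_faithfullyFlat (R : Type u) [CommRing R] (S : Type u) [CommRing S]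
    [Algebra R S] [Module.FaithfullyFlat R S] [IsNoetherianRing S] : IsNoetherianRing R := by
  rw [isNoetherianRing_iff, isNoetherian_iff']
  have hS : WellFoundedGT (Ideal S) := by
    rw [← isNoetherian_iff']; infer_instance
  have hmono : StrictMono (Ideal.map (algebraMap R S)) :=
    Monotone.strictMono_of_injective (fun _ _ h => Ideal.map_mono h)
      Ideal.map_injective_of_faithfullyFlat
  exact hmono.wellFoundedGT

/-- Regularity descends along faithfully flat maps. -/
theorem isRegularRing_of_faithfullyFlat (R : Type u) [CommRing R] (S : Type u) [CommRing S]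
    [Algebra R S] [Module.FaithfullyFlat R S] [IsRegularRing S] : IsRegularRing R := by
  haveI : IsNoetherianRing R := isNoetherianRing_of_faithfullyFlat R S
  rw [isRegularRing_iff]
  intro p _
  obtain ⟨P, hP, hPp⟩ := Ideal.exists_isPrime_liesOver_of_faithfullyFlat (B := S) p
  have hover : p = P.comap (algebraMap R S) := hPp.over
  have hflat : (algebraMap R S).Flat := RingHom.flat_algebraMap_iff.mpr inferInstance
  have h1 := hflat.localRingHom P p hover
  haveI := Localization.isLocalHom_localRingHom p P (algebraMap R S) hover
  exact isRegularLocalRing_of_flat_ringHom (Localization.AtPrime p) (Localization.AtPrime P)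
    (Localization.localRingHom p P (algebraMap R S) hover) h1

end Groth.Agent.Lead.Hom
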