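import Mathlib
import Groth.Prelude.Def_CAlg

/-!
# Depth: basic characterisations (regular sequences, Rees' theorem via `Ext`)
-/

set_option autoImplicit false
set_option linter.style.haveILetI false
universe u v
open CategoryTheory Abelian RingTheory.Sequence LocCoh Pointwise

namespace Groth.Agent.Lead.Depth

section Basic

variable {R : Type u} [CommRing R]

theorem idealDepth_of_eq_top (I : Ideal R) (M : Type v) [AddCommGroup M] [Module R M]
    (h : I • (⊤ : Submodule R M) = ⊤) : idealDepth I M = ⊤ := by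
  classical
  unfold idealDepth
  rw [if_pos h]

theorem idealDepth_of_ne_top (I : Ideal R) (M : Type v) [AddCommGroup M] [Module R M]
    (h : I • (⊤ : Submodule R M) ≠ ⊤) :
    idealDepth I M = ⨆ (rs : List R) (_ : IsWeaklyRegular M rs ∧ ∀ r ∈ rs, r ∈ I),
      (rs.length : ℕ∞) := by
  classical
  unfold idealDepth
  rw [if_neg h]

theorem le_idealDepth_of_isWeaklyRegular (I : Ideal R) (M : Type v) [AddCommGroup M] [Module R M]
    (rs : List R) (h : IsWeaklyRegular M rs) (hI : ∀ r ∈ rs, r ∈ I) :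
    (rs.length : ℕ∞) ≤ idealDepth I M := by
  by_cases htop : I • (⊤ : Submodule R M) = ⊤
  · rw [idealDepth_of_eq_top I M htop]; exact le_top
  · rw [idealDepth_of_ne_top I M htop]
    exact le_iSup₂_of_le rs ⟨h, hI⟩ le_rfl

theorem isWeaklyRegular_take {M : Type v} [AddCommGroup M] [Module R M] (rs : List R) (n : ℕ)
    (h : IsWeaklyRegular M rs) : IsWeaklyRegular M (rs.take n) := by
  have h2 : IsWeaklyRegular M (rs.take n ++ rs.drop n) := by rwa [List.take_append_drop]
  exact ((isWeaklyRegular_append_iff (M := M) (rs.take n) (rs.drop n)).mp h2).1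

theorem exists_of_le_idealDepth (I : Ideal R) (M : Type v) [AddCommGroup M] [Module R M]
    (htop : I • (⊤ : Submodule R M) ≠ ⊤) (n : ℕ) (h : (n : ℕ∞) ≤ idealDepth I M) :
    ∃ rs : List R, rs.length = n ∧ IsWeaklyRegular M rs ∧ ∀ r ∈ rs, r ∈ I := by
  rw [idealDepth_of_ne_top I M htop] at h
  by_contra hcon
  push Not at hcon
  have hlt : ∀ rs : List R, (IsWeaklyRegular M rs ∧ ∀ r ∈ rs, r ∈ I) → rs.length < n := by
    rintro rs ⟨h1, h2⟩
    by_contra hge
    push Not at hge
    obtain ⟨r, hr1, hr2⟩ := hcon (rs.take n) (by simp [hge]) (isWeaklyRegular_take rs n h1)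
    exact hr2 (h2 r (List.mem_of_mem_take hr1))
  have hn : 0 < n := hlt [] ⟨IsWeaklyRegular.nil R M, by simp⟩
  have hle : (⨆ (rs : List R) (_ : IsWeaklyRegular M rs ∧ ∀ r ∈ rs, r ∈ I),
      (rs.length : ℕ∞)) ≤ ((n - 1 : ℕ) : ℕ∞) := by
    apply iSup₂_le
    intro rs hrs
    have := hlt rs hrs
    exact_mod_cast Nat.le_pred_of_lt this
  have h3 := h.trans hle
  have h4 : n ≤ n - 1 := by exact_mod_cast h3
  omega

theorem le_idealDepth_iff (I : Ideal R) (M : Type v) [AddCommGroup M] [Module R M]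
    (htop : I • (⊤ : Submodule R M) ≠ ⊤) (n : ℕ) :
    (n : ℕ∞) ≤ idealDepth I M ↔
      ∃ rs : List R, rs.length = n ∧ IsWeaklyRegular M rs ∧ ∀ r ∈ rs, r ∈ I := by
  constructor
  · exact exists_of_le_idealDepth I M htop n
  · rintro ⟨rs, rfl, h1, h2⟩
    exact le_idealDepth_of_isWeaklyRegular I M rs h1 h2

/-- A weakly regular sequence inside `I` with `IM ≠ M` is regular. -/
theorem isRegular_of_isWeaklyRegular_of_mem {I : Ideal R} {M : Type v} [AddCommGroup M]
    [Module R M] (htop : I • (⊤ : Submodule R M) ≠ ⊤) {rs : List R} (h : IsWeaklyRegular M rs)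
    (hI : ∀ r ∈ rs, r ∈ I) : IsRegular M rs := by
  rw [isRegular_iff]
  refine ⟨h, ?_⟩
  intro heq
  apply htop
  have hle : Ideal.ofList rs ≤ I := by
    rw [Ideal.ofList, Ideal.span_le]
    intro r hr
    exact hI r hr
  have h2 : Ideal.ofList rs • (⊤ : Submodule R M) ≤ I • (⊤ : Submodule R M) :=
    Submodule.smul_mono_left hle
  rw [← heq] at h2
  exact top_le_iff.mp h2

/-- ENat bookkeeping: `a + 1 = b` from the "shifted" order characterisation. -/
theorem enat_add_one_eq_of_forall {a b : ℕ∞}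
    (h : ∀ n : ℕ, (n : ℕ∞) ≤ a ↔ ((n + 1 : ℕ) : ℕ∞) ≤ b) : a + 1 = b := by
  induction a using ENat.recTopCoe with
  | top =>
    have hb : b = ⊤ := by
      rw [ENat.eq_top_iff_forall_ge]
      intro m
      have := (h m).mp le_top
      exact le_trans (by exact_mod_cast Nat.le_succ m) this
    simp [hb]
  | coe m =>
    have h1 : ((m + 1 : ℕ) : ℕ∞) ≤ b := (h m).mp le_rfl
    have h2 : ¬ ((m + 1 + 1 : ℕ) : ℕ∞) ≤ b := by
      intro hcon
      have := (h (m + 1)).mpr hcon
      have : m + 1 ≤ m := by exact_mod_cast this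
      omega
    induction b using ENat.recTopCoe with
    | top => exact absurd le_top h2
    | coe k =>
      have h1' : m + 1 ≤ k := by exact_mod_cast h1
      have h2' : ¬ m + 1 + 1 ≤ k := by exact_mod_cast h2
      have : m + 1 = k := by omega
      exact_mod_cast this

end Basic

section Ext

variable {C : Type*} [Category C] [Abelian C] [HasExt C]

theorem ext_subsingleton_of_iso_left {X X' : C} (e : X ≅ X') (Y : C) (i : ℕ)
    (h : Subsingleton (Ext X Y i)) : Subsingleton (Ext X' Y i) := by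
  refine ⟨fun a b => ?_⟩
  have key : ∀ c : Ext X' Y i, c = (Ext.mk₀ e.inv).comp ((Ext.mk₀ e.hom).comp c (zero_add i))
      (zero_add i) := by
    intro c
    rw [Ext.mk₀_comp_mk₀_assoc, e.inv_hom_id, Ext.mk₀_id_comp]
  rw [key a, key b, Subsingleton.elim ((Ext.mk₀ e.hom).comp a (zero_add i))
    ((Ext.mk₀ e.hom).comp b (zero_add i))]

theorem ext_subsingleton_of_iso_right (X : C) {Y Y' : C} (e : Y ≅ Y') (i : ℕ)
    (h : Subsingleton (Ext X Y i)) : Subsingleton (Ext X Y' i) := by
  refine ⟨fun a b => ?_⟩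
  have key : ∀ c : Ext X Y' i, c = (c.comp (Ext.mk₀ e.inv) (add_zero i)).comp (Ext.mk₀ e.hom)
      (add_zero i) := by
    intro c
    rw [Ext.comp_assoc_of_third_deg_zero, Ext.mk₀_comp_mk₀, e.inv_hom_id, Ext.comp_mk₀_id]
  rw [key a, key b, Subsingleton.elim (a.comp (Ext.mk₀ e.inv) (add_zero i))
    (b.comp (Ext.mk₀ e.inv) (add_zero i))]

end Ext

section Rees

variable {R : Type u} [CommRing R] [IsNoetherianRing R]

/-- **Rees**: `n ≤ depth_I M` iff `Ext^i(R/I, M) = 0` for all `i < n`. -/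
theorem le_idealDepth_iff_ext (I : Ideal R) (M : Type u) [AddCommGroup M] [Module R M]
    [Module.Finite R M] (htop : I • (⊤ : Submodule R M) ≠ ⊤) (n : ℕ) :
    (n : ℕ∞) ≤ idealDepth I M ↔
      ∀ i < n, Subsingleton (Ext (ModuleCat.of R (R ⧸ I)) (ModuleCat.of R M) i) := by
  have tfae := ModuleCat.exists_isRegular_tfae.{u, u} I n (ModuleCat.of R M) htop.lt_top
  have h24 := tfae.out 1 3
  let e : ModuleCat.of R (Shrink.{u} (R ⧸ I)) ≅ ModuleCat.of R (R ⧸ I) :=
    (Shrink.linearEquiv.{u, u} R (R ⧸ I)).toModuleIso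
  rw [le_idealDepth_iff I M htop n]
  constructor
  · rintro ⟨rs, hlen, hreg, hI⟩ i hi
    have h2 := h24.mpr ⟨rs, hlen, hI, isRegular_of_isWeaklyRegular_of_mem htop hreg hI⟩
    exact ext_subsingleton_of_iso_left e _ i (h2 i hi)
  · intro h
    obtain ⟨rs, hlen, hI, hreg⟩ := h24.mp
      (fun i hi => ext_subsingleton_of_iso_left e.symm _ i (h i hi))
    exact ⟨rs, hlen, hreg.toIsWeaklyRegular, hI⟩

/-- `depth_I M = n` iff `Ext^i(R/I, M)` vanishes for `i < n` and not for `i = n`. -/
theorem idealDepth_eq_iff_ext (I : Ideal R) (M : Type u) [AddCommGroup M] [Module R M]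
    [Module.Finite R M] (htop : I • (⊤ : Submodule R M) ≠ ⊤) (n : ℕ) :
    idealDepth I M = n ↔
      ((∀ i : ℕ, i < n → Subsingleton (Ext (ModuleCat.of R (R ⧸ I)) (ModuleCat.of R M) i)) ∧
        Nontrivial (Ext (ModuleCat.of R (R ⧸ I)) (ModuleCat.of R M) n)) := by
  constructor
  · intro h
    have h1 : (n : ℕ∞) ≤ idealDepth I M := h.ge
    have h2 : ¬ ((n + 1 : ℕ) : ℕ∞) ≤ idealDepth I M := by
      rw [h]; intro hcon
      have : n + 1 ≤ n := by exact_mod_cast hcon
      omega
    refine ⟨(le_idealDepth_iff_ext I M htop n).mp h1, ?_⟩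
    by_contra hnt
    rw [not_nontrivial_iff_subsingleton] at hnt
    apply h2
    rw [le_idealDepth_iff_ext I M htop (n + 1)]
    intro i hi
    by_cases hin : i = n
    · subst hin; exact hnt
    · exact (le_idealDepth_iff_ext I M htop n).mp h1 i (by omega)
  · rintro ⟨h1, h2⟩
    apply le_antisymm
    · by_contra hlt
      push Not at hlt
      have h3 : ((n + 1 : ℕ) : ℕ∞) ≤ idealDepth I M := by
        have := Order.add_one_le_of_lt hlt
        exact_mod_cast this
      have := (le_idealDepth_iff_ext I M htop (n + 1)).mp h3 n (by omega)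
      exact not_subsingleton _ this
    · exact (le_idealDepth_iff_ext I M htop n).mpr h1

end Rees

end Groth.Agent.Lead.Depth
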