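import Mathlib
import Groth.Agent.Lib.Lead.Hom14

/-!
# `projectiveDimension` form of the regular-element lemma
-/

set_option autoImplicit false
set_option linter.style.haveILetI false
universe u
open CategoryTheory IsLocalRing TensorProduct Pointwise

namespace Groth.Agent.Lead.Hom

/-- `QuotSMulTop a E ≃ E ⧸ (span {a} • ⊤)` over `A ⧸ span {a}`. -/
noncomputable def quotSMulTopEquivQuotSpan {A : Type u} [CommRing A] (a : A) (E : Type u)
    [AddCommGroup E] [Module A E] :
    QuotSMulTop a E ≃ₗ[A ⧸ Ideal.span {a}] (E ⧸ (Ideal.span {a} • (⊤ : Submodule A E))) :=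
  LinearEquiv.extendScalarsOfSurjective (Ideal.Quotient.mk_surjective (I := Ideal.span {a}))
    (Submodule.quotEquivOfEq _ _ (Submodule.ideal_span_singleton_smul a ⊤).symm)

theorem hasProjectiveDimensionLT_quotSpan {A : Type u} [CommRing A] [IsLocalRing A]
    [IsNoetherianRing A] (E : Type u) [AddCommGroup E] [Module A E] [Module.Finite A E]
    (a : A) (hA : IsSMulRegular A a) (hE : IsSMulRegular E a) (n : ℕ)
    (h : HasProjectiveDimensionLT (ModuleCat.of A E) n) :
    HasProjectiveDimensionLT
      (ModuleCat.of (A ⧸ Ideal.span {a}) (E ⧸ (Ideal.span {a} • (⊤ : Submodule A E)))) n := by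
  have haR : a ∈ nonZeroDivisors A := by
    rw [mem_nonZeroDivisors_iff_right]
    intro x hx
    apply hA
    simpa [mul_comm] using hx
  cases n with
  | zero =>
    rw [hasProjectiveDimensionLT_zero_iff_isZero] at h ⊢
    haveI : Subsingleton E := ModuleCat.subsingleton_of_isZero h
    exact ModuleCat.isZero_of_subsingleton _
  | succ n =>
    have h1 := hasProjectiveDimensionLT_quotSMulTop haR n E hE h
    exact hasProjectiveDimensionLT_of_iso (quotSMulTopEquivQuotSpan a E).toModuleIso _

theorem projectiveDimension_quotSpan_le {A : Type u} [CommRing A] [IsLocalRing A]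
    [IsNoetherianRing A] (E : Type u) [AddCommGroup E] [Module A E] [Module.Finite A E]
    (hfin : projectiveDimension (ModuleCat.of A E) ≠ ⊤) (a : A)
    (hA : IsSMulRegular A a) (hE : IsSMulRegular E a) :
    projectiveDimension
      (ModuleCat.of (A ⧸ Ideal.span {a}) (E ⧸ (Ideal.span {a} • (⊤ : Submodule A E)))) ≤
      projectiveDimension (ModuleCat.of A E) := by
  have key : ∀ n : ℕ, projectiveDimension (ModuleCat.of A E) < n →
      projectiveDimension
        (ModuleCat.of (A ⧸ Ideal.span {a}) (E ⧸ (Ideal.span {a} • (⊤ : Submodule A E)))) < n := by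
    intro n hn
    rw [projectiveDimension_lt_iff] at hn ⊢
    exact hasProjectiveDimensionLT_quotSpan E a hA hE n hn
  generalize hd : projectiveDimension (ModuleCat.of A E) = d at key hfin
  induction d with
  | bot =>
    have := key 0 (by simp)
    rw [Nat.cast_zero, WithBot.lt_zero_iff_eq_bot] at this
    exact this.le
  | coe d =>
    induction d with
    | top => exact absurd rfl hfin
    | coe m =>
      have := key (m + 1) (by
        norm_cast
        exact_mod_cast Nat.lt_succ_self m)
      exact ENat.WithBot.lt_add_one_iff.mp (by exact_mod_cast this)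

end Groth.Agent.Lead.Hom
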