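import Mathlib
import Groth.Agent.Lib.Lead.Hom15

/-!
# Regular local rings are integrally closed
-/

set_option autoImplicit false
set_option linter.style.haveILetI false
universe u
open IsLocalRing

namespace Groth.Agent.Lead.Hom

open scoped nonZeroDivisors

/-- If `x` is a prime element of the domain `A` and `A[1/x]` is integrally closed, so is `A`. -/
theorem isIntegrallyClosed_of_prime_of_away {A : Type u} [CommRing A] [IsDomain A] {x : A}
    (hx : Prime x) (hS : Submonoid.powers x ≤ A⁰)
    (h : IsIntegrallyClosed (Localization.subalgebra (FractionRing A) (Submonoid.powers x) hS)) :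
    IsIntegrallyClosed A := by
  rw [isIntegrallyClosed_iff (FractionRing A)]
  intro z hz
  have h1 : ∃ (k : ℕ) (a : A), z * algebraMap A (FractionRing A) (x ^ k) =
      algebraMap A (FractionRing A) a := by
    obtain ⟨y, hy⟩ := (isIntegrallyClosed_iff (FractionRing A)).mp h
      (hz.tower_top (A := Localization.subalgebra (FractionRing A) (Submonoid.powers x) hS))
    obtain ⟨⟨a, s⟩, has⟩ := IsLocalization.surj (Submonoid.powers x) y
    obtain ⟨k, hk⟩ := s.2
    refine ⟨k, a, ?_⟩
    have := congrArg (algebraMap (Localization.subalgebra (FractionRing A) (Submonoid.powers x) hS)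
      (FractionRing A)) has
    simp only [map_mul] at this
    rw [hy, ← IsScalarTower.algebraMap_apply, ← IsScalarTower.algebraMap_apply, ← hk] at this
    exact this
  obtain ⟨k, a, hka⟩ := h1
  induction k generalizing a with
  | zero => exact ⟨a, by simpa using hka.symm⟩
  | succ k ih =>
    have hw : IsIntegral A (z * algebraMap A (FractionRing A) (x ^ k)) :=
      hz.mul isIntegral_algebraMap
    obtain ⟨p, hp, hpw⟩ := hw
    have hdvd : x ∣ a ^ p.natDegree := by
      refine Polynomial.dvd_pow_natDegree_of_eval₂_eq_zero
        (IsFractionRing.injective A (FractionRing A)) hp x a _ hpw ?_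
      rw [← hka, pow_succ, map_mul]; ring
    obtain ⟨a', rfl⟩ := hx.dvd_of_dvd_pow hdvd
    apply ih a'
    have hx0 : algebraMap A (FractionRing A) x ≠ 0 := by
      rw [Ne, map_eq_zero_iff _ (IsFractionRing.injective A (FractionRing A))]; exact hx.ne_zero
    apply mul_right_cancel₀ hx0
    rw [mul_assoc, ← map_mul, ← pow_succ, hka, map_mul]; ring

/-- Inductive step: a regular local ring is integrally closed provided all regular local rings of
smaller dimension are. -/
theorem isIntegrallyClosed_step (A : Type u) [CommRing A] [IsRegularLocalRing A]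
    (ih : ∀ (T : Type u) [CommRing T] [IsRegularLocalRing T],
      ringKrullDim T < ringKrullDim A → IsIntegrallyClosed T) : IsIntegrallyClosed A := by
  haveI : IsDomain A := RLR.isDomain A
  by_cases hm : maximalIdeal A = ⊥
  · have hf : IsField A := IsLocalRing.isField_iff_maximalIdeal_eq.mpr hm
    exact hf.toField.instIsIntegrallyClosed
  · obtain ⟨x, hxm, hx2⟩ := exists_mem_maximalIdeal_notMem_sq hm
    obtain ⟨n, y, hn, hspan⟩ := RLR.exists_generators_of_notMem_sq hxm hx2
    haveI := RLR.isLocalRing_quotient (RLR.span_singleton_ne_top hxm)
    obtain ⟨hreg, -⟩ := RLR.isRegularLocalRing_quotient_aux x y hspan hn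
    haveI := hreg
    haveI : IsDomain (A ⧸ Ideal.span {x}) := RLR.isDomain _
    have hprime : (Ideal.span {x}).IsPrime :=
      (Ideal.Quotient.isDomain_iff_prime _).mp inferInstance
    have hx0 : x ≠ 0 := by rintro rfl; exact hx2 (Ideal.zero_mem _)
    have hxp : Prime x := (Ideal.span_singleton_prime hx0).mp hprime
    have hS : Submonoid.powers x ≤ A⁰ :=
      Submonoid.powers_le.mpr (mem_nonZeroDivisors_of_ne_zero hx0)
    apply isIntegrallyClosed_of_prime_of_away hxp hS
    have hloc : IsIntegrallyClosed (Localization (Submonoid.powers x)) := by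
      haveI : IsDomain (Localization (Submonoid.powers x)) :=
        IsLocalization.isDomain_localization hS
      apply IsIntegrallyClosed.of_localization_maximal
      intro P hP0 hPmax
      set p := P.comap (algebraMap A (Localization (Submonoid.powers x))) with hp
      haveI : p.IsPrime := Ideal.comap_isPrime _ _
      haveI := isRegularLocalRing_localization p
      haveI hlocT : IsLocalization.AtPrime (Localization.AtPrime P) p :=
        IsLocalization.isLocalization_atPrime_localization_atPrime (Submonoid.powers x) P
      let e : Localization.AtPrime p ≃ₐ[A] Localization.AtPrime P :=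
        IsLocalization.algEquiv p.primeCompl _ _
      haveI : IsRegularLocalRing (Localization.AtPrime P) :=
        IsRegularLocalRing.of_ringEquiv e.toRingEquiv
      apply ih
      rw [IsLocalization.AtPrime.ringKrullDim_eq_height p (Localization.AtPrime P),
        ← maximalIdeal_height_eq_ringKrullDim]
      have hlt : p < maximalIdeal A := by
        refine lt_of_le_of_ne (le_maximalIdeal (Ideal.IsPrime.ne_top ‹_›)) ?_
        intro heq
        have hxp' : x ∈ p := heq ▸ hxm
        have hu : IsUnit (algebraMap A (Localization (Submonoid.powers x)) x) :=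
          IsLocalization.map_units _ (⟨x, Submonoid.mem_powers x⟩ : Submonoid.powers x)
        exact hPmax.ne_top (Ideal.eq_top_of_isUnit_mem _ hxp' hu)
      exact_mod_cast Ideal.height_strict_mono_of_isPrime_of_isPrime hlt
    exact hloc.of_equiv (IsLocalization.algEquiv (Submonoid.powers x)
      (Localization (Submonoid.powers x)) _).toRingEquiv

theorem isIntegrallyClosed_aux : ∀ (d : ℕ) (A : Type u) [CommRing A] [IsRegularLocalRing A],
    ringKrullDim A = d → IsIntegrallyClosed A := by
  intro d
  induction d using Nat.strong_induction_on with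
  | _ d ih =>
    intro A _ _ hd
    apply isIntegrallyClosed_step
    intro T _ _ hT
    rw [hd] at hT
    obtain ⟨e, he, hle⟩ := RLR.exists_nat_of_le (ringKrullDim_nonneg_of_nontrivial (R := T)) hT.le
    have hlt : e < d := by
      rw [he] at hT
      exact_mod_cast hT
    exact ih e hlt T he

/-- **A regular local ring is integrally closed.** -/
theorem isIntegrallyClosed_of_isRegularLocalRing (A : Type u) [CommRing A] [IsRegularLocalRing A] :
    IsIntegrallyClosed A := by
  obtain ⟨e, he, -⟩ := RLR.exists_nat_of_le (ringKrullDim_nonneg_of_nontrivial (R := A))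
    (ringKrullDim_le_spanFinrank_maximalIdeal A)
  exact isIntegrallyClosed_aux e A he

end Groth.Agent.Lead.Hom
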