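import Mathlib
import Groth.Agent.Lib.Lead.Hom16

/-!
# Projective dimension over a regular local ring via `Ext(-, A)`
-/

set_option autoImplicit false
set_option linter.style.haveILetI false
universe u
open CategoryTheory IsLocalRing Abelian

namespace Groth.Agent.Lead.Hom

/-- A finite module over a regular local ring has finite projective dimension (bounded by the
embedding dimension). -/
theorem hasProjectiveDimensionLT_spanFinrank {A : Type u} [CommRing A] [IsRegularLocalRing A]
    (M : Type u) [AddCommGroup M] [Module A M] [Module.Finite A M] :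
    HasProjectiveDimensionLT (ModuleCat.of A M) ((maximalIdeal A).spanFinrank + 1) :=
  hasProjectiveDimensionLT_of_finite
    (IsRegularLocalRing.spanFinrank_maximalIdeal (R := A)).symm M

/-- Over a regular local ring, `Ext^j(M, A) = 0` for `j > q` implies `pd M ≤ q`. -/
theorem hasProjectiveDimensionLT_of_ext_self {A : Type u} [CommRing A] [IsRegularLocalRing A]
    (M : Type u) [AddCommGroup M] [Module A M] [Module.Finite A M] (q : ℕ)
    (h : ∀ i : ℕ, q < i → Subsingleton (Ext (ModuleCat.of A M) (ModuleCat.of A A) i)) :
    HasProjectiveDimensionLT (ModuleCat.of A M) (q + 1) :=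
  hasProjectiveDimensionLT_of_ext_ring M q _ (hasProjectiveDimensionLT_spanFinrank M) h

/-- A finite module over a regular local ring of dimension `n` with `Ext^j(M, A) = 0` for
`1 ≤ j ≤ n` is free. -/
theorem free_of_ext_self_subsingleton {A : Type u} [CommRing A] [IsRegularLocalRing A]
    (n : ℕ) (hn : ringKrullDim A = n) (M : Type u) [AddCommGroup M] [Module A M]
    [Module.Finite A M]
    (h : ∀ j : ℕ, 1 ≤ j → j ≤ n →
      Subsingleton (Ext (ModuleCat.of A M) (ModuleCat.of A A) j)) :
    Module.Free A M := by
  have hpd : HasProjectiveDimensionLT (ModuleCat.of A M) (n + 1) :=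
    hasProjectiveDimensionLT_of_finite hn M
  have h0 : HasProjectiveDimensionLT (ModuleCat.of A M) (0 + 1) := by
    apply hasProjectiveDimensionLT_of_ext_self M 0
    intro i hi
    by_cases hin : i ≤ n
    · exact h i hi hin
    · exact HasProjectiveDimensionLT.subsingleton _ (n + 1) i (by omega) _
  rw [zero_add, ← projective_iff_hasProjectiveDimensionLT_one, ← IsProjective.iff_projective] at h0
  haveI := h0
  exact Module.free_of_flat_of_isLocalRing

/-- A nonzero finite free module has a nonzero `Ext^0` into the ring. -/
theorem ext_zero_nontrivial_of_projective {A : Type u} [CommRing A] [IsLocalRing A]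
    (M : Type u) [AddCommGroup M] [Module A M] [Module.Finite A M] [Module.Projective A M]
    [Nontrivial M] : Nontrivial (Ext (ModuleCat.of A M) (ModuleCat.of A A) 0) := by
  haveI : Module.Free A M := Module.free_of_flat_of_isLocalRing
  let b := Module.Free.chooseBasis A M
  haveI : Nonempty (Module.Free.ChooseBasisIndex A M) := by
    by_contra hemp
    rw [not_nonempty_iff] at hemp
    haveI : Subsingleton M := b.repr.toEquiv.subsingleton
    exact not_subsingleton M ‹_›
  obtain ⟨i⟩ := ‹Nonempty (Module.Free.ChooseBasisIndex A M)›
  have hne : ModuleCat.ofHom (b.coord i) ≠ (0 : ModuleCat.of A M ⟶ ModuleCat.of A A) := by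
    intro h0
    have := congrArg (fun f => f.hom (b i)) h0
    simp at this
  refine ⟨⟨Ext.mk₀ (ModuleCat.ofHom (b.coord i)), 0, ?_⟩⟩
  intro h
  apply hne
  apply Ext.mk₀_bijective _ _ |>.1
  rw [h, Ext.mk₀_zero]

/-- Over a regular local ring, `pd M = d` iff `Ext^j(M, A) = 0` for `j > d` and
`Ext^d(M, A) ≠ 0`. -/
theorem projectiveDimension_eq_iff_ext_self {A : Type u} [CommRing A] [IsRegularLocalRing A]
    (M : Type u) [AddCommGroup M] [Module A M] [Module.Finite A M] (d : ℕ) :
    projectiveDimension (ModuleCat.of A M) = (d : WithBot ℕ∞) ↔
      ((∀ j : ℕ, d < j → Subsingleton (Ext (ModuleCat.of A M) (ModuleCat.of A A) j)) ∧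
        Nontrivial (Ext (ModuleCat.of A M) (ModuleCat.of A A) d)) := by
  constructor
  · intro hpd
    have hlt : HasProjectiveDimensionLT (ModuleCat.of A M) (d + 1) := by
      rw [← projectiveDimension_lt_iff, hpd]
      exact_mod_cast Nat.lt_succ_self d
    have hnot : ¬ HasProjectiveDimensionLT (ModuleCat.of A M) d := by
      rw [← projectiveDimension_ge_iff, hpd]
    refine ⟨fun j hj => HasProjectiveDimensionLT.subsingleton _ (d + 1) j (by omega) _, ?_⟩
    by_contra hnt
    rw [not_nontrivial_iff_subsingleton] at hnt
    cases d with
    | zero =>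
      have hproj : Projective (ModuleCat.of A M) := by
        rw [projective_iff_hasProjectiveDimensionLT_one]; exact hlt
      haveI : Module.Projective A M := (IsProjective.iff_projective _).mpr hproj
      have hsub : Subsingleton M := by
        by_contra hns
        rw [not_subsingleton_iff_nontrivial] at hns
        haveI := hns
        haveI := ext_zero_nontrivial_of_projective (A := A) M
        exact not_subsingleton _ hnt
      apply hnot
      rw [hasProjectiveDimensionLT_zero_iff_isZero]
      exact ModuleCat.isZero_of_subsingleton _
    | succ d =>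
      apply hnot
      apply hasProjectiveDimensionLT_of_ext_self M d
      intro i hi
      by_cases hid : i = d + 1
      · subst hid; exact hnt
      · exact HasProjectiveDimensionLT.subsingleton _ (d + 1 + 1) i (by omega) _
  · rintro ⟨h1, h2⟩
    have hlt : HasProjectiveDimensionLT (ModuleCat.of A M) (d + 1) :=
      hasProjectiveDimensionLT_of_ext_self M d h1
    have hnot : ¬ HasProjectiveDimensionLT (ModuleCat.of A M) d := by
      intro hd
      haveI := HasProjectiveDimensionLT.subsingleton (ModuleCat.of A M) d d le_rfl
        (ModuleCat.of A A)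
      exact not_subsingleton _ ‹_›
    apply le_antisymm
    · rw [projectiveDimension_le_iff]; exact hlt
    · rw [projectiveDimension_ge_iff]; exact hnot

end Groth.Agent.Lead.Hom
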