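import Mathlib
import Groth.Agent.Lib.Lead.Hom17

/-!
# Supports of `Ext(M, A)` over a regular local ring; heights of associated primes
-/

set_option autoImplicit false
set_option linter.style.haveILetI false
universe u
open CategoryTheory IsLocalRing Abelian

namespace Groth.Agent.Lead.Hom

/-- Over a regular local ring `A`: nonvanishing of `Ext^i` over `A_p` forces `i ≤ ht p`. -/
theorem le_height_of_ext_nontrivial {A : Type u} [CommRing A] [IsRegularLocalRing A]
    (p : Ideal A) [p.IsPrime] (X Y : ModuleCat.{u} (Localization.AtPrime p)) (i : ℕ)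
    (h : Nontrivial (Ext X Y i)) : (i : ℕ∞) ≤ p.height := by
  haveI := isRegularLocalRing_localization p
  have hdim : ringKrullDim (Localization.AtPrime p) = p.height :=
    IsLocalization.AtPrime.ringKrullDim_eq_height p (Localization.AtPrime p)
  have hfin : p.height ≠ ⊤ := Ideal.height_ne_top (Ideal.IsPrime.ne_top ‹_›)
  obtain ⟨e, he⟩ := ENat.ne_top_iff_exists.mp hfin
  rw [← he] at hdim ⊢
  have hpd := hasProjectiveDimensionLT_of_isRegularLocalRing (R := Localization.AtPrime p)
    (d := e) (by exact_mod_cast hdim) X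
  by_contra hlt
  push Not at hlt
  have hlt' : e < i := by exact_mod_cast hlt
  haveI := HasProjectiveDimensionLT.subsingleton X (e + 1) i (by omega) Y
  exact not_subsingleton _ ‹_›

theorem ringKrullDim_quotient_add_le_of_ext_nontrivial {A : Type u} [CommRing A]
    [IsRegularLocalRing A] (p : Ideal A) [p.IsPrime]
    (X Y : ModuleCat.{u} (Localization.AtPrime p)) (i : ℕ) (h : Nontrivial (Ext X Y i)) :
    ringKrullDim (A ⧸ p) + (i : WithBot ℕ∞) ≤ ringKrullDim A := by
  have h1 := le_height_of_ext_nontrivial p X Y i h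
  have h2 := RLR.height_add_ringKrullDim_quotient_le p
  calc ringKrullDim (A ⧸ p) + (i : WithBot ℕ∞)
      ≤ ringKrullDim (A ⧸ p) + (p.height : WithBot ℕ∞) := by
        gcongr
        exact_mod_cast h1
    _ = (p.height : WithBot ℕ∞) + ringKrullDim (A ⧸ p) := add_comm _ _
    _ ≤ ringKrullDim A := h2

end Groth.Agent.Lead.Hom
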