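import Mathlib
import Groth.Agent.Lib.Lead.Hom18

/-!
# Heights of associated primes are bounded by the projective dimension (regular local rings)
-/

set_option autoImplicit false
set_option linter.style.haveILetI false
universe u
open CategoryTheory IsLocalRing Abelian

namespace Groth.Agent.Lead.Hom

/-- Projective dimension does not increase under localization (un-shrunk form). -/
theorem hasProjectiveDimensionLT_localizedModule {R : Type u} [CommRing R] (S : Submonoid R)
    (M : Type u) [AddCommGroup M] [Module R M] (n : ℕ)
    (h : HasProjectiveDimensionLT (ModuleCat.of R M) (n + 1)) :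
    HasProjectiveDimensionLT (ModuleCat.of (Localization S) (LocalizedModule S M)) (n + 1) := by
  haveI : HasProjectiveDimensionLE (ModuleCat.of R M) n := h
  have h2 : HasProjectiveDimensionLT ((ModuleCat.of R M).localizedModule S) (n + 1) :=
    ModuleCat.localizedModule_hasProjectiveDimensionLE.{u} n S (ModuleCat.of R M)
  exact @hasProjectiveDimensionLT_of_iso _ _ _ _ _
    (Shrink.linearEquiv.{u, u} (Localization S) (LocalizedModule S M)).toModuleIso (n + 1) h2

/-- If the residue field of a regular local ring of dimension `h` embeds in `N`, then
`pd N ≥ h`. -/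
theorem le_of_injective_residueField {R : Type u} [CommRing R] [IsRegularLocalRing R] {h : ℕ}
    (hd : ringKrullDim R = h) (N : Type u) [AddCommGroup N] [Module R N]
    (f : ResidueField R →ₗ[R] N) (hf : Function.Injective f) (n : ℕ)
    (hN : HasProjectiveDimensionLT (ModuleCat.of R N) (n + 1)) : h ≤ n := by
  by_contra hlt
  push Not at hlt
  have hNh : HasProjectiveDimensionLT (ModuleCat.of R N) h :=
    hasProjectiveDimensionLT_of_ge _ (n + 1) h (by omega)
  let S : ShortComplex (ModuleCat.{u} R) :=
    ModuleCat.shortComplexOfCompEqZero f (LinearMap.range f).mkQ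
      (LinearMap.range_mkQ_comp f)
  have hS : S.ShortExact := by
    refine ModuleCat.shortComplex_shortExact S ?_ hf (Submodule.mkQ_surjective _)
    intro y
    show (LinearMap.range f).mkQ y = 0 ↔ y ∈ Set.range f
    rw [Submodule.mkQ_apply, Submodule.Quotient.mk_eq_zero]
    rfl
  have h3 : HasProjectiveDimensionLT S.X₃ (h + 1) :=
    hasProjectiveDimensionLT_of_isRegularLocalRing hd S.X₃
  have h1 : HasProjectiveDimensionLT S.X₁ h := hS.hasProjectiveDimensionLT_X₁ h hNh h3
  have h4 : projectiveDimension (ModuleCat.of R (ResidueField R)) < h :=
    projectiveDimension_lt_iff.mpr h1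
  rw [projectiveDimension_residueField hd] at h4
  exact lt_irrefl _ h4

/-- Over a regular local ring, the height of an associated prime of a finite module `M` is at most
the projective dimension of `M`. -/
theorem height_le_of_mem_associatedPrimes {B : Type u} [CommRing B] [IsRegularLocalRing B]
    (M : Type u) [AddCommGroup M] [Module B M] [Module.Finite B M] (p : Ideal B)
    (hp : p ∈ associatedPrimes B M) (n : ℕ)
    (hn : HasProjectiveDimensionLE (ModuleCat.of B M) n) : p.height ≤ n := by
  haveI : p.IsPrime := hp.isPrime
  haveI := isRegularLocalRing_localization p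
  have hass := Module.associatedPrimes.mem_associatedPrimes_atPrime_of_mem_associatedPrimes hp
  obtain ⟨-, f, hf⟩ := (isAssociatedPrime_iff_exists_injective_linearMap _ _).mp hass
  have hloc := hasProjectiveDimensionLT_localizedModule p.primeCompl M n hn
  have hdim : ringKrullDim (Localization.AtPrime p) = p.height :=
    IsLocalization.AtPrime.ringKrullDim_eq_height p (Localization.AtPrime p)
  have hfin : p.height ≠ ⊤ := Ideal.height_ne_top (Ideal.IsPrime.ne_top ‹_›)
  obtain ⟨e, he⟩ := ENat.ne_top_iff_exists.mp hfin
  rw [← he] at hdim ⊢
  have := le_of_injective_residueField (R := Localization.AtPrime p) (h := e)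
    (by exact_mod_cast hdim) (LocalizedModule p.primeCompl M) f hf n hloc
  exact_mod_cast this

end Groth.Agent.Lead.Hom
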