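import Mathlib
import Groth.Agent.Lib.Lead.RLR7

/-!
# Transversal intersections in a regular local ring
-/

set_option autoImplicit false
set_option linter.style.haveILetI false
universe u
open IsLocalRing

namespace Groth.Agent.Lead.RLR

variable {R : Type u} [CommRing R]

/-- If `R` and `R ⧸ I` are regular local rings of dimensions `n` and `a`, then `I` is generated
by a set of at most `n - a` elements of the maximal ideal. -/
theorem exists_generating_set_of_regular_quotient [IsRegularLocalRing R] (I : Ideal R)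
    [IsRegularLocalRing (R ⧸ I)] {n a : ℕ} (hn : ringKrullDim R = n)
    (ha : ringKrullDim (R ⧸ I) = a) :
    ∃ (c : ℕ) (s : Set R), c + a = n ∧ Ideal.span s = I ∧ s.encard ≤ c := by
  obtain ⟨c, e, z, hce, hz, hI⟩ := exists_adapted_generators_of_regular_quotient I
  have hsf : (maximalIdeal R).spanFinrank = n := spanFinrank_maximalIdeal_eq_of_dim hn
  haveI : IsLocalRing (R ⧸ Ideal.span (Set.range (fun i : Fin c => z (Fin.castAdd e i)))) := by
    have := (Ideal.quotEquivOfEq hI).isLocalRing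
    exact this
  obtain ⟨-, hdim⟩ := isRegularLocalRing_quotient_span_range z hz hce.symm
  have hae : a = e := by
    have h1 := ringKrullDim_eq_of_ringEquiv (Ideal.quotEquivOfEq hI)
    rw [ha, hdim] at h1
    exact_mod_cast h1
  refine ⟨c, Set.range (fun i : Fin c => z (Fin.castAdd e i)), by omega, hI.symm, ?_⟩
  calc (Set.range (fun i : Fin c => z (Fin.castAdd e i))).encard
      ≤ (Set.univ : Set (Fin c)).encard := by
        rw [← Set.image_univ]; exact Set.encard_image_le _ _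
    _ = c := by simp

theorem isRegularLocalRing_quotient_sup_of_transversal [IsRegularLocalRing R]
    (I J : Ideal R) [IsRegularLocalRing (R ⧸ I)] [IsRegularLocalRing (R ⧸ J)]
    [IsLocalRing (R ⧸ (I ⊔ J))]
    (n a b : ℕ) (hn : ringKrullDim R = n) (ha : ringKrullDim (R ⧸ I) = a)
    (hb : ringKrullDim (R ⧸ J) = b)
    (ht : Module.finrank (ResidueField (R ⧸ (I ⊔ J))) (CotangentSpace (R ⧸ (I ⊔ J))) + n
      = a + b) :
    IsRegularLocalRing (R ⧸ (I ⊔ J)) ∧
      ringKrullDim (R ⧸ (I ⊔ J)) = ((a + b - n : ℕ) : WithBot ℕ∞) := by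
  obtain ⟨c₁, s₁, h1, hs₁, hc₁⟩ := exists_generating_set_of_regular_quotient I hn ha
  obtain ⟨c₂, s₂, h2, hs₂, hc₂⟩ := exists_generating_set_of_regular_quotient J hn hb
  have hspan : Ideal.span (s₁ ∪ s₂) = I ⊔ J := by rw [Ideal.span_union, hs₁, hs₂]
  have hItop : I ⊔ J ≠ ⊤ := Ideal.Quotient.nontrivial_iff.mp inferInstance
  have hjacR : Ring.jacobson R = maximalIdeal R :=
    Ideal.jacobson_bot.symm.trans (IsLocalRing.jacobson_eq_maximalIdeal ⊥ bot_ne_top)
  have hjac : s₁ ∪ s₂ ⊆ Ring.jacobson R := by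
    rw [hjacR]
    intro x hx
    have : x ∈ I ⊔ J := hspan ▸ Ideal.subset_span hx
    exact IsLocalRing.le_maximalIdeal hItop this
  have hdim := ringKrullDim_le_ringKrullDim_quotient_add_encard (s₁ ∪ s₂) hjac
  have hcard : (s₁ ∪ s₂).encard ≤ ((c₁ + c₂ : ℕ) : ℕ∞) := by
    calc (s₁ ∪ s₂).encard ≤ s₁.encard + s₂.encard := Set.encard_union_le _ _
      _ ≤ (c₁ : ℕ∞) + (c₂ : ℕ∞) := add_le_add hc₁ hc₂
      _ = ((c₁ + c₂ : ℕ) : ℕ∞) := by push_cast; rfl
  set t := Module.finrank (ResidueField (R ⧸ (I ⊔ J))) (CotangentSpace (R ⧸ (I ⊔ J))) with htdef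
  have hsf : (maximalIdeal (R ⧸ (I ⊔ J))).spanFinrank = t :=
    IsLocalRing.spanFinrank_maximalIdeal_eq_finrank_cotangentSpace _
  have hle : ringKrullDim (R ⧸ (I ⊔ J)) ≤ (t : WithBot ℕ∞) := by
    rw [← hsf]; exact ringKrullDim_le_spanFinrank_maximalIdeal _
  obtain ⟨D, hD, hDt⟩ := exists_nat_of_le
    (ringKrullDim_nonneg_of_nontrivial (R := R ⧸ (I ⊔ J))) hle
  have hdim' : ringKrullDim (R ⧸ Ideal.span (s₁ ∪ s₂)) = D := by
    rw [← hD]
    exact ringKrullDim_eq_of_ringEquiv (Ideal.quotEquivOfEq hspan)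
  rw [hdim', hn] at hdim
  have hnD : n ≤ D + (c₁ + c₂) := by
    have h3 : ((n : ℕ) : WithBot ℕ∞) ≤ ((D + (c₁ + c₂) : ℕ) : WithBot ℕ∞) := by
      refine hdim.trans ?_
      have : ((s₁ ∪ s₂).encard : WithBot ℕ∞) ≤ (((c₁ + c₂ : ℕ) : ℕ∞) : WithBot ℕ∞) := by
        exact_mod_cast hcard
      calc (D : WithBot ℕ∞) + ((s₁ ∪ s₂).encard : WithBot ℕ∞)
          ≤ (D : WithBot ℕ∞) + (((c₁ + c₂ : ℕ) : ℕ∞) : WithBot ℕ∞) := by gcongr
        _ = ((D + (c₁ + c₂) : ℕ) : WithBot ℕ∞) := by push_cast; rfl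
    exact_mod_cast h3
  have hDt' : D = t := by omega
  have hDab : D = a + b - n := by omega
  refine ⟨?_, by rw [hD, hDab]⟩
  apply IsRegularLocalRing.of_spanFinrank_maximalIdeal_le
  rw [hsf, hD, hDt']

end Groth.Agent.Lead.RLR
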