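import Mathlib
import Groth.Agent.Lib.Lead.RLR8
import Groth.Agent.Lib.Lead.Hom19

/-!
# Parts of regular systems of parameters
-/

set_option autoImplicit false
set_option linter.style.haveILetI false
universe u
open IsLocalRing

namespace Groth.Agent.Lead.RLR

variable {R : Type u} [CommRing R]

theorem span_eq_top_iff_ideal_span [IsLocalRing R] {s : Set (maximalIdeal R)} :
    Submodule.span R s = ⊤ ↔
      Ideal.span ((fun a : maximalIdeal R => (a : R)) '' s) = maximalIdeal R := by
  constructor
  · intro h
    have h3 := congrArg (Submodule.map (maximalIdeal R).subtype) h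
    rw [Submodule.map_span, Submodule.map_top, Submodule.range_subtype] at h3
    exact h3
  · intro h
    apply Submodule.map_injective_of_injective (maximalIdeal R).injective_subtype
    rw [Submodule.map_span, Submodule.map_top, Submodule.range_subtype]
    exact h

/-- A family in `𝔪` whose images in `𝔪/𝔪²` are linearly independent extends to a minimal
generating family of `𝔪`. -/
theorem exists_extension_of_linearIndependent [IsLocalRing R] [IsNoetherianRing R] {r : ℕ}
    (x : Fin r → maximalIdeal R)
    (hli : LinearIndependent (ResidueField R)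
      (fun i => ((maximalIdeal R).toCotangent (x i) : CotangentSpace R))) :
    ∃ (e : ℕ) (y : Fin e → maximalIdeal R), r + e = (maximalIdeal R).spanFinrank ∧
      Ideal.span (Set.range (fun i => ((Fin.append x y i : maximalIdeal R) : R))) =
        maximalIdeal R := by
  classical
  let k := ResidueField R
  let V := CotangentSpace R
  let v : Fin r → V := fun i => (maximalIdeal R).toCotangent (x i)
  let W : Submodule k V := Submodule.span k (Set.range v)
  let bQ := Module.finBasis k (V ⧸ W)
  set e := Module.finrank k (V ⧸ W) with he
  have hW : Module.finrank k W = r := by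
    have := finrank_span_eq_card (R := k) hli
    simpa using this
  have hre : r + e = Module.finrank k V := by
    have := Submodule.finrank_quotient_add_finrank W
    omega
  have hsurj : ∀ j : Fin e, ∃ b : maximalIdeal R,
      W.mkQ ((maximalIdeal R).toCotangent b) = bQ j := by
    intro j
    obtain ⟨w, hw⟩ := W.mkQ_surjective (bQ j)
    obtain ⟨b, hb⟩ := (maximalIdeal R).toCotangent_surjective w
    exact ⟨b, by rw [hb, hw]⟩
  choose y hy using hsurj
  let zm : Fin (r + e) → maximalIdeal R := Fin.append x y
  refine ⟨e, y, ?_, ?_⟩
  · rw [spanFinrank_maximalIdeal_eq_finrank_cotangentSpace]; exact hre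
  · have hW' : Submodule.span k ((maximalIdeal R).toCotangent '' (Set.range zm)) = ⊤ := by
      rw [eq_top_iff]
      intro u _
      set W' := Submodule.span k ((maximalIdeal R).toCotangent '' (Set.range zm)) with hW'def
      have hLW : W ≤ W' := by
        rw [Submodule.span_le]
        rintro _ ⟨i, rfl⟩
        apply Submodule.subset_span
        refine ⟨x i, ⟨Fin.castAdd e i, ?_⟩, rfl⟩
        simp [zm]
      have hmap : W'.map W.mkQ = ⊤ := by
        rw [eq_top_iff, ← bQ.span_eq, Submodule.span_le]
        rintro _ ⟨j, rfl⟩
        refine ⟨(maximalIdeal R).toCotangent (y j),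
          Submodule.subset_span ⟨y j, ⟨Fin.natAdd r j, ?_⟩, rfl⟩, hy j⟩
        simp [zm]
      have hu : W.mkQ u ∈ W'.map W.mkQ := hmap ▸ Submodule.mem_top
      obtain ⟨w, hwW, hwu⟩ := hu
      have hsub : u - w ∈ W := by
        rw [← Submodule.Quotient.mk_eq_zero, Submodule.Quotient.mk_sub, sub_eq_zero]
        exact hwu.symm
      have := W'.add_mem (hLW hsub) hwW
      rwa [sub_add_cancel] at this
    have hS := CotangentSpace.span_image_eq_top_iff.mp hW'
    have h3 := span_eq_top_iff_ideal_span.mp hS
    refine Eq.trans ?_ h3
    congr 1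
    rw [← Set.range_comp]
    rfl

/-- Lifts of a minimal generating family of the maximal ideal of `R ⧸ I`. -/
theorem exists_lift_generators [IsLocalRing R] [IsNoetherianRing R] {I : Ideal R}
    (hI : I ≤ maximalIdeal R) [IsLocalRing (R ⧸ I)] :
    ∃ y : Fin (maximalIdeal (R ⧸ I)).spanFinrank → maximalIdeal R,
      I ⊔ Ideal.span (Set.range (fun j => (y j : R))) = maximalIdeal R := by
  set f := Ideal.Quotient.mk I with hf
  have hfs : Function.Surjective f := Ideal.Quotient.mk_surjective
  obtain ⟨ybar, hybar⟩ := Hom.exists_generators_maximalIdeal (R := R ⧸ I)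
  have hmem : ∀ j, ∃ a : maximalIdeal R, f (a : R) = ybar j := by
    intro j
    have h1 : ybar j ∈ maximalIdeal (R ⧸ I) := hybar ▸ Ideal.subset_span ⟨j, rfl⟩
    rw [← map_maximalIdeal_of_surjective f hfs, Ideal.mem_map_iff_of_surjective f hfs] at h1
    obtain ⟨a, ha, hfa⟩ := h1
    exact ⟨⟨a, ha⟩, hfa⟩
  choose y hy using hmem
  refine ⟨y, ?_⟩
  have hker : RingHom.ker f = I := Ideal.mk_ker
  apply eq_of_map_eq_of_ker_le f hfs
  · rw [hker]; exact le_sup_left
  · rw [hker]; exact hI
  · rw [map_maximalIdeal_of_surjective f hfs, Ideal.map_sup, Ideal.map_quotient_self,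
      bot_sup_eq, Ideal.map_span, ← Set.range_comp]
    refine Eq.trans ?_ hybar
    congr 2
    funext j
    exact hy j

/-- If `embdim R ≥ embdim (R ⧸ (x₁, …, x_r)) + r` then the `xᵢ` are linearly independent in
the cotangent space. -/
theorem linearIndependent_toCotangent_of_spanFinrank_le [IsLocalRing R] [IsNoetherianRing R]
    {r : ℕ} (x : Fin r → maximalIdeal R)
    [IsLocalRing (R ⧸ Ideal.span (Set.range fun i => (x i : R)))]
    (h : (maximalIdeal (R ⧸ Ideal.span (Set.range fun i => (x i : R)))).spanFinrank + r ≤
      (maximalIdeal R).spanFinrank) :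
    LinearIndependent (ResidueField R)
      (fun i => ((maximalIdeal R).toCotangent (x i) : CotangentSpace R)) := by
  classical
  set J := Ideal.span (Set.range fun i => (x i : R)) with hJ
  have hJm : J ≤ maximalIdeal R := by
    rw [hJ, Ideal.span_le]
    rintro _ ⟨i, rfl⟩
    exact (x i).2
  set s := (maximalIdeal (R ⧸ J)).spanFinrank with hs
  obtain ⟨y, hy⟩ : ∃ y : Fin s → maximalIdeal R,
      J ⊔ Ideal.span (Set.range (fun j => (y j : R))) = maximalIdeal R :=
    exists_lift_generators hJm
  let k := ResidueField R
  let V := CotangentSpace R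
  let v : Fin r → V := fun i => (maximalIdeal R).toCotangent (x i)
  let w : Fin s → V := fun j => (maximalIdeal R).toCotangent (y j)
  have hspan : Submodule.span R (Set.range x ∪ Set.range y) = ⊤ := by
    rw [span_eq_top_iff_ideal_span, Set.image_union, Ideal.span_union, ← Set.range_comp,
      ← Set.range_comp]
    exact hy
  have htop : Submodule.span k (Set.range v) ⊔ Submodule.span k (Set.range w) = ⊤ := by
    rw [← Submodule.span_union]
    have := CotangentSpace.span_image_eq_top_iff.mpr hspan
    rw [Set.image_union, ← Set.range_comp, ← Set.range_comp] at this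
    exact this
  have h1 : Module.finrank k V ≤ (Set.range v).finrank k + (Set.range w).finrank k := by
    have h2 := Submodule.finrank_add_le_finrank_add_finrank (Submodule.span k (Set.range v))
      (Submodule.span k (Set.range w))
    rw [htop, finrank_top] at h2
    exact h2
  have h3 : (Set.range w).finrank k ≤ s := by
    have := finrank_range_le_card (R := k) w
    simpa using this
  have h4 : (Set.range v).finrank k ≤ r := by
    have := finrank_range_le_card (R := k) v
    simpa using this
  have h5 : Module.finrank k V = (maximalIdeal R).spanFinrank :=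
    (spanFinrank_maximalIdeal_eq_finrank_cotangentSpace R).symm
  rw [linearIndependent_iff_card_eq_finrank_span, Fintype.card_fin]
  show r = (Set.range v).finrank k
  omega

/-- Characterisation of parts of regular systems of parameters. -/
theorem isRegularLocalRing_and_linearIndependent_iff [IsLocalRing R] [IsNoetherianRing R]
    (r : ℕ) (x : Fin r → maximalIdeal R) :
    ((IsRegularLocalRing R ∧
        LinearIndependent (ResidueField R)
          (fun i => (maximalIdeal R).toCotangent (x i))) ↔
      (ringKrullDim (R ⧸ Ideal.span (Set.range fun i => (x i : R))) + r = ringKrullDim R ∧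
        IsRegularLocalRing (R ⧸ Ideal.span (Set.range fun i => (x i : R))))) ∧
    (IsRegularLocalRing (R ⧸ Ideal.span (Set.range fun i => (x i : R))) →
      ringKrullDim (R ⧸ Ideal.span (Set.range fun i => (x i : R))) + r = ringKrullDim R →
        (Ideal.span (Set.range fun i => (x i : R))).IsPrime) := by
  set J := Ideal.span (Set.range fun i => (x i : R)) with hJ
  have hJm : J ≤ maximalIdeal R := by
    rw [hJ, Ideal.span_le]
    rintro _ ⟨i, rfl⟩
    exact (x i).2
  have hJtop : J ≠ ⊤ := fun h => (maximalIdeal.isMaximal R).ne_top (top_le_iff.mp (h ▸ hJm))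
  haveI := isLocalRing_quotient hJtop
  refine ⟨⟨?_, ?_⟩, ?_⟩
  · rintro ⟨hreg, hli⟩
    haveI := hreg
    obtain ⟨e, y, hre, hz⟩ := exists_extension_of_linearIndependent x hli
    set z : Fin (r + e) → R := fun i => ((Fin.append x y i : maximalIdeal R) : R) with hzdef
    have hzJ : Ideal.span (Set.range (fun i : Fin r => z (Fin.castAdd e i))) = J := by
      rw [hJ]
      congr 2
      funext i
      simp [z]
    haveI : IsLocalRing (R ⧸ Ideal.span (Set.range (fun i : Fin r => z (Fin.castAdd e i)))) :=
      isLocalRing_quotient (by rw [hzJ]; exact hJtop)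
    obtain ⟨hreg', hdim'⟩ := isRegularLocalRing_quotient_span_range z hz hre.symm
    haveI := hreg'
    have hdimJ : ringKrullDim (R ⧸ J) = e := by
      rw [← hdim']
      exact (ringKrullDim_eq_of_ringEquiv (Ideal.quotEquivOfEq hzJ)).symm
    refine ⟨?_, IsRegularLocalRing.of_ringEquiv (Ideal.quotEquivOfEq hzJ)⟩
    rw [hdimJ, ← IsRegularLocalRing.spanFinrank_maximalIdeal (R := R), ← hre]
    push_cast
    rw [add_comm]
  · rintro ⟨hdim, hreg⟩
    haveI := hreg
    have h1 := spanFinrank_maximalIdeal_le_quotient_add hJm
    have h2 : J.spanFinrank ≤ r := by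
      have := Submodule.spanFinrank_span_le_ncard_of_finite (R := R)
        (Set.finite_range fun i => (x i : R))
      exact this.trans (ncard_range_le _)
    have hsfJ := IsRegularLocalRing.spanFinrank_maximalIdeal (R := R ⧸ J)
    have hle : ((maximalIdeal R).spanFinrank : WithBot ℕ∞) ≤ ringKrullDim R := by
      rw [← hdim, ← hsfJ]
      have : (maximalIdeal R).spanFinrank ≤ (maximalIdeal (R ⧸ J)).spanFinrank + r := by omega
      exact_mod_cast this
    have hregR : IsRegularLocalRing R := IsRegularLocalRing.of_spanFinrank_maximalIdeal_le _ hle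
    refine ⟨hregR, ?_⟩
    apply linearIndependent_toCotangent_of_spanFinrank_le x
    have hsfR := IsRegularLocalRing.spanFinrank_maximalIdeal (R := R)
    rw [← hsfR, ← hsfJ] at hdim
    have : (maximalIdeal (R ⧸ J)).spanFinrank + r = (maximalIdeal R).spanFinrank := by
      exact_mod_cast hdim
    exact this.le
  · intro hreg _
    haveI := hreg
    haveI : IsDomain (R ⧸ J) := isDomain _
    exact (Ideal.Quotient.isDomain_iff_prime J).mp inferInstance

end Groth.Agent.Lead.RLR
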