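import Mathlib
import Groth.Agent.Lib.Lead.Depth1
import Groth.Agent.Lib.Lead.RLR9

/-!
# Regular local rings are Gorenstein; depth of `M ⧸ xM`
-/

set_option autoImplicit false
set_option linter.style.haveILetI false
universe u v
open CategoryTheory Abelian RingTheory.Sequence LocCoh Pointwise IsLocalRing

namespace Groth.Agent.Lead.Depth

/-- A regular local ring is Gorenstein (finite injective dimension over itself). -/
theorem isGorensteinLocalRing_of_isRegularLocalRing (A : Type u) [CommRing A]
    [IsRegularLocalRing A] : LocCoh.IsGorensteinLocalRing A := by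
  have hd : ringKrullDim A = ((maximalIdeal A).spanFinrank : ℕ) :=
    (IsRegularLocalRing.spanFinrank_maximalIdeal (R := A)).symm
  refine { exists_hasInjectiveDimensionLT := ⟨(maximalIdeal A).spanFinrank + 1, ?_⟩ }
  apply HasInjectiveDimensionLT.mk
  intro i hi Y e
  haveI := Hom.hasProjectiveDimensionLT_of_isRegularLocalRing hd Y
  exact (HasProjectiveDimensionLT.subsingleton Y ((maximalIdeal A).spanFinrank + 1) i hi
    (ModuleCat.of A A)).elim _ _

end Groth.Agent.Lead.Depth
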