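import Mathlib
import Groth.Agent.Lib.Lead.Depth2

/-!
# Depth of `M ⧸ xM`
-/

set_option autoImplicit false
set_option linter.style.haveILetI false
universe u v
open CategoryTheory Abelian RingTheory.Sequence LocCoh Pointwise IsLocalRing

namespace Groth.Agent.Lead.Depth

variable {R : Type u} [CommRing R]

theorem smul_top_quotSMulTop_ne_top {M : Type v} [AddCommGroup M]
    [Module R M] {I : Ideal R} {r : R} (hr : r ∈ I)
    (hI : I • (⊤ : Submodule R M) ≠ ⊤) :
    I • (⊤ : Submodule R (QuotSMulTop r M)) ≠ ⊤ := by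
  by_contra eq
  absurd congrArg (Submodule.comap (Submodule.mkQ _)) eq
  simpa [Submodule.comap_smul_top_of_surjective I _ (Submodule.mkQ_surjective _),
    Submodule.smul_mono_left ((Ideal.span_singleton_le_iff_mem I).mpr hr),
    ← Submodule.ideal_span_singleton_smul] using hI

/-- Vanishing of `Ext^i(N, M ⧸ xM)` from vanishing of `Ext^i(N, M)` and `Ext^{i+1}(N, M)`. -/
theorem ext_quotSMulTop_subsingleton {M : Type u} [AddCommGroup M] [Module R M] {x : R}
    (hx : IsSMulRegular M x) (N : ModuleCat.{u} R) (i : ℕ)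
    (h1 : Subsingleton (Ext N (ModuleCat.of R M) i))
    (h2 : Subsingleton (Ext N (ModuleCat.of R M) (i + 1))) :
    Subsingleton (Ext N (ModuleCat.of R (QuotSMulTop x M)) i) := by
  have hx' : IsSMulRegular (ModuleCat.of R M) x := hx
  have zero1 := AddCommGrpCat.isZero_of_iff_subsingleton.mpr h1
  have zero2 := AddCommGrpCat.isZero_of_iff_subsingleton.mpr h2
  exact AddCommGrpCat.subsingleton_of_isZero <| ShortComplex.Exact.isZero_of_both_zeros
    ((Ext.covariant_sequence_exact₃' N hx'.smulShortComplex_shortExact) i (i + 1) rfl)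
    (zero1.eq_zero_of_src _) (zero2.eq_zero_of_tgt _)

/-- `depth_I (M ⧸ xM) + 1 = depth_I M` for `x ∈ I` regular on `M`. -/
theorem idealDepth_quotSMulTop_add_one [IsNoetherianRing R] (I : Ideal R) (M : Type u)
    [AddCommGroup M] [Module R M] [Module.Finite R M]
    (hIM : I • (⊤ : Submodule R M) ≠ ⊤) (x : R) (hx : x ∈ I) (hreg : IsSMulRegular M x) :
    idealDepth I (QuotSMulTop x M) + 1 = idealDepth I M := by
  have hIQ := smul_top_quotSMulTop_ne_top hx hIM
  apply enat_add_one_eq_of_forall
  intro n
  constructor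
  · intro h
    obtain ⟨rs, hlen, hrs, hI⟩ := exists_of_le_idealDepth I _ hIQ n h
    have := le_idealDepth_of_isWeaklyRegular I M (x :: rs)
      ((isWeaklyRegular_cons_iff M x rs).mpr ⟨hreg, hrs⟩)
      (by
        intro r hr
        rcases List.mem_cons.mp hr with rfl | hr
        · exact hx
        · exact hI r hr)
    simpa [hlen] using this
  · intro h
    rw [le_idealDepth_iff_ext I M hIM (n + 1)] at h
    rw [le_idealDepth_iff_ext I _ hIQ n]
    intro i hi
    exact ext_quotSMulTop_subsingleton hreg _ i (h i (by omega)) (h (i + 1) (by omega))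

end Groth.Agent.Lead.Depth
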