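import Mathlib
import Groth.Agent.Lib.Lead.Depth3

/-!
# Depth and short exact sequences
-/

set_option autoImplicit false
set_option linter.style.haveILetI false
universe u v
open CategoryTheory Abelian RingTheory.Sequence LocCoh Pointwise IsLocalRing

namespace Groth.Agent.Lead.Depth

section General

variable {C : Type*} [Category C] [Abelian C] [HasExt C]

theorem ext_subsingleton_X₂ {S : ShortComplex C} (hS : S.ShortExact) (X : C) (i : ℕ)
    (h1 : Subsingleton (Ext X S.X₁ i)) (h3 : Subsingleton (Ext X S.X₃ i)) :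
    Subsingleton (Ext X S.X₂ i) := by
  refine ⟨fun a b => ?_⟩
  have key : ∀ c : Ext X S.X₂ i, c = 0 := by
    intro c
    obtain ⟨x₁, hx₁⟩ := Ext.covariant_sequence_exact₂ X hS c (Subsingleton.elim _ _)
    rw [← hx₁, Subsingleton.elim x₁ 0, Ext.zero_comp]
  rw [key a, key b]

theorem ext_subsingleton_X₃ {S : ShortComplex C} (hS : S.ShortExact) (X : C) (i : ℕ)
    (h2 : Subsingleton (Ext X S.X₂ i)) (h1 : Subsingleton (Ext X S.X₁ (i + 1))) :
    Subsingleton (Ext X S.X₃ i) := by
  refine ⟨fun a b => ?_⟩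
  have key : ∀ c : Ext X S.X₃ i, c = 0 := by
    intro c
    obtain ⟨x₂, hx₂⟩ := Ext.covariant_sequence_exact₃ X hS c rfl (Subsingleton.elim _ _)
    rw [← hx₂, Subsingleton.elim x₂ 0, Ext.zero_comp]
  rw [key a, key b]

theorem ext_subsingleton_X₁_succ {S : ShortComplex C} (hS : S.ShortExact) (X : C) (i : ℕ)
    (h2 : Subsingleton (Ext X S.X₂ (i + 1))) (h3 : Subsingleton (Ext X S.X₃ i)) :
    Subsingleton (Ext X S.X₁ (i + 1)) := by
  refine ⟨fun a b => ?_⟩
  have key : ∀ c : Ext X S.X₁ (i + 1), c = 0 := by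
    intro c
    obtain ⟨x₃, hx₃⟩ := Ext.covariant_sequence_exact₁ X hS c (Subsingleton.elim _ _) rfl
    rw [← hx₃, Subsingleton.elim x₃ 0, Ext.zero_comp]
  rw [key a, key b]

theorem ext_subsingleton_X₁_zero {S : ShortComplex C} (hS : S.ShortExact) (X : C)
    (h2 : Subsingleton (Ext X S.X₂ 0)) : Subsingleton (Ext X S.X₁ 0) := by
  haveI := hS.mono_f
  exact (Ext.postcomp_mk₀_injective_of_mono X S.f).subsingleton

theorem ext_subsingleton_X₁ {S : ShortComplex C} (hS : S.ShortExact) (X : C) (i : ℕ)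
    (h2 : Subsingleton (Ext X S.X₂ i))
    (h3 : ∀ j, j + 1 = i → Subsingleton (Ext X S.X₃ j)) :
    Subsingleton (Ext X S.X₁ i) := by
  cases i with
  | zero => exact ext_subsingleton_X₁_zero hS X h2
  | succ j => exact ext_subsingleton_X₁_succ hS X j h2 (h3 j rfl)

end General

section Kill

variable {R : Type u} [CommRing R]

theorem ext_smul_eq_zero_of_right {X Y : ModuleCat.{u} R} {r : R} (hr : ∀ y : Y, r • y = 0)
    {n : ℕ} (e : Ext X Y n) : r • e = 0 := by
  have h0 : r • 𝟙 Y = 0 := by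
    refine ModuleCat.hom_ext (LinearMap.ext fun y => ?_)
    simp only [ModuleCat.hom_smul, ModuleCat.hom_id, LinearMap.smul_apply, LinearMap.id_apply,
      ModuleCat.hom_zero, LinearMap.zero_apply]
    exact hr y
  rw [Ext.smul_eq_comp_mk₀, h0, Ext.mk₀_zero, Ext.comp_zero]

theorem ext_smul_eq_zero_of_left {X Y : ModuleCat.{u} R} {r : R} (hr : ∀ x : X, r • x = 0)
    {n : ℕ} (e : Ext X Y n) : r • e = 0 := by
  have h0 : r • 𝟙 X = 0 := by
    refine ModuleCat.hom_ext (LinearMap.ext fun x => ?_)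
    simp only [ModuleCat.hom_smul, ModuleCat.hom_id, LinearMap.smul_apply, LinearMap.id_apply,
      ModuleCat.hom_zero, LinearMap.zero_apply]
    exact hr x
  have h1 : r • e = (Ext.mk₀ (r • 𝟙 X)).comp e (zero_add n) := by
    rw [Ext.mk₀_smul, Ext.smul_comp, Ext.mk₀_id_comp]
  rw [h1, h0, Ext.mk₀_zero, Ext.zero_comp]

/-- If `IM = M` (with `M` finite) then all `Ext^i(R/I, M)` vanish. -/
theorem ext_subsingleton_of_smul_top_eq_top (I : Ideal R) (M : Type u) [AddCommGroup M]
    [Module R M] [Module.Finite R M] (h : I • (⊤ : Submodule R M) = ⊤) (i : ℕ) :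
    Subsingleton (Ext (ModuleCat.of R (R ⧸ I)) (ModuleCat.of R M) i) := by
  obtain ⟨r, hrI, hr⟩ := Submodule.exists_sub_one_mem_and_smul_eq_zero_of_fg_of_le_smul I
    (⊤ : Submodule R M) Module.Finite.fg_top (by rw [h])
  refine ⟨fun a b => ?_⟩
  have key : ∀ c : Ext (ModuleCat.of R (R ⧸ I)) (ModuleCat.of R M) i, c = 0 := by
    intro c
    have h1 : r • c = 0 := ext_smul_eq_zero_of_right (fun y => hr y Submodule.mem_top) c
    have h2 : (r - 1) • c = 0 := by
      apply ext_smul_eq_zero_of_left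
      intro x
      obtain ⟨a, rfl⟩ := Ideal.Quotient.mk_surjective x
      show (r - 1) • (Ideal.Quotient.mk I a) = 0
      rw [← Ideal.Quotient.mk_eq_mk, ← Submodule.Quotient.mk_smul, Ideal.Quotient.mk_eq_mk,
        Ideal.Quotient.eq_zero_iff_mem]
      exact I.mul_mem_right _ hrI
    have : c = r • c - (r - 1) • c := by
      rw [sub_smul, one_smul]; abel
    rw [this, h1, h2, sub_zero]
  rw [key a, key b]

end Kill

section Rees

variable {R : Type u} [CommRing R] [IsNoetherianRing R]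

/-- Rees' characterisation without the hypothesis `IM ≠ M`. -/
theorem le_idealDepth_iff_ext' (I : Ideal R) (M : Type u) [AddCommGroup M] [Module R M]
    [Module.Finite R M] (n : ℕ) :
    (n : ℕ∞) ≤ idealDepth I M ↔
      ∀ i < n, Subsingleton (Ext (ModuleCat.of R (R ⧸ I)) (ModuleCat.of R M) i) := by
  by_cases htop : I • (⊤ : Submodule R M) = ⊤
  · rw [idealDepth_of_eq_top I M htop]
    exact ⟨fun _ i _ => ext_subsingleton_of_smul_top_eq_top I M htop i, fun _ => le_top⟩
  · exact le_idealDepth_iff_ext I M htop n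

/-- The depth lemma for a short exact sequence `0 → N' → N → N'' → 0`. -/
theorem idealDepth_shortExact (I : Ideal R) (N' : Type u) [AddCommGroup N'] [Module R N']
    [Module.Finite R N'] (N : Type u) [AddCommGroup N] [Module R N] [Module.Finite R N]
    (N'' : Type u) [AddCommGroup N''] [Module R N''] [Module.Finite R N'']
    (f : N' →ₗ[R] N) (g : N →ₗ[R] N'') (hf : Function.Injective f) (hg : Function.Surjective g)
    (hfg : Function.Exact f g) :
    min (idealDepth I N') (idealDepth I N'') ≤ idealDepth I N ∧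
      min (idealDepth I N) (idealDepth I N' - 1) ≤ idealDepth I N'' ∧
      min (idealDepth I N) (idealDepth I N'' + 1) ≤ idealDepth I N' := by
  let S : ShortComplex (ModuleCat.{u} R) :=
    ModuleCat.shortComplexOfCompEqZero f g hfg.linearMap_comp_eq_zero
  have hS : S.ShortExact := ModuleCat.shortComplex_shortExact S hfg hf hg
  refine ⟨?_, ?_, ?_⟩
  · rw [← ENat.forall_natCast_le_iff_le]
    intro n hn
    rw [le_min_iff] at hn
    rw [le_idealDepth_iff_ext']
    intro i hi
    exact ext_subsingleton_X₂ hS _ i ((le_idealDepth_iff_ext' I N' n).mp hn.1 i hi)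
      ((le_idealDepth_iff_ext' I N'' n).mp hn.2 i hi)
  · rw [← ENat.forall_natCast_le_iff_le]
    intro n hn
    rw [le_min_iff] at hn
    rw [le_idealDepth_iff_ext']
    intro i hi
    have h1 : ((i + 1 + 1 : ℕ) : ℕ∞) ≤ idealDepth I N' := by
      have h2 : ((i + 1 : ℕ) : ℕ∞) ≤ (n : ℕ∞) := by exact_mod_cast hi
      have h3 := h2.trans hn.2
      have h5 : (1 : ℕ∞) ≤ idealDepth I N' := by
        by_contra hlt
        push Not at hlt
        have h6 : idealDepth I N' = 0 := Order.lt_one_iff.mp hlt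
        rw [h6] at h3
        simp at h3
      have h4 : ((i + 1 + 1 : ℕ) : ℕ∞) = ((i + 1 : ℕ) : ℕ∞) + 1 := by push_cast; rfl
      rw [h4]
      calc ((i + 1 : ℕ) : ℕ∞) + 1 ≤ (idealDepth I N' - 1) + 1 := by gcongr
        _ = idealDepth I N' := tsub_add_cancel_of_le h5
    exact ext_subsingleton_X₃ hS _ i ((le_idealDepth_iff_ext' I N n).mp hn.1 i hi)
      ((le_idealDepth_iff_ext' I N' (i + 1 + 1)).mp h1 (i + 1) (by omega))
  · rw [← ENat.forall_natCast_le_iff_le]
    intro n hn
    rw [le_min_iff] at hn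
    rw [le_idealDepth_iff_ext']
    intro i hi
    refine ext_subsingleton_X₁ hS _ i ((le_idealDepth_iff_ext' I N n).mp hn.1 i hi) ?_
    intro j hj
    have h1 : ((j + 1 : ℕ) : ℕ∞) ≤ idealDepth I N'' := by
      have h2 : ((j + 1 + 1 : ℕ) : ℕ∞) ≤ (n : ℕ∞) := by exact_mod_cast (by omega : j + 1 + 1 ≤ n)
      have h3 := h2.trans hn.2
      have h4 : ((j + 1 + 1 : ℕ) : ℕ∞) = ((j + 1 : ℕ) : ℕ∞) + 1 := by push_cast; rfl
      rw [h4] at h3
      exact (ENat.add_le_add_iff_right ENat.one_ne_top).mp h3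
    exact (le_idealDepth_iff_ext' I N'' (j + 1)).mp h1 j (by omega)

end Rees

end Groth.Agent.Lead.Depth
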