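import Mathlib
import Groth.Agent.Lib.Lead.Depth4

/-!
# Depth over a local ring
-/

set_option autoImplicit false
set_option linter.style.haveILetI false
universe u v
open CategoryTheory Abelian RingTheory.Sequence LocCoh Pointwise IsLocalRing

namespace Groth.Agent.Lead.Depth

variable {R : Type u} [CommRing R] [IsLocalRing R]

theorem maximalIdeal_smul_top_ne_top (M : Type v) [AddCommGroup M] [Module R M]
    [Module.Finite R M] [Nontrivial M] :
    maximalIdeal R • (⊤ : Submodule R M) ≠ ⊤ :=
  (Submodule.top_ne_ideal_smul_of_le_jacobson_annihilator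
    (IsLocalRing.maximalIdeal_le_jacobson _)).symm

theorem depth_def (M : Type v) [AddCommGroup M] [Module R M] :
    LocCoh.depth R M = idealDepth (maximalIdeal R) M := rfl

theorem depth_eq_top_of_subsingleton (M : Type v) [AddCommGroup M] [Module R M]
    [Subsingleton M] : LocCoh.depth R M = ⊤ := by
  apply idealDepth_of_eq_top
  exact Subsingleton.elim _ _

section Noeth

variable [IsNoetherianRing R]

/-- `n ≤ depth M` iff `Ext^i(k, M) = 0` for `i < n` (finite `M` over a Noetherian local ring). -/
theorem le_depth_iff_ext (M : Type u) [AddCommGroup M] [Module R M] [Module.Finite R M] (n : ℕ) :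
    (n : ℕ∞) ≤ LocCoh.depth R M ↔
      ∀ i < n, Subsingleton (Ext (ModuleCat.of R (ResidueField R)) (ModuleCat.of R M) i) :=
  le_idealDepth_iff_ext' (maximalIdeal R) M n

theorem depth_eq_iff_ext (M : Type u) [AddCommGroup M] [Module R M] [Module.Finite R M]
    [Nontrivial M] (n : ℕ) :
    LocCoh.depth R M = n ↔
      ((∀ i : ℕ, i < n →
        Subsingleton (Ext (ModuleCat.of R (ResidueField R)) (ModuleCat.of R M) i)) ∧
        Nontrivial (Ext (ModuleCat.of R (ResidueField R)) (ModuleCat.of R M) n)) :=
  idealDepth_eq_iff_ext (maximalIdeal R) M (maximalIdeal_smul_top_ne_top M) n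

theorem supportDim_nonneg (M : Type v) [AddCommGroup M] [Module R M] [Nontrivial M] :
    (0 : WithBot ℕ∞) ≤ Module.supportDim R M := by
  by_contra hlt
  push Not at hlt
  rw [WithBot.lt_zero_iff_eq_bot] at hlt
  exact Module.supportDim_ne_bot_of_nontrivial R (M := M) hlt

theorem exists_nat_supportDim (M : Type v) [AddCommGroup M] [Module R M] [Nontrivial M] :
    ∃ s : ℕ, Module.supportDim R M = s := by
  obtain ⟨e, he, -⟩ := RLR.exists_nat_of_le (supportDim_nonneg (R := R) M)
    ((Module.supportDim_le_ringKrullDim R M).trans (ringKrullDim_le_spanFinrank_maximalIdeal R))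
  exact ⟨e, he⟩

/-- `depth M ≤ dim Supp M` for a nonzero finite module. -/
theorem depth_le_supportDim (M : Type v) [AddCommGroup M] [Module R M] [Module.Finite R M]
    [Nontrivial M] :
    ((LocCoh.depth R M : ℕ∞) : WithBot ℕ∞) ≤ Module.supportDim R M := by
  have key : ∀ n : ℕ, (n : ℕ∞) ≤ LocCoh.depth R M →
      ((n : ℕ∞) : WithBot ℕ∞) ≤ Module.supportDim R M := by
    intro n hn
    obtain ⟨rs, hlen, hreg, hmem⟩ := exists_of_le_idealDepth (maximalIdeal R) M
      (maximalIdeal_smul_top_ne_top M) n hn
    have hreg' : IsRegular M rs := IsRegular.of_isWeaklyRegular_of_mem_maximalIdeal M hmem hreg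
    have h1 := Module.supportDim_add_length_eq_supportDim_of_isRegular rs hreg'
    haveI : Nontrivial (M ⧸ Ideal.ofList rs • (⊤ : Submodule R M)) :=
      hreg'.quot_ofList_smul_nontrivial ⊤
    have h2 := supportDim_nonneg (R := R) (M ⧸ Ideal.ofList rs • (⊤ : Submodule R M))
    rw [← h1, hlen]
    calc ((n : ℕ∞) : WithBot ℕ∞) = 0 + ((n : ℕ) : WithBot ℕ∞) := by rw [zero_add]; rfl
      _ ≤ _ := by gcongr
  obtain ⟨s, hs⟩ := exists_nat_supportDim (R := R) M
  induction hd : LocCoh.depth R M using ENat.recTopCoe with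
  | top =>
    have := key (s + 1) (by rw [hd]; exact le_top)
    rw [hs] at this
    have : s + 1 ≤ s := by exact_mod_cast this
    omega
  | coe d => exact key d (by rw [hd])

theorem depth_ne_top (M : Type v) [AddCommGroup M] [Module R M] [Module.Finite R M]
    [Nontrivial M] : LocCoh.depth R M ≠ ⊤ := by
  intro h
  have h1 := depth_le_supportDim (R := R) M
  rw [h] at h1
  have hle : Module.supportDim R M ≤ ringKrullDim R := Module.supportDim_le_ringKrullDim R M
  have hfin : ringKrullDim R < ⊤ := ringKrullDim_lt_top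
  have := lt_of_le_of_lt (h1.trans hle) hfin
  exact absurd this (lt_irrefl _)

end Noeth

end Groth.Agent.Lead.Depth
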