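import Mathlib
import Groth.Agent.Lib.Lead.Depth5

/-!
# The Auslander–Buchsbaum formula
-/

set_option autoImplicit false
set_option linter.style.haveILetI false
universe u v
open CategoryTheory Abelian RingTheory.Sequence LocCoh Pointwise IsLocalRing

namespace Groth.Agent.Lead.Depth

section General

variable {C : Type*} [Category C] [Abelian C] [HasExt C]

theorem ext_subsingleton_of_retract (X : C) {Y Y' : C} (s : Y' ⟶ Y) (p : Y ⟶ Y')
    (hsp : s ≫ p = 𝟙 Y') (i : ℕ) (h : Subsingleton (Ext X Y i)) :
    Subsingleton (Ext X Y' i) := by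
  refine ⟨fun a b => ?_⟩
  have key : ∀ c : Ext X Y' i, c = (c.comp (Ext.mk₀ s) (add_zero i)).comp (Ext.mk₀ p)
      (add_zero i) := by
    intro c
    rw [Ext.comp_assoc_of_third_deg_zero, Ext.mk₀_comp_mk₀, hsp, Ext.comp_mk₀_id]
  rw [key a, key b, Subsingleton.elim (a.comp (Ext.mk₀ s) (add_zero i))
    (b.comp (Ext.mk₀ s) (add_zero i))]

end General

variable {R : Type u} [CommRing R] [IsLocalRing R] [IsNoetherianRing R]

/-- A nonzero finite free module has the same depth as the ring. -/
theorem depth_free (F : Type u) [AddCommGroup F] [Module R F] [Module.Finite R F]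
    [Module.Free R F] [Nontrivial F] : LocCoh.depth R F = LocCoh.depth R R := by
  classical
  apply ENat.eq_of_forall_natCast_le_iff
  intro n
  constructor
  · intro h
    rw [le_depth_iff_ext] at h ⊢
    intro i hi
    let b := Module.Free.chooseBasis R F
    haveI : Nonempty (Module.Free.ChooseBasisIndex R F) := by
      by_contra hemp
      rw [not_nonempty_iff] at hemp
      haveI : Subsingleton F := b.repr.toEquiv.subsingleton
      exact not_subsingleton F ‹_›
    obtain ⟨j⟩ := ‹Nonempty (Module.Free.ChooseBasisIndex R F)›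
    let s : R →ₗ[R] F := LinearMap.toSpanSingleton R F (b j)
    let p : F →ₗ[R] R := b.coord j
    have hsp : ModuleCat.ofHom s ≫ ModuleCat.ofHom p = 𝟙 (ModuleCat.of R R) := by
      refine ModuleCat.hom_ext (LinearMap.ext fun x => ?_)
      simp [s, p]
    exact ext_subsingleton_of_retract _ _ _ hsp i (h i hi)
  · intro h
    obtain ⟨rs, hlen, hreg, hmem⟩ := exists_of_le_idealDepth (maximalIdeal R) R
      (maximalIdeal_smul_top_ne_top R) n h
    have h1 : IsWeaklyRegular (TensorProduct R R F) rs := hreg.isWeaklyRegular_rTensor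
    have h2 : IsWeaklyRegular F rs := ((TensorProduct.lid R F).isWeaklyRegular_congr rs).mp h1
    have := le_idealDepth_of_isWeaklyRegular (maximalIdeal R) F rs h2 hmem
    rwa [hlen] at this

/-- A map from a finite free module with image in `𝔪F` induces zero on `Ext(k, -)`. -/
theorem ext_comp_eq_zero_of_range_le_smul_top {K F : Type u} [AddCommGroup K] [Module R K]
    [AddCommGroup F] [Module R F] [Module.Free R K] [Module.Finite R K]
    (φ : K →ₗ[R] F) (hφ : LinearMap.range φ ≤ maximalIdeal R • (⊤ : Submodule R F)) {i : ℕ}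
    (e : Ext (ModuleCat.of R (ResidueField R)) (ModuleCat.of R K) i) :
    e.comp (Ext.mk₀ (ModuleCat.ofHom φ)) (add_zero i) = 0 := by
  classical
  let Z : Submodule R (K →ₗ[R] F) :=
    { carrier := {ψ | ∀ (i : ℕ) (e : Ext (ModuleCat.of R (ResidueField R)) (ModuleCat.of R K) i),
        e.comp (Ext.mk₀ (ModuleCat.ofHom ψ)) (add_zero i) = 0}
      zero_mem' := by
        intro i e
        rw [ModuleCat.ofHom_zero, Ext.mk₀_zero, Ext.comp_zero]
      add_mem' := by
        intro ψ₁ ψ₂ h1 h2 i e
        rw [ModuleCat.ofHom_add, Ext.mk₀_add, Ext.comp_add, h1 i e, h2 i e, add_zero]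
      smul_mem' := by
        intro c ψ h i e
        have : ModuleCat.ofHom (c • ψ) = c • ModuleCat.ofHom ψ := rfl
        rw [this, Ext.mk₀_smul, Ext.comp_smul, h i e, smul_zero] }
  have hZ : ∀ x ∈ maximalIdeal R, ∀ ψ : K →ₗ[R] F, x • ψ ∈ Z := by
    intro x hx ψ i e
    have h0 : ModuleCat.ofHom (x • ψ) = x • ModuleCat.ofHom ψ := rfl
    have h1 : x • e = 0 := by
      apply ext_smul_eq_zero_of_left
      intro y
      obtain ⟨a, rfl⟩ := Ideal.Quotient.mk_surjective y
      show x • (Ideal.Quotient.mk (maximalIdeal R) a) = 0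
      rw [← Ideal.Quotient.mk_eq_mk, ← Submodule.Quotient.mk_smul, Ideal.Quotient.mk_eq_mk,
        Ideal.Quotient.eq_zero_iff_mem]
      exact Ideal.mul_mem_right _ _ hx
    rw [h0, Ext.mk₀_smul, Ext.comp_smul, ← Ext.smul_comp, h1, Ext.zero_comp]
  let b := Module.Free.chooseBasis R K
  have hL : ∀ j, ∀ y ∈ maximalIdeal R • (⊤ : Submodule R F),
      LinearMap.smulRightₗ (b.coord j) y ∈ Z := by
    intro j
    have : maximalIdeal R • (⊤ : Submodule R F) ≤
        Submodule.comap (LinearMap.smulRightₗ (b.coord j)) Z := by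
      rw [Submodule.smul_le]
      intro x hx y _
      rw [Submodule.mem_comap, map_smul]
      exact hZ x hx _
    exact fun y hy => this hy
  have hsum : φ = ∑ j, LinearMap.smulRightₗ (b.coord j) (φ (b j)) := by
    apply b.ext
    intro l
    rw [LinearMap.sum_apply]
    rw [Finset.sum_eq_single l]
    · simp [LinearMap.smulRightₗ_apply, LinearMap.smulRight_apply]
    · intro j _ hjl
      simp [LinearMap.smulRightₗ_apply, LinearMap.smulRight_apply, Finsupp.single_apply,
        Ne.symm hjl]
    · intro h; exact absurd (Finset.mem_univ l) h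
  have hφZ : φ ∈ Z := by
    rw [hsum]
    apply Submodule.sum_mem
    intro j _
    exact hL j _ (hφ (LinearMap.mem_range_self φ (b j)))
  exact hφZ i e

end Groth.Agent.Lead.Depth
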