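import Mathlib
import Groth.Agent.Lib.Lead.Depth6

/-!
# The Auslander–Buchsbaum formula
-/

set_option autoImplicit false
set_option linter.style.haveILetI false
universe u v
open CategoryTheory Abelian RingTheory.Sequence LocCoh Pointwise IsLocalRing

namespace Groth.Agent.Lead.Depth

variable {R : Type u} [CommRing R] [IsLocalRing R] [IsNoetherianRing R]

theorem auslander_buchsbaum_aux : ∀ (e : ℕ) (M : Type u) [AddCommGroup M] [Module R M]
    [Module.Finite R M] [Nontrivial M],
    projectiveDimension (ModuleCat.of R M) = (e : WithBot ℕ∞) →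
    LocCoh.depth R R = e + LocCoh.depth R M := by
  intro e
  induction e with
  | zero =>
    intro M _ _ _ _ he
    rw [Nat.cast_zero, projectiveDimension_eq_zero_iff] at he
    haveI : Module.Projective R M := (IsProjective.iff_projective _).mpr he.1
    haveI : Module.Free R M := Module.free_of_flat_of_isLocalRing
    rw [depth_free M, Nat.cast_zero, zero_add]
  | succ e ih =>
    intro M _ _ _ _ he
    obtain ⟨r, f, surjf, hker⟩ := Hom.exists_minimal_cover (R := R) M
    let S := f.shortComplexKer
    have hS : S.ShortExact := LinearMap.shortExact_shortComplexKer surjf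
    haveI : Nontrivial (Fin r → R) := surjf.nontrivial
    -- projective dimension of the kernel
    have hMlt : HasProjectiveDimensionLT S.X₃ (e + 1 + 1) := by
      rw [← projectiveDimension_lt_iff]
      show projectiveDimension (ModuleCat.of R M) < _
      rw [he]
      exact_mod_cast Nat.lt_succ_self (e + 1)
    have hMnot : ¬ HasProjectiveDimensionLT S.X₃ (e + 1) := by
      rw [← projectiveDimension_ge_iff]
      show _ ≤ projectiveDimension (ModuleCat.of R M)
      rw [he]
    have hFproj : Projective S.X₂ := by
      haveI : Module.Projective R (Fin r → R) := Module.Projective.of_free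
      exact (IsProjective.iff_projective _).mp inferInstance
    have hF : ∀ n, HasProjectiveDimensionLT S.X₂ (n + 1) := fun n =>
      hasProjectiveDimensionLT_of_ge S.X₂ 1 (n + 1) (by omega)
    have hKlt : HasProjectiveDimensionLT S.X₁ (e + 1) :=
      hS.hasProjectiveDimensionLT_X₁ (e + 1) (hF e) hMlt
    have hKnot : ¬ HasProjectiveDimensionLT S.X₁ e := by
      intro h
      exact hMnot (hS.hasProjectiveDimensionLT_X₃ e h (hF e))
    have hKpd : projectiveDimension (ModuleCat.of R (LinearMap.ker f)) = (e : WithBot ℕ∞) := by
      apply le_antisymm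
      · rw [projectiveDimension_le_iff]; exact hKlt
      · rw [projectiveDimension_ge_iff]; exact hKnot
    haveI : Nontrivial (LinearMap.ker f) := by
      by_contra hns
      rw [not_nontrivial_iff_subsingleton] at hns
      have : projectiveDimension (ModuleCat.of R (LinearMap.ker f)) = ⊥ := by
        rw [projectiveDimension_eq_bot_iff]
        exact ModuleCat.isZero_of_subsingleton _
      rw [hKpd] at this
      exact absurd this (by simp)
    have hIH := ih (LinearMap.ker f) hKpd
    obtain ⟨t, ht⟩ := ENat.ne_top_iff_exists.mp (depth_ne_top (R := R) (LinearMap.ker f))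
    rw [← ht] at hIH
    have hFdepth : LocCoh.depth R (Fin r → R) = ((e + t : ℕ) : ℕ∞) := by
      rw [depth_free, hIH]; push_cast; rfl
    have hKext := (depth_eq_iff_ext (LinearMap.ker f) t).mp ht.symm
    have hFext : ∀ i < e + t, Subsingleton
        (Ext (ModuleCat.of R (ResidueField R)) (ModuleCat.of R (Fin r → R)) i) :=
      (le_depth_iff_ext (Fin r → R) (e + t)).mp hFdepth.ge
    -- the map `Ext^t(k, K) → Ext^t(k, F)` vanishes
    have hzero : ∀ a : Ext (ModuleCat.of R (ResidueField R)) S.X₁ t,
        a.comp (Ext.mk₀ S.f) (add_zero t) = 0 := by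
      intro a
      cases e with
      | zero =>
        rw [Nat.cast_zero, projectiveDimension_eq_zero_iff] at hKpd
        haveI : Module.Projective R (LinearMap.ker f) := (IsProjective.iff_projective _).mpr hKpd.1
        haveI : Module.Free R (LinearMap.ker f) := Module.free_of_flat_of_isLocalRing
        refine ext_comp_eq_zero_of_range_le_smul_top (LinearMap.ker f).subtype ?_ a
        rw [Submodule.range_subtype]
        exact hker
      | succ e' =>
        haveI := hFext t (by omega)
        exact Subsingleton.elim _ _
    haveI hnt : Nontrivial (Ext (ModuleCat.of R (ResidueField R)) S.X₁ t) := hKext.2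
    obtain ⟨a, ha⟩ := exists_ne (0 : Ext (ModuleCat.of R (ResidueField R)) S.X₁ t)
    -- `t ≥ 1`
    have ht1 : 1 ≤ t := by
      by_contra h0
      have h0' : t = 0 := by omega
      subst h0'
      haveI := hS.mono_f
      have hinj := Ext.postcomp_mk₀_injective_of_mono (ModuleCat.of R (ResidueField R)) S.f
      apply ha
      apply hinj
      rw [map_zero]
      exact hzero a
    obtain ⟨t', rfl⟩ : ∃ t', t = t' + 1 := ⟨t - 1, by omega⟩
    have hMdepth : LocCoh.depth R M = (t' : ℕ∞) := by
      rw [depth_eq_iff_ext M t']
      refine ⟨fun i hi => ?_, ?_⟩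
      · exact ext_subsingleton_X₃ hS _ i (hFext i (by omega)) (hKext.1 (i + 1) (by omega))
      · obtain ⟨x₃, hx₃⟩ := Ext.covariant_sequence_exact₁ _ hS a (hzero a) rfl
        refine ⟨⟨x₃, 0, ?_⟩⟩
        rintro rfl
        apply ha
        rw [← hx₃, Ext.zero_comp]
    rw [hIH, hMdepth]
    push_cast
    ring

/-- **Auslander–Buchsbaum formula**. -/
theorem auslander_buchsbaum (M : Type u) [AddCommGroup M] [Module R M]
    [Module.Finite R M] [Nontrivial M] (e : ℕ)
    (he : projectiveDimension (ModuleCat.of R M) = e) :
    LocCoh.depth R R = e + LocCoh.depth R M :=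
  auslander_buchsbaum_aux e M he

end Groth.Agent.Lead.Depth
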