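import Mathlib
import Groth.Agent.Lib.Lead.Depth7

/-!
# Consequences of Auslander–Buchsbaum: maximal Cohen–Macaulay modules over regular local rings
-/

set_option autoImplicit false
set_option linter.style.haveILetI false
universe u v
open CategoryTheory Abelian RingTheory.Sequence LocCoh Pointwise IsLocalRing

namespace Groth.Agent.Lead.Depth

theorem exists_nat_projectiveDimension_eq {C : Type*} [Category C] [Abelian C] {X : C} {n : ℕ}
    (h : HasProjectiveDimensionLT X n) (hne : ¬ Limits.IsZero X) :
    ∃ e : ℕ, projectiveDimension X = (e : WithBot ℕ∞) ∧ e < n := by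
  have h1 : projectiveDimension X < n := projectiveDimension_lt_iff.mpr h
  have h2 : projectiveDimension X ≠ ⊥ := fun hb => hne ((projectiveDimension_eq_bot_iff X).mp hb)
  induction hd : projectiveDimension X using WithBot.recBotCoe with
  | bot => exact absurd hd h2
  | coe x =>
    induction x using ENat.recTopCoe with
    | top =>
      rw [hd] at h1
      exact absurd h1 (by simp)
    | coe m =>
      refine ⟨m, rfl, ?_⟩
      rw [hd] at h1
      exact_mod_cast h1

variable {R : Type u} [CommRing R]

/-- `depth R ≤ dim R` for a Noetherian local ring. -/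
theorem depth_self_le_ringKrullDim [IsLocalRing R] [IsNoetherianRing R] :
    ((LocCoh.depth R R : ℕ∞) : WithBot ℕ∞) ≤ ringKrullDim R := by
  rw [← Module.supportDim_self_eq_ringKrullDim]
  exact depth_le_supportDim R

/-- A maximal Cohen–Macaulay module over a regular local ring is free. -/
theorem free_of_depth_eq_ringKrullDim [IsRegularLocalRing R] (M : Type u) [AddCommGroup M]
    [Module R M] [Module.Finite R M]
    (h : ((LocCoh.depth R M : ℕ∞) : WithBot ℕ∞) = ringKrullDim R) : Module.Free R M := by
  rcases subsingleton_or_nontrivial M with hs | hn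
  · exact Module.Free.of_subsingleton R M
  · have hpd := Hom.hasProjectiveDimensionLT_spanFinrank (A := R) M
    have hnz : ¬ Limits.IsZero (ModuleCat.of R M) := by
      intro hz
      exact not_subsingleton M (ModuleCat.subsingleton_of_isZero hz)
    obtain ⟨e, he, -⟩ := exists_nat_projectiveDimension_eq hpd hnz
    have hAB := auslander_buchsbaum M e he
    obtain ⟨t, ht⟩ := ENat.ne_top_iff_exists.mp (depth_ne_top (R := R) M)
    obtain ⟨s, hs⟩ := ENat.ne_top_iff_exists.mp (depth_ne_top (R := R) R)
    have hle := depth_self_le_ringKrullDim (R := R)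
    rw [← h, ← ht, ← hs] at hle
    rw [← ht, ← hs] at hAB
    have h1 : s ≤ t := by exact_mod_cast hle
    have h2 : s = e + t := by exact_mod_cast hAB
    have he0 : e = 0 := by omega
    subst he0
    rw [Nat.cast_zero, projectiveDimension_eq_zero_iff] at he
    haveI : Module.Projective R M := (IsProjective.iff_projective _).mpr he.1
    exact Module.free_of_flat_of_isLocalRing

end Groth.Agent.Lead.Depth
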