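import Mathlib
import Groth.Agent.Lib.Lead.Depth8

/-!
# `depth M ≤ dim R/p` for associated primes `p` of `M`
-/

set_option autoImplicit false
set_option linter.style.haveILetI false
universe u v
open CategoryTheory Abelian RingTheory.Sequence LocCoh Pointwise IsLocalRing

namespace Groth.Agent.Lead.Depth

variable {R : Type u} [CommRing R] [IsLocalRing R] [IsNoetherianRing R]

theorem ringKrullDim_quotient_succ_le_of_lt {p q : Ideal R} [p.IsPrime] (hpq : p ≤ q) {x : R}
    (hxq : x ∈ q) (hxp : x ∉ p) : ringKrullDim (R ⧸ q) + 1 ≤ ringKrullDim (R ⧸ p) := by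
  have hne0 : Ideal.Quotient.mk p x ≠ 0 := fun h => hxp (Ideal.Quotient.eq_zero_iff_mem.mp h)
  exact ringKrullDim_succ_le_of_surjective (Ideal.Quotient.factor hpq)
    (Ideal.Quotient.factor_surjective hpq) (r := Ideal.Quotient.mk p x)
    (mem_nonZeroDivisors_of_ne_zero hne0)
    (by rw [Ideal.Quotient.factor_mk]; exact Ideal.Quotient.eq_zero_iff_mem.mpr hxq)

theorem le_ringKrullDim_quotient_of_mem_associatedPrimes : ∀ (n : ℕ) (M : Type v)
    [AddCommGroup M] [Module R M] [Module.Finite R M] (p : Ideal R),
    p ∈ associatedPrimes R M → (n : ℕ∞) ≤ LocCoh.depth R M →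
    ((n : ℕ) : WithBot ℕ∞) ≤ ringKrullDim (R ⧸ p) := by
  intro n
  induction n with
  | zero =>
    intro M _ _ _ p hp _
    haveI : p.IsPrime := hp.isPrime
    rw [Nat.cast_zero]
    exact ringKrullDim_nonneg_of_nontrivial
  | succ n ih =>
    intro M _ _ _ p hp h
    haveI hpp : p.IsPrime := hp.isPrime
    obtain ⟨-, z, hz⟩ := isAssociatedPrime_iff.mp hp
    have hz0 : z ≠ 0 := by
      rintro rfl
      apply hpp.ne_top
      rw [hz, eq_top_iff]
      intro a _
      rw [Submodule.mem_colon_singleton, smul_zero]
      exact Submodule.zero_mem _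
    haveI : Nontrivial M := ⟨⟨z, 0, hz0⟩⟩
    obtain ⟨rs, hlen, hreg, hmem⟩ := exists_of_le_idealDepth (maximalIdeal R) M
      (maximalIdeal_smul_top_ne_top M) (n + 1) h
    match rs, hlen, hreg, hmem with
    | [], hlen, _, _ => simp at hlen
    | x :: rs', hlen, hreg, hmem =>
      rw [isWeaklyRegular_cons_iff] at hreg
      obtain ⟨hx, hrs'⟩ := hreg
      have hxm : x ∈ maximalIdeal R := hmem x List.mem_cons_self
      have hlen' : rs'.length = n := by simpa using hlen
      let U : Submodule R M :=
        { carrier := {m | ∀ a ∈ p, a • m = 0}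
          zero_mem' := fun a _ => smul_zero a
          add_mem' := fun {m₁ m₂} h1 h2 a ha => by rw [smul_add, h1 a ha, h2 a ha, add_zero]
          smul_mem' := fun c m hm a ha => by rw [smul_comm, hm a ha, smul_zero] }
      have hzU : z ∈ U := by
        intro a ha
        rw [hz, Submodule.mem_colon_singleton] at ha
        exact (Submodule.mem_bot R).mp ha
      have hex : ∃ u ∈ U, u ∉ x • (⊤ : Submodule R M) := by
        by_contra hcon
        push Not at hcon
        have hle : U ≤ maximalIdeal R • U := by
          intro u hu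
          obtain ⟨y, -, hy⟩ := (Submodule.mem_smul_pointwise_iff_exists _ _ _).mp (hcon u hu)
          have hyU : y ∈ U := by
            intro a ha
            apply hx
            show x • (a • y) = x • 0
            rw [smul_zero, smul_comm, hy]
            exact hu a ha
          rw [← hy]
          exact Submodule.smul_mem_smul hxm hyU
        have hU0 : U = ⊥ := Submodule.eq_bot_of_le_smul_of_le_jacobson_bot (maximalIdeal R) U
          (IsNoetherian.noetherian U) hle
          (IsLocalRing.jacobson_eq_maximalIdeal ⊥ bot_ne_top).ge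
        rw [hU0] at hzU
        exact hz0 ((Submodule.mem_bot R).mp hzU)
      obtain ⟨u, huU, hux⟩ := hex
      have hne : (Submodule.Quotient.mk u : QuotSMulTop x M) ≠ 0 := by
        intro h0
        exact hux ((Submodule.Quotient.mk_eq_zero _).mp h0)
      obtain ⟨q, hq, hle⟩ := exists_le_isAssociatedPrime_of_isNoetherianRing R
        (Submodule.Quotient.mk u : QuotSMulTop x M) hne
      have hpq : p ≤ q := by
        intro a ha
        apply hle
        rw [Submodule.mem_colon_singleton, ← Submodule.Quotient.mk_smul, huU a ha,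
          Submodule.Quotient.mk_zero]
        exact Submodule.zero_mem _
      have hxq : x ∈ q := by
        apply hle
        rw [Submodule.mem_colon_singleton, ← Submodule.Quotient.mk_smul, Submodule.mem_bot,
          Submodule.Quotient.mk_eq_zero]
        exact Submodule.smul_mem_pointwise_smul u x ⊤ Submodule.mem_top
      have hxp : x ∉ p := by
        intro hxp
        rw [hz, Submodule.mem_colon_singleton, Submodule.mem_bot] at hxp
        apply hz0
        apply hx
        show x • z = x • 0
        rw [hxp, smul_zero]
      have hdepthQ : (n : ℕ∞) ≤ LocCoh.depth R (QuotSMulTop x M) := by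
        have := le_idealDepth_of_isWeaklyRegular (maximalIdeal R) (QuotSMulTop x M) rs' hrs'
          (fun r hr => hmem r (List.mem_cons_of_mem _ hr))
        rwa [hlen'] at this
      have h1 := ih (QuotSMulTop x M) q hq hdepthQ
      have h2 := ringKrullDim_quotient_succ_le_of_lt hpq hxq hxp
      calc ((n + 1 : ℕ) : WithBot ℕ∞) = ((n : ℕ) : WithBot ℕ∞) + 1 := by push_cast; rfl
        _ ≤ ringKrullDim (R ⧸ q) + 1 := by gcongr
        _ ≤ ringKrullDim (R ⧸ p) := h2

/-- `depth M ≤ dim R/p` for every associated prime `p` of the finite module `M`. -/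
theorem depth_le_ringKrullDim_quotient_of_mem_associatedPrimes (M : Type v)
    [AddCommGroup M] [Module R M] [Module.Finite R M] (p : Ideal R)
    (hp : p ∈ associatedPrimes R M) :
    ((LocCoh.depth R M : ℕ∞) : WithBot ℕ∞) ≤ ringKrullDim (R ⧸ p) := by
  haveI : Nontrivial M := by
    by_contra hns
    rw [not_nontrivial_iff_subsingleton] at hns
    have := associatedPrimes.eq_empty_of_subsingleton (R := R) (M := M)
    rw [this] at hp
    exact hp
  obtain ⟨t, ht⟩ := ENat.ne_top_iff_exists.mp (depth_ne_top (R := R) M)
  rw [← ht]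
  exact le_ringKrullDim_quotient_of_mem_associatedPrimes t M p hp (by rw [ht])

end Groth.Agent.Lead.Depth
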