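import Mathlib
import Groth.Agent.Lib.Lead.Depth9

/-!
# Ischebeck's theorem: `Ext^i(N, M) = 0` for `i < depth M - dim N`
-/

set_option autoImplicit false
set_option linter.style.haveILetI false
universe u v
open CategoryTheory Abelian RingTheory.Sequence LocCoh Pointwise IsLocalRing

namespace Groth.Agent.Lead.Depth

section General

variable {C : Type*} [Category C] [Abelian C] [HasExt C]

theorem ext_subsingleton_of_isZero_left {X : C} (hX : Limits.IsZero X) (Y : C) (i : ℕ) :
    Subsingleton (Ext X Y i) := by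
  refine ⟨fun a b => ?_⟩
  have key : ∀ c : Ext X Y i, c = 0 := by
    intro c
    have h0 : (𝟙 X : X ⟶ X) = 0 := hX.eq_of_src _ _
    rw [← Ext.mk₀_id_comp c, h0, Ext.mk₀_zero, Ext.zero_comp]
  rw [key a, key b]

/-- Contravariant: `Ext^i(X₂, Y) = 0` if `Ext^i(X₁, Y) = 0` and `Ext^i(X₃, Y) = 0`. -/
theorem ext_subsingleton_left_X₂ {S : ShortComplex C} (hS : S.ShortExact) (Y : C) (i : ℕ)
    (h1 : Subsingleton (Ext S.X₁ Y i)) (h3 : Subsingleton (Ext S.X₃ Y i)) :
    Subsingleton (Ext S.X₂ Y i) := by
  refine ⟨fun a b => ?_⟩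
  have key : ∀ c : Ext S.X₂ Y i, c = 0 := by
    intro c
    obtain ⟨x₃, hx₃⟩ := Ext.contravariant_sequence_exact₂ hS Y c (Subsingleton.elim _ _)
    rw [← hx₃, Subsingleton.elim x₃ 0, Ext.comp_zero]
  rw [key a, key b]

end General

variable {R : Type u} [CommRing R] [IsLocalRing R] [IsNoetherianRing R]

/-- Nakayama for `Ext`: if multiplication by `x ∈ 𝔪` is surjective on the finite module
`Ext^i(N, M)`, it vanishes. -/
theorem ext_subsingleton_of_smul_surjective (N M : ModuleCat.{u} R) [Module.Finite R N]
    [Module.Finite R M] (i : ℕ) {x : R} (hx : x ∈ maximalIdeal R)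
    (h : ∀ a : Ext N M i, ∃ b : Ext N M i, x • b = a) : Subsingleton (Ext N M i) := by
  have hle : (⊤ : Submodule R (Ext N M i)) ≤ maximalIdeal R • ⊤ := by
    intro a _
    obtain ⟨b, rfl⟩ := h a
    exact Submodule.smul_mem_smul hx Submodule.mem_top
  have h0 := Submodule.eq_bot_of_le_smul_of_le_jacobson_bot (maximalIdeal R)
    (⊤ : Submodule R (Ext N M i)) Module.Finite.fg_top hle
    (IsLocalRing.jacobson_eq_maximalIdeal ⊥ bot_ne_top).ge
  refine ⟨fun a b => ?_⟩
  have ha : a ∈ (⊥ : Submodule R (Ext N M i)) := h0 ▸ Submodule.mem_top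
  have hb : b ∈ (⊥ : Submodule R (Ext N M i)) := h0 ▸ Submodule.mem_top
  rw [(Submodule.mem_bot R).mp ha, (Submodule.mem_bot R).mp hb]

theorem ischebeck_aux (M : Type u) [AddCommGroup M] [Module R M] [Module.Finite R M] (d : ℕ)
    (hd : (d : ℕ∞) ≤ LocCoh.depth R M) :
    ∀ (r : ℕ) (N : Type u) [AddCommGroup N] [Module R N] [Module.Finite R N],
      Module.supportDim R N ≤ r → ∀ i : ℕ, i + r < d →
      Subsingleton (Ext (ModuleCat.of R N) (ModuleCat.of R M) i) := by
  intro r
  induction r using Nat.strong_induction_on with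
  | _ r ih =>
    intro N _ _ hfin
    induction hfin using IsNoetherianRing.induction_on_isQuotientEquivQuotientPrime R with
    | subsingleton N =>
      intro _ i _
      exact ext_subsingleton_of_isZero_left (ModuleCat.isZero_of_subsingleton _) _ i
    | exact N₁ N₂ N₃ f g hf hg hfg h1 h3 =>
      intro hdim i hi
      let S : ShortComplex (ModuleCat.{u} R) :=
        ModuleCat.shortComplexOfCompEqZero f g hfg.linearMap_comp_eq_zero
      have hS : S.ShortExact := ModuleCat.shortComplex_shortExact S hfg hf hg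
      exact ext_subsingleton_left_X₂ hS _ i
        (h1 ((Module.supportDim_le_of_injective f hf).trans hdim) i hi)
        (h3 ((Module.supportDim_le_of_surjective g hg).trans hdim) i hi)
    | quotient N p e =>
      intro hdim i hi
      refine ext_subsingleton_of_iso_left (e.symm.toModuleIso) _ i ?_
      haveI := p.2
      have hdimp : ringKrullDim (R ⧸ p.1) ≤ r := by
        rw [← Module.supportDim_quotient_eq_ringKrullDim, ← Module.supportDim_eq_of_equiv e]
        exact hdim
      by_cases hpm : p.1 = maximalIdeal R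
      · rw [hpm]
        exact (le_depth_iff_ext M d).mp hd i (by omega)
      · obtain ⟨x, hxm, hxp⟩ : ∃ x ∈ maximalIdeal R, x ∉ p.1 := by
          by_contra hcon
          push Not at hcon
          exact hpm (le_antisymm (IsLocalRing.le_maximalIdeal p.2.ne_top) hcon)
        have hreg : IsSMulRegular (R ⧸ p.1) x := by
          intro a b hab
          obtain ⟨a, rfl⟩ := Ideal.Quotient.mk_surjective a
          obtain ⟨b, rfl⟩ := Ideal.Quotient.mk_surjective b
          have h1 : Ideal.Quotient.mk p.1 (x * a) = Ideal.Quotient.mk p.1 (x * b) := hab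
          rw [Ideal.Quotient.eq, ← mul_sub] at h1
          rw [Ideal.Quotient.eq]
          exact (p.2.mem_or_mem h1).resolve_left hxp
        have hQdim := Module.supportDim_quotSMulTop_succ_eq_supportDim hreg hxm
        rw [Module.supportDim_quotient_eq_ringKrullDim] at hQdim
        haveI : Nontrivial (QuotSMulTop x (R ⧸ p.1)) :=
          nontrivial_quotSMulTop_of_mem_maximalIdeal _ hxm
        obtain ⟨s, hs⟩ := exists_nat_supportDim (R := R) (QuotSMulTop x (R ⧸ p.1))
        rw [hs] at hQdim
        have hsr : s + 1 ≤ r := by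
          have : ((s + 1 : ℕ) : WithBot ℕ∞) ≤ (r : ℕ) := by
            rw [← hQdim] at hdimp
            exact_mod_cast hdimp
          exact_mod_cast this
        have hvan : Subsingleton (Ext (ModuleCat.of R (QuotSMulTop x (R ⧸ p.1)))
            (ModuleCat.of R M) (1 + i)) :=
          ih s (by omega) (QuotSMulTop x (R ⧸ p.1)) hs.le (1 + i) (by omega)
        have hreg' : IsSMulRegular (ModuleCat.of R (R ⧸ p.1)) x := hreg
        have hS := hreg'.smulShortComplex_shortExact
        apply ext_subsingleton_of_smul_surjective _ _ i hxm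
        intro a
        haveI hvan' : Subsingleton (Ext ((ModuleCat.of R (R ⧸ p.1)).smulShortComplex x).X₃
            (ModuleCat.of R M) (1 + i)) := hvan
        obtain ⟨x₂, hx₂⟩ := Ext.contravariant_sequence_exact₁ hS (ModuleCat.of R M) a rfl
          (Subsingleton.elim _ _)
        let x₂' : Ext (ModuleCat.of R (R ⧸ p.1)) (ModuleCat.of R M) i := x₂
        refine ⟨x₂', ?_⟩
        rw [← hx₂]
        show x • x₂' = (Ext.mk₀ (x • 𝟙 (ModuleCat.of R (R ⧸ p.1)))).comp x₂' (zero_add i)
        rw [Ext.mk₀_smul, Ext.smul_comp, Ext.mk₀_id_comp]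

/-- **Ischebeck**: `Ext^i(N, M) = 0` for `i < depth M - dim N`. -/
theorem ischebeck (M N : Type u) [AddCommGroup M] [Module R M] [AddCommGroup N] [Module R N]
    [Module.Finite R M] [Module.Finite R N]
    (d r i : ℕ) (hd : (d : ℕ∞) ≤ LocCoh.depth R M) (hr : Module.supportDim R N ≤ r)
    (hi : i + r < d) :
    Subsingleton (Ext (ModuleCat.of R N) (ModuleCat.of R M) i) :=
  ischebeck_aux M d hd r N hr i hi

end Groth.Agent.Lead.Depth
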