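import Mathlib
import Groth.Agent.Lib.Lead.Depth10

/-!
# Injective dimension over a Noetherian local ring via `Ext(k, -)`
-/

set_option autoImplicit false
set_option linter.style.haveILetI false
universe u v
open CategoryTheory Abelian RingTheory.Sequence LocCoh Pointwise IsLocalRing

namespace Groth.Agent.Lead.Depth

variable {R : Type u} [CommRing R] [IsLocalRing R] [IsNoetherianRing R]

/-- General dévissage: vanishing of `Ext^i(k, M)` in a family of degrees stable under
`(r, i) ↦ (s, 1 + i)` for `s < r` propagates to all finite modules `N` of dimension `≤ r`. -/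
theorem ext_vanishing_of_residueField (M : Type u) [AddCommGroup M] [Module R M]
    [Module.Finite R M] (P : ℕ → ℕ → Prop)
    (hstep : ∀ r s i, P r i → s + 1 ≤ r → P s (1 + i))
    (hbase : ∀ r i, P r i →
      Subsingleton (Ext (ModuleCat.of R (ResidueField R)) (ModuleCat.of R M) i)) :
    ∀ (r : ℕ) (N : Type u) [AddCommGroup N] [Module R N] [Module.Finite R N],
      Module.supportDim R N ≤ r → ∀ i : ℕ, P r i →
      Subsingleton (Ext (ModuleCat.of R N) (ModuleCat.of R M) i) := by
  intro r
  induction r using Nat.strong_induction_on with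
  | _ r ih =>
    intro N _ _ hfin
    induction hfin using IsNoetherianRing.induction_on_isQuotientEquivQuotientPrime R with
    | subsingleton N =>
      intro _ i _
      exact ext_subsingleton_of_isZero_left (ModuleCat.isZero_of_subsingleton _) _ i
    | exact N₁ N₂ N₃ f g hf hg hfg h1 h3 =>
      intro hdim i hi
      let S : ShortComplex (ModuleCat.{u} R) :=
        ModuleCat.shortComplexOfCompEqZero f g hfg.linearMap_comp_eq_zero
      have hS : S.ShortExact := ModuleCat.shortComplex_shortExact S hfg hf hg
      exact ext_subsingleton_left_X₂ hS _ i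
        (h1 ((Module.supportDim_le_of_injective f hf).trans hdim) i hi)
        (h3 ((Module.supportDim_le_of_surjective g hg).trans hdim) i hi)
    | quotient N p e =>
      intro hdim i hi
      refine ext_subsingleton_of_iso_left (e.symm.toModuleIso) _ i ?_
      haveI := p.2
      have hdimp : ringKrullDim (R ⧸ p.1) ≤ r := by
        rw [← Module.supportDim_quotient_eq_ringKrullDim, ← Module.supportDim_eq_of_equiv e]
        exact hdim
      by_cases hpm : p.1 = maximalIdeal R
      · rw [hpm]
        exact hbase r i hi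
      · obtain ⟨x, hxm, hxp⟩ : ∃ x ∈ maximalIdeal R, x ∉ p.1 := by
          by_contra hcon
          push Not at hcon
          exact hpm (le_antisymm (IsLocalRing.le_maximalIdeal p.2.ne_top) hcon)
        have hreg : IsSMulRegular (R ⧸ p.1) x := by
          intro a b hab
          obtain ⟨a, rfl⟩ := Ideal.Quotient.mk_surjective a
          obtain ⟨b, rfl⟩ := Ideal.Quotient.mk_surjective b
          have h1 : Ideal.Quotient.mk p.1 (x * a) = Ideal.Quotient.mk p.1 (x * b) := hab
          rw [Ideal.Quotient.eq, ← mul_sub] at h1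
          rw [Ideal.Quotient.eq]
          exact (p.2.mem_or_mem h1).resolve_left hxp
        have hQdim := Module.supportDim_quotSMulTop_succ_eq_supportDim hreg hxm
        rw [Module.supportDim_quotient_eq_ringKrullDim] at hQdim
        haveI : Nontrivial (QuotSMulTop x (R ⧸ p.1)) :=
          nontrivial_quotSMulTop_of_mem_maximalIdeal _ hxm
        obtain ⟨s, hs⟩ := exists_nat_supportDim (R := R) (QuotSMulTop x (R ⧸ p.1))
        rw [hs] at hQdim
        have hsr : s + 1 ≤ r := by
          have : ((s + 1 : ℕ) : WithBot ℕ∞) ≤ (r : ℕ) := by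
            rw [← hQdim] at hdimp
            exact_mod_cast hdimp
          exact_mod_cast this
        have hvan : Subsingleton (Ext (ModuleCat.of R (QuotSMulTop x (R ⧸ p.1)))
            (ModuleCat.of R M) (1 + i)) :=
          ih s (by omega) (QuotSMulTop x (R ⧸ p.1)) hs.le (1 + i) (hstep r s i hi hsr)
        have hreg' : IsSMulRegular (ModuleCat.of R (R ⧸ p.1)) x := hreg
        have hS := hreg'.smulShortComplex_shortExact
        apply ext_subsingleton_of_smul_surjective _ _ i hxm
        intro a
        haveI hvan' : Subsingleton (Ext ((ModuleCat.of R (R ⧸ p.1)).smulShortComplex x).X₃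
            (ModuleCat.of R M) (1 + i)) := hvan
        obtain ⟨x₂, hx₂⟩ := Ext.contravariant_sequence_exact₁ hS (ModuleCat.of R M) a rfl
          (Subsingleton.elim _ _)
        let x₂' : Ext (ModuleCat.of R (R ⧸ p.1)) (ModuleCat.of R M) i := x₂
        refine ⟨x₂', ?_⟩
        rw [← hx₂]
        show x • x₂' = (Ext.mk₀ (x • 𝟙 (ModuleCat.of R (R ⧸ p.1)))).comp x₂' (zero_add i)
        rw [Ext.mk₀_smul, Ext.smul_comp, Ext.mk₀_id_comp]

theorem exists_nat_supportDim_le (N : Type v) [AddCommGroup N] [Module R N] :
    ∃ r : ℕ, Module.supportDim R N ≤ r :=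
  ⟨(maximalIdeal R).spanFinrank,
    (Module.supportDim_le_ringKrullDim R N).trans (ringKrullDim_le_spanFinrank_maximalIdeal R)⟩

/-- If `Ext^i(k, M) = 0` for all `i ≥ n`, then `Ext^i(N, M) = 0` for all finite `N`, `i ≥ n`. -/
theorem ext_subsingleton_of_residueField_ge (M : Type u) [AddCommGroup M] [Module R M]
    [Module.Finite R M] (n : ℕ)
    (h : ∀ i, n ≤ i →
      Subsingleton (Ext (ModuleCat.of R (ResidueField R)) (ModuleCat.of R M) i))
    (N : Type u) [AddCommGroup N] [Module R N] [Module.Finite R N] (i : ℕ) (hi : n ≤ i) :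
    Subsingleton (Ext (ModuleCat.of R N) (ModuleCat.of R M) i) := by
  obtain ⟨r, hr⟩ := exists_nat_supportDim_le (R := R) N
  exact ext_vanishing_of_residueField M (fun _ i => n ≤ i) (fun _ _ i hi _ => by omega)
    (fun _ i hi => h i hi) r N hr i hi

/-- **Bass**: `inj.dim M < n + 1` as soon as `Ext^i(k, M) = 0` for all `i > n`. -/
theorem hasInjectiveDimensionLT_of_ext_residueField (M : Type u) [AddCommGroup M] [Module R M]
    [Module.Finite R M] (n : ℕ)
    (h : ∀ i, n + 1 ≤ i →
      Subsingleton (Ext (ModuleCat.of R (ResidueField R)) (ModuleCat.of R M) i)) :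
    HasInjectiveDimensionLT (ModuleCat.of R M) (n + 1) :=
  Hom.hasInjectiveDimensionLT_of_ext_quotient n (ModuleCat.of R M)
    (fun I => ext_subsingleton_of_residueField_ge M (n + 1) h (R ⧸ I) (n + 1) le_rfl)

/-- Finite injective dimension iff `Ext^i(k, M)` vanishes for large `i`. -/
theorem exists_hasInjectiveDimensionLT_iff (M : Type u) [AddCommGroup M] [Module R M]
    [Module.Finite R M] :
    (∃ n : ℕ, HasInjectiveDimensionLT (ModuleCat.of R M) n) ↔
      ∃ N : ℕ, ∀ i : ℕ, N ≤ i →
        Subsingleton (Ext (ModuleCat.of R (ResidueField R)) (ModuleCat.of R M) i) := by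
  constructor
  · rintro ⟨n, hn⟩
    exact ⟨n, fun i hi => HasInjectiveDimensionLT.subsingleton _ n i hi _⟩
  · rintro ⟨N, hN⟩
    exact ⟨N + 1, hasInjectiveDimensionLT_of_ext_residueField M N
      (fun i hi => hN i (by omega))⟩

end Groth.Agent.Lead.Depth
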