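import Mathlib
import Groth.Agent.Lib.Lead.Depth11

/-!
# Regular local rings are Cohen–Macaulay; depth over a regular local ring via `Ext(M, A)`
-/

set_option autoImplicit false
set_option linter.style.haveILetI false
universe u v
open CategoryTheory Abelian RingTheory.Sequence LocCoh Pointwise IsLocalRing

namespace Groth.Agent.Lead.Depth

variable {R : Type u} [CommRing R]

/-- The depth of a regular local ring equals its dimension. -/
theorem depth_eq_of_isRegularLocalRing [IsRegularLocalRing R] {n : ℕ}
    (hn : ringKrullDim R = n) : LocCoh.depth R R = n := by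
  have hsf := RLR.spanFinrank_maximalIdeal_eq_of_dim hn
  obtain ⟨x, hx⟩ := Hom.exists_generators_maximalIdeal (R := R)
  have hd' : ringKrullDim R = ((maximalIdeal R).spanFinrank : ℕ) := by rw [hn, hsf]
  have hreg := RLR.isRegular_ofFn hd' x hx
  have h1 : ((List.ofFn x).length : ℕ∞) ≤ LocCoh.depth R R :=
    le_idealDepth_of_isWeaklyRegular (maximalIdeal R) R (List.ofFn x) hreg.toIsWeaklyRegular
      (by
        intro r hr
        rw [List.mem_ofFn] at hr
        obtain ⟨i, rfl⟩ := hr
        rw [← hx]
        exact Ideal.subset_span ⟨i, rfl⟩)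
  rw [List.length_ofFn, hsf] at h1
  have h2 := depth_self_le_ringKrullDim (R := R)
  rw [hn] at h2
  obtain ⟨t, ht⟩ := ENat.ne_top_iff_exists.mp (depth_ne_top (R := R) R)
  rw [← ht] at h1 h2 ⊢
  have h1' : n ≤ t := by exact_mod_cast h1
  have h2' : t ≤ n := by exact_mod_cast h2
  have : t = n := le_antisymm h2' h1'
  rw [this]

/-- A regular local ring is a Cohen–Macaulay local ring. -/
theorem isCohenMacaulayLocalRing_of_isRegularLocalRing [IsRegularLocalRing R] :
    LocCoh.IsCohenMacaulayLocalRing R := by
  obtain ⟨n, hn, -⟩ := RLR.exists_nat_of_le (ringKrullDim_nonneg_of_nontrivial (R := R))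
    (ringKrullDim_le_spanFinrank_maximalIdeal R)
  refine { supportDim_eq_depth := ?_ }
  rw [Module.supportDim_self_eq_ringKrullDim, depth_eq_of_isRegularLocalRing hn, hn]
  rfl

/-- Serre-type condition via `Ext(M, A)` over a regular local ring. -/
theorem min_le_depth_iff_ext_self [IsRegularLocalRing R] (n : ℕ) (hn : ringKrullDim R = n)
    (M : Type u) [AddCommGroup M] [Module R M] [Module.Finite R M] (k c : ℕ) :
    ((min k (n - c) : ℕ) : ℕ∞) ≤ LocCoh.depth R M ↔
      ∀ q : ℕ, c < q → Nontrivial (Ext (ModuleCat.of R M) (ModuleCat.of R R) q) →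
        q + k ≤ n := by
  rcases subsingleton_or_nontrivial M with hs | hnt
  · rw [depth_eq_top_of_subsingleton]
    refine ⟨fun _ q _ hq => ?_, fun _ => le_top⟩
    haveI := ext_subsingleton_of_isZero_left (ModuleCat.isZero_of_subsingleton (ModuleCat.of R M))
      (ModuleCat.of R R) q
    exact absurd hq (not_nontrivial _)
  · have hpd := Hom.hasProjectiveDimensionLT_of_finite hn M
    have hnz : ¬ Limits.IsZero (ModuleCat.of R M) := by
      intro hz
      exact not_subsingleton M (ModuleCat.subsingleton_of_isZero hz)
    obtain ⟨e, he, hen⟩ := exists_nat_projectiveDimension_eq hpd hnz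
    have hAB := auslander_buchsbaum M e he
    rw [depth_eq_of_isRegularLocalRing hn] at hAB
    obtain ⟨t, ht⟩ := ENat.ne_top_iff_exists.mp (depth_ne_top (R := R) M)
    rw [← ht] at hAB ⊢
    have hnet : n = e + t := by exact_mod_cast hAB
    obtain ⟨hvan, hnon⟩ := (Hom.projectiveDimension_eq_iff_ext_self M e).mp he
    constructor
    · intro h q hcq hq
      have h' : min k (n - c) ≤ t := by exact_mod_cast h
      have hqe : q ≤ e := by
        by_contra hlt
        push Not at hlt
        haveI := hvan q hlt
        haveI := hq
        exact not_subsingleton (Ext (ModuleCat.of R M) (ModuleCat.of R R) q) inferInstance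
      rcases min_le_iff.mp h' with h1 | h1 <;> omega
    · intro h
      have : min k (n - c) ≤ t := by
        by_cases hec : c < e
        · have := h e hec hnon
          exact (min_le_left _ _).trans (by omega)
        · exact (min_le_right _ _).trans (by omega)
      exact_mod_cast this

end Groth.Agent.Lead.Depth
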