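import Mathlib
import Groth.Agent.Lib.Lead.Depth12

/-!
# Cohen–Macaulay modules: associated primes, quotients by parameters
-/

set_option autoImplicit false
set_option linter.style.haveILetI false
universe u v
open CategoryTheory Abelian RingTheory.Sequence LocCoh Pointwise IsLocalRing

namespace Groth.Agent.Lead.Depth

section Congr

variable {R : Type u} [CommRing R]

theorem smul_top_eq_top_of_equiv (I : Ideal R) {M : Type v} {N : Type*} [AddCommGroup M]
    [Module R M] [AddCommGroup N] [Module R N] (e : M ≃ₗ[R] N)
    (h : I • (⊤ : Submodule R M) = ⊤) : I • (⊤ : Submodule R N) = ⊤ := by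
  have h1 := congrArg (Submodule.map e.toLinearMap) h
  rw [Submodule.map_smul'', Submodule.map_top, LinearEquiv.range] at h1
  exact h1

theorem idealDepth_congr (I : Ideal R) {M : Type v} {N : Type*} [AddCommGroup M]
    [Module R M] [AddCommGroup N] [Module R N] (e : M ≃ₗ[R] N) :
    idealDepth I M = idealDepth I N := by
  by_cases h : I • (⊤ : Submodule R M) = ⊤
  · rw [idealDepth_of_eq_top I M h, idealDepth_of_eq_top I N (smul_top_eq_top_of_equiv I e h)]
  · have h' : I • (⊤ : Submodule R N) ≠ ⊤ := fun hN => h (smul_top_eq_top_of_equiv I e.symm hN)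
    apply ENat.eq_of_forall_natCast_le_iff
    intro n
    rw [le_idealDepth_iff I M h, le_idealDepth_iff I N h']
    constructor
    · rintro ⟨rs, h1, h2, h3⟩
      exact ⟨rs, h1, (e.isWeaklyRegular_congr rs).mp h2, h3⟩
    · rintro ⟨rs, h1, h2, h3⟩
      exact ⟨rs, h1, (e.isWeaklyRegular_congr rs).mpr h2, h3⟩

end Congr

variable {R : Type u} [CommRing R] [IsLocalRing R] [IsNoetherianRing R]

theorem depth_congr {M : Type v} {N : Type*} [AddCommGroup M]
    [Module R M] [AddCommGroup N] [Module R N] (e : M ≃ₗ[R] N) :
    LocCoh.depth R M = LocCoh.depth R N := idealDepth_congr _ e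

/-- `dim R/p ≤ dim Supp M` for `p ∈ Supp M` (here: `ann M ≤ p`). -/
theorem ringKrullDim_quotient_le_supportDim (M : Type v) [AddCommGroup M] [Module R M]
    [Module.Finite R M] (p : Ideal R) (hp : Module.annihilator R M ≤ p) :
    ringKrullDim (R ⧸ p) ≤ Module.supportDim R M := by
  rw [ringKrullDim_quotient, Module.supportDim]
  have hsub : PrimeSpectrum.zeroLocus (p : Set R) ⊆ Module.support R M := by
    rw [Module.support_eq_zeroLocus]
    exact PrimeSpectrum.zeroLocus_anti_mono_ideal hp
  exact Order.krullDim_le_of_strictMono (Set.inclusion hsub) (fun a b hab => hab)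

theorem annihilator_le_of_mem_associatedPrimes (M : Type v) [AddCommGroup M] [Module R M]
    (p : Ideal R) (hp : p ∈ associatedPrimes R M) : Module.annihilator R M ≤ p := by
  obtain ⟨-, z, hz⟩ := isAssociatedPrime_iff.mp hp
  intro a ha
  rw [hz, Submodule.mem_colon_singleton, Module.mem_annihilator.mp ha z]
  exact Submodule.zero_mem _

/-- For a Cohen–Macaulay module all associated primes have the same coheight `dim M`. -/
theorem ringKrullDim_quotient_eq_of_mem_associatedPrimes (M : Type v) [AddCommGroup M]
    [Module R M] [Module.Finite R M] (hM : LocCoh.IsCohenMacaulayModule R M) (p : Ideal R)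
    (hp : p ∈ associatedPrimes R M) : ringKrullDim (R ⧸ p) = Module.supportDim R M := by
  apply le_antisymm
  · exact ringKrullDim_quotient_le_supportDim M p (annihilator_le_of_mem_associatedPrimes M p hp)
  · rw [hM]
    exact depth_le_ringKrullDim_quotient_of_mem_associatedPrimes M p hp

theorem nontrivial_of_isCohenMacaulayModule (M : Type v) [AddCommGroup M]
    [Module R M] (hM : LocCoh.IsCohenMacaulayModule R M) : Nontrivial M := by
  by_contra hns
  rw [not_nontrivial_iff_subsingleton] at hns
  have h1 : Module.supportDim R M = ⊥ := Module.supportDim_eq_bot_of_subsingleton R M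
  rw [hM] at h1
  exact absurd h1 (by simp)

/-- If `dim M/gM = dim M - 1` for a Cohen–Macaulay module `M`, then `g` is `M`-regular. -/
theorem isSMulRegular_of_supportDim_drop (M : Type v) [AddCommGroup M]
    [Module R M] [Module.Finite R M] (hM : LocCoh.IsCohenMacaulayModule R M) (g : R)
    (hdim : Module.supportDim R (M ⧸ Ideal.span {g} • (⊤ : Submodule R M)) + 1 =
      Module.supportDim R M) : IsSMulRegular M g := by
  haveI := nontrivial_of_isCohenMacaulayModule M hM
  by_contra hreg
  have hmem : g ∈ ⋃ p ∈ associatedPrimes R M, (p : Set R) := by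
    rw [biUnion_associatedPrimes_eq_compl_regular R M]
    exact hreg
  simp only [Set.mem_iUnion] at hmem
  obtain ⟨p, hp, hgp⟩ := hmem
  have h1 := ringKrullDim_quotient_eq_of_mem_associatedPrimes M hM p hp
  have h2 : ringKrullDim (R ⧸ p) ≤
      Module.supportDim R (M ⧸ Ideal.span {g} • (⊤ : Submodule R M)) := by
    rw [ringKrullDim_quotient, Module.supportDim]
    have hsub : PrimeSpectrum.zeroLocus (p : Set R) ⊆
        Module.support R (M ⧸ Ideal.span {g} • (⊤ : Submodule R M)) := by
      rw [Module.support_quotient, Module.support_eq_zeroLocus]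
      intro q hq
      refine ⟨PrimeSpectrum.zeroLocus_anti_mono_ideal
        (annihilator_le_of_mem_associatedPrimes M p hp) hq, ?_⟩
      rw [PrimeSpectrum.mem_zeroLocus] at hq ⊢
      intro a ha
      have : Ideal.span {g} ≤ p := (Ideal.span_singleton_le_iff_mem _).mpr hgp
      exact hq (this ha)
    exact Order.krullDim_le_of_strictMono (Set.inclusion hsub) (fun a b hab => hab)
  obtain ⟨s, hs⟩ := exists_nat_supportDim (R := R) M
  rw [h1, hs] at h2
  rw [hs] at hdim
  induction hq : Module.supportDim R (M ⧸ Ideal.span {g} • (⊤ : Submodule R M))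
    using WithBot.recBotCoe with
  | bot => rw [hq] at hdim; simp at hdim
  | coe x =>
    rw [hq] at hdim h2
    induction x using ENat.recTopCoe with
    | top =>
      have : ((⊤ : ℕ∞) : WithBot ℕ∞) + 1 = ((⊤ : ℕ∞) : WithBot ℕ∞) := rfl
      rw [this] at hdim
      have : (⊤ : ℕ∞) = (s : ℕ∞) := WithBot.coe_injective hdim
      exact absurd this (by simp)
    | coe m =>
      have e1 : m + 1 = s := by exact_mod_cast hdim
      have e2 : s ≤ m := by exact_mod_cast h2
      omega

end Groth.Agent.Lead.Depth
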