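import Mathlib
import Groth.Agent.Lib.Lead.Depth13

/-!
# Cohen–Macaulay modules modulo a parameter; grade formula
-/

set_option autoImplicit false
set_option linter.style.haveILetI false
universe u v
open CategoryTheory Abelian RingTheory.Sequence LocCoh Pointwise IsLocalRing

namespace Groth.Agent.Lead.Depth

variable {R : Type u} [CommRing R] [IsLocalRing R] [IsNoetherianRing R]

/-- `M ⧸ (g) • ⊤ ≃ QuotSMulTop g M`. -/
noncomputable def quotSpanSingletonEquiv (M : Type v) [AddCommGroup M] [Module R M] (g : R) :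
    (M ⧸ Ideal.span {g} • (⊤ : Submodule R M)) ≃ₗ[R] QuotSMulTop g M :=
  Submodule.quotEquivOfEq _ _ (Submodule.ideal_span_singleton_smul g ⊤)

/-- Depth drops by one modulo a regular element of the maximal ideal (span form). -/
theorem depth_quotient_span_singleton_add_one (M : Type u) [AddCommGroup M] [Module R M]
    [Module.Finite R M] [Nontrivial M] (g : R) (hg : g ∈ maximalIdeal R)
    (hreg : IsSMulRegular M g) :
    LocCoh.depth R (M ⧸ Ideal.span {g} • (⊤ : Submodule R M)) + 1 = LocCoh.depth R M := by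
  rw [depth_congr (quotSpanSingletonEquiv M g)]
  exact idealDepth_quotSMulTop_add_one (maximalIdeal R) M (maximalIdeal_smul_top_ne_top M) g hg
    hreg

theorem cohenMacaulay_quotient_of_supportDim_drop (M : Type u) [AddCommGroup M] [Module R M]
    [Module.Finite R M] (hM : LocCoh.IsCohenMacaulayModule R M) (g : R)
    (hg : g ∈ maximalIdeal R)
    (hdim : Module.supportDim R (M ⧸ Ideal.span {g} • (⊤ : Submodule R M)) + 1 =
      Module.supportDim R M) :
    IsSMulRegular M g ∧
      LocCoh.IsCohenMacaulayModule R (M ⧸ Ideal.span {g} • (⊤ : Submodule R M)) ∧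
      LocCoh.depth R (M ⧸ Ideal.span {g} • (⊤ : Submodule R M)) + 1 = LocCoh.depth R M := by
  haveI := nontrivial_of_isCohenMacaulayModule M hM
  have hreg := isSMulRegular_of_supportDim_drop M hM g hdim
  have hdepth := depth_quotient_span_singleton_add_one M g hg hreg
  refine ⟨hreg, ?_, hdepth⟩
  unfold LocCoh.IsCohenMacaulayModule at hM ⊢
  rw [hM, ← hdepth] at hdim
  -- cancel `+ 1`
  haveI : Nontrivial (M ⧸ Ideal.span {g} • (⊤ : Submodule R M)) :=
    (quotSpanSingletonEquiv M g).symm.nontrivial_congr.mp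
      (nontrivial_quotSMulTop_of_mem_maximalIdeal M hg) |> fun h => h
  obtain ⟨s, hs⟩ := exists_nat_supportDim (R := R) (M ⧸ Ideal.span {g} • (⊤ : Submodule R M))
  obtain ⟨t, ht⟩ := ENat.ne_top_iff_exists.mp
    (depth_ne_top (R := R) (M ⧸ Ideal.span {g} • (⊤ : Submodule R M)))
  rw [hs, ← ht] at hdim ⊢
  have : s + 1 = t + 1 := by exact_mod_cast hdim
  have hst : s = t := by omega
  rw [hst]
  rfl

end Groth.Agent.Lead.Depth
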