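import Mathlib
import Groth.Agent.Lib.Lead.Depth14

/-!
# The grade formula for Cohen–Macaulay modules: `dim M = dim M/IM + depth_I M`
-/

set_option autoImplicit false
set_option linter.style.haveILetI false
universe u v
open CategoryTheory Abelian RingTheory.Sequence LocCoh Pointwise IsLocalRing

namespace Groth.Agent.Lead.Depth

variable {R : Type u} [CommRing R] [IsLocalRing R] [IsNoetherianRing R]

/-- If no element of `I` is `M`-regular, `I` is contained in an associated prime of `M`. -/
theorem exists_le_associatedPrime_of_forall_not_regular (M : Type v) [AddCommGroup M]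
    [Module R M] [Module.Finite R M] (I : Ideal R)
    (h : ∀ x ∈ I, ¬ IsSMulRegular M x) : ∃ p ∈ associatedPrimes R M, I ≤ p := by
  refine (I.subset_union_prime_finite (associatedPrimes.finite R M) (f := id) 0 0
    fun _ h _ _ => h.isPrime).1 ?_
  simp_rw [id, biUnion_associatedPrimes_eq_compl_regular R M]
  exact fun x hx => h x hx

/-- `depth_I M ≤ depth M` for `I ≤ 𝔪`. -/
theorem idealDepth_le_depth (M : Type v) [AddCommGroup M] [Module R M] [Module.Finite R M]
    [Nontrivial M] (I : Ideal R) (hI : I ≠ ⊤) : idealDepth I M ≤ LocCoh.depth R M := by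
  have hIm : I ≤ maximalIdeal R := IsLocalRing.le_maximalIdeal hI
  have htop : I • (⊤ : Submodule R M) ≠ ⊤ := by
    intro h
    apply maximalIdeal_smul_top_ne_top (R := R) M
    have h2 : (⊤ : Submodule R M) ≤ maximalIdeal R • (⊤ : Submodule R M) :=
      h.symm.le.trans (Submodule.smul_mono_left hIm)
    exact top_le_iff.mp h2
  rw [← ENat.forall_natCast_le_iff_le]
  intro n hn
  obtain ⟨rs, h1, h2, h3⟩ := exists_of_le_idealDepth I M htop n hn
  have := le_idealDepth_of_isWeaklyRegular (maximalIdeal R) M rs h2 (fun r hr => hIm (h3 r hr))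
  rwa [h1] at this

theorem smul_top_ne_top_of_ne_top (M : Type v) [AddCommGroup M] [Module R M] [Module.Finite R M]
    [Nontrivial M] (I : Ideal R) (hI : I ≠ ⊤) : I • (⊤ : Submodule R M) ≠ ⊤ := by
  have hIm : I ≤ maximalIdeal R := IsLocalRing.le_maximalIdeal hI
  intro h
  apply maximalIdeal_smul_top_ne_top (R := R) M
  have h2 : (⊤ : Submodule R M) ≤ maximalIdeal R • (⊤ : Submodule R M) :=
    h.symm.le.trans (Submodule.smul_mono_left hIm)
  exact top_le_iff.mp h2

theorem supportDim_eq_add_idealDepth_aux (I : Ideal R) (hI : I ≠ ⊤) : ∀ (n : ℕ) (M : Type u)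
    [AddCommGroup M] [Module R M] [Module.Finite R M], LocCoh.IsCohenMacaulayModule R M →
    idealDepth I M = n →
    Module.supportDim R M =
      Module.supportDim R (M ⧸ (I • (⊤ : Submodule R M))) + ((n : ℕ∞) : WithBot ℕ∞) := by
  intro n
  induction n with
  | zero =>
    intro M _ _ _ hM hn
    haveI := nontrivial_of_isCohenMacaulayModule M hM
    have htop := smul_top_ne_top_of_ne_top M I hI
    have hnot : ∀ x ∈ I, ¬ IsSMulRegular M x := by
      intro x hx hreg
      have := le_idealDepth_of_isWeaklyRegular I M [x]
        ((isWeaklyRegular_cons_iff M x []).mpr ⟨hreg, IsWeaklyRegular.nil R _⟩)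
        (by simpa using hx)
      rw [hn] at this
      simp at this
    obtain ⟨p, hp, hIp⟩ := exists_le_associatedPrime_of_forall_not_regular M I hnot
    have h1 := ringKrullDim_quotient_eq_of_mem_associatedPrimes M hM p hp
    have h2 : ringKrullDim (R ⧸ p) ≤
        Module.supportDim R (M ⧸ I • (⊤ : Submodule R M)) := by
      rw [ringKrullDim_quotient, Module.supportDim]
      have hsub : PrimeSpectrum.zeroLocus (p : Set R) ⊆
          Module.support R (M ⧸ I • (⊤ : Submodule R M)) := by
        rw [Module.support_quotient, Module.support_eq_zeroLocus]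
        intro q hq
        refine ⟨PrimeSpectrum.zeroLocus_anti_mono_ideal
          (annihilator_le_of_mem_associatedPrimes M p hp) hq, ?_⟩
        rw [PrimeSpectrum.mem_zeroLocus] at hq ⊢
        exact fun a ha => hq (hIp ha)
      exact Order.krullDim_le_of_strictMono (Set.inclusion hsub) (fun a b hab => hab)
    have h3 : Module.supportDim R (M ⧸ I • (⊤ : Submodule R M)) ≤ Module.supportDim R M :=
      Module.supportDim_le_of_surjective _ (Submodule.mkQ_surjective _)
    rw [Nat.cast_zero, WithBot.coe_zero, add_zero]
    exact le_antisymm (h1 ▸ h2) h3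
  | succ n ih =>
    intro M _ _ _ hM hn
    haveI := nontrivial_of_isCohenMacaulayModule M hM
    have htop := smul_top_ne_top_of_ne_top M I hI
    have hIm : I ≤ maximalIdeal R := IsLocalRing.le_maximalIdeal hI
    obtain ⟨rs, h1, h2, h3⟩ := exists_of_le_idealDepth I M htop 1
      (by rw [hn]; exact_mod_cast Nat.succ_le_succ (Nat.zero_le n))
    obtain ⟨x, rfl⟩ : ∃ x, rs = [x] := List.length_eq_one_iff.mp h1
    have hxI : x ∈ I := h3 x (by simp)
    have hxm : x ∈ maximalIdeal R := hIm hxI
    have hreg : IsSMulRegular M x := ((isWeaklyRegular_cons_iff M x []).mp h2).1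
    -- `M' = M / xM` is Cohen–Macaulay
    have hdim' := Module.supportDim_quotSMulTop_succ_eq_supportDim hreg hxm
    have hdepth' := idealDepth_quotSMulTop_add_one (maximalIdeal R) M
      (maximalIdeal_smul_top_ne_top M) x hxm hreg
    haveI : Nontrivial (QuotSMulTop x M) := nontrivial_quotSMulTop_of_mem_maximalIdeal M hxm
    obtain ⟨s, hs⟩ := exists_nat_supportDim (R := R) (QuotSMulTop x M)
    obtain ⟨t, ht⟩ := ENat.ne_top_iff_exists.mp (depth_ne_top (R := R) (QuotSMulTop x M))
    have hCM' : LocCoh.IsCohenMacaulayModule R (QuotSMulTop x M) := by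
      unfold LocCoh.IsCohenMacaulayModule
      have hM' : Module.supportDim R M = ((LocCoh.depth R M : ℕ∞) : WithBot ℕ∞) := hM
      have hd2 : LocCoh.depth R (QuotSMulTop x M) + 1 = LocCoh.depth R M := hdepth'
      rw [← hdim', ← hd2, hs, ← ht] at hM'
      rw [hs, ← ht]
      have h5 : s + 1 = t + 1 := by exact_mod_cast hM'
      have hst : s = t := by omega
      rw [hst]
      rfl
    have hdepthI := idealDepth_quotSMulTop_add_one I M htop x hxI hreg
    rw [hn] at hdepthI
    have hnI : idealDepth I (QuotSMulTop x M) = n := by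
      obtain ⟨t', ht'⟩ := ENat.ne_top_iff_exists.mp
        (ne_top_of_le_ne_top (depth_ne_top (R := R) (QuotSMulTop x M))
          (idealDepth_le_depth (QuotSMulTop x M) I hI))
      rw [← ht'] at hdepthI ⊢
      have : t' + 1 = n + 1 := by exact_mod_cast hdepthI
      have : t' = n := by omega
      rw [this]
    have hIH := ih (QuotSMulTop x M) hCM' hnI
    -- supports of the two quotients agree
    have hsupp : Module.supportDim R (QuotSMulTop x M ⧸ I • (⊤ : Submodule R (QuotSMulTop x M))) =
        Module.supportDim R (M ⧸ I • (⊤ : Submodule R M)) := by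
      unfold Module.supportDim
      have : Module.support R (QuotSMulTop x M ⧸ I • (⊤ : Submodule R (QuotSMulTop x M))) =
          Module.support R (M ⧸ I • (⊤ : Submodule R M)) := by
        rw [Module.support_quotient, Module.support_quotient, Module.support_quotSMulTop,
          Set.inter_assoc]
        congr 1
        apply Set.inter_eq_right.mpr
        intro q hq
        rw [PrimeSpectrum.mem_zeroLocus] at hq ⊢
        intro a ha
        rw [Set.mem_singleton_iff.mp ha]
        exact hq hxI
      rw [this]
    rw [← hdim', hIH, hsupp, add_assoc]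
    congr 1

/-- Grade formula for Cohen–Macaulay modules. -/
theorem supportDim_eq_add_idealDepth_of_CM (I : Ideal R) (hI : I ≠ ⊤) (M : Type u)
    [AddCommGroup M] [Module R M] [Module.Finite R M]
    (hM : LocCoh.IsCohenMacaulayModule R M) :
    Module.supportDim R M =
      Module.supportDim R (M ⧸ (I • (⊤ : Submodule R M))) +
        ((idealDepth I M : ℕ∞) : WithBot ℕ∞) := by
  haveI := nontrivial_of_isCohenMacaulayModule M hM
  obtain ⟨n, hn⟩ := ENat.ne_top_iff_exists.mp
    (ne_top_of_le_ne_top (depth_ne_top (R := R) M) (idealDepth_le_depth M I hI))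
  rw [← hn]
  exact supportDim_eq_add_idealDepth_aux I hI n M hM hn.symm

end Groth.Agent.Lead.Depth
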