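import Mathlib
import Groth.Agent.Lib.Lead.Depth15

/-!
# Depth and localization: `depth_I M = inf_{p ⊇ I} depth M_p`
-/

set_option autoImplicit false
set_option linter.style.haveILetI false
universe u v
open CategoryTheory Abelian RingTheory.Sequence LocCoh Pointwise IsLocalRing

namespace Groth.Agent.Lead.Depth

section General

variable {R : Type u} [CommRing R]

/-- If no element of `I` is `M`-regular, `I` is contained in an associated prime of `M`
(non-local version). -/
theorem exists_le_associatedPrime_of_forall_not_regular' [IsNoetherianRing R] (M : Type v)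
    [AddCommGroup M] [Module R M] [Module.Finite R M] (I : Ideal R)
    (h : ∀ x ∈ I, ¬ IsSMulRegular M x) : ∃ p ∈ associatedPrimes R M, I ≤ p := by
  refine (I.subset_union_prime_finite (associatedPrimes.finite R M) (f := id) 0 0
    fun _ h _ _ => h.isPrime).1 ?_
  simp_rw [id, biUnion_associatedPrimes_eq_compl_regular R M]
  exact fun x hx => h x hx

/-- `depth_I M ≤ depth M_p` for every prime `p ⊇ I`. -/
theorem idealDepth_le_depth_localizedModule (I : Ideal R) (p : Ideal R) [p.IsPrime] (hIp : I ≤ p)
    (M : Type v) [AddCommGroup M] [Module R M] :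
    idealDepth I M ≤ LocCoh.depth (Localization.AtPrime p) (LocalizedModule p.primeCompl M) := by
  have hmem : ∀ (rs : List R), (∀ r ∈ rs, r ∈ I) →
      ∀ r ∈ rs.map (algebraMap R (Localization.AtPrime p)),
        r ∈ maximalIdeal (Localization.AtPrime p) := by
    intro rs hrs r hr
    obtain ⟨r', hr', rfl⟩ := List.mem_map.mp hr
    exact (IsLocalization.AtPrime.to_map_mem_maximal_iff _ p r').mpr (hIp (hrs r' hr'))
  by_cases htop : I • (⊤ : Submodule R M) = ⊤
  · -- then `M_p = m M_p`
    have : maximalIdeal (Localization.AtPrime p) •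
        (⊤ : Submodule (Localization.AtPrime p) (LocalizedModule p.primeCompl M)) = ⊤ := by
      rw [eq_top_iff]
      intro z _
      induction z using LocalizedModule.induction_on with
      | h m s =>
        have hm : m ∈ I • (⊤ : Submodule R M) := by rw [htop]; trivial
        refine Submodule.smul_induction_on hm ?_ ?_
        · intro r hr n _
          have : LocalizedModule.mk (r • n) s =
              (algebraMap R (Localization.AtPrime p) r) • LocalizedModule.mk n s := by
            rw [algebraMap_smul, LocalizedModule.smul'_mk]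
          rw [this]
          exact Submodule.smul_mem_smul
            ((IsLocalization.AtPrime.to_map_mem_maximal_iff _ p r).mpr (hIp hr)) trivial
        · intro x y hx hy
          have : LocalizedModule.mk (x + y) s = LocalizedModule.mk x s + LocalizedModule.mk y s := by
            rw [IsLocalizedModule.mk_eq_mk', IsLocalizedModule.mk_eq_mk', IsLocalizedModule.mk_eq_mk',
              IsLocalizedModule.mk'_add]
          rw [this]
          exact Submodule.add_mem _ hx hy
    rw [depth_def, idealDepth_of_eq_top _ _ this]
    exact le_top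
  · rw [idealDepth_of_ne_top I M htop]
    refine iSup₂_le ?_
    rintro rs ⟨hreg, hrs⟩
    have h1 := IsWeaklyRegular.of_isLocalizedModule (Localization.AtPrime p) p.primeCompl
      (LocalizedModule.mkLinearMap p.primeCompl M) hreg
    have h2 := le_idealDepth_of_isWeaklyRegular (maximalIdeal (Localization.AtPrime p))
      (LocalizedModule p.primeCompl M) _ h1 (hmem rs hrs)
    rw [List.length_map] at h2
    exact h2

/-- `(M/xM)_p ≅ M_p / x M_p`. -/
noncomputable def localizedQuotSMulTopEquiv (p : Ideal R) [p.IsPrime] (x : R) (M : Type v)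
    [AddCommGroup M] [Module R M] :
    LocalizedModule p.primeCompl (QuotSMulTop x M) ≃ₗ[Localization.AtPrime p]
      QuotSMulTop (algebraMap R (Localization.AtPrime p) x) (LocalizedModule p.primeCompl M) :=
  (IsLocalizedModule.isBaseChange p.primeCompl (Localization.AtPrime p)
      (LocalizedModule.mkLinearMap p.primeCompl (QuotSMulTop x M))).equiv.symm ≪≫ₗ
    (QuotSMulTop.algebraMapTensorEquivTensorQuotSMulTop x M (Localization.AtPrime p)).symm ≪≫ₗ
    QuotSMulTop.congr _ (IsLocalizedModule.isBaseChange p.primeCompl (Localization.AtPrime p)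
      (LocalizedModule.mkLinearMap p.primeCompl M)).equiv

theorem isSMulRegular_localizedModule (p : Ideal R) [p.IsPrime] (x : R) (M : Type v)
    [AddCommGroup M] [Module R M] (hx : IsSMulRegular M x) :
    IsSMulRegular (LocalizedModule p.primeCompl M) (algebraMap R (Localization.AtPrime p) x) := by
  have h0 : IsWeaklyRegular M [x] :=
    (isWeaklyRegular_cons_iff M x []).mpr ⟨hx, IsWeaklyRegular.nil _ _⟩
  have h1 := IsWeaklyRegular.of_isLocalizedModule (Localization.AtPrime p) p.primeCompl
    (LocalizedModule.mkLinearMap p.primeCompl M) h0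
  rw [List.map_cons, List.map_nil] at h1
  exact ((isWeaklyRegular_cons_iff _ _ []).mp h1).1

theorem ringKrullDim_quotient_maximalIdeal (A : Type*) [CommRing A] [IsLocalRing A] :
    ringKrullDim (A ⧸ maximalIdeal A) = 0 :=
  ringKrullDim_eq_zero_of_isField
    ((Ideal.Quotient.maximal_ideal_iff_isField_quotient _).mp inferInstance)

/-- If `I • M ≠ M` there is a prime `p ⊇ I` with `depth M_p ≤ depth_I M`. -/
theorem exists_prime_depth_localizedModule_le_aux [IsNoetherianRing R] (I : Ideal R) :
    ∀ (n : ℕ) (M : Type u) [AddCommGroup M] [Module R M] [Module.Finite R M],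
      I • (⊤ : Submodule R M) ≠ ⊤ → idealDepth I M = n →
      ∃ p : PrimeSpectrum R, I ≤ p.asIdeal ∧
        LocCoh.depth (Localization.AtPrime p.asIdeal) (LocalizedModule p.asIdeal.primeCompl M)
          ≤ n := by
  intro n
  induction n with
  | zero =>
    intro M _ _ _ hIM hd
    have hnr : ∀ x ∈ I, ¬ IsSMulRegular M x := by
      intro x hx hreg
      have h0 : IsWeaklyRegular M [x] :=
        (isWeaklyRegular_cons_iff M x []).mpr ⟨hreg, IsWeaklyRegular.nil _ _⟩
      have := le_idealDepth_of_isWeaklyRegular I M [x] h0 (by simpa using hx)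
      rw [hd] at this
      simp at this
    obtain ⟨p, hp, hIp⟩ := exists_le_associatedPrime_of_forall_not_regular' M I hnr
    haveI : p.IsPrime := hp.isPrime
    refine ⟨⟨p, hp.isPrime⟩, hIp, ?_⟩
    have hass := Module.associatedPrimes.mem_associatedPrimes_atPrime_of_mem_associatedPrimes hp
    have h1 := depth_le_ringKrullDim_quotient_of_mem_associatedPrimes
      (R := Localization.AtPrime p) (LocalizedModule p.primeCompl M) _ hass
    rw [ringKrullDim_quotient_maximalIdeal] at h1
    have h2 : ((LocCoh.depth (Localization.AtPrime p) (LocalizedModule p.primeCompl M) : ℕ∞) :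
        WithBot ℕ∞) ≤ ((0 : ℕ∞) : WithBot ℕ∞) := h1
    exact_mod_cast h2
  | succ n ih =>
    intro M _ _ _ hIM hd
    have h1 : ((1 : ℕ) : ℕ∞) ≤ idealDepth I M := by
      rw [hd]; exact_mod_cast Nat.le_add_left 1 n
    obtain ⟨rs, hlen, hreg, hmem⟩ := exists_of_le_idealDepth I M hIM 1 h1
    obtain ⟨x, rfl⟩ := List.length_eq_one_iff.mp hlen
    have hxI : x ∈ I := hmem x (by simp)
    have hxreg : IsSMulRegular M x := ((isWeaklyRegular_cons_iff M x []).mp hreg).1
    have hq := idealDepth_quotSMulTop_add_one I M hIM x hxI hxreg
    have hIQ := smul_top_quotSMulTop_ne_top hxI hIM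
    have hdq : idealDepth I (QuotSMulTop x M) = n := by
      rw [hd] at hq
      have : idealDepth I (QuotSMulTop x M) + 1 = (n : ℕ∞) + 1 := by
        rw [hq]; push_cast; rfl
      exact (ENat.add_left_injective_of_ne_top (by simp)) this
    obtain ⟨p, hIp, hp⟩ := ih (QuotSMulTop x M) hIQ hdq
    refine ⟨p, hIp, ?_⟩
    set x' := algebraMap R (Localization.AtPrime p.asIdeal) x with hx'
    have hx'reg : IsSMulRegular (LocalizedModule p.asIdeal.primeCompl M) x' :=
      isSMulRegular_localizedModule p.asIdeal x M hxreg
    have hx'mem : x' ∈ maximalIdeal (Localization.AtPrime p.asIdeal) :=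
      (IsLocalization.AtPrime.to_map_mem_maximal_iff _ p.asIdeal x).mpr (hIp hxI)
    have e := localizedQuotSMulTopEquiv p.asIdeal x M
    have hcong := depth_congr (R := Localization.AtPrime p.asIdeal) e
    rw [hcong] at hp
    haveI : Nontrivial (QuotSMulTop x' (LocalizedModule p.asIdeal.primeCompl M)) := by
      by_contra hns
      rw [not_nontrivial_iff_subsingleton] at hns
      have := depth_eq_top_of_subsingleton (R := Localization.AtPrime p.asIdeal)
        (QuotSMulTop x' (LocalizedModule p.asIdeal.primeCompl M))
      rw [this] at hp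
      simp at hp
    haveI : Nontrivial (LocalizedModule p.asIdeal.primeCompl M) :=
      (Submodule.mkQ_surjective (x' • (⊤ : Submodule (Localization.AtPrime p.asIdeal)
        (LocalizedModule p.asIdeal.primeCompl M)))).nontrivial
    have hq' := idealDepth_quotSMulTop_add_one (maximalIdeal (Localization.AtPrime p.asIdeal))
      (LocalizedModule p.asIdeal.primeCompl M) (maximalIdeal_smul_top_ne_top _) x' hx'mem hx'reg
    rw [depth_def, ← hq']
    rw [depth_def] at hp
    push_cast
    exact add_le_add_left hp 1

/-- For a finite module over a Noetherian ring with `I M ≠ M`, the `I`-depth is finite. -/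
theorem idealDepth_ne_top [IsNoetherianRing R] (I : Ideal R) (M : Type v) [AddCommGroup M]
    [Module R M] [Module.Finite R M] (hIM : I • (⊤ : Submodule R M) ≠ ⊤) :
    idealDepth I M ≠ ⊤ := by
  haveI : Nontrivial (M ⧸ I • (⊤ : Submodule R M)) :=
    Submodule.Quotient.nontrivial_iff.mpr hIM
  obtain ⟨p, hp⟩ := (Module.nonempty_support_iff (R := R)
    (M := M ⧸ I • (⊤ : Submodule R M))).mpr inferInstance
  rw [Module.support_quotient, Set.mem_inter_iff, PrimeSpectrum.mem_zeroLocus] at hp
  obtain ⟨hpM, hIp⟩ := hp
  haveI : Nontrivial (LocalizedModule p.asIdeal.primeCompl M) := Module.mem_support_iff.mp hpM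
  have h1 := idealDepth_le_depth_localizedModule I p.asIdeal hIp M
  intro htop
  rw [htop, top_le_iff] at h1
  exact depth_ne_top (R := Localization.AtPrime p.asIdeal) _ h1

theorem exists_prime_depth_localizedModule_le [IsNoetherianRing R] (I : Ideal R) (M : Type u)
    [AddCommGroup M] [Module R M] [Module.Finite R M] (hIM : I • (⊤ : Submodule R M) ≠ ⊤) :
    ∃ p : PrimeSpectrum R, I ≤ p.asIdeal ∧
      LocCoh.depth (Localization.AtPrime p.asIdeal) (LocalizedModule p.asIdeal.primeCompl M)
        = idealDepth I M := by
  obtain ⟨n, hn⟩ := ENat.ne_top_iff_exists.mp (idealDepth_ne_top I M hIM)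
  obtain ⟨p, hIp, hp⟩ := exists_prime_depth_localizedModule_le_aux I n M hIM hn.symm
  refine ⟨p, hIp, le_antisymm ?_ (idealDepth_le_depth_localizedModule I p.asIdeal hIp M)⟩
  rw [← hn]; exact hp

/-- `depth_I M = inf_{p ⊇ I} depth M_p`. -/
theorem idealDepth_eq_iInf_depth_localizedModule [IsNoetherianRing R] (I : Ideal R) (M : Type u)
    [AddCommGroup M] [Module R M] [Module.Finite R M] :
    idealDepth I M = ⨅ (p : PrimeSpectrum R) (_ : I ≤ p.asIdeal),
      LocCoh.depth (Localization.AtPrime p.asIdeal) (LocalizedModule p.asIdeal.primeCompl M) := by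
  apply le_antisymm
  · exact le_iInf₂ fun p hp => idealDepth_le_depth_localizedModule I p.asIdeal hp M
  · by_cases hIM : I • (⊤ : Submodule R M) = ⊤
    · rw [idealDepth_of_eq_top I M hIM]; exact le_top
    · obtain ⟨p, hIp, hp⟩ := exists_prime_depth_localizedModule_le I M hIM
      rw [← hp]
      exact iInf₂_le p hIp

/-- The depth of a localization can be computed with any model of the localized module. -/
theorem depth_localizedModule_eq_of_isLocalizedModule [IsNoetherianRing R] (p : Ideal R)
    [p.IsPrime] {M : Type v}
    {N : Type*} [AddCommGroup M] [Module R M] [AddCommGroup N] [Module R N]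
    [Module (Localization.AtPrime p) N] [IsScalarTower R (Localization.AtPrime p) N]
    (f : M →ₗ[R] N) [IsLocalizedModule p.primeCompl f] :
    LocCoh.depth (Localization.AtPrime p) (LocalizedModule p.primeCompl M) =
      LocCoh.depth (Localization.AtPrime p) N :=
  depth_congr ((IsLocalizedModule.linearEquiv p.primeCompl
    (LocalizedModule.mkLinearMap p.primeCompl M) f).extendScalarsOfIsLocalization p.primeCompl
    (Localization.AtPrime p))

theorem depth_localizedModule_self [IsNoetherianRing R] (p : Ideal R) [p.IsPrime] :
    LocCoh.depth (Localization.AtPrime p) (LocalizedModule p.primeCompl R) =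
      LocCoh.depth (Localization.AtPrime p) (Localization.AtPrime p) :=
  depth_localizedModule_eq_of_isLocalizedModule p (Algebra.linearMap R (Localization.AtPrime p))

/-- `depth_I R ≤ depth R_p` for every prime `p ⊇ I`. -/
theorem idealDepth_self_le_depth_localization [IsNoetherianRing R] (I : Ideal R) (p : Ideal R)
    [p.IsPrime] (hIp : I ≤ p) :
    idealDepth I R ≤ LocCoh.depth (Localization.AtPrime p) (Localization.AtPrime p) := by
  rw [← depth_localizedModule_self]
  exact idealDepth_le_depth_localizedModule I p hIp R

/-- `depth_I R ≤ ht I` for a proper ideal of a Noetherian ring. -/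
theorem idealDepth_self_le_height [IsNoetherianRing R] (I : Ideal R) :
    idealDepth I R ≤ I.height := by
  rw [Ideal.height_eq_inf_minimalPrimes]
  refine le_iInf₂ ?_
  intro q hq
  haveI : q.IsPrime := hq.1.1
  have h1 := idealDepth_self_le_depth_localization I q hq.1.2
  have h2 := depth_self_le_ringKrullDim (R := Localization.AtPrime q)
  rw [IsLocalization.AtPrime.ringKrullDim_eq_height q] at h2
  have h3 : LocCoh.depth (Localization.AtPrime q) (Localization.AtPrime q) ≤ q.height := by
    exact_mod_cast h2
  exact h1.trans h3

/-- Cohen–Macaulay rings are exactly those with `depth_I R = ht I` for all proper ideals. -/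
theorem isCohenMacaulayRing_iff_idealDepth_eq_height [IsNoetherianRing R] :
    LocCoh.IsCohenMacaulayRing R ↔
      ∀ a : Ideal R, a ≠ ⊤ → LocCoh.idealDepth a R = a.height := by
  constructor
  · intro hCM a ha
    have haR : a • (⊤ : Submodule R R) ≠ ⊤ := by
      rw [smul_eq_mul, Ideal.mul_top]
      exact ha
    apply le_antisymm (idealDepth_self_le_height a)
    obtain ⟨p, hap, hp⟩ := exists_prime_depth_localizedModule_le a R haR
    rw [← hp, depth_localizedModule_self]
    have hCMp := hCM.isCohenMacaulayLocalRing_localization p.asIdeal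
    have h1 := hCMp.supportDim_eq_depth
    rw [Module.supportDim_self_eq_ringKrullDim,
      IsLocalization.AtPrime.ringKrullDim_eq_height p.asIdeal] at h1
    have h2 : p.asIdeal.height = LocCoh.depth (Localization.AtPrime p.asIdeal)
        (Localization.AtPrime p.asIdeal) := by
      exact_mod_cast h1
    rw [← h2]
    exact Ideal.height_mono hap
  · intro h
    refine { isCohenMacaulayLocalRing_localization := ?_ }
    intro p hp
    refine { supportDim_eq_depth := ?_ }
    rw [Module.supportDim_self_eq_ringKrullDim]
    apply le_antisymm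
    · rw [IsLocalization.AtPrime.ringKrullDim_eq_height p]
      have h1 := idealDepth_self_le_depth_localization p p le_rfl
      rw [h p hp.ne_top] at h1
      exact_mod_cast h1
    · exact depth_self_le_ringKrullDim

end General

end Groth.Agent.Lead.Depth
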