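import Mathlib
import Groth.Agent.Lib.Lead.Depth16

/-!
# Serre's condition `(S_2)` for Noetherian domains
-/

set_option autoImplicit false
set_option linter.style.haveILetI false
universe u v
open CategoryTheory Abelian RingTheory.Sequence LocCoh Pointwise IsLocalRing

namespace Groth.Agent.Lead.Depth

section General

variable {R : Type u} [CommRing R]

/-- `M ⧸ (g) • ⊤ ≃ QuotSMulTop g M` (non-local version). -/
noncomputable def quotSpanSingletonEquiv' (M : Type v) [AddCommGroup M] [Module R M] (g : R) :
    (M ⧸ Ideal.span {g} • (⊤ : Submodule R M)) ≃ₗ[R] QuotSMulTop g M :=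
  Submodule.quotEquivOfEq _ _ (Submodule.ideal_span_singleton_smul g ⊤)

/-- `R ⧸ (g) ≃ QuotSMulTop g R`. -/
noncomputable def quotSpanSelfEquiv (g : R) :
    (R ⧸ Ideal.span {g}) ≃ₗ[R] QuotSMulTop g R :=
  Submodule.quotEquivOfEq _ _ (by
    rw [← Submodule.ideal_span_singleton_smul g ⊤, smul_eq_mul, Ideal.mul_top])

theorem supportDim_localizedModule_self [IsNoetherianRing R] (p : Ideal R) [p.IsPrime] :
    Module.supportDim (Localization.AtPrime p) (LocalizedModule p.primeCompl R) = p.height := by
  rw [Module.supportDim_eq_of_equiv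
    ((IsLocalizedModule.linearEquiv p.primeCompl
      (LocalizedModule.mkLinearMap p.primeCompl R)
      (Algebra.linearMap R (Localization.AtPrime p))).extendScalarsOfIsLocalization p.primeCompl
      (Localization.AtPrime p)),
    Module.supportDim_self_eq_ringKrullDim, IsLocalization.AtPrime.ringKrullDim_eq_height p]

/-- `depth_I (R/(a)) + 1 = depth_I R` for a non-zero-divisor `a ∈ I`, `I` proper. -/
theorem idealDepth_quotient_span_singleton_self_add_one [IsNoetherianRing R] (I : Ideal R)
    (hI : I ≠ ⊤) (a : R) (ha : a ∈ I) (hreg : IsSMulRegular R a) :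
    idealDepth I (R ⧸ Ideal.span {a}) + 1 = idealDepth I R := by
  rw [idealDepth_congr I (quotSpanSelfEquiv a)]
  refine idealDepth_quotSMulTop_add_one I R ?_ a ha hreg
  rw [smul_eq_mul, Ideal.mul_top]
  exact hI

/-- If `p` is an associated prime of `M` then `depth_p M = 0`. -/
theorem idealDepth_eq_zero_of_mem_associatedPrimes [IsNoetherianRing R] (M : Type v)
    [AddCommGroup M] [Module R M] (p : Ideal R) (hp : p ∈ associatedPrimes R M) (hpM : p • (⊤ : Submodule R M) ≠ ⊤) :
    idealDepth p M = 0 := by
  by_contra hne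
  have h1 : ((1 : ℕ) : ℕ∞) ≤ idealDepth p M := by
    rw [Nat.cast_one]
    exact Order.one_le_iff_pos.mpr (pos_iff_ne_zero.mpr hne)
  obtain ⟨rs, hlen, hreg, hmem⟩ := exists_of_le_idealDepth p M hpM 1 h1
  obtain ⟨x, rfl⟩ := List.length_eq_one_iff.mp hlen
  have hxp : x ∈ p := hmem x (by simp)
  have hxreg : IsSMulRegular M x := ((isWeaklyRegular_cons_iff M x []).mp hreg).1
  obtain ⟨-, z, hz⟩ := (isAssociatedPrime_iff (R := R) (M := M)).mp hp
  have hz0 : z ≠ 0 := by
    rintro rfl
    have hpt : p = ⊤ := by
      rw [hz, eq_top_iff]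
      intro r _
      rw [Submodule.mem_colon_singleton, smul_zero]
      exact Submodule.zero_mem _
    exact hp.isPrime.ne_top hpt
  rw [hz, Submodule.mem_colon_singleton, Submodule.mem_bot] at hxp
  exact hz0 (hxreg (by simp only [hxp, smul_zero]))

theorem smul_top_quotient_span_singleton_ne_top (P : Ideal R) (hP : P ≠ ⊤) (a : R) (ha : a ∈ P) :
    P • (⊤ : Submodule R (R ⧸ Ideal.span {a})) ≠ ⊤ := by
  have h1 : P • (⊤ : Submodule R R) ≠ ⊤ := by
    rw [smul_eq_mul, Ideal.mul_top]; exact hP
  have h2 := smul_top_quotSMulTop_ne_top ha h1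
  intro h3
  exact h2 (smul_top_eq_top_of_equiv P (quotSpanSelfEquiv a) h3)

theorem mem_of_mem_associatedPrimes_quotient_span_singleton [IsNoetherianRing R] (a : R)
    (P : Ideal R) (hP : P ∈ associatedPrimes R (R ⧸ Ideal.span {a})) : a ∈ P := by
  obtain ⟨-, z, hz⟩ := (isAssociatedPrime_iff (R := R) (M := R ⧸ Ideal.span {a})).mp hP
  rw [hz, Submodule.mem_colon_singleton, Submodule.mem_bot]
  obtain ⟨r, rfl⟩ := Ideal.Quotient.mk_surjective z
  have : a • (Ideal.Quotient.mk (Ideal.span {a})) r =
      (Ideal.Quotient.mk (Ideal.span {a})) (a * r) := by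
    rw [map_mul]; rfl
  rw [this, Ideal.Quotient.eq_zero_iff_mem]
  exact Ideal.mul_mem_right _ _ (Ideal.mem_span_singleton_self a)

/-- A Noetherian domain is `(S_2)` iff all associated primes of principal ideals have height one. -/
theorem hasSk_two_iff_of_isDomain [IsDomain R] [IsNoetherianRing R] :
    LocCoh.HasSk 2 R R ↔
      ∀ a : R, a ≠ 0 → ∀ P : Ideal R, P ∈ associatedPrimes R (R ⧸ Ideal.span {a}) →
        P.height = 1 := by
  constructor
  · intro hS a ha P hP
    haveI : P.IsPrime := hP.isPrime
    have haP : a ∈ P := mem_of_mem_associatedPrimes_quotient_span_singleton a P hP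
    have hreg : IsSMulRegular R a := (IsRegular.of_ne_zero ha).left.isSMulRegular
    have hPtop : P ≠ ⊤ := hP.isPrime.ne_top
    have hPM := smul_top_quotient_span_singleton_ne_top P hPtop a haP
    have h0 := idealDepth_eq_zero_of_mem_associatedPrimes _ P hP hPM
    have h1 : idealDepth P R = 1 := by
      rw [← idealDepth_quotient_span_singleton_self_add_one P hPtop a haP hreg, h0, zero_add]
    obtain ⟨q, hPq, hq⟩ := exists_prime_depth_localizedModule_le P R (by
      rw [smul_eq_mul, Ideal.mul_top]; exact hPtop)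
    have hSq := hS q.asIdeal
    rw [supportDim_localizedModule_self, hq, h1] at hSq
    have hq1 : q.asIdeal.height ≤ 1 := by
      have h2 : min ((2 : ℕ∞) : WithBot ℕ∞) ((q.asIdeal.height : ℕ∞) : WithBot ℕ∞) ≤
          ((1 : ℕ∞) : WithBot ℕ∞) := hSq
      rw [← WithBot.coe_min, WithBot.coe_le_coe, min_le_iff] at h2
      rcases h2 with h2 | h2
      · exact absurd h2 (by norm_num)
      · exact h2
    have hP1 : P.height ≤ 1 := (Ideal.height_mono hPq).trans hq1
    have hP0 : P.height ≠ 0 := by
      rw [Ne, Ideal.height_eq_zero_iff_eq_bot]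
      intro h
      rw [h] at haP
      exact ha (by simpa using haP)
    exact le_antisymm hP1 (Order.one_le_iff_pos.mpr (pos_iff_ne_zero.mpr hP0))
  · intro h p hp
    rw [supportDim_localizedModule_self, depth_localizedModule_self]
    have hle := idealDepth_self_le_depth_localization p p le_rfl
    suffices hmin : min (2 : ℕ∞) p.height ≤ idealDepth p R by
      have h2 : min ((2 : ℕ∞) : WithBot ℕ∞) ((p.height : ℕ∞) : WithBot ℕ∞) ≤
          ((LocCoh.depth (Localization.AtPrime p) (Localization.AtPrime p) : ℕ∞) :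
            WithBot ℕ∞) := by
        rw [← WithBot.coe_min, WithBot.coe_le_coe]
        exact hmin.trans hle
      exact h2
    by_cases hp0 : p = ⊥
    · subst hp0
      rw [Ideal.height_bot]
      simp
    · obtain ⟨a, hap, ha0⟩ : ∃ a ∈ p, a ≠ 0 := Submodule.exists_mem_ne_zero_of_ne_bot hp0
      have hreg : IsSMulRegular R a := (IsRegular.of_ne_zero ha0).left.isSMulRegular
      have hadd := idealDepth_quotient_span_singleton_self_add_one p hp.ne_top a hap hreg
      rw [← hadd]
      by_cases h0 : idealDepth p (R ⧸ Ideal.span {a}) = 0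
      · have hnr : ∀ x ∈ p, ¬ IsSMulRegular (R ⧸ Ideal.span {a}) x := by
          intro x hx hxreg
          have := le_idealDepth_of_isWeaklyRegular p (R ⧸ Ideal.span {a}) [x]
            ((isWeaklyRegular_cons_iff _ x []).mpr ⟨hxreg, IsWeaklyRegular.nil _ _⟩)
            (by simpa using hx)
          rw [h0] at this
          simp at this
        obtain ⟨P, hP, hpP⟩ := exists_le_associatedPrime_of_forall_not_regular' _ p hnr
        have hP1 := h a ha0 P hP
        have hp1 : p.height ≤ 1 := (Ideal.height_mono hpP).trans hP1.le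
        rw [h0, zero_add]
        exact (min_le_right _ _).trans hp1
      · have h1 : 1 ≤ idealDepth p (R ⧸ Ideal.span {a}) :=
          Order.one_le_iff_pos.mpr (pos_iff_ne_zero.mpr h0)
        calc min (2 : ℕ∞) p.height ≤ 2 := min_le_left _ _
          _ = 1 + 1 := by norm_num
          _ ≤ _ := add_le_add_left h1 1

end General

end Groth.Agent.Lead.Depth
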