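import Mathlib
import Groth.Agent.Lib.Lead.Depth17

/-!
# Depth along flat local homomorphisms with zero-dimensional closed fibre
-/

set_option autoImplicit false
set_option linter.style.haveILetI false
universe u v
open CategoryTheory Abelian RingTheory.Sequence LocCoh Pointwise IsLocalRing TensorProduct

namespace Groth.Agent.Lead.Depth

section FlatLocal

variable {A B : Type u} [CommRing A] [CommRing B] [IsLocalRing A] [IsLocalRing B]
  [IsNoetherianRing A] [IsNoetherianRing B] [Algebra A B] [IsLocalHom (algebraMap A B)]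
  [Module.Flat A B]

theorem baseChange_injective_of_flat {M N : Type u} [AddCommGroup M] [Module A M]
    [AddCommGroup N] [Module A N] (f : M →ₗ[A] N) (hf : Function.Injective f) :
    Function.Injective (f.baseChange B) := by
  have h := Module.Flat.lTensor_preserves_injective_linearMap (M := B) f hf
  intro a b hab
  apply h
  have h1 : ∀ z, (f.baseChange B) z = (f.lTensor B) z := fun z => by
    rw [← LinearMap.baseChange_eq_ltensor]
  rw [← h1, ← h1]
  exact hab

theorem algebraMap_mem_maximalIdeal {x : A} (hx : x ∈ maximalIdeal A) :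
    algebraMap A B x ∈ maximalIdeal B := by
  rw [← IsLocalRing.maximalIdeal_comap (algebraMap A B)] at hx
  exact hx

/-- Base case: `depth M = 0` implies `depth (B ⊗ M) = 0` when the closed fibre is
zero-dimensional. -/
theorem depth_baseChange_eq_zero
    (hmin : maximalIdeal B ∈ (Ideal.map (algebraMap A B) (maximalIdeal A)).minimalPrimes)
    (M : Type u) [AddCommGroup M] [Module A M] [Module.Finite A M] [Nontrivial M]
    (h0 : LocCoh.depth A M = 0) : LocCoh.depth B (B ⊗[A] M) = 0 := by
  haveI : Module.FaithfullyFlat A B := Module.FaithfullyFlat.of_flat_of_isLocalHom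
  have hnr : ∀ x ∈ maximalIdeal A, ¬ IsSMulRegular M x := by
    intro x hx hreg
    have := le_idealDepth_of_isWeaklyRegular (maximalIdeal A) M [x]
      ((isWeaklyRegular_cons_iff M x []).mpr ⟨hreg, IsWeaklyRegular.nil _ _⟩) (by simpa using hx)
    rw [← depth_def, h0] at this
    simp at this
  obtain ⟨p, hp, hmp⟩ := exists_le_associatedPrime_of_forall_not_regular' M (maximalIdeal A) hnr
  have hpm : maximalIdeal A = p :=
    (maximalIdeal.isMaximal A).eq_of_le hp.isPrime.ne_top hmp
  subst hpm
  obtain ⟨-, f, hf⟩ := (isAssociatedPrime_iff_exists_injective_linearMap _ _).mp hp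
  have hg : Function.Injective (f.baseChange B) := baseChange_injective_of_flat f hf
  haveI : Nontrivial (A ⧸ maximalIdeal A) := Ideal.Quotient.nontrivial_iff.mpr
    (maximalIdeal.isMaximal A).ne_top
  haveI : Nontrivial (B ⊗[A] (A ⧸ maximalIdeal A)) := Module.FaithfullyFlat.lTensor_nontrivial _ _ _
  have hann : Ideal.map (algebraMap A B) (maximalIdeal A) ≤
      Module.annihilator B (B ⊗[A] (A ⧸ maximalIdeal A)) := by
    rw [Ideal.map_le_iff_le_comap]
    intro a ha
    rw [Ideal.mem_comap, Module.mem_annihilator]
    intro z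
    induction z using TensorProduct.induction_on with
    | zero => simp
    | tmul b y =>
      rw [algebraMap_smul, ← TensorProduct.tmul_smul]
      have hy : a • y = 0 := by
        obtain ⟨r, rfl⟩ := Ideal.Quotient.mk_surjective y
        have : a • (Ideal.Quotient.mk (maximalIdeal A)) r =
            (Ideal.Quotient.mk (maximalIdeal A)) (a * r) := by
          rw [map_mul]; rfl
        rw [this, Ideal.Quotient.eq_zero_iff_mem]
        exact Ideal.mul_mem_right _ _ ha
      rw [hy, TensorProduct.tmul_zero]
    | add x y hx hy => rw [smul_add, hx, hy, add_zero]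
  have hn_min : maximalIdeal B ∈
      (Module.annihilator B (B ⊗[A] (A ⧸ maximalIdeal A))).minimalPrimes := by
    refine ⟨⟨inferInstance, ?_⟩, ?_⟩
    · refine IsLocalRing.le_maximalIdeal ?_
      rw [Ne, Module.annihilator_eq_top_iff]
      exact not_subsingleton _
    · rintro q ⟨hq, hle⟩ hqn
      exact hmin.2 ⟨hq, hann.trans hle⟩ hqn
  have hass := Module.associatedPrimes.minimalPrimes_annihilator_subset_associatedPrimes B
    (B ⊗[A] (A ⧸ maximalIdeal A)) hn_min
  have hass' : maximalIdeal B ∈ associatedPrimes B (B ⊗[A] M) :=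
    associatedPrimes.subset_of_injective hg hass
  haveI : Nontrivial (B ⊗[A] M) := hg.nontrivial
  exact idealDepth_eq_zero_of_mem_associatedPrimes _ _ hass' (maximalIdeal_smul_top_ne_top _)

theorem depth_baseChange_aux
    (hmin : maximalIdeal B ∈ (Ideal.map (algebraMap A B) (maximalIdeal A)).minimalPrimes) :
    ∀ (d : ℕ) (M : Type u) [AddCommGroup M] [Module A M] [Module.Finite A M] [Nontrivial M],
      LocCoh.depth A M = d → LocCoh.depth B (B ⊗[A] M) = d := by
  haveI : Module.FaithfullyFlat A B := Module.FaithfullyFlat.of_flat_of_isLocalHom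
  intro d
  induction d with
  | zero =>
    intro M _ _ _ _ hd
    exact depth_baseChange_eq_zero hmin M hd
  | succ d ih =>
    intro M _ _ _ _ hd
    have h1 : ((1 : ℕ) : ℕ∞) ≤ idealDepth (maximalIdeal A) M := by
      rw [← depth_def, hd]; exact_mod_cast Nat.le_add_left 1 d
    obtain ⟨rs, hlen, hreg, hmem⟩ := exists_of_le_idealDepth (maximalIdeal A) M
      (maximalIdeal_smul_top_ne_top M) 1 h1
    obtain ⟨x, rfl⟩ := List.length_eq_one_iff.mp hlen
    have hx : x ∈ maximalIdeal A := hmem x (by simp)
    have hxreg : IsSMulRegular M x := ((isWeaklyRegular_cons_iff M x []).mp hreg).1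
    haveI : Nontrivial (QuotSMulTop x M) := nontrivial_quotSMulTop_of_mem_maximalIdeal M hx
    have hq := idealDepth_quotSMulTop_add_one (maximalIdeal A) M
      (maximalIdeal_smul_top_ne_top M) x hx hxreg
    have hdq : LocCoh.depth A (QuotSMulTop x M) = d := by
      rw [← depth_def, ← depth_def, hd] at hq
      have : LocCoh.depth A (QuotSMulTop x M) + 1 = (d : ℕ∞) + 1 := by
        rw [hq]; push_cast; rfl
      exact (ENat.add_left_injective_of_ne_top (by simp)) this
    have ih' := ih (QuotSMulTop x M) hdq
    have hreg' : IsWeaklyRegular (B ⊗[A] M) ([x].map (algebraMap A B)) :=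
      IsWeaklyRegular.of_flat_of_isBaseChange (TensorProduct.isBaseChange A M B) hreg
    rw [List.map_cons, List.map_nil] at hreg'
    have hx'reg : IsSMulRegular (B ⊗[A] M) (algebraMap A B x) :=
      ((isWeaklyRegular_cons_iff _ _ []).mp hreg').1
    have hx'mem : algebraMap A B x ∈ maximalIdeal B := algebraMap_mem_maximalIdeal hx
    haveI : Nontrivial (B ⊗[A] M) := Module.FaithfullyFlat.lTensor_nontrivial _ _ _
    have hq' := idealDepth_quotSMulTop_add_one (maximalIdeal B) (B ⊗[A] M)
      (maximalIdeal_smul_top_ne_top _) _ hx'mem hx'reg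
    have e := QuotSMulTop.algebraMapTensorEquivTensorQuotSMulTop x M B
    rw [depth_def, ← hq', idealDepth_congr _ e, ← depth_def, ih']
    push_cast
    rfl

/-- Flat local homomorphism with zero-dimensional closed fibre: `depth (B ⊗ M) = depth M`. -/
theorem depth_baseChange
    (hmin : maximalIdeal B ∈ (Ideal.map (algebraMap A B) (maximalIdeal A)).minimalPrimes)
    (M : Type u) [AddCommGroup M] [Module A M] [Module.Finite A M] :
    LocCoh.depth B (B ⊗[A] M) = LocCoh.depth A M := by
  rcases subsingleton_or_nontrivial M with hs | hn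
  · rw [depth_eq_top_of_subsingleton, depth_eq_top_of_subsingleton]
  · obtain ⟨d, hd⟩ := ENat.ne_top_iff_exists.mp (depth_ne_top (R := A) M)
    rw [← hd]
    exact depth_baseChange_aux hmin d M hd.symm

/-- Flat local homomorphism with zero-dimensional closed fibre: `depth B = depth A`. -/
theorem depth_eq_of_flat_of_minimal
    (hmin : maximalIdeal B ∈ (Ideal.map (algebraMap A B) (maximalIdeal A)).minimalPrimes) :
    LocCoh.depth B B = LocCoh.depth A A := by
  rw [← depth_baseChange hmin A]
  exact depth_congr (TensorProduct.AlgebraTensorModule.rid A B B).symm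

/-- Flat local homomorphism with zero-dimensional closed fibre: `dim B = dim A`. -/
theorem ringKrullDim_eq_of_flat_of_minimal
    (hmin : maximalIdeal B ∈ (Ideal.map (algebraMap A B) (maximalIdeal A)).minimalPrimes) :
    ringKrullDim B = ringKrullDim A := by
  haveI : (maximalIdeal B).LiesOver (maximalIdeal A) :=
    ⟨(IsLocalRing.maximalIdeal_comap (algebraMap A B)).symm⟩
  have h1 := Ideal.height_eq_height_add_of_liesOver_of_hasGoingDown (maximalIdeal A)
    (maximalIdeal B)
  have hmem : (maximalIdeal B).map
      (Ideal.Quotient.mk ((maximalIdeal A).map (algebraMap A B))) ∈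
      minimalPrimes (B ⧸ (maximalIdeal A).map (algebraMap A B)) := by
    have h2 := Ideal.minimalPrimes_map_of_surjective
      (f := Ideal.Quotient.mk ((maximalIdeal A).map (algebraMap A B)))
      Ideal.Quotient.mk_surjective ((maximalIdeal A).map (algebraMap A B))
    rw [Ideal.mk_ker, sup_idem, Ideal.map_quotient_self] at h2
    show _ ∈ (⊥ : Ideal (B ⧸ (maximalIdeal A).map (algebraMap A B))).minimalPrimes
    rw [h2]
    exact ⟨_, hmin, rfl⟩
  haveI := hmem.1.1
  have h0 : ((maximalIdeal B).map
      (Ideal.Quotient.mk ((maximalIdeal A).map (algebraMap A B)))).height = 0 :=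
    Ideal.height_eq_zero_iff.mpr hmem
  rw [h0, add_zero] at h1
  rw [← IsLocalRing.maximalIdeal_height_eq_ringKrullDim,
    ← IsLocalRing.maximalIdeal_height_eq_ringKrullDim, h1]

omit [IsNoetherianRing A] [IsNoetherianRing B] [Module.Flat A B] in
theorem map_maximalIdeal_le_maximalIdeal :
    (maximalIdeal A).map (algebraMap A B) ≤ maximalIdeal B := by
  rw [Ideal.map_le_iff_le_comap, IsLocalRing.maximalIdeal_comap]

omit [IsNoetherianRing A] [IsNoetherianRing B] [Module.Flat A B] in
/-- For a finite local homomorphism the closed fibre is zero-dimensional. -/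
theorem maximalIdeal_mem_minimalPrimes_of_finite [Module.Finite A B] :
    maximalIdeal B ∈ (Ideal.map (algebraMap A B) (maximalIdeal A)).minimalPrimes := by
  refine ⟨⟨inferInstance, map_maximalIdeal_le_maximalIdeal⟩, ?_⟩
  rintro q ⟨hq, hle⟩ hqn
  haveI := hq
  have hcomap : q.comap (algebraMap A B) = maximalIdeal A := by
    symm
    apply (maximalIdeal.isMaximal A).eq_of_le
    · exact (Ideal.comap_ne_top _ hq.ne_top)
    · exact Ideal.map_le_iff_le_comap.mp hle
  have hmax : q.IsMaximal := Ideal.isMaximal_of_isIntegral_of_isMaximal_comap q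
    (by rw [hcomap]; exact maximalIdeal.isMaximal A)
  exact (IsLocalRing.eq_maximalIdeal hmax).ge

/-- If `dim B ≤ dim A` for a flat local homomorphism, the closed fibre is zero-dimensional. -/
theorem maximalIdeal_mem_minimalPrimes_of_ringKrullDim_le
    (hdim : ringKrullDim B ≤ ringKrullDim A) :
    maximalIdeal B ∈ (Ideal.map (algebraMap A B) (maximalIdeal A)).minimalPrimes := by
  haveI : (maximalIdeal B).LiesOver (maximalIdeal A) :=
    ⟨(IsLocalRing.maximalIdeal_comap (algebraMap A B)).symm⟩
  have h1 := Ideal.height_eq_height_add_of_liesOver_of_hasGoingDown (maximalIdeal A)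
    (maximalIdeal B)
  rw [← IsLocalRing.maximalIdeal_height_eq_ringKrullDim,
    ← IsLocalRing.maximalIdeal_height_eq_ringKrullDim] at hdim
  have hdim' : (maximalIdeal B).height ≤ (maximalIdeal A).height := by exact_mod_cast hdim
  have hfin : (maximalIdeal A).height ≠ ⊤ := Ideal.height_ne_top (maximalIdeal.isMaximal A).ne_top
  have hker : RingHom.ker (Ideal.Quotient.mk ((maximalIdeal A).map (algebraMap A B))) ≤
      maximalIdeal B := by
    rw [Ideal.mk_ker]; exact map_maximalIdeal_le_maximalIdeal
  haveI : ((maximalIdeal B).map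
      (Ideal.Quotient.mk ((maximalIdeal A).map (algebraMap A B)))).IsPrime :=
    Ideal.map_isPrime_of_surjective Ideal.Quotient.mk_surjective hker
  have h0 : ((maximalIdeal B).map
      (Ideal.Quotient.mk ((maximalIdeal A).map (algebraMap A B)))).height = 0 := by
    rw [h1] at hdim'
    obtain ⟨a, ha⟩ := ENat.ne_top_iff_exists.mp hfin
    rw [← ha] at hdim'
    by_contra hne
    have hpos : 1 ≤ ((maximalIdeal B).map
      (Ideal.Quotient.mk ((maximalIdeal A).map (algebraMap A B)))).height :=
      Order.one_le_iff_pos.mpr (pos_iff_ne_zero.mpr hne)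
    have h2 : (a : ℕ∞) + 1 ≤ a := (add_le_add_right hpos _).trans hdim'
    have h3 : ((a + 1 : ℕ) : ℕ∞) ≤ (a : ℕ∞) := by exact_mod_cast h2
    exact absurd (by exact_mod_cast h3 : a + 1 ≤ a) (by omega)
  rw [Ideal.height_eq_zero_iff] at h0
  rw [Ideal.minimalPrimes_eq_comap]
  refine ⟨_, h0, ?_⟩
  rw [Ideal.comap_map_of_surjective _ Ideal.Quotient.mk_surjective, ← RingHom.ker_eq_comap_bot]
  exact sup_eq_left.mpr hker

/-- Flat local homomorphism from a Cohen–Macaulay local ring with zero-dimensional closed
fibre: the target is Cohen–Macaulay of the same dimension. -/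
theorem isCohenMacaulayLocalRing_of_flat_of_minimal
    (hmin : maximalIdeal B ∈ (Ideal.map (algebraMap A B) (maximalIdeal A)).minimalPrimes) :
    LocCoh.IsCohenMacaulayLocalRing A ↔ LocCoh.IsCohenMacaulayLocalRing B := by
  have hdepth := depth_eq_of_flat_of_minimal (A := A) (B := B) hmin
  have hdim := ringKrullDim_eq_of_flat_of_minimal (A := A) (B := B) hmin
  constructor
  · intro hA
    refine { supportDim_eq_depth := ?_ }
    have h1 := hA.supportDim_eq_depth
    rw [Module.supportDim_self_eq_ringKrullDim] at h1 ⊢
    rw [hdim, hdepth, h1]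
  · intro hB
    refine { supportDim_eq_depth := ?_ }
    have h1 := hB.supportDim_eq_depth
    rw [Module.supportDim_self_eq_ringKrullDim] at h1 ⊢
    rw [← hdim, ← hdepth, h1]

end FlatLocal

end Groth.Agent.Lead.Depth
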