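import Mathlib
import Groth.Agent.Lib.Lead.Flat1

/-!
# Étale local homomorphisms preserve depth, dimension and Cohen–Macaulayness
-/

set_option autoImplicit false
set_option linter.style.haveILetI false
universe u v
open CategoryTheory Abelian RingTheory.Sequence LocCoh Pointwise IsLocalRing TensorProduct

namespace Groth.Agent.Lead.Depth

section Etale

variable (A B : Type u) [CommRing A] [CommRing B] [IsLocalRing A] [IsLocalRing B]
  [IsNoetherianRing A] [IsNoetherianRing B] [Algebra A B] [IsLocalHom (algebraMap A B)]
  (E : Type u) [CommRing E] [Algebra A E] [Algebra.Etale A E] (P : Ideal E) [P.IsPrime]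
  [Algebra E B] [IsScalarTower A E B] [IsLocalization.AtPrime B P]

include E P in
theorem flat_of_etale_localization : Module.Flat A B := by
  haveI : Module.Flat E B := IsLocalization.flat B P.primeCompl
  exact Module.Flat.trans A E B

include E P in
theorem map_maximalIdeal_eq_of_etale_localization :
    (maximalIdeal A).map (algebraMap A B) = maximalIdeal B := by
  haveI : Algebra.FormallyUnramified E B :=
    Algebra.FormallyUnramified.of_isLocalization P.primeCompl
  haveI : Algebra.FormallyUnramified A B := Algebra.FormallyUnramified.comp A E B
  haveI : Algebra.EssFiniteType E B := Algebra.EssFiniteType.of_isLocalization B P.primeCompl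
  haveI : Algebra.EssFiniteType A B := Algebra.EssFiniteType.comp A E B
  exact Algebra.FormallyUnramified.map_maximalIdeal

include E P in
theorem maximalIdeal_mem_minimalPrimes_of_etale_localization :
    maximalIdeal B ∈ (Ideal.map (algebraMap A B) (maximalIdeal A)).minimalPrimes := by
  rw [map_maximalIdeal_eq_of_etale_localization A B E P, Ideal.minimalPrimes_eq_subsingleton_self]
  exact Set.mem_singleton _

include E P in
theorem depth_eq_of_etale_localization : LocCoh.depth A A = LocCoh.depth B B := by
  haveI := flat_of_etale_localization A B E P
  exact (depth_eq_of_flat_of_minimal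
    (maximalIdeal_mem_minimalPrimes_of_etale_localization A B E P)).symm

include E P in
theorem isCohenMacaulayLocalRing_iff_of_etale_localization :
    LocCoh.IsCohenMacaulayLocalRing A ↔ LocCoh.IsCohenMacaulayLocalRing B := by
  haveI := flat_of_etale_localization A B E P
  exact isCohenMacaulayLocalRing_of_flat_of_minimal
    (maximalIdeal_mem_minimalPrimes_of_etale_localization A B E P)

end Etale

end Groth.Agent.Lead.Depth
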