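import Mathlib
import Groth.Agent.Lib.Lead.Flat2

/-!
# Serre's condition `(S_k)` descends along faithfully flat maps
-/

set_option autoImplicit false
set_option linter.style.haveILetI false
universe u v
open CategoryTheory Abelian RingTheory.Sequence LocCoh Pointwise IsLocalRing TensorProduct

namespace Groth.Agent.Lead.Depth

section RingHomVersion

variable (A B : Type u) [CommRing A] [CommRing B] [IsLocalRing A] [IsLocalRing B]
  [IsNoetherianRing A] [IsNoetherianRing B] (f : A →+* B) (hf : f.Flat) [IsLocalHom f]

include hf in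
theorem depth_and_dim_eq_of_flat_ringHom
    (hmin : maximalIdeal B ∈ (Ideal.map f (maximalIdeal A)).minimalPrimes) :
    LocCoh.depth B B = LocCoh.depth A A ∧ ringKrullDim B = ringKrullDim A := by
  letI : Algebra A B := f.toAlgebra
  haveI : Module.Flat A B := hf
  haveI : IsLocalHom (algebraMap A B) := ‹IsLocalHom f›
  exact ⟨depth_eq_of_flat_of_minimal hmin, ringKrullDim_eq_of_flat_of_minimal hmin⟩

end RingHomVersion

section HasSk

variable {R : Type u} [CommRing R] [IsNoetherianRing R]

theorem hasSk_self_iff (k : ℕ) :
    LocCoh.HasSk k R R ↔ ∀ (p : Ideal R) [p.IsPrime],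
      min (k : WithBot ℕ∞) (ringKrullDim (Localization.AtPrime p)) ≤
        ((LocCoh.depth (Localization.AtPrime p) (Localization.AtPrime p) : ℕ∞) : WithBot ℕ∞) := by
  unfold LocCoh.HasSk
  refine forall_congr' fun p => forall_congr' fun hp => ?_
  rw [supportDim_localizedModule_self, depth_localizedModule_self,
    IsLocalization.AtPrime.ringKrullDim_eq_height p]

end HasSk

section Descent

variable (R : Type u) [CommRing R] (S : Type u) [CommRing S] [Algebra R S]
  [Module.FaithfullyFlat R S]

/-- For a faithfully flat algebra, every prime `p` is the contraction of a minimal prime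
over `pS`. -/
theorem exists_minimalPrimes_comap_eq (p : Ideal R) [p.IsPrime] :
    ∃ q ∈ (p.map (algebraMap R S)).minimalPrimes, q.comap (algebraMap R S) = p := by
  have hne : p.map (algebraMap R S) ≠ ⊤ := by
    intro h
    have h1 := Ideal.comap_map_eq_self_of_faithfullyFlat (B := S) p
    rw [h, Ideal.comap_top] at h1
    exact (‹p.IsPrime›).ne_top h1.symm
  obtain ⟨⟨q, hq⟩⟩ := Ideal.nonempty_minimalPrimes hne
  refine ⟨q, hq, ?_⟩
  haveI : q.IsPrime := hq.1.1
  have hle : p ≤ q.comap (algebraMap R S) := Ideal.map_le_iff_le_comap.mp hq.1.2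
  haveI : q.LiesOver (q.comap (algebraMap R S)) := ⟨rfl⟩
  obtain ⟨P, hPq, hP, hPp⟩ := Ideal.exists_ideal_le_liesOver_of_le (p := p)
    (q := q.comap (algebraMap R S)) q hle
  have hPover : p = P.comap (algebraMap R S) := hPp.over
  have hmapP : p.map (algebraMap R S) ≤ P := by
    rw [Ideal.map_le_iff_le_comap, ← hPover]
  have hqP : q ≤ P := hq.2 ⟨hP, hmapP⟩ hPq
  have : P = q := le_antisymm hPq hqP
  rw [← this, ← hPover]

theorem hasSk_of_faithfullyFlat [IsNoetherianRing S] (k : ℕ) (hS : LocCoh.HasSk k S S) :
    IsNoetherianRing R ∧ LocCoh.HasSk k R R := by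
  haveI : IsNoetherianRing R := Hom.isNoetherianRing_of_faithfullyFlat R S
  refine ⟨inferInstance, ?_⟩
  rw [hasSk_self_iff] at hS ⊢
  intro p hp
  obtain ⟨q, hq, hqp⟩ := exists_minimalPrimes_comap_eq R S p
  haveI : q.IsPrime := hq.1.1
  have hover : p = q.comap (algebraMap R S) := hqp.symm
  have hflat : (algebraMap R S).Flat := RingHom.flat_algebraMap_iff.mpr inferInstance
  have h1 := hflat.localRingHom q p hover
  haveI := Localization.isLocalHom_localRingHom p q (algebraMap R S) hover
  have hmin : maximalIdeal (Localization.AtPrime q) ∈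
      (Ideal.map (Localization.localRingHom p q (algebraMap R S) hover)
        (maximalIdeal (Localization.AtPrime p))).minimalPrimes := by
    rw [← Localization.AtPrime.map_eq_maximalIdeal, Ideal.map_map]
    have hcomp : (Localization.localRingHom p q (algebraMap R S) hover).comp
        (algebraMap R (Localization.AtPrime p)) =
        (algebraMap S (Localization.AtPrime q)).comp (algebraMap R S) := by
      ext x
      simp
    rw [hcomp, ← Ideal.map_map, IsLocalization.minimalPrimes_map q.primeCompl]
    rw [Set.mem_preimage, Localization.AtPrime.comap_maximalIdeal]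
    exact hq
  obtain ⟨hdepth, hdim⟩ := depth_and_dim_eq_of_flat_ringHom (Localization.AtPrime p)
    (Localization.AtPrime q) _ h1 hmin
  rw [← hdepth, ← hdim]
  exact hS q

end Descent

end Groth.Agent.Lead.Depth
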