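import Mathlib
import Groth.Agent.Lib.Lead.Flat3

/-!
# Supports of `Ext` modules and Bass's lemma
-/

set_option autoImplicit false
set_option linter.style.haveILetI false
universe u v
open CategoryTheory Abelian RingTheory.Sequence LocCoh Pointwise IsLocalRing

namespace Groth.Agent.Lead.Depth

section Support

variable {R : Type u} [CommRing R]

/-- Contravariant long exact sequence and supports (middle term). -/
theorem notMem_support_ext_X₂ {S : ShortComplex (ModuleCat.{u} R)} (hS : S.ShortExact)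
    (Y : ModuleCat.{u} R) (i : ℕ) (q : PrimeSpectrum R)
    (h1 : q ∉ Module.support R (Ext S.X₁ Y i)) (h3 : q ∉ Module.support R (Ext S.X₃ Y i)) :
    q ∉ Module.support R (Ext S.X₂ Y i) := by
  rw [Module.notMem_support_iff'] at h1 h3 ⊢
  intro c
  obtain ⟨r, hr, hrc⟩ := h1 ((Ext.mk₀ S.f).comp c (zero_add i))
  rw [← Ext.comp_smul] at hrc
  obtain ⟨x₃, hx₃⟩ := Ext.contravariant_sequence_exact₂ hS Y (r • c) hrc
  obtain ⟨s, hs, hsx⟩ := h3 x₃
  refine ⟨s * r, q.asIdeal.primeCompl.mul_mem hs hr, ?_⟩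
  rw [mul_smul, ← hx₃, ← Ext.comp_smul, hsx, Ext.comp_zero]

/-- Supports of `Ext` are invariant under isomorphism in the first variable. -/
theorem notMem_support_ext_of_iso {X X' : ModuleCat.{u} R} (e : X ≅ X') (Y : ModuleCat.{u} R)
    (i : ℕ) (q : PrimeSpectrum R) (h : q ∉ Module.support R (Ext X Y i)) :
    q ∉ Module.support R (Ext X' Y i) := by
  rw [Module.notMem_support_iff'] at h ⊢
  intro c
  obtain ⟨r, hr, hrc⟩ := h ((Ext.mk₀ e.hom).comp c (zero_add i))
  refine ⟨r, hr, ?_⟩
  have key : c = (Ext.mk₀ e.inv).comp ((Ext.mk₀ e.hom).comp c (zero_add i)) (zero_add i) := by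
    rw [Ext.mk₀_comp_mk₀_assoc, e.inv_hom_id, Ext.mk₀_id_comp]
  rw [key, ← Ext.comp_smul, hrc, Ext.comp_zero]

/-- `Ext^i(N, Y)` is supported on `V(ann N)`. -/
theorem le_of_mem_support_ext {X Y : ModuleCat.{u} R} (I : Ideal R)
    (hI : ∀ r ∈ I, ∀ x : X, r • x = 0) (i : ℕ) (q : PrimeSpectrum R)
    (h : q ∈ Module.support R (Ext X Y i)) : I ≤ q.asIdeal := by
  rw [Module.mem_support_iff'] at h
  obtain ⟨c, hc⟩ := h
  intro r hr
  by_contra hrq
  exact hc r hrq (ext_smul_eq_zero_of_left (hI r hr) c)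

/-- Nakayama plus the connecting homomorphism: if `q ∈ Supp Ext^i(N, M)` and `x ∈ q` is
`N`-regular, then `q ∈ Supp Ext^{i+1}(N/xN, M)`. -/
theorem mem_support_ext_quotSMulTop [IsNoetherianRing R] (N : Type u) [AddCommGroup N]
    [Module R N] [Module.Finite R N] (M : Type u) [AddCommGroup M] [Module R M]
    [Module.Finite R M] (x : R) (hx : IsSMulRegular N x) (i j : ℕ) (hj : 1 + i = j)
    (q : PrimeSpectrum R) (hxq : x ∈ q.asIdeal)
    (h : q ∈ Module.support R (Ext (ModuleCat.of R N) (ModuleCat.of R M) i)) :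
    q ∈ Module.support R (Ext (ModuleCat.of R (QuotSMulTop x N)) (ModuleCat.of R M) j) := by
  by_contra hne
  have hx' : IsSMulRegular (ModuleCat.of R N) x := hx
  have hS := hx'.smulShortComplex_shortExact
  have hne' : q ∉ Module.support R
      (Ext (ModuleCat.smulShortComplex (ModuleCat.of R N) x).X₃ (ModuleCat.of R M) j) := hne
  have hq : q ∉ Module.support R
      (QuotSMulTop x (Ext (ModuleCat.of R N) (ModuleCat.of R M) i)) := by
    rw [Module.notMem_support_iff'] at hne' ⊢
    intro z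
    obtain ⟨c, rfl⟩ := Submodule.mkQ_surjective _ z
    obtain ⟨r, hr, hrc⟩ := hne' (hS.extClass.comp c hj)
    rw [← Ext.comp_smul] at hrc
    obtain ⟨x₂, hx₂⟩ := Ext.contravariant_sequence_exact₁ hS _ (r • c) hj hrc
    refine ⟨r, hr, ?_⟩
    have hx₂' : r • c = x • (show Ext (ModuleCat.of R N) (ModuleCat.of R M) i from x₂) := by
      rw [← hx₂]
      show (Ext.mk₀ (x • 𝟙 (ModuleCat.of R N))).comp
        (show Ext (ModuleCat.of R N) (ModuleCat.of R M) i from x₂) (zero_add i) = _
      rw [Ext.mk₀_smul, Ext.smul_comp, Ext.mk₀_id_comp]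
    rw [← map_smul, hx₂', Submodule.mkQ_apply, Submodule.Quotient.mk_eq_zero]
    exact Submodule.smul_mem_pointwise_smul _ _ _ trivial
  rw [Module.support_quotSMulTop] at hq
  exact hq ⟨h, by simpa [PrimeSpectrum.mem_zeroLocus] using hxq⟩

/-- Prime filtration: if `q ∈ Supp Ext^i(N, M)` there is `p ∈ Supp N` with
`q ∈ Supp Ext^i(R/p, M)`. -/
theorem exists_prime_mem_support_ext [IsNoetherianRing R] (M : Type u) [AddCommGroup M]
    [Module R M] (i : ℕ) (q : PrimeSpectrum R) (N : Type u) [AddCommGroup N]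
    [Module R N] [hN : Module.Finite R N]
    (h : q ∈ Module.support R (Ext (ModuleCat.of R N) (ModuleCat.of R M) i)) :
    ∃ p ∈ Module.support R N,
      q ∈ Module.support R (Ext (ModuleCat.of R (R ⧸ p.asIdeal)) (ModuleCat.of R M) i) := by
  revert h
  induction hN using IsNoetherianRing.induction_on_isQuotientEquivQuotientPrime R with
  | subsingleton N =>
    intro h
    exfalso
    haveI : Subsingleton (Ext (ModuleCat.of R N) (ModuleCat.of R M) i) :=
      ext_subsingleton_of_isZero_left (ModuleCat.isZero_of_subsingleton _) _ i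
    rw [Module.support_eq_empty] at h
    exact h
  | quotient N p f =>
    intro h
    refine ⟨p, ?_, ?_⟩
    · rw [f.support_eq, Module.support_eq_zeroLocus, Ideal.annihilator_quotient]
      exact fun _ hx => hx
    · by_contra hne
      exact notMem_support_ext_of_iso (f.symm.toModuleIso) (ModuleCat.of R M) i q hne h
  | exact N₁ N₂ N₃ f g hf hg hfg h₁ h₃ =>
    intro h
    let S : ShortComplex (ModuleCat.{u} R) :=
      ModuleCat.shortComplexOfCompEqZero f g hfg.linearMap_comp_eq_zero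
    have hS : S.ShortExact := ModuleCat.shortComplex_shortExact S hfg hf hg
    by_cases h1 : q ∈ Module.support R (Ext (ModuleCat.of R N₁) (ModuleCat.of R M) i)
    · obtain ⟨p, hp, hpq⟩ := h₁ h1
      exact ⟨p, Module.support_subset_of_injective f hf hp, hpq⟩
    · by_cases h3 : q ∈ Module.support R (Ext (ModuleCat.of R N₃) (ModuleCat.of R M) i)
      · obtain ⟨p, hp, hpq⟩ := h₃ h3
        exact ⟨p, Module.support_subset_of_surjective g hg hp, hpq⟩
      · exact absurd h (notMem_support_ext_X₂ hS (ModuleCat.of R M) i q h1 h3)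

theorem smul_quotient_eq_zero (I : Ideal R) (r : R) (hr : r ∈ I) (y : R ⧸ I) : r • y = 0 := by
  obtain ⟨s, rfl⟩ := Ideal.Quotient.mk_surjective y
  have : r • (Ideal.Quotient.mk I) s = (Ideal.Quotient.mk I) (r * s) := by
    rw [map_mul]; rfl
  rw [this, Ideal.Quotient.eq_zero_iff_mem]
  exact Ideal.mul_mem_right _ _ hr

theorem isSMulRegular_quotient_prime (p : Ideal R) [p.IsPrime] (x : R) (hx : x ∉ p) :
    IsSMulRegular (R ⧸ p) x := by
  have hne : (Ideal.Quotient.mk p) x ≠ 0 := fun h => hx (Ideal.Quotient.eq_zero_iff_mem.mp h)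
  intro a b hab
  have h1 : ∀ c : R ⧸ p, x • c = (Ideal.Quotient.mk p) x * c := by
    intro c
    obtain ⟨s, rfl⟩ := Ideal.Quotient.mk_surjective c
    rw [← map_mul]; rfl
  simp only [h1] at hab
  exact mul_left_cancel₀ hne hab

/-- Bass's lemma, support form: if `p ∈ Supp Ext^i(R/p, M)` and `q` covers `p`, then
`q ∈ Supp Ext^{i+1}(R/q, M)`. -/
theorem mem_support_ext_of_covBy [IsNoetherianRing R] (M : Type u) [AddCommGroup M]
    [Module R M] [Module.Finite R M] (p q : PrimeSpectrum R) (hpq : p < q)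
    (hcov : ∀ p' : PrimeSpectrum R, p < p' → p' ≤ q → p' = q) (i j : ℕ) (hj : 1 + i = j)
    (h : p ∈ Module.support R (Ext (ModuleCat.of R (R ⧸ p.asIdeal)) (ModuleCat.of R M) i)) :
    q ∈ Module.support R (Ext (ModuleCat.of R (R ⧸ q.asIdeal)) (ModuleCat.of R M) j) := by
  have hq : q ∈ Module.support R (Ext (ModuleCat.of R (R ⧸ p.asIdeal)) (ModuleCat.of R M) i) :=
    Module.mem_support_mono hpq.le h
  have hlt : p.asIdeal < q.asIdeal := hpq
  obtain ⟨x, hxq, hxp⟩ := SetLike.exists_of_lt hlt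
  have hreg : IsSMulRegular (R ⧸ p.asIdeal) x := isSMulRegular_quotient_prime p.asIdeal x hxp
  have h1 := mem_support_ext_quotSMulTop (R ⧸ p.asIdeal) M x hreg i j hj q hxq hq
  obtain ⟨p', hp', hp'q⟩ := exists_prime_mem_support_ext M j q (QuotSMulTop x (R ⧸ p.asIdeal)) h1
  rw [Module.support_quotSMulTop, Module.support_eq_zeroLocus, Ideal.annihilator_quotient] at hp'
  obtain ⟨hp'1, hp'2⟩ := hp'
  have hpp'le : p.asIdeal ≤ p'.asIdeal := hp'1
  have hxp' : x ∈ p'.asIdeal := by
    have := hp'2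
    rw [PrimeSpectrum.mem_zeroLocus] at this
    exact this (Set.mem_singleton x)
  have hpp' : p < p' := by
    refine lt_of_le_of_ne hpp'le ?_
    rintro rfl
    exact hxp hxp'
  have hp'q' : p'.asIdeal ≤ q.asIdeal :=
    le_of_mem_support_ext p'.asIdeal (fun r hr y => smul_quotient_eq_zero p'.asIdeal r hr y) j q
      hp'q
  have heq := hcov p' hpp' hp'q'
  subst heq
  exact hp'q

end Support

end Groth.Agent.Lead.Depth
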