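import Mathlib
import Groth.Agent.Lib.Lead.Bass1

/-!
# Bass's lemma along saturated chains: `Ext^{dim R}(k, R) ≠ 0`
-/

set_option autoImplicit false
set_option linter.style.haveILetI false
universe u v
open CategoryTheory Abelian RingTheory.Sequence LocCoh Pointwise IsLocalRing

namespace Groth.Agent.Lead.Depth

section Local

variable {R : Type u} [CommRing R] [IsLocalRing R] [IsNoetherianRing R]

theorem nontrivial_of_mem_support {A : Type*} [CommRing A] {E : Type*} [AddCommGroup E]
    [Module A E] {p : PrimeSpectrum A} (h : p ∈ Module.support A E) : Nontrivial E := by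
  by_contra hns
  rw [not_nontrivial_iff_subsingleton] at hns
  rw [Module.support_eq_empty] at h
  exact h

/-- Induction along a saturated chain from `p` to the maximal ideal. -/
theorem ext_residueField_nontrivial_of_mem_support (M : Type u) [AddCommGroup M] [Module R M]
    [Module.Finite R M] :
    ∀ (n : ℕ) (p : PrimeSpectrum R), Order.coheight p = n → ∀ i j : ℕ, n + i = j →
      p ∈ Module.support R (Ext (ModuleCat.of R (R ⧸ p.asIdeal)) (ModuleCat.of R M) i) →
      Nontrivial (Ext (ModuleCat.of R (ResidueField R)) (ModuleCat.of R M) j) := by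
  intro n
  induction n with
  | zero =>
    intro p hp i j hj h
    rw [Nat.cast_zero, Order.coheight_eq_zero] at hp
    have hle : p ≤ closedPoint R := IsLocalRing.le_maximalIdeal p.2.ne_top
    have heq : p = closedPoint R := le_antisymm hle (hp hle)
    subst heq
    have hij : i = j := by omega
    subst hij
    have hnt := nontrivial_of_mem_support h
    exact hnt
  | succ n ih =>
    intro p hp i j hj h
    have hp' : Order.coheight p = (n : ℕ∞) + 1 := by rw [hp]; push_cast; rfl
    obtain ⟨-, ⟨q, hpq, hq⟩, hall⟩ := Order.coheight_eq_coe_add_one_iff.mp hp'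
    have hcov : ∀ p' : PrimeSpectrum R, p < p' → p' ≤ q → p' = q := by
      intro p' hpp' hp'q
      refine eq_of_le_of_not_lt hp'q ?_
      intro hlt
      have h1 := Order.coheight_add_one_le hlt
      have h2 := hall p' hpp'
      rw [hq] at h1
      have h3 : ((n + 1 : ℕ) : ℕ∞) ≤ (n : ℕ∞) := by
        push_cast
        exact h1.trans h2
      exact absurd (by exact_mod_cast h3 : n + 1 ≤ n) (by omega)
    have hA := mem_support_ext_of_covBy M p q hpq hcov i (1 + i) rfl h
    exact ih q hq (1 + i) j (by omega) hA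

/-- If `p` is an associated prime of `M` then `p ∈ Supp Hom(R/p, M)`. -/
theorem mem_support_ext_zero_of_mem_associatedPrimes (M : Type u) [AddCommGroup M] [Module R M]
    (p : PrimeSpectrum R) (hp : p.asIdeal ∈ associatedPrimes R M) :
    p ∈ Module.support R (Ext (ModuleCat.of R (R ⧸ p.asIdeal)) (ModuleCat.of R M) 0) := by
  obtain ⟨-, f, hf⟩ := (isAssociatedPrime_iff_exists_injective_linearMap _ _).mp hp
  rw [Module.mem_support_iff']
  refine ⟨Ext.mk₀ (ModuleCat.ofHom f), ?_⟩
  intro r hr h0
  rw [← Ext.mk₀_smul, Ext.mk₀_eq_zero_iff] at h0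
  have h1 : (r • ModuleCat.ofHom f).hom ((Ideal.Quotient.mk p.asIdeal) 1) = 0 := by
    rw [h0]; rfl
  rw [ModuleCat.hom_smul, LinearMap.smul_apply] at h1
  have h2 : f (r • (Ideal.Quotient.mk p.asIdeal) 1) = 0 := by
    rw [map_smul]; exact h1
  have h3 := hf (h2.trans (map_zero f).symm)
  have h4 : r • (Ideal.Quotient.mk p.asIdeal) 1 = (Ideal.Quotient.mk p.asIdeal) r := by
    have : r • (Ideal.Quotient.mk p.asIdeal) 1 = (Ideal.Quotient.mk p.asIdeal) (r * 1) := by
      rw [map_mul]; rfl
    rw [this, mul_one]
  rw [h4, Ideal.Quotient.eq_zero_iff_mem] at h3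
  exact hr h3

/-- For every Noetherian local ring, `Ext^{dim R}(k, R) ≠ 0`. -/
theorem ext_residueField_self_nontrivial (d : ℕ) (hd : ringKrullDim R = d) :
    Nontrivial (Ext (ModuleCat.of R (ResidueField R)) (ModuleCat.of R R) d) := by
  have hd' : (d : WithBot ℕ∞) ≤ Order.krullDim (PrimeSpectrum R) := by
    rw [← hd]; rfl
  obtain ⟨l, hl⟩ := Order.le_krullDim_iff.mp hd'
  have h1 : (d : ℕ∞) ≤ Order.coheight l.head := by
    rw [← hl]; exact Order.length_le_coheight_head
  have h2 : ((Order.coheight l.head : ℕ∞) : WithBot ℕ∞) ≤ (d : WithBot ℕ∞) := by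
    have := Order.coheight_le_krullDim l.head
    have h3 : Order.krullDim (PrimeSpectrum R) = (d : WithBot ℕ∞) := hd
    rw [h3] at this
    exact this
  have h2' : Order.coheight l.head ≤ (d : ℕ∞) := by exact_mod_cast h2
  have hco : Order.coheight l.head = (d : ℕ∞) := le_antisymm h2' h1
  -- `l.head` is a minimal prime
  have hmin : l.head.asIdeal ∈ minimalPrimes R := by
    refine ⟨⟨l.head.2, bot_le⟩, ?_⟩
    rintro q ⟨hq, -⟩ hle
    by_contra hnle
    have hlt : (⟨q, hq⟩ : PrimeSpectrum R) < l.head := lt_of_le_of_ne hle (by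
      rintro heq
      apply hnle
      rw [← heq])
    have h3 := Order.coheight_add_one_le hlt
    rw [hco] at h3
    have h4 := Order.coheight_le_krullDim (⟨q, hq⟩ : PrimeSpectrum R)
    have h5 : Order.krullDim (PrimeSpectrum R) = (d : WithBot ℕ∞) := hd
    rw [h5] at h4
    have h6 : Order.coheight (⟨q, hq⟩ : PrimeSpectrum R) ≤ (d : ℕ∞) := by exact_mod_cast h4
    have h7 : ((d + 1 : ℕ) : ℕ∞) ≤ (d : ℕ∞) := by
      push_cast
      exact h3.trans h6
    exact absurd (by exact_mod_cast h7 : d + 1 ≤ d) (by omega)
  have hass : l.head.asIdeal ∈ associatedPrimes R R := by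
    apply Module.associatedPrimes.minimalPrimes_annihilator_subset_associatedPrimes R R
    have : Module.annihilator R R = ⊥ := by
      rw [Module.annihilator_eq_bot]
      infer_instance
    rw [this]
    exact hmin
  have hsupp := mem_support_ext_zero_of_mem_associatedPrimes R l.head hass
  exact ext_residueField_nontrivial_of_mem_support R d l.head hco 0 d (by omega) hsupp

end Local

end Groth.Agent.Lead.Depth
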