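import Mathlib
import Groth.Agent.Lib.Lead.Bass2

/-!
# Vanishing of `Ext^i(k, M)` above `depth R` for modules of finite injective dimension;
Gorenstein local rings are Cohen–Macaulay
-/

set_option autoImplicit false
set_option linter.style.haveILetI false
universe u v
open CategoryTheory Abelian RingTheory.Sequence LocCoh Pointwise IsLocalRing

namespace Groth.Agent.Lead.Depth

section General

variable {C : Type*} [Category C] [Abelian C] [HasExt C]

/-- Contravariant: `Ext^i(X₁, Y) = 0` if `Ext^i(X₂, Y) = 0` and `Ext^{i+1}(X₃, Y) = 0`. -/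
theorem ext_subsingleton_left_X₁ {S : ShortComplex C} (hS : S.ShortExact) (Y : C) (i j : ℕ)
    (hj : 1 + i = j) (h2 : Subsingleton (Ext S.X₂ Y i)) (h3 : Subsingleton (Ext S.X₃ Y j)) :
    Subsingleton (Ext S.X₁ Y i) := by
  refine ⟨fun a b => ?_⟩
  have key : ∀ c : Ext S.X₁ Y i, c = 0 := by
    intro c
    obtain ⟨x₂, hx₂⟩ := Ext.contravariant_sequence_exact₁ hS Y c hj (Subsingleton.elim _ _)
    rw [← hx₂, Subsingleton.elim x₂ 0, Ext.comp_zero]
  rw [key a, key b]

/-- Contravariant: `Ext^{i+1}(X₃, Y) = 0` if `Ext^i(X₁, Y) = 0` and `Ext^{i+1}(X₂, Y) = 0`. -/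
theorem ext_subsingleton_left_X₃ {S : ShortComplex C} (hS : S.ShortExact) (Y : C) (i j : ℕ)
    (hj : 1 + i = j) (h1 : Subsingleton (Ext S.X₁ Y i)) (h2 : Subsingleton (Ext S.X₂ Y j)) :
    Subsingleton (Ext S.X₃ Y j) := by
  refine ⟨fun a b => ?_⟩
  have key : ∀ c : Ext S.X₃ Y j, c = 0 := by
    intro c
    obtain ⟨x₁, hx₁⟩ := Ext.contravariant_sequence_exact₃ hS Y c (Subsingleton.elim _ _) hj
    rw [← hx₁, Subsingleton.elim x₁ 0, Ext.comp_zero]
  rw [key a, key b]

end General

section Local

variable {R : Type u} [CommRing R] [IsLocalRing R] [IsNoetherianRing R]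

/-- A nonzero finite module of depth zero contains a copy of the residue field. -/
theorem exists_injective_residueField_of_depth_eq_zero (N : Type u) [AddCommGroup N]
    [Module R N] [Module.Finite R N] [Nontrivial N] (h0 : LocCoh.depth R N = 0) :
    ∃ f : (R ⧸ maximalIdeal R) →ₗ[R] N, Function.Injective f := by
  have hnr : ∀ x ∈ maximalIdeal R, ¬ IsSMulRegular N x := by
    intro x hx hreg
    have := le_idealDepth_of_isWeaklyRegular (maximalIdeal R) N [x]
      ((isWeaklyRegular_cons_iff N x []).mpr ⟨hreg, IsWeaklyRegular.nil _ _⟩) (by simpa using hx)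
    rw [← depth_def, h0] at this
    simp at this
  obtain ⟨p, hp, hmp⟩ := exists_le_associatedPrime_of_forall_not_regular' N (maximalIdeal R) hnr
  have hpm : maximalIdeal R = p :=
    (maximalIdeal.isMaximal R).eq_of_le hp.isPrime.ne_top hmp
  subst hpm
  obtain ⟨-, f, hf⟩ := (isAssociatedPrime_iff_exists_injective_linearMap _ _).mp hp
  exact ⟨f, hf⟩

theorem ext_residueField_vanishing_aux (M : Type u) [AddCommGroup M] [Module R M]
    [Module.Finite R M] (B : ℕ)
    (hB : ∀ i, B ≤ i →
      Subsingleton (Ext (ModuleCat.of R (ResidueField R)) (ModuleCat.of R M) i)) :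
    ∀ (n : ℕ) (N : Type u) [AddCommGroup N] [Module R N] [Module.Finite R N] [Nontrivial N]
      (a : ℕ), LocCoh.depth R N = n →
      (∀ i, a < i → Subsingleton (Ext (ModuleCat.of R N) (ModuleCat.of R M) i)) →
      ∀ i, a + n < i →
        Subsingleton (Ext (ModuleCat.of R (ResidueField R)) (ModuleCat.of R M) i) := by
  intro n
  induction n with
  | zero =>
    intro N _ _ _ _ a hd hN
    obtain ⟨f, hf⟩ := exists_injective_residueField_of_depth_eq_zero N (by simpa using hd)
    let S : ShortComplex (ModuleCat.{u} R) :=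
      ModuleCat.shortComplexOfCompEqZero f (LinearMap.range f).mkQ (by
        ext x
        simp)
    have hex : Function.Exact f (LinearMap.range f).mkQ := by
      intro y
      rw [Submodule.mkQ_apply, Submodule.Quotient.mk_eq_zero]
      rfl
    have hS : S.ShortExact := ModuleCat.shortComplex_shortExact S hex
      hf (Submodule.mkQ_surjective _)
    have claim : ∀ (e i : ℕ), a < i → B ≤ i + e →
        Subsingleton (Ext (ModuleCat.of R (ResidueField R)) (ModuleCat.of R M) i) := by
      intro e
      induction e with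
      | zero => intro i _ hi; exact hB i (by omega)
      | succ e ihe =>
        intro i hai hi
        have hall : ∀ i', i + 1 ≤ i' →
            Subsingleton (Ext (ModuleCat.of R (ResidueField R)) (ModuleCat.of R M) i') :=
          fun i' hi' => ihe i' (by omega) (by omega)
        have h3 : Subsingleton (Ext S.X₃ (ModuleCat.of R M) (1 + i)) :=
          ext_subsingleton_of_residueField_ge M (i + 1) hall (N ⧸ LinearMap.range f) (1 + i)
            (by omega)
        have h2 : Subsingleton (Ext S.X₂ (ModuleCat.of R M) i) := hN i hai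
        exact ext_subsingleton_left_X₁ hS (ModuleCat.of R M) i (1 + i) rfl h2 h3
    intro i hi
    exact claim B i (by omega) (by omega)
  | succ n ih =>
    intro N _ _ _ _ a hd hN
    have h1 : ((1 : ℕ) : ℕ∞) ≤ idealDepth (maximalIdeal R) N := by
      rw [← depth_def, hd]; exact_mod_cast Nat.le_add_left 1 n
    obtain ⟨rs, hlen, hreg, hmem⟩ := exists_of_le_idealDepth (maximalIdeal R) N
      (maximalIdeal_smul_top_ne_top N) 1 h1
    obtain ⟨x, rfl⟩ := List.length_eq_one_iff.mp hlen
    have hx : x ∈ maximalIdeal R := hmem x (by simp)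
    have hxreg : IsSMulRegular N x := ((isWeaklyRegular_cons_iff N x []).mp hreg).1
    haveI : Nontrivial (QuotSMulTop x N) := nontrivial_quotSMulTop_of_mem_maximalIdeal N hx
    have hq := idealDepth_quotSMulTop_add_one (maximalIdeal R) N
      (maximalIdeal_smul_top_ne_top N) x hx hxreg
    have hdq : LocCoh.depth R (QuotSMulTop x N) = n := by
      rw [← depth_def, ← depth_def, hd] at hq
      have : LocCoh.depth R (QuotSMulTop x N) + 1 = (n : ℕ∞) + 1 := by
        rw [hq]; push_cast; rfl
      exact (ENat.add_left_injective_of_ne_top (by simp)) this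
    have hx' : IsSMulRegular (ModuleCat.of R N) x := hxreg
    have hS := hx'.smulShortComplex_shortExact
    have hN1 : ∀ i, a + 1 < i →
        Subsingleton (Ext (ModuleCat.of R (QuotSMulTop x N)) (ModuleCat.of R M) i) := by
      intro i hi
      obtain ⟨i0, rfl⟩ : ∃ i0, i = 1 + i0 := ⟨i - 1, by omega⟩
      have e1 : Subsingleton (Ext (ModuleCat.smulShortComplex (ModuleCat.of R N) x).X₁
          (ModuleCat.of R M) i0) := hN i0 (by omega)
      have e2 : Subsingleton (Ext (ModuleCat.smulShortComplex (ModuleCat.of R N) x).X₂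
          (ModuleCat.of R M) (1 + i0)) := hN (1 + i0) (by omega)
      exact ext_subsingleton_left_X₃ hS (ModuleCat.of R M) i0 (1 + i0) rfl e1 e2
    intro i hi
    exact ih (QuotSMulTop x N) (a + 1) hdq hN1 i (by omega)

/-- If `Ext^i(k, M)` vanishes for large `i` (finite injective dimension), it vanishes for
all `i > depth R`. -/
theorem ext_residueField_subsingleton_of_depth_lt (M : Type u) [AddCommGroup M] [Module R M]
    [Module.Finite R M] (B : ℕ)
    (hB : ∀ i, B ≤ i →
      Subsingleton (Ext (ModuleCat.of R (ResidueField R)) (ModuleCat.of R M) i))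
    (s : ℕ) (hs : LocCoh.depth R R = s) (i : ℕ) (hi : s < i) :
    Subsingleton (Ext (ModuleCat.of R (ResidueField R)) (ModuleCat.of R M) i) := by
  refine ext_residueField_vanishing_aux M B hB s R 0 hs ?_ i (by omega)
  intro j hj
  obtain ⟨j0, rfl⟩ : ∃ j0, j = j0 + 1 := ⟨j - 1, by omega⟩
  haveI : Projective (ModuleCat.of R R) := (IsProjective.iff_projective _).mp inferInstance
  exact ⟨fun a b => by rw [Ext.eq_zero_of_projective a, Ext.eq_zero_of_projective b]⟩

theorem exists_nat_ringKrullDim : ∃ d : ℕ, ringKrullDim R = d := by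
  obtain ⟨d, hd⟩ := exists_nat_supportDim (R := R) R
  rw [Module.supportDim_self_eq_ringKrullDim] at hd
  exact ⟨d, hd⟩

/-- If `R` has finite injective dimension over itself then `dim R ≤ depth R`. -/
theorem ringKrullDim_le_depth_of_ext_vanishing (B : ℕ)
    (hB : ∀ i, B ≤ i →
      Subsingleton (Ext (ModuleCat.of R (ResidueField R)) (ModuleCat.of R R) i)) :
    ringKrullDim R ≤ ((LocCoh.depth R R : ℕ∞) : WithBot ℕ∞) := by
  obtain ⟨d, hd⟩ := exists_nat_ringKrullDim (R := R)
  obtain ⟨s, hs⟩ := ENat.ne_top_iff_exists.mp (depth_ne_top (R := R) R)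
  have hnt := ext_residueField_self_nontrivial d hd
  have hds : d ≤ s := by
    by_contra hlt
    push Not at hlt
    have := ext_residueField_subsingleton_of_depth_lt R B hB s hs.symm d hlt
    exact not_subsingleton _ this
  rw [hd, ← hs]
  exact_mod_cast hds

end Local

/-- A Gorenstein local ring is Cohen–Macaulay. -/
theorem isCohenMacaulayLocalRing_of_isGorensteinLocalRing (A : Type u) [CommRing A]
    [LocCoh.IsGorensteinLocalRing A] : LocCoh.IsCohenMacaulayLocalRing A := by
  obtain ⟨n, hn⟩ := LocCoh.IsGorensteinLocalRing.exists_hasInjectiveDimensionLT (A := A)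
  have hB : ∀ i, n ≤ i →
      Subsingleton (Ext (ModuleCat.of A (ResidueField A)) (ModuleCat.of A A) i) :=
    fun i hi => HasInjectiveDimensionLT.subsingleton _ n i hi _
  refine { supportDim_eq_depth := ?_ }
  rw [Module.supportDim_self_eq_ringKrullDim]
  exact le_antisymm (ringKrullDim_le_depth_of_ext_vanishing n hB) depth_self_le_ringKrullDim

end Groth.Agent.Lead.Depth
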