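import Mathlib
import Groth.Agent.Lib.Lead.Bass3

/-!
# Finite injective dimension of a Noetherian ring over itself
-/

set_option autoImplicit false
set_option linter.style.haveILetI false
universe u v
open CategoryTheory Abelian RingTheory.Sequence LocCoh Pointwise IsLocalRing

namespace Groth.Agent.Lead.Depth

section

variable (A : Type u) [CommRing A] [IsNoetherianRing A]

/-- The `ModuleCat`-localization of `A` at `p` is `A_p`. -/
noncomputable def localizedModuleSelfIso (p : Ideal A) [p.IsPrime] :
    (ModuleCat.of A A).localizedModule p.primeCompl ≅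
      ModuleCat.of (Localization.AtPrime p) (Localization.AtPrime p) :=
  ((Shrink.linearEquiv.{u, u} (Localization.AtPrime p) (LocalizedModule p.primeCompl A)).trans
    ((IsLocalizedModule.linearEquiv p.primeCompl
      (LocalizedModule.mkLinearMap p.primeCompl A)
      (Algebra.linearMap A (Localization.AtPrime p))).extendScalarsOfIsLocalization p.primeCompl
      (Localization.AtPrime p))).toModuleIso

theorem hasInjectiveDimensionLT_localization_self (p : Ideal A) [p.IsPrime] (n : ℕ)
    (h : HasInjectiveDimensionLT (ModuleCat.of A A) (n + 1)) :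
    HasInjectiveDimensionLT
      (ModuleCat.of (Localization.AtPrime p) (Localization.AtPrime p)) (n + 1) := by
  haveI : HasInjectiveDimensionLE (ModuleCat.of A A) n := h
  have h2 : HasInjectiveDimensionLT ((ModuleCat.of A A).localizedModule p.primeCompl) (n + 1) :=
    ModuleCat.localizedModule_hasInjectiveDimensionLE.{u} n p.primeCompl (ModuleCat.of A A)
  exact hasInjectiveDimensionLT_of_iso (localizedModuleSelfIso A p) (n + 1)

/-- For a local ring with `Ext^i(k, R) = 0` for `i > m`, `dim R ≤ m`. -/
theorem ringKrullDim_le_of_ext_vanishing {R : Type u} [CommRing R] [IsLocalRing R]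
    [IsNoetherianRing R] (m : ℕ)
    (hB : ∀ i, m + 1 ≤ i →
      Subsingleton (Ext (ModuleCat.of R (ResidueField R)) (ModuleCat.of R R) i)) :
    ringKrullDim R ≤ m := by
  obtain ⟨d, hd⟩ := exists_nat_ringKrullDim (R := R)
  have hnt := ext_residueField_self_nontrivial d hd
  rw [hd]
  by_contra hlt
  push Not at hlt
  have hlt' : m < d := by exact_mod_cast hlt
  exact not_subsingleton _ (hB d (by omega))

theorem exists_hasInjectiveDimensionLT_self_iff :
    (∃ n : ℕ, HasInjectiveDimensionLT (ModuleCat.of A A) n) ↔
      (LocCoh.IsGorensteinRing A ∧ ringKrullDim A < ⊤) := by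
  constructor
  · rintro ⟨n, hn⟩
    have hn1 : HasInjectiveDimensionLT (ModuleCat.of A A) (n + 1) :=
      hasInjectiveDimensionLT_of_ge _ n (n + 1) (by omega)
    have hloc : ∀ (p : Ideal A) [p.IsPrime], HasInjectiveDimensionLT
        (ModuleCat.of (Localization.AtPrime p) (Localization.AtPrime p)) (n + 1) :=
      fun p _ => hasInjectiveDimensionLT_localization_self A p n hn1
    refine ⟨{ isGorensteinLocalRing_localization := fun p hp =>
      { exists_hasInjectiveDimensionLT := ⟨n + 1, hloc p⟩ } }, ?_⟩
    have hdim : ∀ (p : PrimeSpectrum A), (Order.height p : ℕ∞) ≤ n := by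
      intro p
      have h1 := ringKrullDim_le_of_ext_vanishing (R := Localization.AtPrime p.asIdeal) n
        (fun i hi => HasInjectiveDimensionLT.subsingleton _ (n + 1) i hi _)
      rw [IsLocalization.AtPrime.ringKrullDim_eq_height p.asIdeal,
        PrimeSpectrum.height_eq_orderHeight] at h1
      exact_mod_cast h1
    have h2 : ringKrullDim A ≤ (n : WithBot ℕ∞) := by
      rw [ringKrullDim, Order.krullDim_eq_iSup_height]
      refine iSup_le fun p => ?_
      exact_mod_cast hdim p
    have h3 : ((n : ℕ∞) : WithBot ℕ∞) < ((⊤ : ℕ∞) : WithBot ℕ∞) :=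
      WithBot.coe_lt_coe.mpr (ENat.coe_lt_top n)
    exact lt_of_le_of_lt h2 h3
  · rintro ⟨hG, hdim⟩
    obtain ⟨d, hd⟩ : ∃ d : ℕ, ringKrullDim A ≤ d := by
      induction hx : ringKrullDim A using WithBot.recBotCoe with
      | bot => exact ⟨0, bot_le⟩
      | coe x =>
        rw [hx] at hdim
        have hx' : x ≠ ⊤ := by
          rintro rfl
          exact lt_irrefl _ hdim
        obtain ⟨d, rfl⟩ := ENat.ne_top_iff_exists.mp hx'
        exact ⟨d, le_rfl⟩
    refine ⟨d + 1, ?_⟩
    show HasInjectiveDimensionLE (ModuleCat.of A A) d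
    rw [ModuleCat.hasInjectiveDimensionLE_iff_forall_primeSpectrum.{u}]
    intro p
    haveI := hG.isGorensteinLocalRing_localization p.asIdeal
    obtain ⟨n, hn⟩ := LocCoh.IsGorensteinLocalRing.exists_hasInjectiveDimensionLT
      (A := Localization.AtPrime p.asIdeal)
    have hB : ∀ i, n ≤ i → Subsingleton (Ext (ModuleCat.of (Localization.AtPrime p.asIdeal)
        (ResidueField (Localization.AtPrime p.asIdeal)))
        (ModuleCat.of (Localization.AtPrime p.asIdeal) (Localization.AtPrime p.asIdeal)) i) :=
      fun i hi => HasInjectiveDimensionLT.subsingleton _ n i hi _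
    obtain ⟨s, hs⟩ := ENat.ne_top_iff_exists.mp
      (depth_ne_top (R := Localization.AtPrime p.asIdeal) (Localization.AtPrime p.asIdeal))
    have hsd : s ≤ d := by
      have h1 := depth_self_le_ringKrullDim (R := Localization.AtPrime p.asIdeal)
      rw [← hs, IsLocalization.AtPrime.ringKrullDim_eq_height p.asIdeal] at h1
      have h2 : ((p.asIdeal.height : ℕ∞) : WithBot ℕ∞) ≤ ringKrullDim A :=
        Ideal.height_le_ringKrullDim_of_ne_top p.2.ne_top
      have h3 := (h1.trans h2).trans hd
      exact_mod_cast h3
    have hvan : ∀ i, d + 1 ≤ i → Subsingleton (Ext (ModuleCat.of (Localization.AtPrime p.asIdeal)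
        (ResidueField (Localization.AtPrime p.asIdeal)))
        (ModuleCat.of (Localization.AtPrime p.asIdeal) (Localization.AtPrime p.asIdeal)) i) :=
      fun i hi => ext_residueField_subsingleton_of_depth_lt _ n hB s hs.symm i (by omega)
    have h4 := hasInjectiveDimensionLT_of_ext_residueField
      (R := Localization.AtPrime p.asIdeal) (Localization.AtPrime p.asIdeal) d hvan
    exact hasInjectiveDimensionLT_of_iso (localizedModuleSelfIso A p.asIdeal).symm (d + 1)

end

end Groth.Agent.Lead.Depth
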