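import Mathlib
import Groth.Agent.Lib.Lead.Bass4

/-!
# Gorenstein local rings: `Ext^n(M, R) = 0 ↔ depth M > 0` for `n = dim R`
-/

set_option autoImplicit false
set_option linter.style.haveILetI false
universe u v
open CategoryTheory Abelian RingTheory.Sequence LocCoh Pointwise IsLocalRing

namespace Groth.Agent.Lead.Depth

section Gorenstein

variable {R : Type u} [CommRing R] [LocCoh.IsGorensteinLocalRing R]

/-- For a Gorenstein local ring of dimension `n`, `Ext^i(k, R) = 0` for `i > n`. -/
theorem gorenstein_ext_residueField_subsingleton (n : ℕ) (hn : ringKrullDim R = n) (i : ℕ)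
    (hi : n + 1 ≤ i) :
    Subsingleton (Ext (ModuleCat.of R (ResidueField R)) (ModuleCat.of R R) i) := by
  obtain ⟨B, hB⟩ := LocCoh.IsGorensteinLocalRing.exists_hasInjectiveDimensionLT (A := R)
  have hB' : ∀ i, B ≤ i →
      Subsingleton (Ext (ModuleCat.of R (ResidueField R)) (ModuleCat.of R R) i) :=
    fun i hi => HasInjectiveDimensionLT.subsingleton _ B i hi _
  haveI := isCohenMacaulayLocalRing_of_isGorensteinLocalRing R
  have hCM := LocCoh.IsCohenMacaulayLocalRing.supportDim_eq_depth (R := R)
  rw [Module.supportDim_self_eq_ringKrullDim, hn] at hCM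
  have hs : LocCoh.depth R R = n := by exact_mod_cast hCM.symm
  exact ext_residueField_subsingleton_of_depth_lt R B hB' n hs i (by omega)

/-- For a Gorenstein local ring of dimension `n`, `Ext^i(N, R) = 0` for `i > n`, `N` finite. -/
theorem gorenstein_ext_subsingleton (n : ℕ) (hn : ringKrullDim R = n) (N : Type u)
    [AddCommGroup N] [Module R N] [Module.Finite R N] (i : ℕ) (hi : n + 1 ≤ i) :
    Subsingleton (Ext (ModuleCat.of R N) (ModuleCat.of R R) i) :=
  ext_subsingleton_of_residueField_ge R (n + 1)
    (fun j hj => gorenstein_ext_residueField_subsingleton n hn j hj) N i hi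

theorem gorenstein_depth_pos_iff (n : ℕ) (hn : ringKrullDim R = n) (M : Type u)
    [AddCommGroup M] [Module R M] [Module.Finite R M] [Nontrivial M] :
    0 < LocCoh.depth R M ↔
      Subsingleton (Ext (ModuleCat.of R M) (ModuleCat.of R R) n) := by
  constructor
  · intro hpos
    have h1 : ((1 : ℕ) : ℕ∞) ≤ idealDepth (maximalIdeal R) M := by
      rw [← depth_def, Nat.cast_one]
      exact Order.one_le_iff_pos.mpr hpos
    obtain ⟨rs, hlen, hreg, hmem⟩ := exists_of_le_idealDepth (maximalIdeal R) M
      (maximalIdeal_smul_top_ne_top M) 1 h1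
    obtain ⟨x, rfl⟩ := List.length_eq_one_iff.mp hlen
    have hx : x ∈ maximalIdeal R := hmem x (by simp)
    have hxreg : IsSMulRegular M x := ((isWeaklyRegular_cons_iff M x []).mp hreg).1
    have hx' : IsSMulRegular (ModuleCat.of R M) x := hxreg
    have hS := hx'.smulShortComplex_shortExact
    have h3 : Subsingleton (Ext (ModuleCat.smulShortComplex (ModuleCat.of R M) x).X₃
        (ModuleCat.of R R) (1 + n)) :=
      gorenstein_ext_subsingleton n hn (QuotSMulTop x M) (1 + n) (by omega)
    refine ext_subsingleton_of_smul_surjective (ModuleCat.of R M) (ModuleCat.of R R) n hx ?_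
    intro a
    obtain ⟨x₂, hx₂⟩ := Ext.contravariant_sequence_exact₁ hS (ModuleCat.of R R)
      (show Ext (ModuleCat.smulShortComplex (ModuleCat.of R M) x).X₁ (ModuleCat.of R R) n from a)
      rfl (Subsingleton.elim _ _)
    refine ⟨(show Ext (ModuleCat.of R M) (ModuleCat.of R R) n from x₂), ?_⟩
    rw [← hx₂]
    show _ = (Ext.mk₀ (x • 𝟙 (ModuleCat.of R M))).comp
      (show Ext (ModuleCat.of R M) (ModuleCat.of R R) n from x₂) (zero_add n)
    rw [Ext.mk₀_smul, Ext.smul_comp, Ext.mk₀_id_comp]
  · intro hsub
    by_contra hnpos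
    have h0 : LocCoh.depth R M = 0 := by
      rw [pos_iff_ne_zero, not_not] at hnpos
      exact hnpos
    obtain ⟨f, hf⟩ := exists_injective_residueField_of_depth_eq_zero M h0
    let S : ShortComplex (ModuleCat.{u} R) :=
      ModuleCat.shortComplexOfCompEqZero f (LinearMap.range f).mkQ (by
        ext x
        simp)
    have hex : Function.Exact f (LinearMap.range f).mkQ := by
      intro y
      rw [Submodule.mkQ_apply, Submodule.Quotient.mk_eq_zero]
      rfl
    have hS : S.ShortExact := ModuleCat.shortComplex_shortExact S hex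
      hf (Submodule.mkQ_surjective _)
    have h3 : Subsingleton (Ext S.X₃ (ModuleCat.of R R) (1 + n)) :=
      gorenstein_ext_subsingleton n hn (M ⧸ LinearMap.range f) (1 + n) (by omega)
    have h2 : Subsingleton (Ext S.X₂ (ModuleCat.of R R) n) := hsub
    have h1 : Subsingleton (Ext S.X₁ (ModuleCat.of R R) n) :=
      ext_subsingleton_left_X₁ hS (ModuleCat.of R R) n (1 + n) rfl h2 h3
    have hnt : Nontrivial (Ext S.X₁ (ModuleCat.of R R) n) :=
      ext_residueField_self_nontrivial (R := R) n hn
    exact not_subsingleton _ h1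

end Gorenstein

end Groth.Agent.Lead.Depth
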