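import Mathlib
import Groth.Agent.Lib.Lead.Bass5

/-!
# `depth M_s ≤ depth M_p + ht(s/p)`
-/

set_option autoImplicit false
set_option linter.style.haveILetI false

universe u v

open CategoryTheory Abelian RingTheory.Sequence LocCoh Pointwise IsLocalRing

namespace Groth.Agent.Lead.Depth

section Local

variable {R : Type u} [CommRing R] [IsLocalRing R] [IsNoetherianRing R]

/-- `depth M ≤ depth_I M + dim R/I` over a Noetherian local ring (finite depth case). -/
theorem depth_le_add_ringKrullDim_quotient_aux (I : Ideal R) (hI : I ≠ ⊤) :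
    ∀ (j : ℕ) (M : Type u) [AddCommGroup M] [Module R M] [Module.Finite R M],
      idealDepth I M = j →
      ((LocCoh.depth R M : ℕ∞) : WithBot ℕ∞) ≤ ((j : ℕ∞) : WithBot ℕ∞) + ringKrullDim (R ⧸ I) := by
  intro j
  induction j with
  | zero =>
    intro M _ _ _ hd
    have hnr : ∀ x ∈ I, ¬ IsSMulRegular M x := by
      intro x hx hreg
      have h0 : IsWeaklyRegular M [x] :=
        (isWeaklyRegular_cons_iff M x []).mpr ⟨hreg, IsWeaklyRegular.nil _ _⟩
      have := le_idealDepth_of_isWeaklyRegular I M [x] h0 (by simpa using hx)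
      rw [hd] at this
      simp at this
    obtain ⟨q, hq, hIq⟩ := exists_le_associatedPrime_of_forall_not_regular' M I hnr
    have h1 := depth_le_ringKrullDim_quotient_of_mem_associatedPrimes M q hq
    have h2 : ringKrullDim (R ⧸ q) ≤ ringKrullDim (R ⧸ I) :=
      ringKrullDim_le_of_surjective (Ideal.Quotient.factor hIq)
        (Ideal.Quotient.factor_surjective hIq)
    simpa using h1.trans h2
  | succ j ih =>
    intro M _ _ _ hd
    have hIM : I • (⊤ : Submodule R M) ≠ ⊤ := by
      intro h
      rw [idealDepth_of_eq_top I M h] at hd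
      exact ENat.top_ne_coe _ hd
    have h1 : ((1 : ℕ) : ℕ∞) ≤ idealDepth I M := by
      rw [hd]; exact_mod_cast Nat.le_add_left 1 j
    obtain ⟨rs, hlen, hreg, hmem⟩ := exists_of_le_idealDepth I M hIM 1 h1
    obtain ⟨x, rfl⟩ := List.length_eq_one_iff.mp hlen
    have hxI : x ∈ I := hmem x (by simp)
    have hxm : x ∈ maximalIdeal R := IsLocalRing.le_maximalIdeal hI hxI
    have hxreg : IsSMulRegular M x := ((isWeaklyRegular_cons_iff M x []).mp hreg).1
    have hq := idealDepth_quotSMulTop_add_one I M hIM x hxI hxreg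
    have hdq : idealDepth I (QuotSMulTop x M) = j := by
      rw [hd] at hq
      have : idealDepth I (QuotSMulTop x M) + 1 = (j : ℕ∞) + 1 := by
        rw [hq]; push_cast; rfl
      exact (ENat.add_left_injective_of_ne_top (by simp)) this
    have hih := ih (QuotSMulTop x M) hdq
    haveI : Nontrivial M := by
      by_contra hns
      rw [not_nontrivial_iff_subsingleton] at hns
      apply hIM
      exact Subsingleton.elim _ _
    have hq' := idealDepth_quotSMulTop_add_one (maximalIdeal R) M
      (maximalIdeal_smul_top_ne_top M) x hxm hxreg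
    rw [depth_def, ← hq']
    rw [depth_def] at hih
    calc ((idealDepth (maximalIdeal R) (QuotSMulTop x M) + 1 : ℕ∞) : WithBot ℕ∞)
        = ((idealDepth (maximalIdeal R) (QuotSMulTop x M) : ℕ∞) : WithBot ℕ∞) + 1 := by
          push_cast; rfl
      _ ≤ ((j : ℕ∞) : WithBot ℕ∞) + ringKrullDim (R ⧸ I) + 1 := by gcongr
      _ = (((j + 1 : ℕ) : ℕ∞) : WithBot ℕ∞) + ringKrullDim (R ⧸ I) := by
          push_cast
          rw [add_right_comm]

/-- `depth M ≤ depth_I M + dim R/I` over a Noetherian local ring. -/
theorem depth_le_idealDepth_add_ringKrullDim_quotient (I : Ideal R) (hI : I ≠ ⊤) (M : Type u)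
    [AddCommGroup M] [Module R M] [Module.Finite R M] :
    ((LocCoh.depth R M : ℕ∞) : WithBot ℕ∞) ≤
      ((idealDepth I M : ℕ∞) : WithBot ℕ∞) + ringKrullDim (R ⧸ I) := by
  induction hj : idealDepth I M using ENat.recTopCoe with
  | top =>
    haveI : Nontrivial (R ⧸ I) := Ideal.Quotient.nontrivial_iff.mpr hI
    have hne : ringKrullDim (R ⧸ I) ≠ ⊥ := by
      intro h
      have := ringKrullDim_nonneg_of_nontrivial (R := R ⧸ I)
      rw [h] at this
      simp at this
    obtain ⟨y, hy⟩ := WithBot.ne_bot_iff_exists.mp hne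
    rw [← hy, ← WithBot.coe_add, top_add]
    exact WithBot.coe_le_coe.mpr le_top
  | coe j => exact depth_le_add_ringKrullDim_quotient_aux I hI j M hj

end Local

end Groth.Agent.Lead.Depth
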