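import Mathlib
import Groth.Agent.Lib.Lead.Depth18

/-!
# `depth M_s ≤ depth M_p + ht(s/p)` (non-local part)
-/

set_option autoImplicit false
set_option linter.style.haveILetI false

universe u v

open CategoryTheory Abelian RingTheory.Sequence LocCoh Pointwise IsLocalRing

namespace Groth.Agent.Lead.Depth

section General

variable {R : Type u} [CommRing R]

theorem localizedModule_mk_eq_zero_iff (S : Submonoid R) {M : Type v} [AddCommGroup M] [Module R M]
    (m : M) (t : S) : (LocalizedModule.mk m t : LocalizedModule S M) = 0 ↔ ∃ u ∈ S, u • m = 0 := by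
  rw [← LocalizedModule.zero_mk (1 : S), LocalizedModule.mk_eq]
  constructor
  · rintro ⟨u, hu⟩
    refine ⟨u.1, u.2, ?_⟩
    simpa [Submonoid.smul_def] using hu
  · rintro ⟨s, hs, h⟩
    exact ⟨⟨s, hs⟩, by simp [Submonoid.smul_def, h]⟩

theorem isSMulRegular_localizedModule_iff (S : Submonoid R) (a : R) (M : Type v) [AddCommGroup M]
    [Module R M] :
    IsSMulRegular (LocalizedModule S M) (algebraMap R (Localization S) a) ↔
      ∀ m : M, (∃ u ∈ S, u • a • m = 0) → ∃ v ∈ S, v • m = 0 := by
  rw [isSMulRegular_iff_right_eq_zero_of_smul]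
  constructor
  · intro h m ⟨u, hu, hum⟩
    have h1 : algebraMap R (Localization S) a • (LocalizedModule.mk m 1 : LocalizedModule S M)
        = 0 := by
      rw [algebraMap_smul, LocalizedModule.smul'_mk, localizedModule_mk_eq_zero_iff]
      exact ⟨u, hu, hum⟩
    exact (localizedModule_mk_eq_zero_iff S m 1).mp (h _ h1)
  · intro h x hx
    induction x using LocalizedModule.induction_on with
    | h m t =>
      rw [algebraMap_smul, LocalizedModule.smul'_mk, localizedModule_mk_eq_zero_iff] at hx
      rw [localizedModule_mk_eq_zero_iff]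
      exact h m hx

theorem isSMulRegular_localizedModule_of_le (p s : Ideal R) [p.IsPrime] [s.IsPrime] (hps : p ≤ s)
    (a : R) (M : Type v) [AddCommGroup M] [Module R M]
    (h : IsSMulRegular (LocalizedModule s.primeCompl M) (algebraMap R (Localization.AtPrime s) a)) :
    IsSMulRegular (LocalizedModule p.primeCompl M) (algebraMap R (Localization.AtPrime p) a) := by
  rw [isSMulRegular_localizedModule_iff] at h ⊢
  rintro m ⟨u, hu, hum⟩
  obtain ⟨v, hv, hvm⟩ := h (u • m) ⟨1, Submonoid.one_mem _, by rw [one_smul, smul_comm]; exact hum⟩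
  exact ⟨v * u, p.primeCompl.mul_mem (fun hvp => hv (hps hvp)) hu, by rw [mul_smul]; exact hvm⟩

theorem subsingleton_localizedModule_of_le (p s : Ideal R) [p.IsPrime] [s.IsPrime] (hps : p ≤ s)
    (M : Type v) [AddCommGroup M] [Module R M] (h : Subsingleton (LocalizedModule s.primeCompl M)) :
    Subsingleton (LocalizedModule p.primeCompl M) := by
  refine ⟨fun x y => ?_⟩
  suffices ∀ z : LocalizedModule p.primeCompl M, z = 0 by rw [this x, this y]
  intro z
  induction z using LocalizedModule.induction_on with
  | h m t =>
    rw [localizedModule_mk_eq_zero_iff]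
    have h0 : (LocalizedModule.mk m 1 : LocalizedModule s.primeCompl M) = 0 :=
      Subsingleton.elim _ _
    obtain ⟨u, hu, hum⟩ := (localizedModule_mk_eq_zero_iff _ m 1).mp h0
    exact ⟨u, fun hup => hu (hps hup), hum⟩

end General

section Noeth

variable {R : Type u} [CommRing R] [IsNoetherianRing R]

/-- `depth_{p R_s} M_s ≤ depth M_p` for primes `p ≤ s`. -/
theorem le_depth_of_le_idealDepth_map (p s : Ideal R) [p.IsPrime] [s.IsPrime] (hps : p ≤ s) :
    ∀ (j : ℕ) (M : Type u) [AddCommGroup M] [Module R M] [Module.Finite R M],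
      (j : ℕ∞) ≤ idealDepth (p.map (algebraMap R (Localization.AtPrime s)))
        (LocalizedModule s.primeCompl M) →
      (j : ℕ∞) ≤ LocCoh.depth (Localization.AtPrime p) (LocalizedModule p.primeCompl M) := by
  intro j
  induction j with
  | zero => intro M _ _ _ _; simp
  | succ j ih =>
    intro M _ _ _ hj
    by_cases hMp : Subsingleton (LocalizedModule p.primeCompl M)
    · rw [depth_eq_top_of_subsingleton]; exact le_top
    rw [not_subsingleton_iff_nontrivial] at hMp
    have hMs : Nontrivial (LocalizedModule s.primeCompl M) := by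
      by_contra hns
      rw [not_nontrivial_iff_subsingleton] at hns
      have := subsingleton_localizedModule_of_le p s hps M hns
      exact not_subsingleton _ this
    set R' := Localization.AtPrime s
    set M' := LocalizedModule s.primeCompl M
    set p' := p.map (algebraMap R R') with hp'
    have hp'le : p' ≤ maximalIdeal R' := by
      rw [hp', Ideal.map_le_iff_le_comap]
      have hcm : Ideal.comap (algebraMap R R') (maximalIdeal R') = s :=
        IsLocalization.AtPrime.under_maximalIdeal R' s
      rw [hcm]
      exact hps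
    have hne : p' • (⊤ : Submodule R' M') ≠ ⊤ := by
      intro h
      apply maximalIdeal_smul_top_ne_top (R := R') M'
      exact top_le_iff.mp (h.ge.trans (Submodule.smul_mono_left hp'le))
    have h1 : ((1 : ℕ) : ℕ∞) ≤ idealDepth p' M' := by
      refine le_trans ?_ hj
      exact_mod_cast Nat.le_add_left 1 j
    obtain ⟨rs, hlen, hreg, hmem⟩ := exists_of_le_idealDepth p' M' hne 1 h1
    obtain ⟨x', rfl⟩ := List.length_eq_one_iff.mp hlen
    have hx'mem : x' ∈ p' := hmem x' (by simp)
    have hx'reg : IsSMulRegular M' x' := ((isWeaklyRegular_cons_iff M' x' []).mp hreg).1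
    have hq := idealDepth_quotSMulTop_add_one p' M' hne x' hx'mem hx'reg
    have hjq : (j : ℕ∞) ≤ idealDepth p' (QuotSMulTop x' M') := by
      rw [← hq] at hj
      push_cast at hj
      exact (ENat.add_le_add_iff_right (by simp)).mp hj
    obtain ⟨⟨⟨a, ha⟩, ⟨t, ht⟩⟩, hat⟩ :=
      (IsLocalization.mem_map_algebraMap_iff s.primeCompl R').mp hx'mem
    simp only at hat
    have hunit : IsUnit (algebraMap R R' t) := IsLocalization.map_units R' ⟨t, ht⟩
    have ha'reg : IsSMulRegular M' (algebraMap R R' a) := by
      rw [← hat]
      exact hx'reg.mul (hunit.isSMulRegular M')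
    have hsub : algebraMap R R' a • (⊤ : Submodule R' M') = x' • (⊤ : Submodule R' M') := by
      rw [← hat]
      apply le_antisymm
      · rintro _ ⟨m, -, rfl⟩
        change (x' * algebraMap R R' t) • m ∈ _
        rw [mul_smul]
        exact Submodule.smul_mem_pointwise_smul _ _ _ Submodule.mem_top
      · rintro _ ⟨m, -, rfl⟩
        obtain ⟨w, hw⟩ := hunit.exists_right_inv
        change x' • m ∈ _
        have : x' • m = (x' * algebraMap R R' t) • (w • m) := by
          rw [← mul_smul, mul_assoc, hw, mul_one]
        rw [this]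
        exact Submodule.smul_mem_pointwise_smul _ _ _ Submodule.mem_top
    have e1 : QuotSMulTop (algebraMap R R' a) M' ≃ₗ[R'] QuotSMulTop x' M' :=
      Submodule.quotEquivOfEq _ _ hsub
    have e2 := localizedQuotSMulTopEquiv s a M
    have hj2 : (j : ℕ∞) ≤ idealDepth p' (LocalizedModule s.primeCompl (QuotSMulTop a M)) := by
      rw [idealDepth_congr p' (e2.trans e1)]
      exact hjq
    have hih := ih (QuotSMulTop a M) hj2
    set a_p := algebraMap R (Localization.AtPrime p) a with ha_p
    have hapreg : IsSMulRegular (LocalizedModule p.primeCompl M) a_p :=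
      isSMulRegular_localizedModule_of_le p s hps a M ha'reg
    have hapmem : a_p ∈ maximalIdeal (Localization.AtPrime p) :=
      (IsLocalization.AtPrime.to_map_mem_maximal_iff _ p a).mpr ha
    rw [depth_congr (R := Localization.AtPrime p) (localizedQuotSMulTopEquiv p a M)] at hih
    have hq' := idealDepth_quotSMulTop_add_one (maximalIdeal (Localization.AtPrime p))
      (LocalizedModule p.primeCompl M) (maximalIdeal_smul_top_ne_top _) a_p hapmem hapreg
    rw [depth_def, ← hq']
    rw [depth_def] at hih
    push_cast
    exact add_le_add_left hih 1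

theorem idealDepth_map_le_depth (p s : Ideal R) [p.IsPrime] [s.IsPrime] (hps : p ≤ s)
    (M : Type u) [AddCommGroup M] [Module R M] [Module.Finite R M] :
    idealDepth (p.map (algebraMap R (Localization.AtPrime s))) (LocalizedModule s.primeCompl M) ≤
      LocCoh.depth (Localization.AtPrime p) (LocalizedModule p.primeCompl M) :=
  ENat.forall_natCast_le_iff_le.mp fun j hj => le_depth_of_le_idealDepth_map p s hps j M hj

end Noeth

end Groth.Agent.Lead.Depth
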