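import Mathlib
import Groth.Agent.Lib.Lead.Depth19

/-!
# `depth M_s ≤ depth M_p + ht(s/p)` (main statement)
-/

set_option autoImplicit false
set_option linter.style.haveILetI false

universe u v

open CategoryTheory Abelian RingTheory.Sequence LocCoh Pointwise IsLocalRing

namespace Groth.Agent.Lead.Depth

variable {R : Type u} [CommRing R]

theorem algebraMapSubmonoid_quotient_primeCompl (p s : Ideal R) [s.IsPrime] (hps : p ≤ s)
    [(s.map (Ideal.Quotient.mk p)).IsPrime] :
    Algebra.algebraMapSubmonoid (R ⧸ p) s.primeCompl =
      (s.map (Ideal.Quotient.mk p)).primeCompl := by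
  ext x
  obtain ⟨x, rfl⟩ := Ideal.Quotient.mk_surjective x
  have hmem : Ideal.Quotient.mk p x ∈ s.map (Ideal.Quotient.mk p) ↔ x ∈ s := by
    rw [Ideal.mem_map_iff_of_surjective _ Ideal.Quotient.mk_surjective]
    constructor
    · rintro ⟨y, hy, hyx⟩
      have : y - x ∈ p := by
        rw [← Ideal.Quotient.eq]; exact hyx
      have hx : x = y - (y - x) := by ring
      rw [hx]
      exact s.sub_mem hy (hps this)
    · intro hx
      exact ⟨x, hx, rfl⟩
  constructor
  · rintro ⟨y, hy, hyx⟩
    change Ideal.Quotient.mk p x ∉ s.map (Ideal.Quotient.mk p)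
    rw [hmem]
    intro hx
    have hyx' : Ideal.Quotient.mk p y = Ideal.Quotient.mk p x := hyx
    have : y - x ∈ p := by
      rw [← Ideal.Quotient.eq]; exact hyx'
    apply hy
    have hy' : y = x + (y - x) := by ring
    change y ∈ s
    rw [hy']
    exact s.add_mem hx (hps this)
  · intro hx
    change Ideal.Quotient.mk p x ∉ s.map (Ideal.Quotient.mk p) at hx
    rw [hmem] at hx
    exact ⟨x, hx, rfl⟩

theorem ringKrullDim_localization_quotient_map (p s : Ideal R) [p.IsPrime] [s.IsPrime]
    (hps : p ≤ s) :
    ringKrullDim (Localization.AtPrime s ⧸ p.map (algebraMap R (Localization.AtPrime s))) =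
      (((s.map (Ideal.Quotient.mk p)).height : ℕ∞) : WithBot ℕ∞) := by
  haveI : (s.map (Ideal.Quotient.mk p)).IsPrime :=
    Ideal.map_isPrime_of_surjective Ideal.Quotient.mk_surjective (by rw [Ideal.mk_ker]; exact hps)
  have h1 : IsLocalization (Algebra.algebraMapSubmonoid (R ⧸ p) s.primeCompl)
      (Localization.AtPrime s ⧸ p.map (algebraMap R (Localization.AtPrime s))) := inferInstance
  rw [algebraMapSubmonoid_quotient_primeCompl p s hps] at h1
  haveI : IsLocalization.AtPrime
      (Localization.AtPrime s ⧸ p.map (algebraMap R (Localization.AtPrime s)))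
      (s.map (Ideal.Quotient.mk p)) := h1
  exact IsLocalization.AtPrime.ringKrullDim_eq_height (s.map (Ideal.Quotient.mk p)) _

/-- `depth M_s ≤ depth M_p + ht(s/p)`. -/
theorem depth_localizedModule_le_add_height [IsNoetherianRing R] (p s : Ideal R) [p.IsPrime]
    [s.IsPrime] (hps : p ≤ s) (M : Type u) [AddCommGroup M] [Module R M] [Module.Finite R M] :
    LocCoh.depth (Localization.AtPrime s) (LocalizedModule s.primeCompl M) ≤
      LocCoh.depth (Localization.AtPrime p) (LocalizedModule p.primeCompl M) +
        (s.map (Ideal.Quotient.mk p)).height := by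
  have hp'le : p.map (algebraMap R (Localization.AtPrime s)) ≤
      maximalIdeal (Localization.AtPrime s) := by
    rw [Ideal.map_le_iff_le_comap]
    have hcm : Ideal.comap (algebraMap R (Localization.AtPrime s))
        (maximalIdeal (Localization.AtPrime s)) = s :=
      IsLocalization.AtPrime.under_maximalIdeal (Localization.AtPrime s) s
    rw [hcm]
    exact hps
  have hp'ne : p.map (algebraMap R (Localization.AtPrime s)) ≠ ⊤ := by
    intro h
    rw [h] at hp'le
    exact (maximalIdeal.isMaximal (Localization.AtPrime s)).ne_top (top_le_iff.mp hp'le)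
  have h1 := depth_le_idealDepth_add_ringKrullDim_quotient
    (p.map (algebraMap R (Localization.AtPrime s))) hp'ne (LocalizedModule s.primeCompl M)
  rw [ringKrullDim_localization_quotient_map p s hps] at h1
  have h2 := idealDepth_map_le_depth p s hps M
  have h3 : LocCoh.depth (Localization.AtPrime s) (LocalizedModule s.primeCompl M) ≤
      idealDepth (p.map (algebraMap R (Localization.AtPrime s))) (LocalizedModule s.primeCompl M) +
        (s.map (Ideal.Quotient.mk p)).height := by
    exact_mod_cast h1
  exact h3.trans (add_le_add_left h2 _)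

end Groth.Agent.Lead.Depth
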