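import Mathlib
import Groth.Agent.Lib.Lead.Depth20
import Groth.Agent.Lib.Helper21.DepthFin

/-!
# Depth along surjections / ring isomorphisms; depth of `A_q` vs `(A/t)_Q`
-/

set_option autoImplicit false
set_option linter.style.haveILetI false

universe u v

open CategoryTheory Abelian RingTheory.Sequence LocCoh Pointwise IsLocalRing

namespace Groth.Agent.Lead.Depth

section Surj

variable {R₁ R₂ : Type u} [CommRing R₁] [CommRing R₂] [IsLocalRing R₁] [IsLocalRing R₂]
  [IsNoetherianRing R₁]

/-- Depth does not change along a surjective local map. -/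
theorem depth_eq_of_surjective [Algebra R₁ R₂] (h : Function.Surjective (algebraMap R₁ R₂))
    (N : Type u) [AddCommGroup N] [Module R₂ N] [Module R₁ N] [IsScalarTower R₁ R₂ N]
    [Module.Finite R₂ N] : LocCoh.depth R₁ N = LocCoh.depth R₂ N := by
  haveI : Module.Finite R₁ R₂ := Module.Finite.of_surjective (Algebra.linearMap R₁ R₂) h
  rw [depth_def, depth_def, Groth.Agent.Helper21.DF.idealDepth_eq_map (B := R₂) (maximalIdeal R₁) N,
    IsLocalRing.map_maximalIdeal_of_surjective _ h]

/-- Depth of a ring over itself is invariant under ring isomorphisms. -/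
theorem depth_self_eq_of_ringEquiv (e : R₁ ≃+* R₂) :
    LocCoh.depth R₁ R₁ = LocCoh.depth R₂ R₂ := by
  letI : Algebra R₁ R₂ := e.toRingHom.toAlgebra
  have h : Function.Surjective (algebraMap R₁ R₂) := e.surjective
  have h1 := depth_eq_of_surjective h R₂
  have h2 : LocCoh.depth R₁ R₁ = LocCoh.depth R₁ R₂ :=
    depth_congr (LinearEquiv.ofBijective (Algebra.linearMap R₁ R₂) e.bijective)
  exact h2.trans h1

end Surj

section Quot

variable {A : Type u} [CommRing A] [IsNoetherianRing A]

/-- `depth (A/t)_Q + 1 = depth A_q` for a nonzerodivisor `t ∈ q`, `Q = q/(t)`. -/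
theorem depth_localization_quotient_add_one (t : A) (ht : t ∈ nonZeroDivisors A) (q : Ideal A)
    [q.IsPrime] (htq : t ∈ q) [(q.map (Ideal.Quotient.mk (Ideal.span {t}))).IsPrime] :
    LocCoh.depth (Localization.AtPrime (q.map (Ideal.Quotient.mk (Ideal.span {t}))))
        (Localization.AtPrime (q.map (Ideal.Quotient.mk (Ideal.span {t})))) + 1 =
      LocCoh.depth (Localization.AtPrime q) (Localization.AtPrime q) := by
  have hIq : Ideal.span {t} ≤ q := (Ideal.span_singleton_le_iff_mem q).mpr htq
  have h1 : IsLocalization (Algebra.algebraMapSubmonoid (A ⧸ Ideal.span {t}) q.primeCompl)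
      (Localization.AtPrime q ⧸ (Ideal.span {t}).map (algebraMap A (Localization.AtPrime q))) :=
    inferInstance
  rw [algebraMapSubmonoid_quotient_primeCompl (Ideal.span {t}) q hIq] at h1
  haveI hloc : IsLocalization.AtPrime
      (Localization.AtPrime q ⧸ (Ideal.span {t}).map (algebraMap A (Localization.AtPrime q)))
      (q.map (Ideal.Quotient.mk (Ideal.span {t}))) := h1
  haveI : IsLocalRing
      (Localization.AtPrime q ⧸ (Ideal.span {t}).map (algebraMap A (Localization.AtPrime q))) :=
    IsLocalization.AtPrime.isLocalRing _ (q.map (Ideal.Quotient.mk (Ideal.span {t})))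
  have e := IsLocalization.algEquiv (q.map (Ideal.Quotient.mk (Ideal.span {t}))).primeCompl
    (Localization.AtPrime (q.map (Ideal.Quotient.mk (Ideal.span {t}))))
    (Localization.AtPrime q ⧸ (Ideal.span {t}).map (algebraMap A (Localization.AtPrime q)))
  rw [depth_self_eq_of_ringEquiv e.toRingEquiv,
    ← depth_eq_of_surjective (R₁ := Localization.AtPrime q) Ideal.Quotient.mk_surjective]
  have h3 : (Ideal.span {t}).map (algebraMap A (Localization.AtPrime q)) =
      Ideal.span {algebraMap A (Localization.AtPrime q) t} := by
    rw [Ideal.map_span, Set.image_singleton]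
  have e2 : (Localization.AtPrime q ⧸
        (Ideal.span {t}).map (algebraMap A (Localization.AtPrime q))) ≃ₗ[Localization.AtPrime q]
      (Localization.AtPrime q ⧸ Ideal.span {algebraMap A (Localization.AtPrime q) t}) :=
    Submodule.quotEquivOfEq _ _ h3
  rw [depth_congr e2, depth_def, depth_def]
  have hreg : IsSMulRegular (Localization.AtPrime q) (algebraMap A (Localization.AtPrime q) t) :=
    IsSMulRegular.of_isLocalization (Localization.AtPrime q) q.primeCompl
      ((isRegular_iff_mem_nonZeroDivisors.mpr ht).left.isSMulRegular)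
  exact idealDepth_quotient_span_singleton_self_add_one (maximalIdeal (Localization.AtPrime q))
    (maximalIdeal.isMaximal _).ne_top _
    ((IsLocalization.AtPrime.to_map_mem_maximal_iff _ q t).mpr htq) hreg

end Quot

end Groth.Agent.Lead.Depth
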