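import Mathlib
import Groth.Agent.Lib.Lead.Depth21
import Groth.Agent.Lib.Helper1.LocalFlat

/-!
# Flat local homomorphisms: regular elements on the fibre, and quotient/tensor compatibilities
-/

set_option autoImplicit false
set_option linter.style.haveILetI false

universe u

open TensorProduct LocCoh RingTheory.Sequence Pointwise IsLocalRing

namespace Groth.Agent.Lead.FlatDepth

section General

variable {R S : Type u} [CommRing R] [CommRing S] [Algebra R S]
variable (N : Type u) [AddCommGroup N] [Module S N] [Module R N] [IsScalarTower R S N]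
variable (M : Type u) [AddCommGroup M] [Module R M]

theorem finite_tensor [Module.Finite S N] [Module.Finite R M] : Module.Finite S (N ⊗[R] M) := by
  obtain ⟨n, f, hf⟩ := Module.Finite.exists_fin' R M
  have hsurj : Function.Surjective (AlgebraTensorModule.lTensor S N f) :=
    LinearMap.lTensor_surjective N hf
  haveI : Module.Finite S (N ⊗[R] (Fin n → R)) :=
    Module.Finite.equiv (TensorProduct.piScalarRight R S N (Fin n)).symm
  exact Module.Finite.of_surjective _ hsurj

/-- A surjective `S`-linear map whose kernel is `s • ⊤` identifies the target with `QuotSMulTop`. -/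
noncomputable def quotSMulTopEquivOfExact {P Q : Type u} [AddCommGroup P] [Module S P]
    [AddCommGroup Q] [Module S Q] (s : S) (f : P →ₗ[S] Q) (hf : Function.Surjective f)
    (hker : ∀ z : P, f z = 0 ↔ ∃ w : P, s • w = z) : QuotSMulTop s P ≃ₗ[S] Q :=
  (Submodule.quotEquivOfEq (s • (⊤ : Submodule S P)) (LinearMap.ker f) (by
    ext z
    rw [LinearMap.mem_ker, hker, Submodule.mem_smul_pointwise_iff_exists]
    simp)) ≪≫ₗ f.quotKerEquivOfSurjective hf

variable {M} in
/-- An `M`-regular element of `R` is `N ⊗ M`-regular when `N` is flat. -/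
theorem isSMulRegular_tensor_of_right [Module.Flat R N] {x : R} (hx : IsSMulRegular M x) :
    IsSMulRegular (N ⊗[R] M) (algebraMap R S x) := by
  rw [isSMulRegular_map (algebraMap R S) (fun z : N ⊗[R] M => algebraMap_smul S x z)]
  exact hx.lTensor N

/-- `(N ⊗ M)/x(N ⊗ M) ≃ N ⊗ (M/xM)`, `S`-linearly. -/
noncomputable def quotSMulTopTensorRight (x : R) :
    QuotSMulTop (algebraMap R S x) (N ⊗[R] M) ≃ₗ[S] N ⊗[R] QuotSMulTop x M :=
  quotSMulTopEquivOfExact (algebraMap R S x)
    (AlgebraTensorModule.lTensor S N (Submodule.mkQ (x • (⊤ : Submodule R M))))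
    (LinearMap.lTensor_surjective N (Submodule.mkQ_surjective _))
    (by
      intro z
      have hex : Function.Exact (LinearMap.lsmul R M x) (Submodule.mkQ (x • (⊤ : Submodule R M))) := by
        intro m
        rw [Submodule.mkQ_apply, Submodule.Quotient.mk_eq_zero,
          Submodule.mem_smul_pointwise_iff_exists]
        simp [Set.mem_range]
      have h2 := lTensor_exact N hex (Submodule.mkQ_surjective _)
      have h3 := h2 z
      change LinearMap.lTensor N (Submodule.mkQ (x • (⊤ : Submodule R M))) z = 0 ↔ _
      rw [h3, Set.mem_range]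
      have h4 : ∀ w : N ⊗[R] M, LinearMap.lTensor N (LinearMap.lsmul R M x) w =
          algebraMap R S x • w := by
        intro w
        rw [algebraMap_smul]
        induction w using TensorProduct.induction_on with
        | zero => simp
        | tmul n m => simp [TensorProduct.tmul_smul]
        | add a b ha hb => rw [map_add, ha, hb, smul_add]
      simp_rw [h4])

/-- Multiplication by `y : S` on `N`, as an `R`-linear map. -/
noncomputable def smulR (y : S) : N →ₗ[R] N := (LinearMap.lsmul S N y).restrictScalars R

@[simp] theorem smulR_apply (y : S) (n : N) : smulR (R := R) N y n = y • n := rfl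

theorem rTensor_smulR_apply (y : S) (z : N ⊗[R] M) :
    LinearMap.rTensor M (smulR (R := R) N y) z = y • z := by
  induction z using TensorProduct.induction_on with
  | zero => simp
  | tmul n m => simp [TensorProduct.smul_tmul']
  | add a b ha hb => rw [map_add, ha, hb, smul_add]

/-- `y` is `N ⊗ M`-regular iff `smulR y ⊗ M` is injective. -/
theorem isSMulRegular_tensor_iff (y : S) :
    IsSMulRegular (N ⊗[R] M) y ↔ Function.Injective (LinearMap.rTensor M (smulR (R := R) N y)) := by
  have : (fun z : N ⊗[R] M => y • z) = LinearMap.rTensor M (smulR (R := R) N y) :=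
    funext fun z => (rTensor_smulR_apply N M y z).symm
  rw [IsSMulRegular, this]

/-- The quotient map `N → N/yN` as an `R`-linear map. -/
noncomputable def mkQR (y : S) : N →ₗ[R] QuotSMulTop y N where
  toFun n := Submodule.Quotient.mk n
  map_add' _ _ := rfl
  map_smul' _ _ := rfl

theorem mkQR_surjective (y : S) : Function.Surjective (mkQR (R := R) N y) := by
  intro q
  obtain ⟨n, rfl⟩ := Submodule.Quotient.mk_surjective _ q
  exact ⟨n, rfl⟩

theorem algRTensor_mkQ_apply (y : S) (z : N ⊗[R] M) :
    AlgebraTensorModule.rTensor R M (Submodule.mkQ (y • (⊤ : Submodule S N))) z =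
      LinearMap.rTensor M (mkQR (R := R) N y) z := by
  induction z using TensorProduct.induction_on with
  | zero => simp
  | tmul n m => rfl
  | add a b ha hb => rw [map_add, map_add, ha, hb]

theorem exact_smulR_mkQR (y : S) : Function.Exact (smulR (R := R) N y) (mkQR (R := R) N y) := by
  intro n
  change (Submodule.Quotient.mk n : N ⧸ (y • (⊤ : Submodule S N))) = 0 ↔ _
  rw [Submodule.Quotient.mk_eq_zero, Submodule.mem_smul_pointwise_iff_exists]
  simp [Set.mem_range]

/-- `(N ⊗ M)/y(N ⊗ M) ≃ (N/yN) ⊗ M`, `S`-linearly. -/
noncomputable def quotSMulTopTensorLeft (y : S) :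
    QuotSMulTop y (N ⊗[R] M) ≃ₗ[S] (QuotSMulTop y N) ⊗[R] M :=
  quotSMulTopEquivOfExact y
    (AlgebraTensorModule.rTensor R M (Submodule.mkQ (y • (⊤ : Submodule S N))))
    (by
      intro q
      obtain ⟨z, hz⟩ := LinearMap.rTensor_surjective M (mkQR_surjective (R := R) N y) q
      exact ⟨z, (algRTensor_mkQ_apply N M y z).trans hz⟩)
    (by
      intro z
      have h2 := rTensor_exact M (exact_smulR_mkQR (R := R) N y) (mkQR_surjective (R := R) N y)
      have h3 := h2 z
      rw [algRTensor_mkQ_apply, h3, Set.mem_range]
      simp_rw [rTensor_smulR_apply])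

/-- If `y` is `N`-regular and `N/yN` is `R`-flat then `y` is `N ⊗ M`-regular. -/
theorem isSMulRegular_tensor_of_left (y : S) (hy : IsSMulRegular N y)
    [Module.Flat R (QuotSMulTop y N)] : IsSMulRegular (N ⊗[R] M) y := by
  rw [isSMulRegular_tensor_iff, ← LinearMap.lTensor_inj_iff_rTensor_inj]
  exact LinearMap.lTensor_injective_of_exact_of_flat (mkQR (R := R) N y) (mkQR_surjective N y)
    (smulR (R := R) N y) hy (exact_smulR_mkQR N y) M

end General

end Groth.Agent.Lead.FlatDepth
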