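import Mathlib
import Groth.Agent.Lib.Lead.Flat4

/-!
# Depth formula for flat local homomorphisms

`depth_S (N ⊗_R M) = depth_R M + depth_S (N ⊗_R k)`.
-/

set_option autoImplicit false
set_option linter.style.haveILetI false
set_option linter.unusedSectionVars false

universe u

open TensorProduct LocCoh RingTheory.Sequence Pointwise IsLocalRing

namespace Groth.Agent.Lead.FlatDepth

open Groth.Agent.Lead.Depth

section Aux

variable {A : Type u} [CommRing A] [IsLocalRing A] [IsNoetherianRing A]

theorem nontrivial_of_depth_ne_top (X : Type u) [AddCommGroup X] [Module A X]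
    (h : LocCoh.depth A X ≠ ⊤) : Nontrivial X := by
  by_contra hcon
  rw [not_nontrivial_iff_subsingleton] at hcon
  exact h (depth_eq_top_of_subsingleton X)

theorem smul_top_ne_top_of_depth_ne_top (X : Type u) [AddCommGroup X] [Module A X]
    (h : LocCoh.depth A X ≠ ⊤) : maximalIdeal A • (⊤ : Submodule A X) ≠ ⊤ :=
  fun htop => h (idealDepth_of_eq_top _ X htop)

/-- If `depth X = 0` then the maximal ideal is an associated prime of `X`. -/
theorem maximalIdeal_mem_associatedPrimes_of_depth_eq_zero (X : Type u) [AddCommGroup X]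
    [Module A X] [Module.Finite A X] (h : LocCoh.depth A X = 0) :
    maximalIdeal A ∈ associatedPrimes A X := by
  have hreg : ∀ x ∈ maximalIdeal A, ¬ IsSMulRegular X x := by
    intro x hx hreg
    have h1 := le_idealDepth_of_isWeaklyRegular (maximalIdeal A) X [x]
      ((isWeaklyRegular_singleton_iff X x).mpr hreg) (by simpa using hx)
    rw [← depth_def, h] at h1
    simp at h1
  obtain ⟨p, hp, hle⟩ := exists_le_associatedPrime_of_forall_not_regular' X (maximalIdeal A) hreg
  have : maximalIdeal A = p := (maximalIdeal.isMaximal A).eq_of_le hp.isPrime.ne_top hle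
  rw [this]; exact hp

/-- If the maximal ideal is an associated prime of `X`, the residue field embeds in `X`. -/
theorem exists_injective_of_maximalIdeal_mem_associatedPrimes (X : Type u) [AddCommGroup X]
    [Module A X] (h : maximalIdeal A ∈ associatedPrimes A X) :
    ∃ ι : (A ⧸ maximalIdeal A) →ₗ[A] X, Function.Injective ι := by
  obtain ⟨-, x, hx⟩ := (isAssociatedPrime_iff (M := X)).mp h
  have hker : LinearMap.ker (LinearMap.toSpanSingleton A X x) = maximalIdeal A := by
    rw [hx]
    ext a
    rw [LinearMap.mem_ker, LinearMap.toSpanSingleton_apply, Submodule.mem_colon_singleton,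
      Submodule.mem_bot]
  refine ⟨Submodule.liftQ (maximalIdeal A) (LinearMap.toSpanSingleton A X x) hker.ge, ?_⟩
  rw [← LinearMap.ker_eq_bot, Submodule.ker_liftQ, hker]
  exact Submodule.mkQ_map_self _

end Aux

section Local

variable {R S : Type u} [CommRing R] [CommRing S] [IsLocalRing R] [IsLocalRing S]
  [IsNoetherianRing R] [IsNoetherianRing S] [Algebra R S] [IsLocalHom (algebraMap R S)]

/-- Stacks 00ME for multiplication by `y`: if `y` is regular on the closed fibre `N ⊗ k` then it is
`N`-regular and `N/yN` is again `R`-flat. -/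
theorem isSMulRegular_and_flat_of_fibre (N : Type u) [AddCommGroup N] [Module S N] [Module R N]
    [IsScalarTower R S N] [Module.Finite S N] [Module.Flat R N] (y : S)
    (hy : IsSMulRegular (N ⊗[R] (R ⧸ maximalIdeal R)) y) :
    IsSMulRegular N y ∧ Module.Flat R (QuotSMulTop y N) := by
  have h : Function.Injective (LinearMap.lTensor (ResidueField R) (smulR (R := R) N y)) := by
    have h1 := (isSMulRegular_tensor_iff N (R ⧸ maximalIdeal R) y).mp hy
    exact (LinearMap.lTensor_inj_iff_rTensor_inj _ _).mpr h1
  have hinj : Function.Injective (smulR (R := R) N y) :=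
    Groth.Agent.Helper1.injective_of_injective_residueField S _ h
  have hflat : Module.Flat R (N ⧸ LinearMap.range (smulR (R := R) N y)) :=
    Groth.Agent.Helper1.flat_quotient_range_of_injective_residueField S _ h
  refine ⟨hinj, ?_⟩
  have heq : LinearMap.range (smulR (R := R) N y) =
      (y • (⊤ : Submodule S N)).restrictScalars R := by
    ext n
    rw [LinearMap.mem_range, Submodule.restrictScalars_mem,
      Submodule.mem_smul_pointwise_iff_exists]
    simp
  let e : (N ⧸ LinearMap.range (smulR (R := R) N y)) ≃ₗ[R] QuotSMulTop y N :=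
    Submodule.quotEquivOfEq _ _ heq ≪≫ₗ
      Submodule.Quotient.restrictScalarsEquiv R (y • (⊤ : Submodule S N))
  exact Module.Flat.of_linearEquiv e.symm

/-- The case `depth M = 0`. -/
theorem depth_tensor_of_depth_eq_zero (s : ℕ) : ∀ (N : Type u) [AddCommGroup N] [Module S N]
    [Module R N] [IsScalarTower R S N] [Module.Finite S N] [Module.Flat R N],
    LocCoh.depth S (N ⊗[R] (R ⧸ maximalIdeal R)) = s →
    ∀ (M : Type u) [AddCommGroup M] [Module R M] [Module.Finite R M], LocCoh.depth R M = 0 →
    LocCoh.depth S (N ⊗[R] M) = s := by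
  induction s with
  | zero =>
    intro N _ _ _ _ _ _ hN M _ _ _ hM
    haveI : Module.Finite S (N ⊗[R] (R ⧸ maximalIdeal R)) := finite_tensor N _
    haveI : Module.Finite S (N ⊗[R] M) := finite_tensor N M
    have hNk : Nontrivial (N ⊗[R] (R ⧸ maximalIdeal R)) :=
      nontrivial_of_depth_ne_top _ (by rw [hN]; simp)
    have h1 := maximalIdeal_mem_associatedPrimes_of_depth_eq_zero
      (N ⊗[R] (R ⧸ maximalIdeal R)) (by simpa using hN)
    have h2 := maximalIdeal_mem_associatedPrimes_of_depth_eq_zero M hM
    obtain ⟨ι, hι⟩ := exists_injective_of_maximalIdeal_mem_associatedPrimes M h2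
    have hinj : Function.Injective (AlgebraTensorModule.lTensor S N ι) :=
      Module.Flat.lTensor_preserves_injective_linearMap ι hι
    have h3 : maximalIdeal S ∈ associatedPrimes S (N ⊗[R] M) :=
      associatedPrimes.subset_of_injective hinj h1
    haveI : Nontrivial (N ⊗[R] M) := hinj.nontrivial
    have := idealDepth_eq_zero_of_mem_associatedPrimes (N ⊗[R] M) (maximalIdeal S) h3
      (maximalIdeal_smul_top_ne_top _)
    rw [depth_def, this]; simp
  | succ s ih =>
    intro N _ _ _ _ _ _ hN M _ _ _ hM
    haveI : Module.Finite S (N ⊗[R] (R ⧸ maximalIdeal R)) := finite_tensor N _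
    haveI : Module.Finite S (N ⊗[R] M) := finite_tensor N M
    have hNk : maximalIdeal S • (⊤ : Submodule S (N ⊗[R] (R ⧸ maximalIdeal R))) ≠ ⊤ :=
      smul_top_ne_top_of_depth_ne_top _ (by rw [hN]; simp)
    obtain ⟨rs, hlen, hreg, hmem⟩ := exists_of_le_idealDepth (maximalIdeal S)
      (N ⊗[R] (R ⧸ maximalIdeal R)) hNk 1 (by rw [← depth_def, hN]; simp)
    obtain ⟨y, rfl⟩ := List.length_eq_one_iff.mp hlen
    have hy : y ∈ maximalIdeal S := hmem y (by simp)
    have hyreg : IsSMulRegular (N ⊗[R] (R ⧸ maximalIdeal R)) y :=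
      (isWeaklyRegular_singleton_iff _ y).mp hreg
    obtain ⟨hyN, hflat⟩ := isSMulRegular_and_flat_of_fibre N y hyreg
    haveI := hflat
    -- depth of the fibre of N/yN
    have h1 := idealDepth_quotSMulTop_add_one (maximalIdeal S) (N ⊗[R] (R ⧸ maximalIdeal R)) hNk
      y hy hyreg
    rw [← depth_def, ← depth_def, hN,
      depth_congr (quotSMulTopTensorLeft N (R ⧸ maximalIdeal R) y)] at h1
    have h2 : LocCoh.depth S (QuotSMulTop y N ⊗[R] (R ⧸ maximalIdeal R)) = s := by
      have : LocCoh.depth S (QuotSMulTop y N ⊗[R] (R ⧸ maximalIdeal R)) + 1 = (s : ℕ∞) + 1 := by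
        rw [h1]; push_cast; rfl
      exact (ENat.add_left_injective_of_ne_top (by simp)) this
    have h3 := ih (QuotSMulTop y N) h2 M hM
    -- back to N ⊗ M
    have hyM : IsSMulRegular (N ⊗[R] M) y := isSMulRegular_tensor_of_left N M y hyN
    haveI : Module.Finite S (QuotSMulTop y N ⊗[R] M) := finite_tensor _ M
    have hne' : Nontrivial (QuotSMulTop y N ⊗[R] M) :=
      nontrivial_of_depth_ne_top _ (by rw [h3]; simp)
    haveI : Nontrivial (N ⊗[R] M) :=
      ((quotSMulTopTensorLeft N M y).surjective.comp
        (Submodule.mkQ_surjective (y • (⊤ : Submodule S (N ⊗[R] M))))).nontrivial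
    have h4 := idealDepth_quotSMulTop_add_one (maximalIdeal S) (N ⊗[R] M)
      (maximalIdeal_smul_top_ne_top _) y hy hyM
    rw [← depth_def, ← depth_def, depth_congr (quotSMulTopTensorLeft N M y), h3] at h4
    rw [← h4]; push_cast; rfl

theorem subsingleton_tensor_of_right (N : Type u) [AddCommGroup N] [Module R N]
    (M : Type u) [AddCommGroup M] [Module R M] [Subsingleton M] : Subsingleton (N ⊗[R] M) := by
  refine ⟨fun a b => ?_⟩
  have h0 : ∀ z : N ⊗[R] M, z = 0 := by
    intro z
    induction z using TensorProduct.induction_on with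
    | zero => rfl
    | tmul n m => rw [Subsingleton.elim m 0, TensorProduct.tmul_zero]
    | add a b ha hb => rw [ha, hb, add_zero]
  rw [h0 a, h0 b]

theorem subsingleton_tensor_of_left (N : Type u) [AddCommGroup N] [Module R N]
    (M : Type u) [AddCommGroup M] [Module R M] [Subsingleton N] : Subsingleton (N ⊗[R] M) := by
  refine ⟨fun a b => ?_⟩
  have h0 : ∀ z : N ⊗[R] M, z = 0 := by
    intro z
    induction z using TensorProduct.induction_on with
    | zero => rfl
    | tmul n m => rw [Subsingleton.elim n 0, TensorProduct.zero_tmul]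
    | add a b ha hb => rw [ha, hb, add_zero]
  rw [h0 a, h0 b]

/-- The induction on `depth M`. -/
theorem depth_tensor_aux (r : ℕ) : ∀ (M : Type u) [AddCommGroup M] [Module R M]
    [Module.Finite R M], LocCoh.depth R M = r →
    ∀ (N : Type u) [AddCommGroup N] [Module S N] [Module R N] [IsScalarTower R S N]
    [Module.Finite S N] [Module.Flat R N],
    LocCoh.depth S (N ⊗[R] (R ⧸ maximalIdeal R)) ≠ ⊤ →
    LocCoh.depth S (N ⊗[R] M) = r + LocCoh.depth S (N ⊗[R] (R ⧸ maximalIdeal R)) := by
  induction r with
  | zero =>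
    intro M _ _ _ hM N _ _ _ _ _ _ hN
    obtain ⟨s, hs⟩ := ENat.ne_top_iff_exists.mp hN
    rw [depth_tensor_of_depth_eq_zero s N hs.symm M (by simpa using hM), ← hs]
    simp
  | succ r ih =>
    intro M _ _ _ hM N _ _ _ _ _ _ hN
    haveI : Module.Finite S (N ⊗[R] M) := finite_tensor N M
    have hMne : maximalIdeal R • (⊤ : Submodule R M) ≠ ⊤ :=
      smul_top_ne_top_of_depth_ne_top _ (by rw [hM]; simp)
    obtain ⟨rs, hlen, hreg, hmem⟩ := exists_of_le_idealDepth (maximalIdeal R) M hMne 1
      (by rw [← depth_def, hM]; simp)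
    obtain ⟨x, rfl⟩ := List.length_eq_one_iff.mp hlen
    have hx : x ∈ maximalIdeal R := hmem x (by simp)
    have hxreg : IsSMulRegular M x := (isWeaklyRegular_singleton_iff _ x).mp hreg
    have h1 := idealDepth_quotSMulTop_add_one (maximalIdeal R) M hMne x hx hxreg
    rw [← depth_def, ← depth_def, hM] at h1
    have h2 : LocCoh.depth R (QuotSMulTop x M) = r := by
      have : LocCoh.depth R (QuotSMulTop x M) + 1 = (r : ℕ∞) + 1 := by
        rw [h1]; push_cast; rfl
      exact (ENat.add_left_injective_of_ne_top (by simp)) this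
    have h3 := ih (QuotSMulTop x M) h2 N hN
    haveI : Module.Finite S (N ⊗[R] QuotSMulTop x M) := finite_tensor N _
    have hne' : Nontrivial (N ⊗[R] QuotSMulTop x M) :=
      nontrivial_of_depth_ne_top _ (by
        rw [h3]
        exact WithTop.add_ne_top.mpr ⟨ENat.coe_ne_top r, hN⟩)
    haveI : Nontrivial (N ⊗[R] M) :=
      ((quotSMulTopTensorRight N M x).surjective.comp
        (Submodule.mkQ_surjective ((algebraMap R S x) • (⊤ : Submodule S (N ⊗[R] M))))).nontrivial
    have hxS : algebraMap R S x ∈ maximalIdeal S := by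
      rw [mem_maximalIdeal, mem_nonunits_iff] at hx ⊢
      exact fun h => hx (isUnit_of_map_unit (algebraMap R S) x h)
    have h4 := idealDepth_quotSMulTop_add_one (maximalIdeal S) (N ⊗[R] M)
      (maximalIdeal_smul_top_ne_top _) (algebraMap R S x) hxS
      (isSMulRegular_tensor_of_right N hxreg)
    rw [← depth_def, ← depth_def, depth_congr (quotSMulTopTensorRight N M x), h3] at h4
    rw [← h4]; push_cast; ring

/-- `N ⊗ k = 0` forces `N = 0`. -/
theorem subsingleton_of_subsingleton_fibre (N : Type u) [AddCommGroup N] [Module S N]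
    [Module R N] [IsScalarTower R S N] [Module.Finite S N]
    [Subsingleton (N ⊗[R] (R ⧸ maximalIdeal R))] : Subsingleton N := by
  by_contra hcon
  rw [not_subsingleton_iff_nontrivial] at hcon
  have h1 : (maximalIdeal R) • (⊤ : Submodule R N) = ⊤ := by
    haveI : Subsingleton (N ⧸ (maximalIdeal R) • (⊤ : Submodule R N)) :=
      (TensorProduct.tensorQuotEquivQuotSMul N (maximalIdeal R)).symm.toEquiv.subsingleton
    exact Submodule.Quotient.subsingleton_iff.mp inferInstance
  have h2 : ((maximalIdeal R).map (algebraMap R S)) • (⊤ : Submodule S N) = ⊤ := by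
    apply Submodule.restrictScalars_injective R
    rw [Ideal.smul_restrictScalars, Submodule.restrictScalars_top, h1]
  have h3 : (maximalIdeal R).map (algebraMap R S) ≤ maximalIdeal S :=
    map_maximalIdeal_le (algebraMap R S)
  have h4 : maximalIdeal S • (⊤ : Submodule S N) = ⊤ :=
    top_le_iff.mp (h2.ge.trans (Submodule.smul_mono_left h3))
  exact maximalIdeal_smul_top_ne_top N h4

/-- **Depth formula for flat local homomorphisms** (tensor form of the fibre). -/
theorem depth_tensor_eq_add (M : Type u) [AddCommGroup M] [Module R M] [Module.Finite R M]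
    (N : Type u) [AddCommGroup N] [Module S N] [Module R N] [IsScalarTower R S N]
    [Module.Finite S N] [Module.Flat R N] :
    LocCoh.depth S (N ⊗[R] M) =
      LocCoh.depth R M + LocCoh.depth S (N ⊗[R] (R ⧸ maximalIdeal R)) := by
  by_cases hM : LocCoh.depth R M = ⊤
  · haveI : Subsingleton M := by
      by_contra hcon
      rw [not_subsingleton_iff_nontrivial] at hcon
      exact depth_ne_top M hM
    haveI := subsingleton_tensor_of_right (R := R) N M
    rw [hM, top_add, depth_eq_top_of_subsingleton]
  by_cases hN : LocCoh.depth S (N ⊗[R] (R ⧸ maximalIdeal R)) = ⊤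
  · haveI : Module.Finite S (N ⊗[R] (R ⧸ maximalIdeal R)) := finite_tensor N _
    haveI : Subsingleton (N ⊗[R] (R ⧸ maximalIdeal R)) := by
      by_contra hcon
      rw [not_subsingleton_iff_nontrivial] at hcon
      exact depth_ne_top _ hN
    haveI : Subsingleton N := subsingleton_of_subsingleton_fibre (R := R) (S := S) N
    haveI := subsingleton_tensor_of_left (R := R) N M
    rw [hN, add_top, depth_eq_top_of_subsingleton]
  obtain ⟨r, hr⟩ := ENat.ne_top_iff_exists.mp hM
  rw [depth_tensor_aux r M hr.symm N hN, ← hr]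

end Local

end Groth.Agent.Lead.FlatDepth
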