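import Mathlib
import Groth.Agent.Lib.Lead.Flat5

/-!
# Depth formula for flat local homomorphisms: closed-fibre form
-/

set_option autoImplicit false
set_option linter.style.haveILetI false
set_option linter.unusedSectionVars false

universe u

open TensorProduct LocCoh RingTheory.Sequence Pointwise IsLocalRing

namespace Groth.Agent.Lead.FlatDepth

open Groth.Agent.Lead.Depth

section

variable {R S : Type u} [CommRing R] [CommRing S] [Algebra R S]

/-- `n ↦ n ⊗ 1`, `S`-linearly. -/
noncomputable def toFibre (I : Ideal R) (N : Type u) [AddCommGroup N] [Module S N] [Module R N]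
    [IsScalarTower R S N] : N →ₗ[S] N ⊗[R] (R ⧸ I) where
  toFun n := n ⊗ₜ[R] (1 : R ⧸ I)
  map_add' a b := TensorProduct.add_tmul a b 1
  map_smul' s n := (TensorProduct.smul_tmul' s n (1 : R ⧸ I)).symm

theorem toFibre_surjective (I : Ideal R) (N : Type u) [AddCommGroup N] [Module S N] [Module R N]
    [IsScalarTower R S N] : Function.Surjective (toFibre (S := S) I N) := by
  intro z
  obtain ⟨q, rfl⟩ := (TensorProduct.tensorQuotEquivQuotSMul N I).symm.surjective z
  obtain ⟨n, rfl⟩ := Submodule.Quotient.mk_surjective _ q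
  exact ⟨n, (TensorProduct.tensorQuotEquivQuotSMul_symm_mk I n).symm⟩

theorem toFibre_ker (I : Ideal R) (N : Type u) [AddCommGroup N] [Module S N] [Module R N]
    [IsScalarTower R S N] :
    LinearMap.ker (toFibre (S := S) I N) = (I.map (algebraMap R S)) • (⊤ : Submodule S N) := by
  ext n
  rw [LinearMap.mem_ker]
  have h1 : toFibre (S := S) I N n = 0 ↔ n ∈ I • (⊤ : Submodule R N) := by
    change n ⊗ₜ[R] (1 : R ⧸ I) = 0 ↔ _
    rw [← (TensorProduct.tensorQuotEquivQuotSMul N I).map_eq_zero_iff]
    have : (1 : R ⧸ I) = Ideal.Quotient.mk I 1 := rfl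
    rw [this, TensorProduct.tensorQuotEquivQuotSMul_tmul_mk, one_smul,
      Submodule.Quotient.mk_eq_zero]
  rw [h1]
  have h2 := Ideal.smul_restrictScalars (R := R) (S := S) I (⊤ : Submodule S N)
  rw [Submodule.restrictScalars_top] at h2
  rw [← h2, Submodule.restrictScalars_mem]

/-- The closed fibre `N ⊗ (R/I) ≃ N / (I S) N`, `S`-linearly. -/
noncomputable def fibreEquiv (I : Ideal R) (N : Type u) [AddCommGroup N] [Module S N]
    [Module R N] [IsScalarTower R S N] :
    (N ⧸ (I.map (algebraMap R S)) • (⊤ : Submodule S N)) ≃ₗ[S] N ⊗[R] (R ⧸ I) :=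
  (Submodule.quotEquivOfEq _ _ (toFibre_ker (S := S) I N).symm) ≪≫ₗ
    (toFibre (S := S) I N).quotKerEquivOfSurjective (toFibre_surjective I N)

end

section Local

variable {R S : Type u} [CommRing R] [CommRing S] [IsLocalRing R] [IsLocalRing S]
  [IsNoetherianRing R] [IsNoetherianRing S] [Algebra R S] [IsLocalHom (algebraMap R S)]

/-- **Depth formula for flat local homomorphisms**:
`depth_S (N ⊗_R M) = depth_R M + depth_S (N / m_R N)`. -/
theorem depth_tensor_eq_add_fibre (M : Type u) [AddCommGroup M] [Module R M] [Module.Finite R M]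
    (N : Type u) [AddCommGroup N] [Module S N] [Module R N] [IsScalarTower R S N]
    [Module.Finite S N] [Module.Flat R N] :
    LocCoh.depth S (N ⊗[R] M) =
      LocCoh.depth R M + LocCoh.depth S
        (N ⧸ (maximalIdeal R).map (algebraMap R S) • (⊤ : Submodule S N)) := by
  rw [depth_tensor_eq_add M N, depth_congr (fibreEquiv (S := S) (maximalIdeal R) N)]

/-- A nonzero module of finite length has depth zero. -/
theorem depth_eq_zero_of_isFiniteLength (X : Type u) [AddCommGroup X] [Module S X]
    [Nontrivial X] (hX : IsFiniteLength S X) : LocCoh.depth S X = 0 := by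
  obtain ⟨hnoeth, hart⟩ := isFiniteLength_iff_isNoetherian_isArtinian.mp hX
  haveI : Module.Finite S X := inferInstance
  by_contra hne
  have h1 : ((1 : ℕ) : ℕ∞) ≤ LocCoh.depth S X := by
    rw [Nat.cast_one]
    exact Order.one_le_iff_pos.mpr (pos_iff_ne_zero.mpr hne)
  obtain ⟨rs, hlen, hreg, hmem⟩ := exists_of_le_idealDepth (maximalIdeal S) X
    (maximalIdeal_smul_top_ne_top X) 1 h1
  obtain ⟨y, rfl⟩ := List.length_eq_one_iff.mp hlen
  have hy : y ∈ maximalIdeal S := hmem y (by simp)
  have hyreg : IsSMulRegular X y := (isWeaklyRegular_singleton_iff _ y).mp hreg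
  have hsurj : Function.Surjective (LinearMap.lsmul S X y) :=
    IsArtinian.surjective_of_injective_endomorphism _ hyreg
  have htop : maximalIdeal S • (⊤ : Submodule S X) = ⊤ := by
    rw [eq_top_iff]
    intro x _
    obtain ⟨x', rfl⟩ := hsurj x
    exact Submodule.smul_mem_smul hy Submodule.mem_top
  exact maximalIdeal_smul_top_ne_top X htop

end Local

end Groth.Agent.Lead.FlatDepth
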