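import Mathlib
import Groth.Prelude.Def_FSch3
import Groth.Agent.Lib.Helper6.ComplMapLib
import Groth.Agent.Lib.Helper14.AdicComplQuot
import Groth.Agent.S0543

/-!
# Adic completion commutes with quotients (ring level)

For a surjective ring map `g : A → C` of a Noetherian ring `A` and ideals `I ⊆ A`, `K = I C`, the
induced map `Â → Ĉ` of adic completions is surjective with kernel `(ker g) Â`.
-/

set_option autoImplicit false
set_option linter.style.haveILetI false
set_option linter.unusedSectionVars false

universe u

open FSch

namespace Groth.Agent.Lead.CQ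

open Groth.Agent.Lib.Helper6.ComplMapLib

variable {A C : Type u} [CommRing A] [CommRing C] (I : Ideal A) (K : Ideal C) (g : A →+* C)

theorem complMap_surjective (hg : Function.Surjective g) (hK : I.map g = K) :
    Function.Surjective (complMap I K g hK.le) := by
  intro y
  obtain ⟨c, rfl⟩ := AdicCompletion.mk_surjective K C y
  have hd : ∀ n, ∃ d : A, d ∈ I ^ n ∧ g d = c (n + 1) - c n := by
    intro n
    have h1 : c (n + 1) - c n ∈ K ^ n := by
      have h0 := c.2 (Nat.le_succ n)
      rw [SModEq.sub_mem] at h0
      simp only [smul_eq_mul, Ideal.mul_top] at h0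
      rw [← neg_sub]
      exact (K ^ n).neg_mem h0
    have h1' : c (n + 1) - c n ∈ (I ^ n).map g := by
      rw [Ideal.map_pow, hK]
      exact h1
    obtain ⟨d, hd, hgd⟩ := (Ideal.mem_map_iff_of_surjective g hg).mp h1'
    exact ⟨d, hd, hgd⟩
  choose d hdI hdg using hd
  obtain ⟨a0, ha0⟩ := hg (c 0)
  let a : ℕ → A := fun n => a0 + ∑ i ∈ Finset.range n, d i
  have hstep : ∀ n, a (n + 1) = a n + d n := by
    intro n
    simp only [a, Finset.sum_range_succ, add_assoc]
  have ha : ∀ n, g (a n) = c n := by
    intro n
    induction n with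
    | zero => simp [a, ha0]
    | succ n ih =>
      rw [hstep, map_add, ih, hdg]
      ring
  let a' : AdicCompletion.AdicCauchySequence I A := AdicCompletion.AdicCauchySequence.mk I A a (by
    intro n
    rw [SModEq.sub_mem]
    have h1 : a n - a (n + 1) = - d n := by rw [hstep]; ring
    rw [h1]
    simp only [smul_eq_mul, Ideal.mul_top]
    exact (I ^ n).neg_mem (hdI n))
  refine ⟨AdicCompletion.mk I A a', ?_⟩
  apply AdicCompletion.ext_evalₐ
  intro n
  rw [evalₐ_complMap, AdicCompletion.evalₐ_mk, AdicCompletion.evalₐ_mk, Ideal.quotientMap_mk]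
  congr 1
  exact ha n

theorem ker_complMap [IsNoetherianRing A] (hg : Function.Surjective g) (hK : I.map g = K) :
    RingHom.ker (complMap I K g hK.le) =
      (RingHom.ker g).map (algebraMap A (AdicCompletion I A)) := by
  have hIfg : I.FG := (isNoetherianRing_iff_ideal_fg A).1 inferInstance I
  haveI hBN : IsNoetherianRing (AdicCompletion I A) := Groth.Agent.S0543.result A I
  haveI hcomp := AdicCompletion.isAdicComplete_self I hIfg
  have hjac : I.map (algebraMap A (AdicCompletion I A)) ≤ Ideal.jacobson ⊥ :=
    IsAdicComplete.le_jacobson_bot _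
  apply le_antisymm
  · intro x hx
    rw [RingHom.mem_ker] at hx
    set J := (RingHom.ker g).map (algebraMap A (AdicCompletion I A)) with hJ
    have h1 : ∀ n, x ∈ J ⊔ (I.map (algebraMap A (AdicCompletion I A))) ^ n := by
      intro n
      obtain ⟨a, ha⟩ := Ideal.Quotient.mk_surjective (AdicCompletion.evalₐ I n x)
      have hsub := Groth.Agent.Helper14.AdicComplQuot.algebraMap_sub_mem I hIfg n x a ha
      have h2 : AdicCompletion.evalₐ K n (complMap I K g hK.le x) = 0 := by rw [hx, map_zero]
      rw [evalₐ_complMap, ← ha, Ideal.quotientMap_mk,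
        Ideal.Quotient.eq_zero_iff_mem] at h2
      have h2' : g a ∈ (I ^ n).map g := by
        rw [Ideal.map_pow, hK]
        exact h2
      obtain ⟨b, hb, hgb⟩ := (Ideal.mem_map_iff_of_surjective g hg).mp h2'
      have hker : a - b ∈ RingHom.ker g := by rw [RingHom.mem_ker, map_sub, hgb, sub_self]
      have e : x = algebraMap A (AdicCompletion I A) (a - b) +
          (algebraMap A (AdicCompletion I A) b + (x - algebraMap A (AdicCompletion I A) a)) := by
        rw [map_sub]; ring
      rw [e]
      refine Ideal.add_mem _ (Ideal.mem_sup_left (Ideal.mem_map_of_mem _ hker))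
        (Ideal.mem_sup_right ?_)
      refine Ideal.add_mem _ ?_ hsub
      rw [← Ideal.map_pow]
      exact Ideal.mem_map_of_mem _ hb
    have h3 := Ideal.iInf_pow_smul_eq_bot_of_le_jacobson (R := AdicCompletion I A)
      (M := AdicCompletion I A ⧸ J) _ hjac
    have h4 : Ideal.Quotient.mk J x ∈
        (⨅ i : ℕ, (I.map (algebraMap A (AdicCompletion I A))) ^ i • ⊤ :
          Submodule (AdicCompletion I A) (AdicCompletion I A ⧸ J)) := by
      rw [Submodule.mem_iInf]
      intro n
      obtain ⟨j, hj, y, hy, hxy⟩ := Submodule.mem_sup.mp (h1 n)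
      have e1 : Ideal.Quotient.mk J x = y • (1 : AdicCompletion I A ⧸ J) := by
        rw [← hxy, map_add, Ideal.Quotient.eq_zero_iff_mem.mpr hj, zero_add, Algebra.smul_def,
          mul_one]
        rfl
      rw [e1]
      exact Submodule.smul_mem_smul hy Submodule.mem_top
    rw [h3, Submodule.mem_bot] at h4
    exact Ideal.Quotient.eq_zero_iff_mem.mp h4
  · rw [Ideal.map_le_iff_le_comap]
    intro a ha
    rw [RingHom.mem_ker] at ha
    rw [Ideal.mem_comap, RingHom.mem_ker]
    have h1 : algebraMap A (AdicCompletion I A) a = AdicCompletion.of I A a := by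
      rw [AdicCompletion.algebraMap_apply, Algebra.algebraMap_self, RingHom.id_apply]
    rw [h1, complMap_of, ha, map_zero]

/-- The completion of a quotient is the quotient of the completion. -/
noncomputable def complQuotEquiv [IsNoetherianRing A] (hg : Function.Surjective g)
    (hK : I.map g = K) :
    (AdicCompletion I A ⧸ (RingHom.ker g).map (algebraMap A (AdicCompletion I A))) ≃+*
      AdicCompletion K C :=
  (Ideal.quotEquivOfEq (ker_complMap I K g hg hK).symm).trans
    (RingHom.quotientKerEquivOfSurjective (complMap_surjective I K g hg hK))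

theorem complQuotEquiv_mk [IsNoetherianRing A] (hg : Function.Surjective g)
    (hK : I.map g = K) (x : AdicCompletion I A) :
    complQuotEquiv I K g hg hK (Ideal.Quotient.mk _ x) = complMap I K g hK.le x := rfl

end Groth.Agent.Lead.CQ
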