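import Mathlib
import Groth.Agent.Lib.Lead.Flat6

/-!
# Regular sequences on the closed fibre lift (flat local homomorphisms)
-/

set_option autoImplicit false
set_option linter.style.haveILetI false
set_option linter.unusedSectionVars false

universe u

open TensorProduct LocCoh RingTheory.Sequence Pointwise IsLocalRing

namespace Groth.Agent.Lead.FlatDepth

open Groth.Agent.Lead.Depth

section Local

variable {R S : Type u} [CommRing R] [CommRing S] [IsLocalRing R] [IsLocalRing S]
  [IsNoetherianRing R] [IsNoetherianRing S] [Algebra R S] [IsLocalHom (algebraMap R S)]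

/-- A sequence which is weakly regular on the closed fibre `N ⊗ k` is weakly regular on `N`
(`N` finite over `S`, flat over `R`). -/
theorem isWeaklyRegular_of_fibre (rs : List S) : ∀ (N : Type u) [AddCommGroup N] [Module S N]
    [Module R N] [IsScalarTower R S N] [Module.Finite S N] [Module.Flat R N],
    IsWeaklyRegular (N ⊗[R] (R ⧸ maximalIdeal R)) rs → IsWeaklyRegular N rs := by
  induction rs with
  | nil => intro N _ _ _ _ _ _ _; exact IsWeaklyRegular.nil S N
  | cons y rs ih =>
    intro N _ _ _ _ _ _ h
    rw [isWeaklyRegular_cons_iff] at h ⊢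
    obtain ⟨hy, hflat⟩ := isSMulRegular_and_flat_of_fibre N y h.1
    haveI := hflat
    refine ⟨hy, ih (QuotSMulTop y N) ?_⟩
    exact ((quotSMulTopTensorLeft N (R ⧸ maximalIdeal R) y).isWeaklyRegular_congr rs).mp h.2

/-- `depth_I (N/m_R N) ≤ depth_I N` for `N` finite over `S` and flat over `R`, `I ≠ ⊤`. -/
theorem idealDepth_fibre_le (I : Ideal S) (hI : I ≠ ⊤) (N : Type u) [AddCommGroup N] [Module S N]
    [Module R N] [IsScalarTower R S N] [Module.Finite S N] [Module.Flat R N] [Nontrivial N] :
    idealDepth I (N ⧸ (maximalIdeal R).map (algebraMap R S) • (⊤ : Submodule S N)) ≤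
      idealDepth I N := by
  have hIm : I ≤ maximalIdeal S := le_maximalIdeal hI
  have hIN : I • (⊤ : Submodule S N) ≠ ⊤ := fun h =>
    maximalIdeal_smul_top_ne_top N (top_le_iff.mp (h.ge.trans (Submodule.smul_mono_left hIm)))
  rw [idealDepth_congr I (fibreEquiv (S := S) (maximalIdeal R) N)]
  refine ENat.forall_natCast_le_iff_le.mp fun n hn => ?_
  by_cases htop : I • (⊤ : Submodule S (N ⊗[R] (R ⧸ maximalIdeal R))) = ⊤
  · -- then the fibre is zero, impossible
    exfalso
    haveI : Module.Finite S (N ⊗[R] (R ⧸ maximalIdeal R)) := finite_tensor N _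
    have h1 : maximalIdeal S • (⊤ : Submodule S (N ⊗[R] (R ⧸ maximalIdeal R))) = ⊤ :=
      top_le_iff.mp (htop.ge.trans (Submodule.smul_mono_left hIm))
    haveI : Subsingleton (N ⊗[R] (R ⧸ maximalIdeal R)) := by
      by_contra hcon
      rw [not_subsingleton_iff_nontrivial] at hcon
      exact maximalIdeal_smul_top_ne_top _ h1
    haveI : Subsingleton N := subsingleton_of_subsingleton_fibre (R := R) (S := S) N
    exact not_subsingleton N inferInstance
  · obtain ⟨rs, hlen, hreg, hmem⟩ := exists_of_le_idealDepth I _ htop n hn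
    rw [← hlen]
    exact le_idealDepth_of_isWeaklyRegular I N rs (isWeaklyRegular_of_fibre rs N hreg) hmem

end Local

end Groth.Agent.Lead.FlatDepth
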