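import Mathlib
import Groth.Agent.Lib.Lead.Flat7
import Groth.Agent.Lib.Helper7.FlatDescent

/-!
# Fibres of flat homomorphisms: depth and dimension formulas, `(S_k)` and Cohen–Macaulay fibres

* `FL p r` : the local ring `S_r / p S_r` of the fibre over `p` at a prime `r` over `p`;
* `depth_dim_eq` : for `R → S` flat Noetherian, `depth S_r = depth R_p + depth (FL p r)`,
  `ht m_{S_r} = ht m_{R_p} + ht m_{FL p r}`;
* `hasSk_fiber_iff`, `isCohenMacaulayRing_fiber_iff` : `(S_k)` / CM for `κ(p) ⊗ S` in terms of the
  `FL p r`;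
* `hasSk_of_flat_of_fibres`, composition and descent of `(S_k)`/CM fibres.
-/

set_option autoImplicit false
set_option linter.style.haveILetI false
set_option linter.unusedSectionVars false

universe u

open TensorProduct LocCoh IsLocalRing

namespace Groth.Agent.Lead.Fib

open Groth.Agent.Lead.Depth Groth.Agent.Lead.FlatDepth

section Arith

theorem sk_iff (k : ℕ) (h d : ℕ∞) :
    min (k : WithBot ℕ∞) ((h : ℕ∞) : WithBot ℕ∞) ≤ ((d : ℕ∞) : WithBot ℕ∞) ↔
      min (k : ℕ∞) h ≤ d := by
  norm_cast

theorem min_add_le' (k a b : ℕ∞) : min k (a + b) ≤ min k a + min k b := by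
  rcases le_total k a with h | h
  · rw [min_eq_left h]; exact (min_le_left _ _).trans le_self_add
  · rcases le_total k b with h' | h'
    · rw [min_eq_left h']; exact (min_le_left _ _).trans le_add_self
    · rw [min_eq_right h, min_eq_right h']; exact min_le_right _ _

theorem enat_cancel {a x y : ℕ∞} (ha : a ≠ ⊤) (h : a + x = a + y) : x = y :=
  ENat.add_right_injective_of_ne_top ha h

end Arith

section Local

variable {R S : Type u} [CommRing R] [CommRing S] [IsLocalRing R] [IsLocalRing S]
  [IsNoetherianRing R] [IsNoetherianRing S] [Algebra R S] [IsLocalHom (algebraMap R S)]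
  [Module.Flat R S]

/-- `depth S = depth R + depth (S / m_R S)` for a flat local homomorphism. -/
theorem depth_eq_add_fibre (I : Ideal S) (hI : I = (maximalIdeal R).map (algebraMap R S))
    [IsLocalRing (S ⧸ I)] :
    LocCoh.depth S S = LocCoh.depth R R + LocCoh.depth (S ⧸ I) (S ⧸ I) := by
  subst hI
  have h := depth_tensor_eq_add_fibre (R := R) (S := S) R S
  have h1 : LocCoh.depth S (S ⊗[R] R) = LocCoh.depth S S :=
    depth_congr (TensorProduct.AlgebraTensorModule.rid R S S)
  have h2 : LocCoh.depth S (S ⧸ (maximalIdeal R).map (algebraMap R S) • (⊤ : Submodule S S)) =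
      LocCoh.depth S (S ⧸ (maximalIdeal R).map (algebraMap R S)) :=
    depth_congr (Submodule.quotEquivOfEq _ _ (by rw [smul_eq_mul, Ideal.mul_top]))
  have h3 : LocCoh.depth S (S ⧸ (maximalIdeal R).map (algebraMap R S)) =
      LocCoh.depth (S ⧸ (maximalIdeal R).map (algebraMap R S))
        (S ⧸ (maximalIdeal R).map (algebraMap R S)) :=
    depth_eq_of_surjective (R₁ := S) (R₂ := S ⧸ (maximalIdeal R).map (algebraMap R S))
      Ideal.Quotient.mk_surjective _
  rw [← h1, h, h2, h3]

/-- `dim S = dim R + dim (S / m_R S)` for a flat local homomorphism (heights of maximal ideals). -/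
theorem height_eq_add_fibre (I : Ideal S) (hI : I = (maximalIdeal R).map (algebraMap R S))
    [IsLocalRing (S ⧸ I)] :
    (maximalIdeal S).height = (maximalIdeal R).height + (maximalIdeal (S ⧸ I)).height := by
  subst hI
  have h := Ideal.height_eq_height_add_of_liesOver_of_hasGoingDown (maximalIdeal R)
    (maximalIdeal S)
  rw [IsLocalRing.map_maximalIdeal_of_surjective
    (Ideal.Quotient.mk ((maximalIdeal R).map (algebraMap R S))) Ideal.Quotient.mk_surjective] at h
  exact h

end Local

section FLdef

variable {R S : Type u} [CommRing R] [CommRing S] [Algebra R S]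

/-- The local ring `S_r / p S_r` of the fibre over `p` at `r`. -/
abbrev FL (p : Ideal R) (r : Ideal S) [r.IsPrime] : Type u :=
  Localization.AtPrime r ⧸ p.map (algebraMap R (Localization.AtPrime r))

theorem map_le_maximalIdeal (p : Ideal R) (r : Ideal S) [r.IsPrime] [r.LiesOver p] :
    p.map (algebraMap R (Localization.AtPrime r)) ≤ maximalIdeal (Localization.AtPrime r) := by
  rw [Ideal.map_le_iff_le_comap]
  intro x hx
  rw [Ideal.mem_comap, IsScalarTower.algebraMap_apply R S (Localization.AtPrime r)]
  refine (IsLocalization.AtPrime.to_map_mem_maximal_iff (Localization.AtPrime r) r _).mpr ?_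
  rw [Ideal.over_def r p] at hx
  exact hx

instance nontrivial_FL (p : Ideal R) (r : Ideal S) [r.IsPrime] [r.LiesOver p] :
    Nontrivial (FL p r) :=
  Ideal.Quotient.nontrivial_iff.mpr (fun h =>
    (maximalIdeal.isMaximal (Localization.AtPrime r)).ne_top
      (top_le_iff.mp (h ▸ map_le_maximalIdeal p r)))

instance isLocalRing_FL (p : Ideal R) (r : Ideal S) [r.IsPrime] [r.LiesOver p] :
    IsLocalRing (FL p r) :=
  IsLocalRing.of_surjective' (Ideal.Quotient.mk _) Ideal.Quotient.mk_surjective

/-- **Depth and dimension formulas** for a flat homomorphism of Noetherian rings at a prime. -/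
theorem depth_dim_eq [IsNoetherianRing R] [IsNoetherianRing S] [Module.Flat R S]
    (p : Ideal R) [p.IsPrime] (r : Ideal S) [r.IsPrime] [r.LiesOver p] :
    LocCoh.depth (Localization.AtPrime r) (Localization.AtPrime r) =
      LocCoh.depth (Localization.AtPrime p) (Localization.AtPrime p) +
        LocCoh.depth (FL p r) (FL p r) ∧
    (maximalIdeal (Localization.AtPrime r)).height =
      (maximalIdeal (Localization.AtPrime p)).height + (maximalIdeal (FL p r)).height := by
  letI : Algebra (Localization.AtPrime p) (Localization.AtPrime r) :=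
    Localization.AtPrime.algebraOfLiesOver p r
  haveI : IsLocalHom (algebraMap (Localization.AtPrime p) (Localization.AtPrime r)) :=
    Localization.isLocalHom_localRingHom _ _ _ _
  have hmap : p.map (algebraMap R (Localization.AtPrime r)) =
      (maximalIdeal (Localization.AtPrime p)).map
        (algebraMap (Localization.AtPrime p) (Localization.AtPrime r)) := by
    rw [← Localization.AtPrime.map_eq_maximalIdeal, Ideal.map_map, ← IsScalarTower.algebraMap_eq]
  exact ⟨depth_eq_add_fibre _ hmap, height_eq_add_fibre _ hmap⟩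

/-- If `q` is minimal over `pS` (and lies over `p`), then `S_q` and `R_p` have the same depth and
dimension. -/
theorem depth_dim_eq_of_mem_minimalPrimes [IsNoetherianRing R] [IsNoetherianRing S]
    [Module.Flat R S] (p : Ideal R) [p.IsPrime] (q : Ideal S) [q.IsPrime]
    (hq : q ∈ (p.map (algebraMap R S)).minimalPrimes) (hover : p = q.comap (algebraMap R S)) :
    LocCoh.depth (Localization.AtPrime q) (Localization.AtPrime q) =
      LocCoh.depth (Localization.AtPrime p) (Localization.AtPrime p) ∧
    (maximalIdeal (Localization.AtPrime q)).height =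
      (maximalIdeal (Localization.AtPrime p)).height := by
  have hflat : (algebraMap R S).Flat := RingHom.flat_algebraMap_iff.mpr inferInstance
  have h1 := hflat.localRingHom q p hover
  haveI := Localization.isLocalHom_localRingHom p q (algebraMap R S) hover
  have hmin : maximalIdeal (Localization.AtPrime q) ∈
      (Ideal.map (Localization.localRingHom p q (algebraMap R S) hover)
        (maximalIdeal (Localization.AtPrime p))).minimalPrimes := by
    rw [← Localization.AtPrime.map_eq_maximalIdeal, Ideal.map_map]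
    have hcomp : (Localization.localRingHom p q (algebraMap R S) hover).comp
        (algebraMap R (Localization.AtPrime p)) =
        (algebraMap S (Localization.AtPrime q)).comp (algebraMap R S) := by
      ext x
      simp
    rw [hcomp, ← Ideal.map_map, IsLocalization.minimalPrimes_map q.primeCompl]
    rw [Set.mem_preimage, Localization.AtPrime.comap_maximalIdeal]
    exact hq
  obtain ⟨hdepth, hdim⟩ := depth_and_dim_eq_of_flat_ringHom (Localization.AtPrime p)
    (Localization.AtPrime q) _ h1 hmin
  refine ⟨hdepth, ?_⟩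
  rw [← IsLocalRing.maximalIdeal_height_eq_ringKrullDim,
    ← IsLocalRing.maximalIdeal_height_eq_ringKrullDim] at hdim
  exact WithBot.coe_injective hdim

end FLdef

section Fiber

variable {R S : Type u} [CommRing R] [CommRing S] [Algebra R S]

attribute [local instance] Algebra.TensorProduct.rightAlgebra in
theorem isNoetherianRing_fiber [IsNoetherianRing S] (p : Ideal R) [p.IsPrime] :
    IsNoetherianRing (p.Fiber S) :=
  isNoetherianRing_of_ringEquiv _ (Ideal.Fiber.algEquivQuotient (S := S) p).symm.toRingEquiv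

/-- The ring isomorphism `(κ(p) ⊗ S)_q ≃ S_r / p S_r`, `r = q ∩ S`. -/
noncomputable def fiberLocEquiv (p : Ideal R) [p.IsPrime] (q : Ideal (p.Fiber S)) [q.IsPrime] :
    Localization.AtPrime q ≃+*
      FL p (q.comap (Algebra.TensorProduct.includeRight : S →ₐ[R] p.Fiber S)) :=
  letI : Algebra (Localization.AtPrime p) (Localization.AtPrime
      (q.comap (Algebra.TensorProduct.includeRight : S →ₐ[R] p.Fiber S))) :=
    Localization.AtPrime.algebraOfLiesOver p _
  (Ideal.Fiber.localizationAlgEquivQuotient p q).toRingEquiv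

/-- Every prime of `S` over `p` is the contraction of a prime of the fibre ring. -/
theorem exists_fiber_prime (p : Ideal R) [p.IsPrime] (r : Ideal S) [r.IsPrime] [r.LiesOver p] :
    ∃ q : PrimeSpectrum (p.Fiber S),
      q.asIdeal.comap (Algebra.TensorProduct.includeRight : S →ₐ[R] p.Fiber S) = r := by
  refine ⟨PrimeSpectrum.primesOverOrderIsoFiber R S p ⟨r, ⟨inferInstance, inferInstance⟩⟩, ?_⟩
  have h1 := (PrimeSpectrum.primesOverOrderIsoFiber R S p).symm_apply_apply
    ⟨r, ⟨inferInstance, inferInstance⟩⟩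
  exact congrArg Subtype.val h1

theorem hasSk_fiber_iff [IsNoetherianRing S] (k : ℕ) (p : Ideal R) [p.IsPrime] :
    LocCoh.HasSk k (p.Fiber S) (p.Fiber S) ↔
      ∀ (r : Ideal S) [r.IsPrime] [r.LiesOver p],
        min (k : ℕ∞) (maximalIdeal (FL p r)).height ≤ LocCoh.depth (FL p r) (FL p r) := by
  haveI := isNoetherianRing_fiber (S := S) p
  rw [hasSk_self_iff]
  have conv : ∀ (q : Ideal (p.Fiber S)) [q.IsPrime],
      (min (k : WithBot ℕ∞) (ringKrullDim (Localization.AtPrime q)) ≤
        ((LocCoh.depth (Localization.AtPrime q) (Localization.AtPrime q) : ℕ∞) : WithBot ℕ∞)) ↔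
      min (k : ℕ∞) (maximalIdeal (FL p (q.comap
        (Algebra.TensorProduct.includeRight : S →ₐ[R] p.Fiber S)))).height ≤
        LocCoh.depth (FL p (q.comap (Algebra.TensorProduct.includeRight : S →ₐ[R] p.Fiber S)))
          (FL p (q.comap (Algebra.TensorProduct.includeRight : S →ₐ[R] p.Fiber S))) := by
    intro q _
    have e := fiberLocEquiv (S := S) p q
    rw [ringKrullDim_eq_of_ringEquiv e, depth_self_eq_of_ringEquiv e,
      ← IsLocalRing.maximalIdeal_height_eq_ringKrullDim]
    exact sk_iff k _ _
  constructor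
  · intro h r _ _
    obtain ⟨q, hq⟩ := exists_fiber_prime p r
    have key : ∀ (r' : Ideal S) [r'.IsPrime] [r'.LiesOver p], r' = r →
        min (k : ℕ∞) (maximalIdeal (FL p r')).height ≤ LocCoh.depth (FL p r') (FL p r') →
        min (k : ℕ∞) (maximalIdeal (FL p r)).height ≤ LocCoh.depth (FL p r) (FL p r) := by
      intro r' _ _ h
      subst h
      exact id
    haveI : q.asIdeal.IsPrime := q.isPrime
    exact key _ hq ((conv q.asIdeal).mp (h q.asIdeal))
  · intro h q _
    exact (conv q).mpr (h _)

theorem isCohenMacaulayRing_fiber_iff [IsNoetherianRing S] (p : Ideal R) [p.IsPrime] :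
    LocCoh.IsCohenMacaulayRing (p.Fiber S) ↔
      ∀ (r : Ideal S) [r.IsPrime] [r.LiesOver p],
        (maximalIdeal (FL p r)).height = LocCoh.depth (FL p r) (FL p r) := by
  haveI := isNoetherianRing_fiber (S := S) p
  have conv : ∀ (q : Ideal (p.Fiber S)) [q.IsPrime],
      LocCoh.IsCohenMacaulayLocalRing (Localization.AtPrime q) ↔
      (maximalIdeal (FL p (q.comap
        (Algebra.TensorProduct.includeRight : S →ₐ[R] p.Fiber S)))).height =
        LocCoh.depth (FL p (q.comap (Algebra.TensorProduct.includeRight : S →ₐ[R] p.Fiber S)))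
          (FL p (q.comap (Algebra.TensorProduct.includeRight : S →ₐ[R] p.Fiber S))) := by
    intro q _
    have e := fiberLocEquiv (S := S) p q
    constructor
    · intro hcm
      have h1 := hcm.supportDim_eq_depth
      rw [Module.supportDim_self_eq_ringKrullDim, ringKrullDim_eq_of_ringEquiv e,
        depth_self_eq_of_ringEquiv e, ← IsLocalRing.maximalIdeal_height_eq_ringKrullDim] at h1
      exact WithBot.coe_injective h1
    · intro h1
      refine { supportDim_eq_depth := ?_ }
      rw [Module.supportDim_self_eq_ringKrullDim, ringKrullDim_eq_of_ringEquiv e,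
        depth_self_eq_of_ringEquiv e, ← IsLocalRing.maximalIdeal_height_eq_ringKrullDim, h1]
  constructor
  · intro hCM r _ _
    obtain ⟨q, hq⟩ := exists_fiber_prime p r
    have key : ∀ (r' : Ideal S) [r'.IsPrime] [r'.LiesOver p], r' = r →
        (maximalIdeal (FL p r')).height = LocCoh.depth (FL p r') (FL p r') →
        (maximalIdeal (FL p r)).height = LocCoh.depth (FL p r) (FL p r) := by
      intro r' _ _ h
      subst h
      exact id
    haveI : q.asIdeal.IsPrime := q.isPrime
    exact key _ hq ((conv q.asIdeal).mp (hCM.isCohenMacaulayLocalRing_localization q.asIdeal))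
  · intro h
    exact { isCohenMacaulayLocalRing_localization := fun q _ => (conv q).mpr (h _) }

/-- `(S_k)` ascends along flat homomorphisms with `(S_k)` fibres. -/
theorem hasSk_of_flat_of_fibres [IsNoetherianRing R] [IsNoetherianRing S] [Module.Flat R S]
    (k : ℕ) (hR : LocCoh.HasSk k R R)
    (hfib : ∀ (p : Ideal R) [p.IsPrime], LocCoh.HasSk k (p.Fiber S) (p.Fiber S)) :
    LocCoh.HasSk k S S := by
  rw [hasSk_self_iff] at hR ⊢
  intro r _
  have hp := hR (r.under R)
  have hf := (hasSk_fiber_iff k (r.under R)).mp (hfib (r.under R)) r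
  obtain ⟨hd, hh⟩ := depth_dim_eq (r.under R) r
  rw [← IsLocalRing.maximalIdeal_height_eq_ringKrullDim] at hp ⊢
  rw [sk_iff] at hp ⊢
  rw [hd, hh]
  exact (min_add_le' _ _ _).trans (add_le_add hp hf)

end Fiber

section Tower

variable {A B C : Type u} [CommRing A] [CommRing B] [CommRing C] [IsNoetherianRing A]
  [IsNoetherianRing B] [IsNoetherianRing C] [Algebra A B] [Algebra B C] [Algebra A C]
  [IsScalarTower A B C]

/-- Additivity of depth and dimension of fibre local rings in a flat tower. -/
theorem tower_eq [Module.Flat A B] [Module.Flat B C] [Module.Flat A C]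
    (p : Ideal A) [p.IsPrime] (q : Ideal B) [q.IsPrime] (Q : Ideal C) [Q.IsPrime]
    [q.LiesOver p] [Q.LiesOver q] [Q.LiesOver p] :
    LocCoh.depth (FL p Q) (FL p Q) =
      LocCoh.depth (FL p q) (FL p q) + LocCoh.depth (FL q Q) (FL q Q) ∧
    (maximalIdeal (FL p Q)).height =
      (maximalIdeal (FL p q)).height + (maximalIdeal (FL q Q)).height := by
  obtain ⟨d1, h1⟩ := depth_dim_eq p Q
  obtain ⟨d2, h2⟩ := depth_dim_eq q Q
  obtain ⟨d3, h3⟩ := depth_dim_eq p q
  have hdA : LocCoh.depth (Localization.AtPrime p) (Localization.AtPrime p) ≠ ⊤ :=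
    depth_ne_top (R := Localization.AtPrime p) (Localization.AtPrime p)
  have hhA : (maximalIdeal (Localization.AtPrime p)).height ≠ ⊤ := Ideal.height_ne_top_of_isPrime
  constructor
  · apply enat_cancel hdA
    rw [← d1, d2, d3, add_assoc]
  · apply enat_cancel hhA
    rw [← h1, h2, h3, add_assoc]

theorem hasSk_fiber_comp [Module.Flat A B] [Module.Flat B C] (n : ℕ)
    (hAB : ∀ (p : Ideal A) [p.IsPrime], LocCoh.HasSk n (p.Fiber B) (p.Fiber B))
    (hBC : ∀ (q : Ideal B) [q.IsPrime], LocCoh.HasSk n (q.Fiber C) (q.Fiber C))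
    (p : Ideal A) [p.IsPrime] : LocCoh.HasSk n (p.Fiber C) (p.Fiber C) := by
  haveI : Module.Flat A C := Module.Flat.trans A B C
  rw [hasSk_fiber_iff]
  intro Q _ _
  have h1 := (hasSk_fiber_iff n p).mp (hAB p) (Q.under B)
  have h2 := (hasSk_fiber_iff n (Q.under B)).mp (hBC (Q.under B)) Q
  obtain ⟨hd, hh⟩ := tower_eq p (Q.under B) Q
  rw [hd, hh]
  exact (min_add_le' _ _ _).trans (add_le_add h1 h2)

theorem isCohenMacaulayRing_fiber_comp [Module.Flat A B] [Module.Flat B C]
    (hAB : ∀ (p : Ideal A) [p.IsPrime], LocCoh.IsCohenMacaulayRing (p.Fiber B))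
    (hBC : ∀ (q : Ideal B) [q.IsPrime], LocCoh.IsCohenMacaulayRing (q.Fiber C))
    (p : Ideal A) [p.IsPrime] : LocCoh.IsCohenMacaulayRing (p.Fiber C) := by
  haveI : Module.Flat A C := Module.Flat.trans A B C
  rw [isCohenMacaulayRing_fiber_iff]
  intro Q _ _
  have h1 := (isCohenMacaulayRing_fiber_iff p).mp (hAB p) (Q.under B)
  have h2 := (isCohenMacaulayRing_fiber_iff (Q.under B)).mp (hBC (Q.under B)) Q
  obtain ⟨hd, hh⟩ := tower_eq p (Q.under B) Q
  rw [hd, hh, h1, h2]

/-- In a tower with `B → C` faithfully flat, the fibre local ring of `A → B` at `q` has the same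
depth and dimension as that of `A → C` at a suitable prime `Q` over `q`. -/
theorem exists_descent_prime [Module.FaithfullyFlat B C] [Module.Flat A C] [Module.Flat A B]
    (p : Ideal A) [p.IsPrime] (q : Ideal B) [q.IsPrime] [q.LiesOver p] :
    ∃ (Q : Ideal C) (_ : Q.IsPrime) (_ : Q.LiesOver p),
      LocCoh.depth (FL p Q) (FL p Q) = LocCoh.depth (FL p q) (FL p q) ∧
      (maximalIdeal (FL p Q)).height = (maximalIdeal (FL p q)).height := by
  obtain ⟨Q, hQmin, hQq⟩ := exists_minimalPrimes_comap_eq B C q
  haveI : Q.IsPrime := hQmin.1.1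
  haveI : Q.LiesOver q := ⟨hQq.symm⟩
  haveI : Q.LiesOver p := Ideal.LiesOver.trans Q q p
  refine ⟨Q, inferInstance, inferInstance, ?_⟩
  obtain ⟨dC, hC⟩ := depth_dim_eq p Q
  obtain ⟨dB, hB⟩ := depth_dim_eq p q
  obtain ⟨dm, hm⟩ := depth_dim_eq_of_mem_minimalPrimes q Q hQmin hQq.symm
  have hdA : LocCoh.depth (Localization.AtPrime p) (Localization.AtPrime p) ≠ ⊤ :=
    depth_ne_top (R := Localization.AtPrime p) (Localization.AtPrime p)
  have hhA : (maximalIdeal (Localization.AtPrime p)).height ≠ ⊤ := Ideal.height_ne_top_of_isPrime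
  constructor
  · apply enat_cancel hdA
    rw [← dC, dm, dB]
  · apply enat_cancel hhA
    rw [← hC, hm, hB]

theorem hasSk_fiber_descent [Module.FaithfullyFlat B C] [Module.Flat A C] [Module.Flat A B]
    (n : ℕ) (hAC : ∀ (p : Ideal A) [p.IsPrime], LocCoh.HasSk n (p.Fiber C) (p.Fiber C))
    (p : Ideal A) [p.IsPrime] : LocCoh.HasSk n (p.Fiber B) (p.Fiber B) := by
  rw [hasSk_fiber_iff]
  intro q _ _
  obtain ⟨Q, _, _, hd, hh⟩ := exists_descent_prime (C := C) p q
  have h1 := (hasSk_fiber_iff n p).mp (hAC p) Q
  rw [← hd, ← hh]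
  exact h1

theorem isCohenMacaulayRing_fiber_descent [Module.FaithfullyFlat B C] [Module.Flat A C]
    [Module.Flat A B]
    (hAC : ∀ (p : Ideal A) [p.IsPrime], LocCoh.IsCohenMacaulayRing (p.Fiber C))
    (p : Ideal A) [p.IsPrime] : LocCoh.IsCohenMacaulayRing (p.Fiber B) := by
  rw [isCohenMacaulayRing_fiber_iff]
  intro q _ _
  obtain ⟨Q, _, _, hd, hh⟩ := exists_descent_prime (C := C) p q
  have h1 := (isCohenMacaulayRing_fiber_iff p).mp (hAC p) Q
  rw [← hd, ← hh]
  exact h1

end Tower

end Groth.Agent.Lead.Fib
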