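import Mathlib
import Groth.Agent.Lib.Lead.Fib1

/-!
# Cohen–Macaulay rings: ascent along flat maps with Cohen–Macaulay fibres
-/

set_option autoImplicit false
set_option linter.style.haveILetI false
set_option linter.unusedSectionVars false

universe u

open TensorProduct LocCoh IsLocalRing

namespace Groth.Agent.Lead.Fib

open Groth.Agent.Lead.Depth Groth.Agent.Lead.FlatDepth

theorem isCMLocal_iff (T : Type u) [CommRing T] [IsLocalRing T] [IsNoetherianRing T] :
    LocCoh.IsCohenMacaulayLocalRing T ↔ (maximalIdeal T).height = LocCoh.depth T T := by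
  constructor
  · intro h
    have h1 := h.supportDim_eq_depth
    rw [Module.supportDim_self_eq_ringKrullDim,
      ← IsLocalRing.maximalIdeal_height_eq_ringKrullDim] at h1
    exact WithBot.coe_injective h1
  · intro h
    refine { supportDim_eq_depth := ?_ }
    rw [Module.supportDim_self_eq_ringKrullDim,
      ← IsLocalRing.maximalIdeal_height_eq_ringKrullDim, h]

/-- A flat Noetherian algebra with Cohen–Macaulay fibres over a Cohen–Macaulay ring is
Cohen–Macaulay. -/
theorem isCohenMacaulayRing_of_flat_of_fibres {R S : Type u} [CommRing R] [CommRing S]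
    [Algebra R S] [IsNoetherianRing S] [Module.Flat R S] [hR : LocCoh.IsCohenMacaulayRing R]
    (hfib : ∀ (p : Ideal R) [p.IsPrime], LocCoh.IsCohenMacaulayRing (p.Fiber S)) :
    LocCoh.IsCohenMacaulayRing S := by
  haveI : IsNoetherianRing R := inferInstance
  refine { isCohenMacaulayLocalRing_localization := fun r _ => ?_ }
  rw [isCMLocal_iff]
  have hp := (isCMLocal_iff _).mp (hR.isCohenMacaulayLocalRing_localization (r.under R))
  have hf := (isCohenMacaulayRing_fiber_iff (r.under R)).mp (hfib (r.under R)) r
  obtain ⟨hd, hh⟩ := depth_dim_eq (r.under R) r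
  rw [hd, hh, hp, hf]

/-- A regular ring is Cohen–Macaulay. -/
theorem isCohenMacaulayRing_of_isRegularRing (T : Type u) [CommRing T] [IsRegularRing T] :
    LocCoh.IsCohenMacaulayRing T :=
  { isCohenMacaulayLocalRing_localization := fun _ _ =>
      isCohenMacaulayLocalRing_of_isRegularLocalRing }

/-- Polynomial rings over Cohen–Macaulay rings are Cohen–Macaulay. -/
theorem isCohenMacaulayRing_mvPolynomial {R : Type u} [CommRing R]
    [hR : LocCoh.IsCohenMacaulayRing R] (σ : Type) [Finite σ] :
    LocCoh.IsCohenMacaulayRing (MvPolynomial σ R) := by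
  haveI : IsNoetherianRing R := inferInstance
  apply isCohenMacaulayRing_of_flat_of_fibres (R := R) (S := MvPolynomial σ R)
  intro p _
  haveI : IsRegularRing p.ResidueField := inferInstance
  haveI : IsRegularRing (MvPolynomial σ p.ResidueField) := inferInstance
  haveI : IsRegularRing (p.Fiber (MvPolynomial σ R)) :=
    IsRegularRing.of_ringEquiv
      (MvPolynomial.algebraTensorAlgEquiv (σ := σ) R p.ResidueField).symm.toRingEquiv
  exact isCohenMacaulayRing_of_isRegularRing _

end Groth.Agent.Lead.Fib
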