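import Mathlib
import Groth.Agent.Lib.Lead.Fib3
import Groth.Agent.Lib.Helper14.CMCatenary
import Groth.Agent.Lib.Helper14.CatenaryRing

/-!
# Cohen–Macaulay rings are (universally) catenary
-/

set_option autoImplicit false
set_option linter.style.haveILetI false
set_option linter.unusedSectionVars false

universe u

open LocCoh IsLocalRing

namespace Groth.Agent.Lead.Cat

open Groth.Agent.Helper14

/-- Along a saturated chain in a locally CM Noetherian ring, heights increase by exactly one. -/
theorem height_chain (R : Type u) [CommRing R] [IsNoetherianRing R]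
    (hCM : ∀ (q : Ideal R) [q.IsPrime], LocCoh.IsCohenMacaulayLocalRing (Localization.AtPrime q))
    (s : LTSeries (PrimeSpectrum R))
    (hs : ∀ i : Fin s.length, s (Fin.castSucc i) ⋖ s (Fin.succ i)) :
    ∀ (k : ℕ) (hk : k < s.length + 1),
      (s ⟨k, hk⟩).asIdeal.height = s.head.asIdeal.height + (k : ℕ∞) := by
  intro k
  induction k with
  | zero =>
    intro hk
    have h0 : (⟨0, hk⟩ : Fin (s.length + 1)) = 0 := Fin.ext (by simp)
    rw [h0]
    simp [RelSeries.head]
  | succ k ih =>
    intro hk
    have hk' : k < s.length := by omega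
    have h1 := hs ⟨k, hk'⟩
    have h2 := CMCatenary.height_eq_of_covBy R hCM _ _ h1
    have h3 := ih (by omega)
    change (s ⟨k + 1, hk⟩).asIdeal.height = (s ⟨k, _⟩).asIdeal.height + 1 at h2
    rw [h2, h3]
    push_cast
    ring

/-- A Noetherian ring whose local rings are all Cohen–Macaulay is catenary. -/
theorem isCatenary_of_locallyCM (R : Type u) [CommRing R] [IsNoetherianRing R]
    (hCM : ∀ (q : Ideal R) [q.IsPrime], LocCoh.IsCohenMacaulayLocalRing (Localization.AtPrime q)) :
    CAlg.IsCatenary R := by
  constructor
  · intro p q _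
    refine ⟨q.asIdeal.height.toNat, fun s _ hl => ?_⟩
    have h1 : (s.length : ℕ∞) ≤ Order.height s.last := Order.length_le_height_last
    have h2 : q.asIdeal.height = Order.height q := PrimeSpectrum.height_eq_orderHeight q
    have h3 : q.asIdeal.height ≠ ⊤ := Ideal.height_ne_top_of_isPrime
    rw [hl, ← h2] at h1
    have h4 := ENat.toNat_le_toNat h1 h3
    simpa using h4
  · intro s t hh hl hs ht
    have e1 := height_chain R hCM s hs s.length (Nat.lt_succ_self _)
    have e2 := height_chain R hCM t ht t.length (Nat.lt_succ_self _)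
    have l1 : s ⟨s.length, Nat.lt_succ_self _⟩ = s.last := rfl
    have l2 : t ⟨t.length, Nat.lt_succ_self _⟩ = t.last := rfl
    rw [l1] at e1
    rw [l2] at e2
    rw [hh, hl, e2] at e1
    have hne : t.head.asIdeal.height ≠ ⊤ := Ideal.height_ne_top_of_isPrime
    have h5 := ENat.add_right_injective_of_ne_top hne e1
    have h6 : (t.length : ℕ∞) = (s.length : ℕ∞) := h5
    exact_mod_cast h6.symm

/-- A Cohen–Macaulay ring is catenary. -/
theorem isCatenary_of_isCohenMacaulayRing (R : Type u) [CommRing R]
    [hR : LocCoh.IsCohenMacaulayRing R] : CAlg.IsCatenary R := by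
  haveI : IsNoetherianRing R := inferInstance
  exact isCatenary_of_locallyCM R (fun q _ => hR.isCohenMacaulayLocalRing_localization q)

/-- A Cohen–Macaulay ring is universally catenary. -/
theorem isUniversallyCatenary_of_isCohenMacaulayRing (R : Type u) [CommRing R]
    [LocCoh.IsCohenMacaulayRing R] : CAlg.IsUniversallyCatenary R := by
  haveI : IsNoetherianRing R := inferInstance
  refine ⟨inferInstance, fun S _ _ hS => ?_⟩
  obtain ⟨n, f, hf⟩ := Algebra.FiniteType.iff_quotient_mvPolynomial''.mp hS
  haveI := Fib.isCohenMacaulayRing_mvPolynomial (R := R) (Fin n)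
  have hcat := isCatenary_of_isCohenMacaulayRing (MvPolynomial (Fin n) R)
  exact isCatenary_of_surjective f.toRingHom hf hcat

end Groth.Agent.Lead.Cat
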