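import Mathlib
import Groth.Agent.Lib.Lead.Cat1
import Groth.Agent.Lib.Helper9.Depth8
import Groth.Agent.Lib.Helper4.SuppBC

/-!
# Rings carrying a finite Cohen–Macaulay module with full support: dimension formula, chains
-/

set_option autoImplicit false
set_option linter.style.haveILetI false
set_option linter.unusedSectionVars false

universe u

open LocCoh IsLocalRing

namespace Groth.Agent.Lead.Cat

open Groth.Agent.Helper14 Groth.Agent.Lead.Depth

/-- Full support passes to localizations at primes. -/
theorem support_localizedModule_eq_univ {R : Type*} [CommRing R] {M : Type*} [AddCommGroup M]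
    [Module R M] (hsupp : Module.support R M = Set.univ) (q : Ideal R) [q.IsPrime] :
    Module.support (Localization.AtPrime q) (LocalizedModule q.primeCompl M) = Set.univ := by
  rw [Set.eq_univ_iff_forall]
  intro Q
  have hP : PrimeSpectrum.comap (algebraMap R (Localization.AtPrime q)) Q ∈
      Module.support R M := by
    rw [hsupp]; trivial
  rw [Module.mem_support_iff'] at hP ⊢
  obtain ⟨m, hm⟩ := hP
  refine ⟨LocalizedModule.mk m 1, fun a => ?_⟩
  induction a using Localization.induction_on with
  | H y =>
  obtain ⟨r, s⟩ := y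
  intro ha h0
  have hr : algebraMap R (Localization.AtPrime q) r ∉ Q.asIdeal := by
    intro hr
    apply ha
    have h1 : (Localization.mk r s : Localization.AtPrime q) =
        algebraMap R (Localization.AtPrime q) r * Localization.mk 1 s := by
      rw [← Localization.mk_one_eq_algebraMap, Localization.mk_mul, mul_one, one_mul]
    rw [h1]
    exact Q.asIdeal.mul_mem_right _ hr
  rw [LocalizedModule.mk_smul_mk, localizedModule_mk_eq_zero_iff] at h0
  obtain ⟨t, htq, ht⟩ := h0
  have htQ : t ∉ (PrimeSpectrum.comap (algebraMap R (Localization.AtPrime q)) Q).asIdeal := by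
    intro h
    have hu : IsUnit (algebraMap R (Localization.AtPrime q) t) :=
      IsLocalization.map_units (Localization.AtPrime q) (⟨t, htq⟩ : q.primeCompl)
    exact Q.isPrime.ne_top (Ideal.eq_top_of_isUnit_mem _ h hu)
  have hrP : r ∉ (PrimeSpectrum.comap (algebraMap R (Localization.AtPrime q)) Q).asIdeal := hr
  have h2 := hm (t * r) (fun h =>
    ((PrimeSpectrum.comap (algebraMap R (Localization.AtPrime q)) Q).isPrime.mem_or_mem h).elim
      htQ hrP)
  apply h2
  rw [mul_smul]
  exact ht

/-- Dimension formula `dim R/P + ht P = dim R` for a local ring with a finite Cohen–Macaulay module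
of full support. -/
theorem ringKrullDim_quotient_add_height_eq {R M : Type u} [CommRing R] [IsLocalRing R]
    [IsNoetherianRing R] [AddCommGroup M] [Module R M] [Module.Finite R M]
    (hM : LocCoh.IsCohenMacaulayModule R M) (hsupp : Module.support R M = Set.univ)
    (P : Ideal R) [hP : P.IsPrime] :
    ringKrullDim (R ⧸ P) + ((P.height : ℕ∞) : WithBot ℕ∞) = ringKrullDim R := by
  have hmem : (⟨P, hP⟩ : PrimeSpectrum R) ∈ Module.support R M := by rw [hsupp]; trivial
  obtain ⟨-, h2⟩ := Groth.Agent.Helper9.Depth.cm_localization hM ⟨P, hP⟩ hmem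
  rw [Groth.Agent.Helper9.Depth.supportDim_quotient_prime hmem,
    Groth.Agent.Helper4.SuppBC.supportDim_eq_ringKrullDim_of_support_eq_univ R M hsupp,
    Groth.Agent.Helper4.SuppBC.supportDim_eq_ringKrullDim_of_support_eq_univ _ _
      (support_localizedModule_eq_univ hsupp P),
    IsLocalization.AtPrime.ringKrullDim_eq_height P (Localization.AtPrime P)] at h2
  exact h2.symm

/-- Localization of a finite CM module with full support is again such. -/
theorem isCohenMacaulayModule_localizedModule {R M : Type u} [CommRing R] [IsLocalRing R]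
    [IsNoetherianRing R] [AddCommGroup M] [Module R M] [Module.Finite R M]
    (hM : LocCoh.IsCohenMacaulayModule R M) (hsupp : Module.support R M = Set.univ)
    (P : Ideal R) [hP : P.IsPrime] :
    LocCoh.IsCohenMacaulayModule (Localization.AtPrime P) (LocalizedModule P.primeCompl M) := by
  have hmem : (⟨P, hP⟩ : PrimeSpectrum R) ∈ Module.support R M := by rw [hsupp]; trivial
  exact (Groth.Agent.Helper9.Depth.cm_localization hM ⟨P, hP⟩ hmem).1

/-- Adjacent primes have heights differing by one, given the local dimension inequality. -/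
theorem height_eq_of_covBy' (R : Type u) [CommRing R] [IsNoetherianRing R]
    (hdim : ∀ (q : Ideal R) [q.IsPrime] (P : Ideal (Localization.AtPrime q)) [P.IsPrime],
      ringKrullDim (Localization.AtPrime q) ≤
        ringKrullDim (Localization.AtPrime q ⧸ P) + ((P.height : ℕ∞) : WithBot ℕ∞))
    (p p' : PrimeSpectrum R) (h : p ⋖ p') : p'.asIdeal.height = p.asIdeal.height + 1 := by
  set A := Localization.AtPrime p'.asIdeal with hA
  have hle : p.asIdeal ≤ p'.asIdeal := h.le
  have hdisj : Disjoint (p'.asIdeal.primeCompl : Set R) (p.asIdeal : Set R) := by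
    rw [Set.disjoint_left]
    intro x hx hxp
    exact hx (hle hxp)
  set P : Ideal A := p.asIdeal.map (algebraMap R A) with hP
  haveI hPprime : P.IsPrime :=
    IsLocalization.isPrime_of_isPrime_disjoint p'.asIdeal.primeCompl A _ p.isPrime hdisj
  have hPh : P.height = p.asIdeal.height :=
    IsLocalization.height_map_of_disjoint p'.asIdeal.primeCompl p.asIdeal hdisj
  have hdimA : ringKrullDim A = p'.asIdeal.height :=
    IsLocalization.AtPrime.ringKrullDim_eq_height p'.asIdeal A
  have hcomapP : P.comap (algebraMap R A) = p.asIdeal :=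
    IsLocalization.under_map_of_isPrime_disjoint p'.asIdeal.primeCompl A p.isPrime hdisj
  have hquot : ringKrullDim (A ⧸ P) ≤ 1 := by
    rw [ringKrullDim_quotient, Order.krullDim_le_one_iff]
    rintro ⟨J, hJ⟩
    have hJ' : P ≤ J.asIdeal := (PrimeSpectrum.mem_zeroLocus _ _).mp hJ
    set j : PrimeSpectrum R := ⟨J.asIdeal.comap (algebraMap R A), Ideal.comap_isPrime _ _⟩ with hj
    have hpj : p ≤ j := by
      show p.asIdeal ≤ J.asIdeal.comap (algebraMap R A)
      rw [← hcomapP]
      exact Ideal.comap_mono hJ'
    have hjp' : j ≤ p' := by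
      show J.asIdeal.comap (algebraMap R A) ≤ p'.asIdeal
      have h1 : J.asIdeal ≤ maximalIdeal A := le_maximalIdeal J.isPrime.ne_top
      have h2 := Ideal.comap_mono (f := algebraMap R A) h1
      have h3 : (maximalIdeal A).comap (algebraMap R A) = p'.asIdeal :=
        IsLocalization.AtPrime.under_maximalIdeal A p'.asIdeal
      rwa [h3] at h2
    have hJmap : J.asIdeal = (J.asIdeal.comap (algebraMap R A)).map (algebraMap R A) :=
      (IsLocalization.map_under p'.asIdeal.primeCompl A J.asIdeal).symm
    rcases h.eq_or_eq hpj hjp' with hjeq | hjeq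
    · left
      intro y _
      show J ≤ y.1
      show J.asIdeal ≤ y.1.asIdeal
      have : J.asIdeal = P := by
        rw [hJmap, hP]
        congr 1
        exact congrArg PrimeSpectrum.asIdeal hjeq
      rw [this]
      exact (PrimeSpectrum.mem_zeroLocus _ _).mp y.2
    · right
      intro y _
      show y.1.asIdeal ≤ J.asIdeal
      have : J.asIdeal = maximalIdeal A := by
        rw [hJmap, ← Localization.AtPrime.map_eq_maximalIdeal]
        congr 1
        exact congrArg PrimeSpectrum.asIdeal hjeq
      rw [this]
      exact le_maximalIdeal y.1.isPrime.ne_top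
  have h1 := hdim p'.asIdeal P
  rw [hdimA, hPh] at h1
  have h2 : ((p'.asIdeal.height : ℕ∞) : WithBot ℕ∞) ≤
      1 + ((p.asIdeal.height : ℕ∞) : WithBot ℕ∞) := by
    refine h1.trans ?_
    gcongr
  have h3 : p'.asIdeal.height ≤ 1 + p.asIdeal.height := by exact_mod_cast h2
  have hlt : p.asIdeal < p'.asIdeal := h.lt
  have h4 : p.asIdeal.height + 1 ≤ p'.asIdeal.height :=
    Ideal.height_add_one_le_of_lt_of_isPrime hlt
  rw [add_comm] at h3
  exact le_antisymm h3 h4

/-- Heights along a saturated chain, from the covering property. -/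
theorem height_chain' (R : Type u) [CommRing R]
    (hcov : ∀ p p' : PrimeSpectrum R, p ⋖ p' → p'.asIdeal.height = p.asIdeal.height + 1)
    (s : LTSeries (PrimeSpectrum R))
    (hs : ∀ i : Fin s.length, s (Fin.castSucc i) ⋖ s (Fin.succ i)) :
    ∀ (k : ℕ) (hk : k < s.length + 1),
      (s ⟨k, hk⟩).asIdeal.height = s.head.asIdeal.height + (k : ℕ∞) := by
  intro k
  induction k with
  | zero =>
    intro hk
    have h0 : (⟨0, hk⟩ : Fin (s.length + 1)) = 0 := Fin.ext (by simp)
    rw [h0]
    simp [RelSeries.head]
  | succ k ih =>
    intro hk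
    have hk' : k < s.length := by omega
    have h1 := hs ⟨k, hk'⟩
    have h2 := hcov _ _ h1
    have h3 := ih (by omega)
    change (s ⟨k + 1, hk⟩).asIdeal.height = (s ⟨k, _⟩).asIdeal.height + 1 at h2
    rw [h2, h3]
    push_cast
    ring

/-- In a local ring with a finite CM module of full support, adjacent primes have heights
differing by one. -/
theorem height_eq_of_covBy_of_CM_module {R M : Type u} [CommRing R] [IsLocalRing R]
    [IsNoetherianRing R] [AddCommGroup M] [Module R M] [Module.Finite R M]
    (hM : LocCoh.IsCohenMacaulayModule R M) (hsupp : Module.support R M = Set.univ)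
    (p p' : PrimeSpectrum R) (h : p ⋖ p') : p'.asIdeal.height = p.asIdeal.height + 1 := by
  refine height_eq_of_covBy' R (fun q _ P _ => ?_) p p' h
  exact (ringKrullDim_quotient_add_height_eq
    (isCohenMacaulayModule_localizedModule hM hsupp q)
    (support_localizedModule_eq_univ hsupp q) P).ge

/-- Catenary from the covering property (Noetherian). -/
theorem isCatenary_of_height_covBy (R : Type u) [CommRing R] [IsNoetherianRing R]
    (hcov : ∀ p p' : PrimeSpectrum R, p ⋖ p' → p'.asIdeal.height = p.asIdeal.height + 1) :
    CAlg.IsCatenary R := by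
  constructor
  · intro p q _
    refine ⟨q.asIdeal.height.toNat, fun s _ hl => ?_⟩
    have h1 : (s.length : ℕ∞) ≤ Order.height s.last := Order.length_le_height_last
    have h2 : q.asIdeal.height = Order.height q := PrimeSpectrum.height_eq_orderHeight q
    have h3 : q.asIdeal.height ≠ ⊤ := Ideal.height_ne_top_of_isPrime
    rw [hl, ← h2] at h1
    have h4 := ENat.toNat_le_toNat h1 h3
    simpa using h4
  · intro s t hh hl hs ht
    have e1 := height_chain' R hcov s hs s.length (Nat.lt_succ_self _)
    have e2 := height_chain' R hcov t ht t.length (Nat.lt_succ_self _)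
    have l1 : s ⟨s.length, Nat.lt_succ_self _⟩ = s.last := rfl
    have l2 : t ⟨t.length, Nat.lt_succ_self _⟩ = t.last := rfl
    rw [l1] at e1
    rw [l2] at e2
    rw [hh, hl, e2] at e1
    have hne : t.head.asIdeal.height ≠ ⊤ := Ideal.height_ne_top_of_isPrime
    have h5 := ENat.add_right_injective_of_ne_top hne e1
    have h6 : (t.length : ℕ∞) = (s.length : ℕ∞) := h5
    exact_mod_cast h6.symm

end Groth.Agent.Lead.Cat
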