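import Mathlib
import Groth.Agent.Lib.Lead.Fib1

/-!
# Module version of the depth formula along a flat homomorphism, at a prime

For `R → S` flat Noetherian, `M` a finite `R`-module, `r ⊂ S` a prime over `p ⊂ R`:
`depth_{S_r} (S ⊗_R M)_r = depth_{R_p} M_p + depth (S_r / p S_r)`.
-/

set_option autoImplicit false
set_option linter.style.haveILetI false
set_option linter.unusedSectionVars false

universe u

open TensorProduct LocCoh IsLocalRing

namespace Groth.Agent.Lead.Fib

open Groth.Agent.Lead.Depth Groth.Agent.Lead.FlatDepth

section Local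

variable {R S : Type u} [CommRing R] [CommRing S] [IsLocalRing R] [IsLocalRing S]
  [IsNoetherianRing R] [IsNoetherianRing S] [Algebra R S] [IsLocalHom (algebraMap R S)]
  [Module.Flat R S]

/-- `depth_S (S ⊗_R M) = depth_R M + depth (S / m_R S)` for a flat local homomorphism. -/
theorem depth_tensor_eq_add_fibre_ring (I : Ideal S)
    (hI : I = (maximalIdeal R).map (algebraMap R S)) [IsLocalRing (S ⧸ I)]
    (M : Type u) [AddCommGroup M] [Module R M] [Module.Finite R M] :
    LocCoh.depth S (S ⊗[R] M) = LocCoh.depth R M + LocCoh.depth (S ⧸ I) (S ⧸ I) := by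
  subst hI
  have h := depth_tensor_eq_add_fibre (R := R) (S := S) M S
  have h2 : LocCoh.depth S (S ⧸ (maximalIdeal R).map (algebraMap R S) • (⊤ : Submodule S S)) =
      LocCoh.depth S (S ⧸ (maximalIdeal R).map (algebraMap R S)) :=
    depth_congr (Submodule.quotEquivOfEq _ _ (by rw [smul_eq_mul, Ideal.mul_top]))
  have h3 : LocCoh.depth S (S ⧸ (maximalIdeal R).map (algebraMap R S)) =
      LocCoh.depth (S ⧸ (maximalIdeal R).map (algebraMap R S))
        (S ⧸ (maximalIdeal R).map (algebraMap R S)) :=
    depth_eq_of_surjective (R₁ := S) (R₂ := S ⧸ (maximalIdeal R).map (algebraMap R S))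
      Ideal.Quotient.mk_surjective _
  rw [h, h2, h3]

end Local

section AtPrime

variable {R S : Type u} [CommRing R] [CommRing S] [Algebra R S]

/-- `(S ⊗_R M)_r ≃ S_r ⊗_{R_p} M_p`, linearly over `S_r`. -/
noncomputable def localizedTensorEquiv (M : Type u) [AddCommGroup M] [Module R M]
    (p : Ideal R) [p.IsPrime] (r : Ideal S) [r.IsPrime] [r.LiesOver p] :
    letI : Algebra (Localization.AtPrime p) (Localization.AtPrime r) :=
      Localization.AtPrime.algebraOfLiesOver p r
    (Localization.AtPrime r ⊗[Localization.AtPrime p] LocalizedModule p.primeCompl M)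
      ≃ₗ[Localization.AtPrime r] LocalizedModule r.primeCompl (S ⊗[R] M) :=
  letI : Algebra (Localization.AtPrime p) (Localization.AtPrime r) :=
    Localization.AtPrime.algebraOfLiesOver p r
  let e1 : Localization.AtPrime p ⊗[R] M ≃ₗ[Localization.AtPrime p]
      LocalizedModule p.primeCompl M :=
    (IsLocalizedModule.isBaseChange p.primeCompl (Localization.AtPrime p)
      (LocalizedModule.mkLinearMap p.primeCompl M)).equiv
  let e2 : (Localization.AtPrime r ⊗[Localization.AtPrime p] LocalizedModule p.primeCompl M)
      ≃ₗ[Localization.AtPrime r]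
      (Localization.AtPrime r ⊗[Localization.AtPrime p] (Localization.AtPrime p ⊗[R] M)) :=
    TensorProduct.AlgebraTensorModule.congr
      (LinearEquiv.refl (Localization.AtPrime r) (Localization.AtPrime r)) e1.symm
  let e3 : (Localization.AtPrime r ⊗[Localization.AtPrime p] (Localization.AtPrime p ⊗[R] M))
      ≃ₗ[Localization.AtPrime r] (Localization.AtPrime r ⊗[R] M) :=
    TensorProduct.AlgebraTensorModule.cancelBaseChange R (Localization.AtPrime p)
      (Localization.AtPrime r) (Localization.AtPrime r) M
  let e4 : (Localization.AtPrime r ⊗[S] (S ⊗[R] M))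
      ≃ₗ[Localization.AtPrime r] (Localization.AtPrime r ⊗[R] M) :=
    TensorProduct.AlgebraTensorModule.cancelBaseChange R S
      (Localization.AtPrime r) (Localization.AtPrime r) M
  let e5 : Localization.AtPrime r ⊗[S] (S ⊗[R] M) ≃ₗ[Localization.AtPrime r]
      LocalizedModule r.primeCompl (S ⊗[R] M) :=
    (IsLocalizedModule.isBaseChange r.primeCompl (Localization.AtPrime r)
      (LocalizedModule.mkLinearMap r.primeCompl (S ⊗[R] M))).equiv
  e2 ≪≫ₗ e3 ≪≫ₗ e4.symm ≪≫ₗ e5

/-- **Depth formula for modules** along a flat homomorphism of Noetherian rings at a prime. -/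
theorem depth_module_eq [IsNoetherianRing R] [IsNoetherianRing S] [Module.Flat R S]
    (M : Type u) [AddCommGroup M] [Module R M] [Module.Finite R M]
    (p : Ideal R) [p.IsPrime] (r : Ideal S) [r.IsPrime] [r.LiesOver p] :
    LocCoh.depth (Localization.AtPrime r) (LocalizedModule r.primeCompl (S ⊗[R] M)) =
      LocCoh.depth (Localization.AtPrime p) (LocalizedModule p.primeCompl M) +
        LocCoh.depth (FL p r) (FL p r) := by
  letI : Algebra (Localization.AtPrime p) (Localization.AtPrime r) :=
    Localization.AtPrime.algebraOfLiesOver p r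
  haveI : IsLocalHom (algebraMap (Localization.AtPrime p) (Localization.AtPrime r)) :=
    Localization.isLocalHom_localRingHom _ _ _ _
  have hmap : p.map (algebraMap R (Localization.AtPrime r)) =
      (maximalIdeal (Localization.AtPrime p)).map
        (algebraMap (Localization.AtPrime p) (Localization.AtPrime r)) := by
    rw [← Localization.AtPrime.map_eq_maximalIdeal, Ideal.map_map, ← IsScalarTower.algebraMap_eq]
  have h := depth_tensor_eq_add_fibre_ring (R := Localization.AtPrime p)
    (S := Localization.AtPrime r) _ hmap (LocalizedModule p.primeCompl M)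
  rw [← h]
  exact (depth_congr (localizedTensorEquiv M p r)).symm

end AtPrime

end Groth.Agent.Lead.Fib
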