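import Mathlib
import Groth.Prelude.Def_EGA4b
import Groth.Agent.Lib.Lead.Cat2
import Groth.Agent.Lib.Lead.CQ1
import Groth.Agent.Lib.Lead.Fib4
import Groth.Agent.Lib.Helper1.CompletionDim
import Groth.Agent.Lib.Helper9.Depth

/-!
# Formal equidimensionality and Cohen–Macaulay formal fibres for quotients of rings carrying a
finite Cohen–Macaulay module of full support
-/

set_option autoImplicit false
set_option linter.style.haveILetI false
set_option linter.unusedSectionVars false

universe u

open TensorProduct LocCoh IsLocalRing FSch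

namespace Groth.Agent.Lead.FE

open Groth.Agent.Lead.Depth Groth.Agent.Lead.Fib Groth.Agent.Lead.Cat Groth.Agent.Lead.CQ

theorem withBot_add_right_cancel {a b : WithBot ℕ∞} {h : ℕ∞} (hh : h ≠ ⊤)
    (e : a + (h : WithBot ℕ∞) = b + (h : WithBot ℕ∞)) : a = b := by
  induction a using WithBot.recBotCoe with
  | bot =>
    rw [WithBot.bot_add] at e
    induction b using WithBot.recBotCoe with
    | bot => rfl
    | coe b =>
      rw [← WithBot.coe_add] at e
      exact absurd e.symm WithBot.coe_ne_bot
  | coe a =>
    induction b using WithBot.recBotCoe with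
    | bot =>
      rw [WithBot.bot_add, ← WithBot.coe_add] at e
      exact absurd e WithBot.coe_ne_bot
    | coe b =>
      rw [← WithBot.coe_add, ← WithBot.coe_add, WithBot.coe_inj] at e
      rw [ENat.add_left_injective_of_ne_top hh e]

theorem support_self (A : Type*) [CommRing A] : Module.support A A = Set.univ := by
  rw [Set.eq_univ_iff_forall]
  intro p
  rw [Module.mem_support_iff']
  refine ⟨1, fun r hr h => hr ?_⟩
  rw [smul_eq_mul, mul_one] at h
  rw [h]
  exact zero_mem _

theorem maximalIdeal_height_localization {R : Type*} [CommRing R] (q : Ideal R) [q.IsPrime] :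
    (maximalIdeal (Localization.AtPrime q)).height = q.height := by
  have h1 := IsLocalization.AtPrime.ringKrullDim_eq_height q (Localization.AtPrime q)
  rw [← IsLocalRing.maximalIdeal_height_eq_ringKrullDim] at h1
  exact WithBot.coe_injective h1

theorem depth_eq_zero_of_mul_eq_zero (T : Type u) [CommRing T] [IsLocalRing T]
    [IsNoetherianRing T] (t : T) (ht : t ≠ 0) (h : ∀ x ∈ maximalIdeal T, x * t = 0) :
    LocCoh.depth T T = 0 := by
  rw [Groth.Agent.Helper9.Depth.depth_eq_zero_iff_mem_associatedPrimes, AssociatedPrimes.mem_iff,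
    isAssociatedPrime_iff]
  refine ⟨inferInstance, t, ?_⟩
  ext a
  rw [Submodule.mem_colon_singleton, Submodule.mem_bot, smul_eq_mul]
  constructor
  · exact h a
  · intro ha
    by_contra hna
    have hu : IsUnit a := by
      by_contra hnu
      exact hna ((IsLocalRing.mem_maximalIdeal a).mpr hnu)
    exact ht (hu.mul_right_eq_zero.mp ha)

theorem minimalPrimes_subset_associatedPrimes (T : Type u) [CommRing T] [IsNoetherianRing T] :
    minimalPrimes T ⊆ associatedPrimes T T := by
  intro P hP
  apply Module.associatedPrimes.minimalPrimes_annihilator_subset_associatedPrimes T T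
  have h0 : Module.annihilator T T = ⊥ := by
    rw [eq_bot_iff]
    intro a ha
    rw [Module.mem_annihilator] at ha
    have h1 := ha 1
    rw [smul_eq_mul, mul_one] at h1
    rw [h1]
    exact zero_mem _
  rw [h0]
  exact hP

theorem isEquidim_of_isStrictlyEquidim (T : Type u) [CommRing T] [IsNoetherianRing T]
    (h : EGA4.IsStrictlyEquidim T) : EGA4.IsEquidim T :=
  fun p hp => h p (minimalPrimes_subset_associatedPrimes T hp)

/-- Base change to the completion preserves "finite CM module of full support". -/
theorem cm_baseChange_completion (A : Type u) [CommRing A] [IsNoetherianRing A] [IsLocalRing A]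
    (M : Type u) [AddCommGroup M] [Module A M] [Module.Finite A M]
    (hCM : LocCoh.IsCohenMacaulayModule A M) (hsupp : Module.support A M = Set.univ) :
    LocCoh.IsCohenMacaulayModule (AdicCompletion (maximalIdeal A) A)
        (AdicCompletion (maximalIdeal A) A ⊗[A] M) ∧
      Module.support (AdicCompletion (maximalIdeal A) A)
        (AdicCompletion (maximalIdeal A) A ⊗[A] M) = Set.univ := by
  haveI hN : IsNoetherianRing (AdicCompletion (maximalIdeal A) A) :=
    Groth.Agent.S0543.result A (maximalIdeal A)
  haveI hF : Module.Flat A (AdicCompletion (maximalIdeal A) A) :=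
    AdicCompletion.flat_of_isNoetherian (maximalIdeal A)
  have hmin : maximalIdeal (AdicCompletion (maximalIdeal A) A) ∈
      (Ideal.map (algebraMap A (AdicCompletion (maximalIdeal A) A))
        (maximalIdeal A)).minimalPrimes := by
    rw [← AdicCompletion.maximalIdeal_eq_map, Ideal.minimalPrimes_eq_subsingleton_self]
    exact Set.mem_singleton _
  have hdepth := Groth.Agent.Lead.Depth.depth_baseChange hmin M
  have hsuppN := Groth.Agent.Helper4.SuppBC.support_baseChange_eq_univ A
    (AdicCompletion (maximalIdeal A) A) M hsupp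
  have hdimN := Groth.Agent.Helper4.SuppBC.supportDim_eq_ringKrullDim_of_support_eq_univ _ _ hsuppN
  have hdimM := Groth.Agent.Helper4.SuppBC.supportDim_eq_ringKrullDim_of_support_eq_univ _ _ hsupp
  have hdimC := Groth.Agent.Helper1.ringKrullDim_adicCompletion_eq A
  refine ⟨?_, hsuppN⟩
  unfold LocCoh.IsCohenMacaulayModule at hCM ⊢
  rw [hdimN, hdimC, ← hdimM, hCM, hdepth]

/-- Height formula: for `A → B` flat local with `M` and `B ⊗ M` Cohen–Macaulay of full support,
`ht Q = ht P + depth (B_Q / P B_Q)`. -/
theorem height_eq_add_depth_FL {A B : Type u} [CommRing A] [CommRing B] [Algebra A B]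
    [IsLocalRing A] [IsLocalRing B] [IsNoetherianRing A] [IsNoetherianRing B] [Module.Flat A B]
    (M : Type u) [AddCommGroup M] [Module A M] [Module.Finite A M]
    (hM : LocCoh.IsCohenMacaulayModule A M) (hsupp : Module.support A M = Set.univ)
    (hN : LocCoh.IsCohenMacaulayModule B (B ⊗[A] M))
    (hsuppN : Module.support B (B ⊗[A] M) = Set.univ)
    (P : Ideal A) [P.IsPrime] (Q : Ideal B) [Q.IsPrime] [Q.LiesOver P] :
    Q.height = P.height + LocCoh.depth (FL P Q) (FL P Q) := by
  have h := depth_module_eq M P Q
  have hNQ := isCohenMacaulayModule_localizedModule hN hsuppN Q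
  have hMP := isCohenMacaulayModule_localizedModule hM hsupp P
  unfold LocCoh.IsCohenMacaulayModule at hNQ hMP
  rw [Groth.Agent.Helper4.SuppBC.supportDim_eq_ringKrullDim_of_support_eq_univ _ _
      (support_localizedModule_eq_univ hsuppN Q),
    IsLocalization.AtPrime.ringKrullDim_eq_height Q (Localization.AtPrime Q)] at hNQ
  rw [Groth.Agent.Helper4.SuppBC.supportDim_eq_ringKrullDim_of_support_eq_univ _ _
      (support_localizedModule_eq_univ hsupp P),
    IsLocalization.AtPrime.ringKrullDim_eq_height P (Localization.AtPrime P)] at hMP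
  have h1 : Q.height = LocCoh.depth (Localization.AtPrime Q)
      (LocalizedModule Q.primeCompl (B ⊗[A] M)) := WithBot.coe_injective hNQ
  have h2 : P.height = LocCoh.depth (Localization.AtPrime P)
      (LocalizedModule P.primeCompl M) := WithBot.coe_injective hMP
  rw [h1, h2, h]

/-- The fibre local rings of `A → Â` are Cohen–Macaulay. -/
theorem FL_CM {A B : Type u} [CommRing A] [CommRing B] [Algebra A B]
    [IsLocalRing A] [IsLocalRing B] [IsNoetherianRing A] [IsNoetherianRing B] [Module.Flat A B]
    (M : Type u) [AddCommGroup M] [Module A M] [Module.Finite A M]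
    (hM : LocCoh.IsCohenMacaulayModule A M) (hsupp : Module.support A M = Set.univ)
    (hN : LocCoh.IsCohenMacaulayModule B (B ⊗[A] M))
    (hsuppN : Module.support B (B ⊗[A] M) = Set.univ)
    (P : Ideal A) [P.IsPrime] (Q : Ideal B) [Q.IsPrime] [Q.LiesOver P] :
    (maximalIdeal (FL P Q)).height = LocCoh.depth (FL P Q) (FL P Q) := by
  have hht := height_eq_add_depth_FL M hM hsupp hN hsuppN P Q
  obtain ⟨-, hdim⟩ := depth_dim_eq P Q
  rw [maximalIdeal_height_localization, maximalIdeal_height_localization, hht] at hdim
  exact (enat_cancel Ideal.height_ne_top_of_isPrime hdim).symm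

end Groth.Agent.Lead.FE
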