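import Mathlib
import Groth.Prelude.Def_EGA4c
import Groth.Agent.Lib.Lead.Bass5

/-!
# Z-pure / Z-closed modules: translation to module theory

`EGA4.restrCompl A J M` is the restriction map `Γ(Spec A, M~) → Γ(D(J), M~)`.  We express its
injectivity / surjectivity concretely.
-/

set_option autoImplicit false
set_option linter.style.haveILetI false

universe u

open AlgebraicGeometry CategoryTheory Opposite TopologicalSpace

namespace Groth.Agent.Lead.ZP

variable (A : Type u) [CommRing A] (J : Ideal A) (M : Type u) [AddCommGroup M] [Module A M]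

/-- Sections of `M~` over an open of `Spec A`, in the concrete dependent-function model. -/
abbrev Sec (U : Opens (PrimeSpectrum.Top A)) : Type u :=
  (structureSheafInType A M).obj.obj (op U)

/-- The open `Spec A ∖ V(J)` as an open of `PrimeSpectrum.Top A`. -/
abbrev UJ : Opens (PrimeSpectrum.Top A) := EGA4.openCompl A J

theorem mem_UJ_iff (x : PrimeSpectrum A) : x ∈ UJ A J ↔ ¬ J ≤ x.asIdeal :=
  not_congr (PrimeSpectrum.mem_zeroLocus x (J : Set A))

theorem exists_notMem_of_mem_UJ (x : PrimeSpectrum A) (hx : x ∈ UJ A J) :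
    ∃ f ∈ J, f ∉ x.asIdeal := by
  rw [mem_UJ_iff] at hx
  exact SetLike.not_le_iff_exists.mp hx

/-- the restriction map, concretely -/
noncomputable def res : Sec A M ⊤ →ₗ[A] Sec A M (UJ A J) :=
  ((structurePresheafInModuleCat A M).map (homOfLE (le_top : UJ A J ≤ ⊤)).op).hom

theorem res_apply (s : Sec A M ⊤) (x : UJ A J) : (res A J M s).1 x = s.1 ⟨x.1, trivial⟩ := rfl

theorem restrCompl_eq (s : Sec A M ⊤) : (EGA4.restrCompl A J M) s = res A J M s := rfl

theorem restrCompl_injective_iff_res :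
    Function.Injective (EGA4.restrCompl A J M) ↔ Function.Injective (res A J M) := Iff.rfl

theorem restrCompl_surjective_iff_res :
    Function.Surjective (EGA4.restrCompl A J M) ↔ Function.Surjective (res A J M) := Iff.rfl

theorem toOpen_apply (U : Opens (PrimeSpectrum.Top A)) (m : M) (x : U) :
    (StructureSheaf.toOpenₗ A M U m).1 x = LocalizedModule.mk m 1 := rfl

theorem res_injective_iff : Function.Injective (res A J M) ↔
    ∀ m : M, (∀ p : PrimeSpectrum A, ¬ J ≤ p.asIdeal →
      (LocalizedModule.mk m 1 : LocalizedModule p.asIdeal.primeCompl M) = 0) → m = 0 := by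
  constructor
  · intro h m hm
    apply (StructureSheaf.toOpenₗ_top_bijective (R := A) (M := M)).1
    rw [map_zero]
    apply h
    rw [map_zero]
    apply Subtype.ext
    funext x
    exact hm x.1 ((mem_UJ_iff A J x.1).mp x.2)
  · intro h
    rw [← LinearMap.ker_eq_bot, LinearMap.ker_eq_bot']
    intro s hs
    obtain ⟨m, rfl⟩ := (StructureSheaf.toOpenₗ_top_bijective (R := A) (M := M)).2 s
    rw [h m ?_, map_zero]
    intro p hp
    exact congrArg (fun t => t.1 ⟨p, (mem_UJ_iff A J p).mpr hp⟩) hs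

theorem res_surjective_iff : Function.Surjective (res A J M) ↔
    ∀ s : Sec A M (UJ A J), ∃ m : M, ∀ x : UJ A J, s.1 x = LocalizedModule.mk m 1 := by
  constructor
  · intro h s
    obtain ⟨t, rfl⟩ := h s
    obtain ⟨m, rfl⟩ := (StructureSheaf.toOpenₗ_top_bijective (R := A) (M := M)).2 t
    exact ⟨m, fun x => rfl⟩
  · intro h s
    obtain ⟨m, hm⟩ := h s
    refine ⟨StructureSheaf.toOpenₗ A M ⊤ m, ?_⟩
    apply Subtype.ext
    funext x
    exact (hm x).symm

/-- Gluing: a compatible family `n f / f` (`f ∈ J`) defines a section over `D(J)`. -/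
theorem exists_section_of_compatible (n : J → M)
    (hn : ∀ f g : J, (g : A) • n f = (f : A) • n g) :
    ∃ s : Sec A M (UJ A J), ∀ (x : UJ A J) (f : J) (hf : (f : A) ∉ x.1.asIdeal),
      s.1 x = LocalizedModule.mk (n f) ⟨(f : A), hf⟩ := by
  classical
  have hex : ∀ x : UJ A J, ∃ f : J, (f : A) ∉ x.1.asIdeal := fun x => by
    obtain ⟨f, hfJ, hf⟩ := exists_notMem_of_mem_UJ A J x.1 x.2
    exact ⟨⟨f, hfJ⟩, hf⟩
  choose F hF using hex
  have key : ∀ (x : UJ A J) (f : J) (hf : (f : A) ∉ x.1.asIdeal),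
      (LocalizedModule.mk (n (F x)) ⟨(F x : A), hF x⟩ :
        LocalizedModule x.1.asIdeal.primeCompl M) = LocalizedModule.mk (n f) ⟨(f : A), hf⟩ := by
    intro x f hf
    rw [LocalizedModule.mk_eq]
    refine ⟨1, ?_⟩
    simp only [one_smul, Submonoid.smul_def]
    exact hn (F x) f
  refine ⟨⟨fun x => LocalizedModule.mk (n (F x)) ⟨(F x : A), hF x⟩, ?_⟩, fun x f hf => key x f hf⟩
  intro x
  refine ⟨UJ A J ⊓ PrimeSpectrum.basicOpen (F x : A), ⟨x.2, hF x⟩, homOfLE inf_le_left,
    n (F x), (F x : A), ?_⟩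
  intro y
  exact ⟨y.2.2, key ⟨y.1, y.2.1⟩ (F x) y.2.2⟩

end Groth.Agent.Lead.ZP
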