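import Mathlib
import Groth.Agent.Lib.Lead.ZPure1

/-!
# Z-pure / Z-closed modules: module-theoretic lemmas
-/

set_option autoImplicit false
set_option linter.style.haveILetI false

universe u

open AlgebraicGeometry CategoryTheory Opposite TopologicalSpace LocCoh RingTheory.Sequence Pointwise

namespace Groth.Agent.Lead.ZP

variable {A : Type u} [CommRing A] (J : Ideal A) {M : Type u} [AddCommGroup M] [Module A M]

theorem mk_eq_zero_iff' (p : Ideal A) [p.IsPrime] (m : M) :
    (LocalizedModule.mk m 1 : LocalizedModule p.primeCompl M) = 0 ↔ ∃ s ∉ p, s • m = 0 := by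
  rw [← LocalizedModule.zero_mk (1 : p.primeCompl), LocalizedModule.mk_eq]
  constructor
  · rintro ⟨u, hu⟩
    refine ⟨u.1, u.2, ?_⟩
    simpa [Submonoid.smul_def] using hu
  · rintro ⟨s, hs, h⟩
    exact ⟨⟨s, hs⟩, by simp [Submonoid.smul_def, h]⟩

/-- vanishing on `D(J)` means `J`-power torsion -/
theorem exists_pow_smul_eq_zero (m : M)
    (hm : ∀ p : PrimeSpectrum A, ¬ J ≤ p.asIdeal →
      (LocalizedModule.mk m 1 : LocalizedModule p.asIdeal.primeCompl M) = 0)
    (x : A) (hx : x ∈ J) : ∃ n : ℕ, x ^ n • m = 0 := by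
  have : x ∈ ((⊥ : Submodule A M).colon {m}).radical := by
    rw [Ideal.radical_eq_sInf, Ideal.mem_sInf]
    rintro p ⟨hIp, hp⟩
    by_contra hxp
    have hJp : ¬ J ≤ p := fun h => hxp (h hx)
    obtain ⟨s, hs, hsm⟩ := (mk_eq_zero_iff' p m).mp (hm ⟨p, hp⟩ hJp)
    exact hs (hIp (Submodule.mem_colon_singleton.mpr (by simpa using hsm)))
  obtain ⟨n, hn⟩ := this
  exact ⟨n, by simpa [Submodule.mem_colon_singleton] using hn⟩

theorem mk_eq_zero_of_smul_eq_zero (m : M) (h : ∀ f ∈ J, f • m = 0) (p : PrimeSpectrum A)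
    (hp : ¬ J ≤ p.asIdeal) :
    (LocalizedModule.mk m 1 : LocalizedModule p.asIdeal.primeCompl M) = 0 := by
  obtain ⟨f, hfJ, hf⟩ := SetLike.not_le_iff_exists.mp hp
  exact (mk_eq_zero_iff' _ m).mpr ⟨f, hf, h f hfJ⟩

theorem eq_zero_of_vanish_of_regular (m : M)
    (hm : ∀ p : PrimeSpectrum A, ¬ J ≤ p.asIdeal →
      (LocalizedModule.mk m 1 : LocalizedModule p.asIdeal.primeCompl M) = 0)
    (x : A) (hx : x ∈ J) (hreg : IsSMulRegular M x) : m = 0 := by
  obtain ⟨n, hn⟩ := exists_pow_smul_eq_zero J m hm x hx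
  exact (hreg.pow n) (by simpa using hn)

theorem exists_of_regular_pair {ι : Type*} [Fintype ι] (a : ι → M) (b : ι → A)
    (hab : ∀ i j, b j • a i = b i • a j) (x y : A) (hx : x ∈ Ideal.span (Set.range b))
    (hy : y ∈ Ideal.span (Set.range b)) (hxreg : IsSMulRegular M x)
    (hyreg : IsSMulRegular (QuotSMulTop x M) y) : ∃ m : M, ∀ i, b i • m = a i := by
  obtain ⟨c, hc⟩ := (Ideal.mem_span_range_iff_exists_fun).mp hx
  obtain ⟨d, hd⟩ := (Ideal.mem_span_range_iff_exists_fun).mp hy
  have h1 : ∀ j, b j • (∑ i, c i • a i) = x • a j := by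
    intro j
    rw [← hc, Finset.smul_sum, Finset.sum_smul]
    refine Finset.sum_congr rfl fun i _ => ?_
    rw [smul_comm, hab i j, mul_smul]
  have h2 : ∀ j, b j • (∑ i, d i • a i) = y • a j := by
    intro j
    rw [← hd, Finset.smul_sum, Finset.sum_smul]
    refine Finset.sum_congr rfl fun i _ => ?_
    rw [smul_comm, hab i j, mul_smul]
  have h3 : y • (∑ i, c i • a i) = x • (∑ i, d i • a i) := by
    calc y • (∑ i, c i • a i) = ∑ j, d j • (b j • (∑ i, c i • a i)) := by
          rw [← hd, Finset.sum_smul]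
          exact Finset.sum_congr rfl fun j _ => mul_smul _ _ _
      _ = ∑ j, d j • (x • a j) := by simp only [h1]
      _ = x • (∑ i, d i • a i) := by
          rw [Finset.smul_sum]
          exact Finset.sum_congr rfl fun j _ => smul_comm _ _ _
  have h4 : (Submodule.Quotient.mk (∑ i, c i • a i) : QuotSMulTop x M) = 0 := by
    apply hyreg
    change y • (Submodule.Quotient.mk (∑ i, c i • a i) : QuotSMulTop x M) = y • 0
    rw [smul_zero, ← Submodule.Quotient.mk_smul, h3]
    exact (Submodule.Quotient.mk_eq_zero _).mpr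
      (Submodule.smul_mem_pointwise_smul _ _ _ Submodule.mem_top)
  obtain ⟨m, -, hm⟩ := (Submodule.mem_smul_pointwise_iff_exists _ _ _).mp
    ((Submodule.Quotient.mk_eq_zero _).mp h4)
  refine ⟨m, fun j => hxreg ?_⟩
  change x • b j • m = x • a j
  rw [smul_comm, hm, h1]

theorem exists_of_smul_top_eq_top [Module.Finite A M] {ι : Type*} [Fintype ι] (a : ι → M)
    (b : ι → A) (hab : ∀ i j, b j • a i = b i • a j)
    (h : Ideal.span (Set.range b) • (⊤ : Submodule A M) = ⊤) : ∃ m : M, ∀ i, b i • m = a i := by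
  obtain ⟨r, hr, hrM⟩ := Submodule.exists_sub_one_mem_and_smul_eq_zero_of_fg_of_le_smul
    (Ideal.span (Set.range b)) (⊤ : Submodule A M) Module.Finite.fg_top (by rw [h])
  have he : 1 - r ∈ Ideal.span (Set.range b) := by
    have := neg_mem hr
    simpa using this
  obtain ⟨c, hc⟩ := Ideal.mem_span_range_iff_exists_fun.mp he
  refine ⟨∑ i, c i • a i, fun j => ?_⟩
  calc b j • ∑ i, c i • a i = ∑ i, (c i * b i) • a j := by
        rw [Finset.smul_sum]
        refine Finset.sum_congr rfl fun i _ => ?_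
        rw [smul_comm, hab i j, mul_smul]
    _ = (1 - r) • a j := by rw [← Finset.sum_smul, hc]
    _ = a j := by rw [sub_smul, one_smul, hrM _ trivial, sub_zero]

end Groth.Agent.Lead.ZP
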