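import Mathlib
import Groth.Agent.Lib.Lead.ZPure2

/-!
# Z-pure / Z-closed modules: depth criteria
-/

set_option autoImplicit false
set_option linter.style.haveILetI false

universe u

open AlgebraicGeometry CategoryTheory Opposite TopologicalSpace LocCoh RingTheory.Sequence Pointwise
open Groth.Agent.Lead.Depth

namespace Groth.Agent.Lead.ZP

variable {A : Type u} [CommRing A] [IsNoetherianRing A] (J : Ideal A) (M : Type u) [AddCommGroup M]
  [Module A M]

theorem isCompact_UJ : IsCompact (UJ A J : Set (PrimeSpectrum.Top A)) :=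
  TopologicalSpace.NoetherianSpace.isCompact (α := PrimeSpectrum A) _

theorem res_injective_of_one_le_idealDepth [Module.Finite A M] (h : (1 : ℕ∞) ≤ idealDepth J M) :
    Function.Injective (res A J M) := by
  rw [res_injective_iff]
  intro m hm
  by_cases htop : J • (⊤ : Submodule A M) = ⊤
  · obtain ⟨r, hr, hrM⟩ := Submodule.exists_sub_one_mem_and_smul_eq_zero_of_fg_of_le_smul J
      (⊤ : Submodule A M) Module.Finite.fg_top (by rw [htop])
    have he : 1 - r ∈ J := by
      have := neg_mem hr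
      simpa using this
    obtain ⟨n, hn⟩ := exists_pow_smul_eq_zero J m hm (1 - r) he
    have hid : ∀ m : M, (1 - r) • m = m := fun m => by
      rw [sub_smul, one_smul, hrM _ trivial, sub_zero]
    have : ∀ k : ℕ, (1 - r) ^ k • m = m := by
      intro k
      induction k with
      | zero => simp
      | succ k ih => rw [pow_succ, mul_smul, hid, ih]
    rw [← this n, hn]
  · obtain ⟨rs, hlen, hreg, hI⟩ := exists_of_le_idealDepth J M htop 1 (by exact_mod_cast h)
    obtain ⟨x, rfl⟩ := List.length_eq_one_iff.mp hlen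
    exact eq_zero_of_vanish_of_regular J m hm x (hI x (by simp))
      ((isWeaklyRegular_singleton_iff M x).mp hreg)

theorem exists_normalized (s : Sec A M (UJ A J)) :
    ∃ (ι : Type u) (_ : Fintype ι) (a : ι → M) (b : ι → A), (∀ i j, b j • a i = b i • a j) ∧
      (∀ x : UJ A J, ∃ i, b i ∉ x.1.asIdeal) ∧
      (∀ (x : UJ A J) (i : ι) (hi : b i ∉ x.1.asIdeal),
        s.1 x = LocalizedModule.mk (a i) ⟨b i, hi⟩) := by
  classical
  choose g hxg igU f H using fun x : UJ A J ↦ StructureSheaf.exists_const (UJ A J) s x.1 x.2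
  have Hpt : ∀ (i : UJ A J) (y : UJ A J) (hy : g i ∉ y.1.asIdeal),
      s.1 y = LocalizedModule.mk (f i) ⟨g i, hy⟩ := by
    intro i y hy
    exact (congrArg (fun t => t.1 ⟨y.1, hy⟩) (H i)).symm
  have hpow : ∀ i j : UJ A J, ∃ n : ℕ, (g i * g j) ^ n • (g j • f i - g i • f j) = 0 := by
    intro i j
    apply exists_pow_smul_eq_zero (Ideal.span {g i * g j}) _ _ _ (Ideal.mem_span_singleton_self _)
    intro p hp
    have hgp : g i * g j ∉ p.asIdeal := fun h => hp ((Ideal.span_singleton_le_iff_mem _).mpr h)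
    have hgi : g i ∉ p.asIdeal := fun h => hgp (Ideal.mul_mem_right _ _ h)
    have hgj : g j ∉ p.asIdeal := fun h => hgp (Ideal.mul_mem_left _ _ h)
    have hpU : p ∈ UJ A J := igU i hgi
    have e := (Hpt i ⟨p, hpU⟩ hgi).symm.trans (Hpt j ⟨p, hpU⟩ hgj)
    rw [LocalizedModule.mk_eq] at e
    obtain ⟨u, hu⟩ := e
    rw [mk_eq_zero_iff']
    refine ⟨u.1, u.2, ?_⟩
    have hu' : (u : A) • g j • f i = (u : A) • g i • f j := by
      simpa [Submonoid.smul_def] using hu
    rw [smul_sub, hu', sub_self]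
  choose n hn using hpow
  obtain ⟨t, ht⟩ := (isCompact_UJ J).elim_finite_subcover
    (fun i : UJ A J ↦ (PrimeSpectrum.basicOpen (g i) : Set (PrimeSpectrum A)))
    (fun _ ↦ (PrimeSpectrum.basicOpen _).2) (fun x hx ↦ Set.mem_iUnion_of_mem ⟨x, hx⟩ (hxg _))
  let N := (t ×ˢ t).sup fun x ↦ n x.1 x.2
  refine ⟨t, inferInstance, fun i ↦ g i ^ N • f i, fun i ↦ (g i) ^ (N + 1), ?_, ?_, ?_⟩
  · intro i j
    have hN : n i j ≤ N := (t ×ˢ t).le_sup (f := fun x ↦ n x.1 x.2) (b := ⟨i, j⟩) (by simp)
    have h0 : (g i * g j) ^ N • (g j • f i - g i • f j) = 0 := by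
      rw [← Nat.sub_add_cancel hN, pow_add, mul_smul, hn, smul_zero]
    rw [smul_sub, sub_eq_zero] at h0
    change g j ^ (N + 1) • g i ^ N • f i = g i ^ (N + 1) • g j ^ N • f j
    convert h0 using 1 <;> module
  · intro x
    have hx := ht x.2
    simp only [Set.mem_iUnion] at hx
    obtain ⟨i, hit, hi⟩ := hx
    exact ⟨⟨i, hit⟩, fun h => hi (x.1.isPrime.mem_of_pow_mem _ h)⟩
  · intro x i hi
    have hgi : g i ∉ x.1.asIdeal := fun h => hi (Ideal.pow_mem_of_mem _ h _ (Nat.succ_pos _))
    rw [Hpt i x hgi, LocalizedModule.mk_eq]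
    refine ⟨1, ?_⟩
    simp only [one_smul, Submonoid.smul_def]
    rw [pow_succ, mul_smul, smul_comm]

theorem res_surjective_of_depth [Module.Finite A M]
    (h : ∀ I : Ideal A, (∀ p : PrimeSpectrum A, I ≤ p.asIdeal → J ≤ p.asIdeal) →
      (2 : ℕ∞) ≤ idealDepth I M) : Function.Surjective (res A J M) := by
  rw [res_surjective_iff]
  intro s
  obtain ⟨ι, _, a, b, hab, hcov, H⟩ := exists_normalized J M s
  have hI : ∀ p : PrimeSpectrum A, Ideal.span (Set.range b) ≤ p.asIdeal → J ≤ p.asIdeal := by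
    intro p hp
    by_contra hJ
    have hpU : p ∈ UJ A J := (mem_UJ_iff A J p).mpr hJ
    obtain ⟨i, hi⟩ := hcov ⟨p, hpU⟩
    exact hi (hp (Ideal.subset_span ⟨i, rfl⟩))
  have h2 := h _ hI
  have hm : ∃ m : M, ∀ i, b i • m = a i := by
    by_cases htop : Ideal.span (Set.range b) • (⊤ : Submodule A M) = ⊤
    · exact exists_of_smul_top_eq_top a b hab htop
    · obtain ⟨rs, hlen, hreg, hI⟩ := exists_of_le_idealDepth _ M htop 2 (by exact_mod_cast h2)
      obtain ⟨x, y, rfl⟩ := List.length_eq_two.mp hlen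
      rw [isWeaklyRegular_cons_iff, isWeaklyRegular_singleton_iff] at hreg
      exact exists_of_regular_pair a b hab x y (hI x (by simp)) (hI y (by simp)) hreg.1 hreg.2
  obtain ⟨m, hm⟩ := hm
  refine ⟨m, fun x => ?_⟩
  obtain ⟨i, hi⟩ := hcov x
  rw [H x i hi, LocalizedModule.mk_eq]
  refine ⟨1, ?_⟩
  simp [Submonoid.smul_def, hm i]

theorem one_le_idealDepth_of_res_injective [Module.Finite A M]
    (h : Function.Injective (res A J M)) : (1 : ℕ∞) ≤ idealDepth J M := by
  rw [res_injective_iff] at h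
  by_contra hcon
  have hreg : ∀ x ∈ J, ¬ IsSMulRegular M x := by
    intro x hx hreg
    exact hcon (by
      simpa using le_idealDepth_of_isWeaklyRegular J M [x]
        ((isWeaklyRegular_singleton_iff M x).mpr hreg) (by simpa using hx))
  obtain ⟨q, hq, hJq⟩ := exists_le_associatedPrime_of_forall_not_regular' M J hreg
  obtain ⟨hqp, m, hm⟩ := (isAssociatedPrime_iff).mp hq
  have hm0 : m = 0 := h m (mk_eq_zero_of_smul_eq_zero J m (fun f hf => by
    have : f ∈ (⊥ : Submodule A M).colon {m} := hm ▸ hJq hf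
    simpa [Submodule.mem_colon_singleton] using this))
  apply hqp.ne_top
  rw [hm, hm0]
  ext
  simp [Submodule.mem_colon_singleton]

theorem two_le_idealDepth_of_res_bijective [Module.Finite A M]
    (h : Function.Bijective (res A J M)) : (2 : ℕ∞) ≤ idealDepth J M := by
  by_cases htop : J • (⊤ : Submodule A M) = ⊤
  · rw [idealDepth_of_eq_top J M htop]; exact le_top
  have h1 := one_le_idealDepth_of_res_injective J M h.1
  obtain ⟨rs, hlen, hreg, hI⟩ := exists_of_le_idealDepth J M htop 1 (by exact_mod_cast h1)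
  obtain ⟨x, rfl⟩ := List.length_eq_one_iff.mp hlen
  have hx : x ∈ J := hI x (by simp)
  have hxreg : IsSMulRegular M x := (isWeaklyRegular_singleton_iff M x).mp hreg
  have hinj := (res_injective_iff A J M).mp h.1
  have hsurj := (res_surjective_iff A J M).mp h.2
  by_contra hcon
  have hreg2 : ∀ y ∈ J, ¬ IsSMulRegular (QuotSMulTop x M) y := by
    intro y hy hyreg
    refine hcon ?_
    have := le_idealDepth_of_isWeaklyRegular J M [x, y]
      ((isWeaklyRegular_cons_iff M x [y]).mpr
        ⟨hxreg, (isWeaklyRegular_singleton_iff _ y).mpr hyreg⟩) (by simp [hx, hy])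
    simpa using this
  obtain ⟨q, hq, hJq⟩ :=
    exists_le_associatedPrime_of_forall_not_regular' (QuotSMulTop x M) J hreg2
  obtain ⟨hqp, mbar, hm⟩ := (isAssociatedPrime_iff).mp hq
  obtain ⟨m, rfl⟩ := Submodule.Quotient.mk_surjective _ mbar
  have hfm : ∀ f : J, ∃ n : M, x • n = (f : A) • m := by
    intro f
    have : (f : A) ∈ (⊥ : Submodule A (QuotSMulTop x M)).colon {Submodule.Quotient.mk m} :=
      hm ▸ hJq f.2
    rw [Submodule.mem_colon_singleton, Submodule.mem_bot, ← Submodule.Quotient.mk_smul,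
      Submodule.Quotient.mk_eq_zero] at this
    obtain ⟨n, -, hn⟩ := (Submodule.mem_smul_pointwise_iff_exists _ _ _).mp this
    exact ⟨n, hn⟩
  choose n hn using hfm
  have hcompat : ∀ f g : J, (g : A) • n f = (f : A) • n g := by
    intro f g
    apply hxreg
    change x • (g : A) • n f = x • (f : A) • n g
    rw [smul_comm x, hn, smul_comm x, hn, smul_comm]
  obtain ⟨s, hs⟩ := exists_section_of_compatible A J M n hcompat
  obtain ⟨m', hm'⟩ := hsurj s
  have hvan : x • m' - m = 0 := by
    apply hinj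
    intro p hp
    obtain ⟨f, hfJ, hf⟩ := SetLike.not_le_iff_exists.mp hp
    have e1 := hm' ⟨p, (mem_UJ_iff A J p).mpr hp⟩
    have e2 := hs ⟨p, (mem_UJ_iff A J p).mpr hp⟩ ⟨f, hfJ⟩ hf
    have e3 : (LocalizedModule.mk m' 1 : LocalizedModule p.asIdeal.primeCompl M) =
        LocalizedModule.mk (n ⟨f, hfJ⟩) ⟨f, hf⟩ := e1.symm.trans e2
    rw [LocalizedModule.mk_eq] at e3
    obtain ⟨u, hu⟩ := e3
    rw [mk_eq_zero_iff']
    refine ⟨u.1 * f, p.asIdeal.primeCompl.mul_mem u.2 hf, ?_⟩
    have hu' : (u : A) • f • m' = (u : A) • n ⟨f, hfJ⟩ := by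
      simpa [Submonoid.smul_def] using hu
    calc ((u : A) * f) • (x • m' - m) = x • ((u : A) • f • m') - (u : A) • f • m := by
          rw [smul_sub, mul_smul, mul_smul]
          congr 1
          rw [smul_comm f x, smul_comm (u : A) x]
      _ = 0 := by rw [hu', smul_comm x, hn, sub_self]
  apply hqp.ne_top
  rw [hm]
  have : (Submodule.Quotient.mk m : QuotSMulTop x M) = 0 := by
    rw [Submodule.Quotient.mk_eq_zero, ← sub_eq_zero.mp hvan]
    exact Submodule.smul_mem_pointwise_smul _ _ _ Submodule.mem_top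
  rw [this]
  ext
  simp [Submodule.mem_colon_singleton]

end Groth.Agent.Lead.ZP
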