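import Mathlib
import Groth.Agent.Lib.Lead.ZPure3

/-!
# Z-pure / Z-closed modules: characterizations
-/

set_option autoImplicit false
set_option linter.style.haveILetI false

universe u

open AlgebraicGeometry CategoryTheory Opposite TopologicalSpace LocCoh RingTheory.Sequence Pointwise
open Groth.Agent.Lead.Depth

namespace Groth.Agent.Lead.ZP

variable {A : Type u} [CommRing A] [IsNoetherianRing A] (Z : Set (PrimeSpectrum A))
  (hZ : StableUnderSpecialization Z) (M : Type u) [AddCommGroup M] [Module A M]

include hZ in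
theorem zeroLocus_subset_of_mem (p : PrimeSpectrum A) (hp : p ∈ Z) :
    PrimeSpectrum.zeroLocus (p.asIdeal : Set A) ⊆ Z := by
  intro q hq
  exact hZ ((PrimeSpectrum.le_iff_specializes p q).mp ((PrimeSpectrum.mem_zeroLocus q _).mp hq)) hp

include hZ in
/-- `M` is `Z`-pure iff no associated prime of `M` lies in `Z`. -/
theorem isPureAlong_iff_ass : EGA4.IsPureAlong Z M ↔
    ∀ p : PrimeSpectrum A, p.asIdeal ∈ associatedPrimes A M → p ∉ Z := by
  constructor
  · intro h p hp hpZ
    obtain ⟨hpp, m, hm⟩ := (isAssociatedPrime_iff).mp hp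
    have hinj := (res_injective_iff A p.asIdeal M).mp (h p.asIdeal (zeroLocus_subset_of_mem Z hZ p hpZ))
    have hm0 : m = 0 := hinj m (mk_eq_zero_of_smul_eq_zero p.asIdeal m (fun f hf => by
      have : f ∈ (⊥ : Submodule A M).colon {m} := hm ▸ hf
      simpa [Submodule.mem_colon_singleton] using this))
    apply hpp.ne_top
    rw [hm, hm0]
    ext
    simp [Submodule.mem_colon_singleton]
  · intro h J hJ
    change Function.Injective (res A J M)
    rw [res_injective_iff]
    intro m hm
    by_contra hm0
    obtain ⟨P, hP, hle⟩ := exists_le_isAssociatedPrime_of_isNoetherianRing A m hm0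
    have hPp : P.IsPrime := hP.isPrime
    have hPZ : (⟨P, hPp⟩ : PrimeSpectrum A) ∉ Z := h ⟨P, hPp⟩ hP
    have hJP : ¬ J ≤ P := fun hle' => hPZ (hJ ((PrimeSpectrum.mem_zeroLocus _ _).mpr hle'))
    obtain ⟨s, hs, hsm⟩ := (mk_eq_zero_iff' P m).mp (hm ⟨P, hPp⟩ hJP)
    exact hs (hle (Submodule.mem_colon_singleton.mpr (by simpa using hsm)))

include hZ in
/-- `M` finite is `Z`-pure iff `depth M_p ≥ 1` for all `p ∈ Z`. -/
theorem isPureAlong_iff_depth [Module.Finite A M] : EGA4.IsPureAlong Z M ↔
    ∀ p : PrimeSpectrum A, p ∈ Z → (1 : ℕ∞) ≤ LocCoh.depth (Localization.AtPrime p.asIdeal)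
      (LocalizedModule p.asIdeal.primeCompl M) := by
  constructor
  · intro h p hp
    have hinj : Function.Injective (res A p.asIdeal M) :=
      h p.asIdeal (zeroLocus_subset_of_mem Z hZ p hp)
    exact (one_le_idealDepth_of_res_injective p.asIdeal M hinj).trans
      (idealDepth_le_depth_localizedModule p.asIdeal p.asIdeal le_rfl M)
  · intro h J hJ
    change Function.Injective (res A J M)
    apply res_injective_of_one_le_idealDepth
    rw [idealDepth_eq_iInf_depth_localizedModule J M]
    exact le_iInf₂ fun p hp => h p (hJ ((PrimeSpectrum.mem_zeroLocus p _).mpr hp))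

include hZ in
/-- `M` finite is `Z`-closed iff `depth M_p ≥ 2` for all `p ∈ Z`. -/
theorem isClosedAlong_iff_depth [Module.Finite A M] : EGA4.IsClosedAlong Z M ↔
    ∀ p : PrimeSpectrum A, p ∈ Z → (2 : ℕ∞) ≤ LocCoh.depth (Localization.AtPrime p.asIdeal)
      (LocalizedModule p.asIdeal.primeCompl M) := by
  constructor
  · intro h p hp
    have hbij : Function.Bijective (res A p.asIdeal M) :=
      h p.asIdeal (zeroLocus_subset_of_mem Z hZ p hp)
    exact (two_le_idealDepth_of_res_bijective p.asIdeal M hbij).trans
      (idealDepth_le_depth_localizedModule p.asIdeal p.asIdeal le_rfl M)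
  · intro h J hJ
    change Function.Bijective (res A J M)
    have hdepth : ∀ I : Ideal A, (∀ p : PrimeSpectrum A, I ≤ p.asIdeal → J ≤ p.asIdeal) →
        (2 : ℕ∞) ≤ LocCoh.idealDepth I M := by
      intro I hI
      rw [idealDepth_eq_iInf_depth_localizedModule I M]
      refine le_iInf₂ fun p hp => ?_
      exact h p (hJ ((PrimeSpectrum.mem_zeroLocus p _).mpr (hI p hp)))
    refine ⟨res_injective_of_one_le_idealDepth J M ?_, res_surjective_of_depth J M hdepth⟩
    exact le_trans (by norm_num) (hdepth J fun p hp => hp)

omit [IsNoetherianRing A] in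
theorem stableUnderSpecialization_Zge (n : ℕ) : StableUnderSpecialization (EGA4.Zge A n) := by
  intro p q hpq hp
  have hle : p.asIdeal ≤ q.asIdeal := (PrimeSpectrum.le_iff_specializes p q).mpr hpq
  exact le_trans hp (Ideal.height_mono hle)

omit [IsNoetherianRing A] in
/-- If `Supp M = Spec A`, then `Supp M_p = Spec A_p`. -/
theorem support_localizedModule_eq_univ (hsupp : Module.support A M = Set.univ) (p : Ideal A)
    [p.IsPrime] :
    Module.support (Localization.AtPrime p) (LocalizedModule p.primeCompl M) = Set.univ := by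
  rw [Set.eq_univ_iff_forall]
  intro q'
  have hq : (PrimeSpectrum.comap (algebraMap A (Localization.AtPrime p)) q') ∈
      Module.support A M := by rw [hsupp]; trivial
  rw [Module.mem_support_iff'] at hq ⊢
  obtain ⟨m, hm⟩ := hq
  refine ⟨LocalizedModule.mk m 1, ?_⟩
  intro r hr
  obtain ⟨a, s, rfl⟩ := IsLocalization.exists_mk'_eq p.primeCompl r
  have ha : a ∉ (PrimeSpectrum.comap (algebraMap A (Localization.AtPrime p)) q').asIdeal := by
    intro ha
    apply hr
    have : algebraMap A (Localization.AtPrime p) a ∈ q'.asIdeal := ha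
    rw [← IsLocalization.mk'_spec' (Localization.AtPrime p) a s] at this
    rcases q'.isPrime.mem_or_mem this with h | h
    · exact absurd (q'.asIdeal.eq_top_of_isUnit_mem h (IsLocalization.map_units _ s))
        q'.isPrime.ne_top
    · exact h
  intro h0
  have h1 : (algebraMap A (Localization.AtPrime p) s) •
      (IsLocalization.mk' (Localization.AtPrime p) a s •
        (LocalizedModule.mk m 1 : LocalizedModule p.primeCompl M)) = 0 := by
    rw [h0, smul_zero]
  rw [← mul_smul, IsLocalization.mk'_spec', algebraMap_smul, LocalizedModule.smul'_mk,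
    mk_eq_zero_iff'] at h1
  obtain ⟨u, hu, hum⟩ := h1
  refine hm (u * a) ?_ (by rw [mul_smul]; exact hum)
  intro hua
  rcases (PrimeSpectrum.comap (algebraMap A (Localization.AtPrime p)) q').isPrime.mem_or_mem hua
    with h | h
  · -- u ∈ comap q' ≤ p
    apply hu
    have hle : (PrimeSpectrum.comap (algebraMap A (Localization.AtPrime p)) q').asIdeal ≤ p := by
      intro x hx
      by_contra hxp
      exact q'.isPrime.ne_top (q'.asIdeal.eq_top_of_isUnit_mem hx
        (IsLocalization.map_units (Localization.AtPrime p) (⟨x, hxp⟩ : p.primeCompl)))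
    exact hle h
  · exact ha h

omit [IsNoetherianRing A] in
/-- If `Supp M = Spec A`, the support dimension of `M_p` is the height of `p`. -/
theorem supportDim_localizedModule_of_support_eq_univ (hsupp : Module.support A M = Set.univ)
    (p : Ideal A) [p.IsPrime] :
    Module.supportDim (Localization.AtPrime p) (LocalizedModule p.primeCompl M) =
      ((p.height : ℕ∞) : WithBot ℕ∞) := by
  rw [Module.supportDim, support_localizedModule_eq_univ M hsupp p,
    ← IsLocalization.AtPrime.ringKrullDim_eq_height p (Localization.AtPrime p)]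
  exact Order.krullDim_eq_of_orderIso (OrderIso.Set.univ)

end Groth.Agent.Lead.ZP
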