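import Mathlib
import Groth.Agent.Lib.Lead.ZPure4

/-!
# Serre conditions vs purity/closedness
-/

set_option autoImplicit false
set_option linter.style.haveILetI false

universe u

open LocCoh

namespace Groth.Agent.Lead.ZP

theorem min_one_le_iff (h d : ℕ∞) : min (1 : ℕ∞) h ≤ d ↔ (1 ≤ h → 1 ≤ d) := by
  constructor
  · intro H h1
    rwa [min_eq_left h1] at H
  · intro H
    by_cases h1 : (1 : ℕ∞) ≤ h
    · rw [min_eq_left h1]; exact H h1
    · have : h = 0 := ENat.lt_one_iff_eq_zero.mp (not_le.mp h1)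
      rw [this]; simp

theorem min_two_le_iff (h d : ℕ∞) :
    min (2 : ℕ∞) h ≤ d ↔ (2 ≤ h → 2 ≤ d) ∧ (1 ≤ h → 1 ≤ d) := by
  constructor
  · intro H
    refine ⟨fun h2 => ?_, fun h1 => ?_⟩
    · rwa [min_eq_left h2] at H
    · exact le_trans (le_min (by norm_num) h1) H
  · rintro ⟨H2, H1⟩
    by_cases h2 : (2 : ℕ∞) ≤ h
    · rw [min_eq_left h2]; exact H2 h2
    · have hlt : h < 2 := not_le.mp h2
      lift h to ℕ using ne_top_of_lt hlt
      have hlt' : h < 2 := by exact_mod_cast hlt
      rw [min_eq_right hlt.le]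
      interval_cases h
      · simp
      · exact H1 le_rfl

variable {A : Type u} [CommRing A] [IsNoetherianRing A] (M : Type u) [AddCommGroup M]
  [Module A M]

omit [IsNoetherianRing A] in
theorem hasSk_iff_of_support_eq_univ (hsupp : Module.support A M = Set.univ) (k : ℕ) :
    HasSk k A M ↔ ∀ p : PrimeSpectrum A, min (k : ℕ∞) p.asIdeal.height ≤
      LocCoh.depth (Localization.AtPrime p.asIdeal) (LocalizedModule p.asIdeal.primeCompl M) := by
  constructor
  · intro h p
    have := h p.asIdeal
    rw [supportDim_localizedModule_of_support_eq_univ M hsupp p.asIdeal] at this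
    exact_mod_cast this
  · intro h p hp
    rw [supportDim_localizedModule_of_support_eq_univ M hsupp p]
    have := h ⟨p, hp⟩
    exact_mod_cast this

theorem hasSk_one_iff_isPureAlong [Module.Finite A M] (hsupp : Module.support A M = Set.univ) :
    HasSk 1 A M ↔ EGA4.IsPureAlong (EGA4.Zge A 1) M := by
  rw [isPureAlong_iff_depth _ (stableUnderSpecialization_Zge 1) M,
    hasSk_iff_of_support_eq_univ M hsupp 1]
  refine forall_congr' fun p => ?_
  rw [Nat.cast_one, min_one_le_iff]
  rfl

theorem hasSk_two_iff_isClosedAlong [Module.Finite A M] (hsupp : Module.support A M = Set.univ) :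
    HasSk 2 A M ↔ (EGA4.IsClosedAlong (EGA4.Zge A 2) M ∧ EGA4.IsPureAlong (EGA4.Zge A 1) M) := by
  rw [isPureAlong_iff_depth _ (stableUnderSpecialization_Zge 1) M,
    isClosedAlong_iff_depth _ (stableUnderSpecialization_Zge 2) M,
    hasSk_iff_of_support_eq_univ M hsupp 2, ← forall_and]
  refine forall_congr' fun p => ?_
  rw [Nat.cast_ofNat, min_two_le_iff]
  rfl

end Groth.Agent.Lead.ZP
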