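import Mathlib
import Groth.Agent.Lib.Lead.ZPure5
import Groth.Agent.Lib.Lead.Depth21

/-!
# Hartshorne's connectedness lemma (algebraic core)

If `R` is a Noetherian local ring, `a * b = ⊥` and `depth_{a ⊔ b} R ≥ 2`, then `a = ⊥` or `b = ⊥`.
-/

set_option autoImplicit false
set_option linter.style.haveILetI false

universe u

open LocCoh RingTheory.Sequence Pointwise IsLocalRing

namespace Groth.Agent.Lead.Conn

open Groth.Agent.Lead.Depth Groth.Agent.Lead.ZP

variable {R : Type u} [CommRing R] [IsNoetherianRing R]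

/-- An "idempotent gluing" lemma: if `a * b = ⊥` and `depth_{a ⊔ b} R ≥ 2`, there is `e` with
`e * (1 - e) = 0`, `f * e = 0` for `f ∈ a`, and `g * e = g` for `g ∈ b`. -/
theorem exists_idempotent_of_mul_eq_bot (a b : Ideal R) (hab : a * b = ⊥)
    (hne : (a ⊔ b) • (⊤ : Submodule R R) ≠ ⊤)
    (h : (2 : ℕ∞) ≤ idealDepth (a ⊔ b) R) :
    ∃ e : R, e * (1 - e) = 0 ∧ (∀ f ∈ a, f * e = 0) ∧ (∀ g ∈ b, g * e = g) := by
  classical
  obtain ⟨rs, hlen, hreg, hmem⟩ := exists_of_le_idealDepth (a ⊔ b) R hne 2 (by exact_mod_cast h)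
  obtain ⟨x, y, rfl⟩ := List.length_eq_two.mp hlen
  have hx : x ∈ a ⊔ b := hmem x (by simp)
  have hy : y ∈ a ⊔ b := hmem y (by simp)
  have hreg' := (isWeaklyRegular_cons_iff R x [y]).mp hreg
  have hxreg : IsSMulRegular R x := hreg'.1
  have hyreg : IsSMulRegular (QuotSMulTop x R) y :=
    ((isWeaklyRegular_cons_iff (QuotSMulTop x R) y []).mp hreg'.2).1
  obtain ⟨sa, hsa⟩ := (IsNoetherian.noetherian a : a.FG)
  obtain ⟨sb, hsb⟩ := (IsNoetherian.noetherian b : b.FG)
  -- index type: generators of a, then generators of b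
  let gen : (sa ⊕ sb) → R := Sum.elim (fun f => (f : R)) (fun g => (g : R))
  let val : (sa ⊕ sb) → R := Sum.elim (fun _ => 0) (fun g => (g : R))
  have hsaa : ∀ f : sa, (f : R) ∈ a := fun f => hsa ▸ Submodule.subset_span f.2
  have hsbb : ∀ g : sb, (g : R) ∈ b := fun g => hsb ▸ Submodule.subset_span g.2
  have hzero : ∀ (f : sa) (g : sb), (f : R) * (g : R) = 0 := by
    intro f g
    have : (f : R) * (g : R) ∈ a * b := Ideal.mul_mem_mul (hsaa f) (hsbb g)
    rwa [hab, Ideal.mem_bot] at this
  have hcompat : ∀ i j, gen j • val i = gen i • val j := by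
    rintro (f | g) (f' | g')
    · simp [gen, val]
    · simp [gen, val, hzero f g']
    · simp [gen, val, hzero f' g]
    · simp [gen, val, mul_comm]
  have hspan : Ideal.span (Set.range gen) = a ⊔ b := by
    have : Set.range gen = (sa : Set R) ∪ (sb : Set R) := by
      ext z
      simp only [gen, Set.mem_range, Sum.exists, Sum.elim_inl, Sum.elim_inr, Set.mem_union,
        Finset.mem_coe]
      constructor
      · rintro (⟨f, rfl⟩ | ⟨g, rfl⟩)
        · exact Or.inl f.2
        · exact Or.inr g.2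
      · rintro (hz | hz)
        · exact Or.inl ⟨⟨z, hz⟩, rfl⟩
        · exact Or.inr ⟨⟨z, hz⟩, rfl⟩
    rw [this, Ideal.span_union]
    congr 1
  obtain ⟨e, he⟩ := exists_of_regular_pair val gen hcompat x y (hspan ▸ hx) (hspan ▸ hy)
    hxreg hyreg
  have hea : ∀ f ∈ a, f * e = 0 := by
    intro f hf
    rw [← hsa] at hf
    refine Submodule.span_induction (p := fun z _ => z * e = 0) ?_ ?_ ?_ ?_ hf
    · intro z hz
      have := he (Sum.inl ⟨z, hz⟩)
      simpa [gen, val] using this
    · simp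
    · intro u v _ _ hu hv
      rw [add_mul, hu, hv, add_zero]
    · intro r u _ hu
      rw [smul_eq_mul, mul_assoc, hu, mul_zero]
  have heb : ∀ g ∈ b, g * e = g := by
    intro g hg
    rw [← hsb] at hg
    refine Submodule.span_induction (p := fun z _ => z * e = z) ?_ ?_ ?_ ?_ hg
    · intro z hz
      have := he (Sum.inr ⟨z, hz⟩)
      simpa [gen, val] using this
    · simp
    · intro u v _ _ hu hv
      rw [add_mul, hu, hv]
    · intro r u _ hu
      rw [smul_eq_mul, mul_assoc, hu]
  refine ⟨e, ?_, hea, heb⟩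
  -- x * (e * (1 - e)) = 0
  have hkill : ∀ z ∈ a ⊔ b, z * (e * (1 - e)) = 0 := by
    intro z hz
    obtain ⟨f, hf, g, hg, rfl⟩ := Submodule.mem_sup.mp hz
    have h1 : f * (e * (1 - e)) = 0 := by rw [← mul_assoc, hea f hf, zero_mul]
    have h2 : g * (e * (1 - e)) = 0 := by
      rw [← mul_assoc, heb g hg, mul_sub, mul_one, heb g hg, sub_self]
    rw [add_mul, h1, h2, add_zero]
  have := hkill x hx
  exact hxreg (by simpa using this)

/-- **Hartshorne's lemma**, algebraic core. -/
theorem eq_bot_or_eq_bot_of_mul_eq_bot [IsLocalRing R] (a b : Ideal R) (hab : a * b = ⊥)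
    (h : (2 : ℕ∞) ≤ idealDepth (a ⊔ b) R) : a = ⊥ ∨ b = ⊥ := by
  by_cases hne : (a ⊔ b) • (⊤ : Submodule R R) = ⊤
  · -- a ⊔ b = ⊤, so a = ⊤ or b = ⊤
    have htop : a ⊔ b = ⊤ := by simpa using hne
    by_cases ha : a = ⊤
    · right
      rw [← Ideal.top_mul b, ← ha, hab]
    · left
      have hb : b = ⊤ := by
        by_contra hb
        have h1 : a ≤ maximalIdeal R := le_maximalIdeal ha
        have h2 : b ≤ maximalIdeal R := le_maximalIdeal hb
        exact (maximalIdeal.isMaximal R).ne_top (top_le_iff.mp (htop.ge.trans (sup_le h1 h2)))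
      rw [← Ideal.mul_top a, ← hb, hab]
  · obtain ⟨e, hee, hea, heb⟩ := exists_idempotent_of_mul_eq_bot a b hab hne h
    rcases IsLocalRing.isUnit_or_isUnit_one_sub_self e with hu | hu
    · -- e unit ⇒ e = 1 ⇒ a = 0
      left
      have he1 : 1 - e = 0 := hu.mul_right_eq_zero.mp hee
      have he : e = 1 := (sub_eq_zero.mp he1).symm
      rw [eq_bot_iff]
      intro f hf
      have := hea f hf
      rw [he, mul_one] at this
      rw [this]; exact Ideal.zero_mem _
    · right
      have he : e = 0 := hu.mul_left_eq_zero.mp hee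
      rw [eq_bot_iff]
      intro g hg
      have := heb g hg
      rw [he, mul_zero] at this
      rw [← this]; exact Ideal.zero_mem _

end Groth.Agent.Lead.Conn
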