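import Mathlib
import Groth.Agent.Lib.Lead.Conn1

/-!
# Hartshorne's connectedness lemma: nilradical version and version at a prime
-/

set_option autoImplicit false
set_option linter.style.haveILetI false

universe u

open LocCoh RingTheory.Sequence Pointwise IsLocalRing

namespace Groth.Agent.Lead.Conn

open Groth.Agent.Lead.Depth Groth.Agent.Lead.ZP

section Local

variable {R : Type u} [CommRing R] [IsNoetherianRing R] [IsLocalRing R]

/-- If `Spec R = V(a) ∪ V(b)` with `V(a) ∩ V(b) ⊆ {m}` and `depth R ≥ 2`, then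
`V(a) = Spec R` or `V(b) = Spec R`. -/
theorem le_nilradical_or_le_nilradical (a b : Ideal R) (hab : a ⊓ b ≤ nilradical R)
    (honly : ∀ P : Ideal R, P.IsPrime → a ⊔ b ≤ P → P = maximalIdeal R)
    (h : (2 : ℕ∞) ≤ LocCoh.depth R R) : a ≤ nilradical R ∨ b ≤ nilradical R := by
  obtain ⟨N, hN⟩ : ∃ N : ℕ, nilradical R ^ N = ⊥ := IsNoetherianRing.isNilpotent_nilradical R
  have hab' : a ^ N * b ^ N = ⊥ := by
    rw [eq_bot_iff, ← mul_pow, ← hN]
    exact Ideal.pow_right_mono (Ideal.mul_le_inf.trans hab) N
  have hdepth : (2 : ℕ∞) ≤ idealDepth (a ^ N ⊔ b ^ N) R := by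
    rw [idealDepth_eq_iInf_depth_localizedModule]
    refine le_iInf₂ fun P hP => ?_
    have hNne : N ≠ 0 := by
      rintro rfl
      simp only [pow_zero, Ideal.one_eq_top, top_sup_eq, top_le_iff] at hP
      exact P.isPrime.ne_top hP
    have h1 : a ⊔ b ≤ P.asIdeal :=
      sup_le ((P.isPrime.pow_le_iff hNne).mp (le_sup_left.trans hP))
        ((P.isPrime.pow_le_iff hNne).mp (le_sup_right.trans hP))
    have h2 : P.asIdeal = maximalIdeal R := honly P.asIdeal P.isPrime h1
    exact h.trans (idealDepth_le_depth_localizedModule (maximalIdeal R) P.asIdeal h2.ge R)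
  have hpow : ∀ c : Ideal R, c ^ N = ⊥ → c ≤ nilradical R := by
    intro c hc x hx
    rw [mem_nilradical]
    refine ⟨N, ?_⟩
    have := Ideal.pow_mem_pow hx N
    rwa [hc, Ideal.mem_bot] at this
  rcases eq_bot_or_eq_bot_of_mul_eq_bot (a ^ N) (b ^ N) hab' hdepth with h1 | h1
  · exact Or.inl (hpow a h1)
  · exact Or.inr (hpow b h1)

end Local

section AtPrime

variable {A : Type u} [CommRing A] [IsNoetherianRing A]

/-- Hartshorne's lemma at a prime `q` minimal over `a ⊔ b`: if every prime inside `q` contains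
`a` or `b`, and `depth A_q ≥ 2`, then all primes inside `q` contain `a`, or all contain `b`. -/
theorem forall_le_or_forall_le_of_depth_localization (a b : Ideal A) (q : Ideal A) [q.IsPrime]
    (hq : q ∈ (a ⊔ b).minimalPrimes)
    (hcov : ∀ p : Ideal A, p.IsPrime → p ≤ q → a ≤ p ∨ b ≤ p)
    (h : (2 : ℕ∞) ≤ LocCoh.depth (Localization.AtPrime q) (Localization.AtPrime q)) :
    (∀ p : Ideal A, p.IsPrime → p ≤ q → a ≤ p) ∨ (∀ p : Ideal A, p.IsPrime → p ≤ q → b ≤ p) := by
  set R := Localization.AtPrime q with hR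
  have hcomap : ∀ P : Ideal R, P.IsPrime →
      (P.comap (algebraMap A R)).IsPrime ∧ P.comap (algebraMap A R) ≤ q := by
    intro P hP
    have := (IsLocalization.isPrime_iff_isPrime_disjoint q.primeCompl R P).mp hP
    refine ⟨this.1, ?_⟩
    intro x hx
    by_contra hxq
    exact Set.disjoint_left.mp this.2 (show x ∈ (q.primeCompl : Set A) from hxq) hx
  have hab : a.map (algebraMap A R) ⊓ b.map (algebraMap A R) ≤ nilradical R := by
    rw [nilradical_eq_sInf]
    refine le_sInf fun P hP => ?_
    obtain ⟨hp1, hp2⟩ := hcomap P hP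
    rcases hcov _ hp1 hp2 with h1 | h1
    · exact inf_le_left.trans (Ideal.map_le_iff_le_comap.mpr h1)
    · exact inf_le_right.trans (Ideal.map_le_iff_le_comap.mpr h1)
  have honly : ∀ P : Ideal R, P.IsPrime →
      a.map (algebraMap A R) ⊔ b.map (algebraMap A R) ≤ P → P = maximalIdeal R := by
    intro P hP hle
    obtain ⟨hp1, hp2⟩ := hcomap P hP
    have h1 : a ⊔ b ≤ P.comap (algebraMap A R) :=
      sup_le (Ideal.map_le_iff_le_comap.mp (le_sup_left.trans hle))
        (Ideal.map_le_iff_le_comap.mp (le_sup_right.trans hle))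
    have h2 : q ≤ P.comap (algebraMap A R) := hq.2 ⟨hp1, h1⟩ hp2
    have h3 : P.comap (algebraMap A R) = q := le_antisymm hp2 h2
    have h4 := IsLocalization.map_under q.primeCompl R P
    rw [Ideal.under_def, h3] at h4
    rw [← h4]
    exact Localization.AtPrime.map_eq_maximalIdeal
  have hconcl : ∀ c : Ideal A, c.map (algebraMap A R) ≤ nilradical R →
      ∀ p : Ideal A, p.IsPrime → p ≤ q → c ≤ p := by
    intro c hc p hp hpq
    have hdisj : Disjoint (q.primeCompl : Set A) (p : Set A) := by
      rw [Set.disjoint_left]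
      intro x hx hxp
      exact hx (hpq hxp)
    have hP : (p.map (algebraMap A R)).IsPrime :=
      IsLocalization.isPrime_of_isPrime_disjoint q.primeCompl R p hp hdisj
    have hcm : (p.map (algebraMap A R)).comap (algebraMap A R) = p :=
      IsLocalization.under_map_of_isPrime_disjoint q.primeCompl R hp hdisj
    have h1 : c.map (algebraMap A R) ≤ p.map (algebraMap A R) := by
      refine hc.trans ?_
      rw [nilradical_eq_sInf]
      exact sInf_le hP
    rw [← hcm]
    exact Ideal.map_le_iff_le_comap.mp h1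
  rcases le_nilradical_or_le_nilradical _ _ hab honly h with h1 | h1
  · exact Or.inl (hconcl a h1)
  · exact Or.inr (hconcl b h1)

end AtPrime

end Groth.Agent.Lead.Conn
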