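import Mathlib
import Groth.Agent.Lib.Lead.Conn2

/-!
# Auxiliary facts: spectrum of a local ring is connected; `dim A/p = coheight p`;
`dim A ≤ dim A/p` when all minimal primes have the same `dim A/p`.
-/

set_option autoImplicit false
set_option linter.style.haveILetI false

universe u

open IsLocalRing

namespace Groth.Agent.Lead.Conn

theorem connectedSpace_of_isLocalRing (R : Type u) [CommRing R] [IsLocalRing R] :
    ConnectedSpace (PrimeSpectrum R) := by
  haveI : Nonempty (PrimeSpectrum R) := ⟨closedPoint R⟩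
  refine { toPreconnectedSpace := ⟨?_⟩, toNonempty := inferInstance }
  have hU : (Set.univ : Set (PrimeSpectrum R)) = ⋃₀ (Set.range fun p : PrimeSpectrum R => closure {p}) := by
    ext p
    simp only [Set.mem_univ, Set.sUnion_range, Set.mem_iUnion, true_iff]
    exact ⟨p, subset_closure rfl⟩
  rw [hU]
  refine isPreconnected_sUnion (closedPoint R) _ ?_ ?_
  · rintro s ⟨p, rfl⟩
    rw [← specializes_iff_mem_closure, ← PrimeSpectrum.le_iff_specializes]
    exact le_maximalIdeal p.isPrime.ne_top
  · rintro s ⟨p, rfl⟩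
    exact isPreconnected_singleton.closure

theorem ringKrullDim_quotient_eq_coheight {R : Type u} [CommRing R] (p : PrimeSpectrum R) :
    ringKrullDim (R ⧸ p.asIdeal) = ((Order.coheight p : ℕ∞) : WithBot ℕ∞) := by
  rw [ringKrullDim_quotient, Order.coheight_eq_krullDim_Ici]
  have : PrimeSpectrum.zeroLocus (p.asIdeal : Set R) = Set.Ici p := by
    ext q
    rw [PrimeSpectrum.mem_zeroLocus, Set.mem_Ici, SetLike.coe_subset_coe]
    rfl
  rw [this]

/-- If all `dim A/p₀` (`p₀` minimal) are bounded by `D`, then `dim A ≤ D`. -/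
theorem ringKrullDim_le_of_forall_minimalPrimes {R : Type u} [CommRing R] (D : WithBot ℕ∞)
    (h : ∀ p ∈ minimalPrimes R, ringKrullDim (R ⧸ p) ≤ D) : ringKrullDim R ≤ D := by
  rw [ringKrullDim, Order.krullDim_eq_iSup_coheight]
  refine iSup_le fun x => ?_
  haveI := x.isPrime
  obtain ⟨p0, hp0, hle⟩ := Ideal.exists_minimalPrimes_le (I := ⊥) (J := x.asIdeal) bot_le
  have h1 := h p0 hp0
  have h2 := ringKrullDim_quotient_eq_coheight (⟨p0, hp0.1.1⟩ : PrimeSpectrum R)
  simp only at h2
  rw [h2] at h1
  refine le_trans ?_ h1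
  have : Order.coheight x ≤ Order.coheight (⟨p0, hp0.1.1⟩ : PrimeSpectrum R) :=
    Order.coheight_anti (show (⟨p0, hp0.1.1⟩ : PrimeSpectrum R) ≤ x from hle)
  exact_mod_cast this

end Groth.Agent.Lead.Conn
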