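import Mathlib
import Groth.Prelude.Def_EGA4b
import Groth.Agent.Lib.Helper7.CatDim
import Groth.Agent.Lib.Helper14.CatenaryRing
import Groth.Agent.Lib.Helper14.RegAscent
import Groth.Agent.Lib.Lead.Cat2
import Groth.Agent.Lib.Lead.Conn3
import Groth.Agent.Lib.Lead.FE1

/-!
# Flat local homomorphisms into catenary equidimensional local rings

For a flat local homomorphism `A → B` of Noetherian local rings with `B` catenary and
equidimensional: `B/pB` is equidimensional for all primes `p` of `A`, `A` is equidimensional and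
catenary, `dim A/p + ht p = dim A`, and (zero-dimensional closed fibre) `B/𝔞B` is equidimensional
iff `A/𝔞` is.
-/

set_option autoImplicit false
set_option linter.style.haveILetI false
set_option linter.unusedSectionVars false

universe u

open IsLocalRing

namespace Groth.Agent.Lead.FEq

/-! ### Posets -/

theorem height_head_add_length_le {α : Type*} [Preorder α] (l : LTSeries α) (n : ℕ)
    (hn : (n : ℕ∞) ≤ Order.height l.head) :
    ((n + l.length : ℕ) : ℕ∞) ≤ Order.height l.last := by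
  obtain ⟨p, hp_last, hp_len⟩ := Order.exists_series_of_le_height l.head hn
  have h := Order.length_le_height_last (p := p.smash l hp_last)
  rw [RelSeries.last_smash] at h
  have hlen : (p.smash l hp_last).length = n + l.length := by
    rw [RelSeries.smash_length, hp_len]
  rw [hlen] at h
  exact h

/-! ### Minimal primes and quotients -/

section MinimalPrimes

variable {R : Type*} [CommRing R]

theorem map_mk_mem_minimalPrimes {I Q : Ideal R} (hQ : Q ∈ I.minimalPrimes) :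
    Q.map (Ideal.Quotient.mk I) ∈ minimalPrimes (R ⧸ I) := by
  rw [Ideal.minimalPrimes_eq_comap] at hQ
  obtain ⟨Q', hQ', rfl⟩ := hQ
  rw [Ideal.map_comap_of_surjective _ Ideal.Quotient.mk_surjective]
  exact hQ'

theorem comap_mk_mem_minimalPrimes {I : Ideal R} {Q' : Ideal (R ⧸ I)}
    (hQ' : Q' ∈ minimalPrimes (R ⧸ I)) : Q'.comap (Ideal.Quotient.mk I) ∈ I.minimalPrimes := by
  rw [Ideal.minimalPrimes_eq_comap]
  exact ⟨Q', hQ', rfl⟩

theorem map_mk_mem_minimalPrimes_map {K I Q : Ideal R} (hKI : K ≤ I)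
    (hQ : Q ∈ I.minimalPrimes) :
    Q.map (Ideal.Quotient.mk K) ∈ (I.map (Ideal.Quotient.mk K)).minimalPrimes := by
  rw [Ideal.minimalPrimes_map_of_surjective Ideal.Quotient.mk_surjective, Ideal.mk_ker,
    sup_eq_left.mpr hKI]
  exact ⟨Q, hQ, rfl⟩

theorem comap_map_mk {K J : Ideal R} (hJ : K ≤ J) :
    (J.map (Ideal.Quotient.mk K)).comap (Ideal.Quotient.mk K) = J := by
  rw [Ideal.comap_map_of_surjective' _ Ideal.Quotient.mk_surjective, Ideal.mk_ker,
    sup_eq_left.mpr hJ]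

theorem map_mk_lt_map_mk {K J1 J2 : Ideal R} (h1 : K ≤ J1) (h : J1 < J2) :
    J1.map (Ideal.Quotient.mk K) < J2.map (Ideal.Quotient.mk K) := by
  refine lt_of_le_of_ne (Ideal.map_mono h.le) (fun heq => h.ne ?_)
  rw [← comap_map_mk h1, ← comap_map_mk (h1.trans h.le), heq]

theorem map_mk_isPrime {K J : Ideal R} [J.IsPrime] (hJ : K ≤ J) :
    (J.map (Ideal.Quotient.mk K)).IsPrime :=
  Ideal.map_isPrime_of_surjective Ideal.Quotient.mk_surjective (by rw [Ideal.mk_ker]; exact hJ)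

theorem ringKrullDim_quotient_comap_of_surjective {S : Type*} [CommRing S] (f : R →+* S)
    (hf : Function.Surjective f) (Q : Ideal S) :
    ringKrullDim (R ⧸ Q.comap f) = ringKrullDim (S ⧸ Q) := by
  have hg : Function.Surjective ((Ideal.Quotient.mk Q).comp f) :=
    Ideal.Quotient.mk_surjective.comp hf
  have hker : RingHom.ker ((Ideal.Quotient.mk Q).comp f) = Q.comap f := by
    ext x
    rw [RingHom.mem_ker, RingHom.comp_apply, Ideal.Quotient.eq_zero_iff_mem, Ideal.mem_comap]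
  exact ringKrullDim_eq_of_ringEquiv
    ((Ideal.quotEquivOfEq hker.symm).trans (RingHom.quotientKerEquivOfSurjective hg))

/-- For `p ⋖ p'` the prime `p'/p` of `R/p` has height one. -/
theorem height_map_mk_eq_one_of_covBy (p p' : PrimeSpectrum R) (h : p ⋖ p') :
    (p'.asIdeal.map (Ideal.Quotient.mk p.asIdeal)).height = 1 := by
  have hle : p.asIdeal ≤ p'.asIdeal := h.le
  haveI hprime : (p'.asIdeal.map (Ideal.Quotient.mk p.asIdeal)).IsPrime := map_mk_isPrime hle
  have hcomap := comap_map_mk hle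
  apply le_antisymm
  · have h1 : (p'.asIdeal.map (Ideal.Quotient.mk p.asIdeal)).height ≤ ((1 : ℕ) : ℕ∞) := by
      rw [Ideal.height_le_iff]
      intro q hq hlt
      haveI := hq
      let q0 : PrimeSpectrum R := ⟨q.comap (Ideal.Quotient.mk p.asIdeal), inferInstance⟩
      have h1 : p ≤ q0 := by
        change p.asIdeal ≤ q.comap (Ideal.Quotient.mk p.asIdeal)
        intro x hx
        rw [Ideal.mem_comap, Ideal.Quotient.eq_zero_iff_mem.mpr hx]
        exact q.zero_mem
      have h2 : q0 ≤ p' := by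
        change q.comap (Ideal.Quotient.mk p.asIdeal) ≤ p'.asIdeal
        rw [← hcomap]
        exact Ideal.comap_mono hlt.le
      have hq0 : q0.asIdeal.map (Ideal.Quotient.mk p.asIdeal) = q :=
        Ideal.map_comap_of_surjective _ Ideal.Quotient.mk_surjective q
      rcases h.eq_or_eq h1 h2 with h3 | h3
      · have hqbot : q = ⊥ := by
          rw [← hq0, h3]
          exact Ideal.map_quotient_self _
        rw [hqbot, Ideal.height_bot]
        exact Nat.cast_pos.mpr Nat.one_pos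
      · exfalso
        apply hlt.ne
        rw [← hq0, h3]
    simpa using h1
  · have hbot : (⊥ : Ideal (R ⧸ p.asIdeal)) < p'.asIdeal.map (Ideal.Quotient.mk p.asIdeal) := by
      rw [bot_lt_iff_ne_bot]
      intro hbot
      have h1 : p'.asIdeal = p.asIdeal := by
        rw [← hcomap, hbot, ← RingHom.ker_eq_comap_bot, Ideal.mk_ker]
      exact h.lt.ne (PrimeSpectrum.ext h1.symm)
    have h2 := Ideal.height_add_one_le_of_lt_of_isPrime hbot
    rw [Ideal.height_bot, zero_add] at h2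
    exact h2

theorem isEquidim_of_subsingleton (S : Type u) [CommRing S] [Subsingleton S] :
    EGA4.IsEquidim S := by
  intro p hp
  exact absurd ((Ideal.eq_top_iff_one p).mpr (by
    rw [Subsingleton.elim (1 : S) 0]; exact p.zero_mem)) hp.1.1.ne_top

theorem isEquidim_of_ringEquiv {S S' : Type u} [CommRing S] [CommRing S'] (e : S ≃+* S')
    (h : EGA4.IsEquidim S) : EGA4.IsEquidim S' := by
  intro q hq
  have hq' : q ∈ (⊥ : Ideal S').minimalPrimes := hq
  have h1 : q.comap (e : S →+* S') ∈ ((⊥ : Ideal S').comap (e : S →+* S')).minimalPrimes :=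
    Ideal.minimalPrimes_comap_of_surjective e.surjective hq'
  have h2 : (⊥ : Ideal S').comap (e : S →+* S') = ⊥ := by
    rw [← RingHom.ker_eq_comap_bot]
    exact (RingHom.injective_iff_ker_eq_bot _).mp e.injective
  rw [h2] at h1
  have h3 := h _ h1
  rw [ringKrullDim_quotient_comap_of_surjective (e : S →+* S') e.surjective q] at h3
  rw [h3]
  exact ringKrullDim_eq_of_ringEquiv e

theorem exists_nat_dim (S : Type*) [CommRing S] [IsNoetherianRing S] [IsLocalRing S] :
    ∃ n : ℕ, ringKrullDim S = (n : WithBot ℕ∞) := by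
  have h : (maximalIdeal S).height ≠ ⊤ := Ideal.height_ne_top_of_isPrime
  obtain ⟨n, hn⟩ := ENat.ne_top_iff_exists.mp h
  refine ⟨n, ?_⟩
  rw [← IsLocalRing.maximalIdeal_height_eq_ringKrullDim, ← hn]
  rfl

end MinimalPrimes

/-! ### Flat going-down and minimal primes of extended ideals -/

section GoingDown

variable {A B : Type*} [CommRing A] [CommRing B] [Algebra A B]

/-- Flat going-down: the contraction of a minimal prime over `𝔞B` is minimal over `𝔞`. -/
theorem under_mem_minimalPrimes [Module.Flat A B] (𝔞 : Ideal A) (Q : Ideal B)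
    (hQ : Q ∈ (𝔞.map (algebraMap A B)).minimalPrimes) : Q.under A ∈ 𝔞.minimalPrimes := by
  haveI : Q.IsPrime := hQ.1.1
  have hle : 𝔞 ≤ Q.under A := Ideal.map_le_iff_le_comap.mp hQ.1.2
  refine ⟨⟨inferInstance, hle⟩, ?_⟩
  rintro p' ⟨hp', h𝔞p'⟩ hp'Q
  haveI := hp'
  haveI : Q.LiesOver (Q.under A) := ⟨rfl⟩
  obtain ⟨P, hPQ, hP, hPover⟩ :=
    Ideal.exists_ideal_le_liesOver_of_le (S := B) Q (p := p') (q := Q.under A) hp'Q
  have hPp' : P.under A = p' := hPover.over.symm
  have h1 : 𝔞.map (algebraMap A B) ≤ P := by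
    rw [Ideal.map_le_iff_le_comap]
    change 𝔞 ≤ P.under A
    rw [hPp']
    exact h𝔞p'
  have h2 : Q ≤ P := hQ.2 ⟨hP, h1⟩ hPQ
  have h3 : P = Q := le_antisymm hPQ h2
  rw [← h3, hPp']

theorem mem_minimalPrimes_map_under (𝔞 : Ideal A) (Q : Ideal B)
    (hQ : Q ∈ (𝔞.map (algebraMap A B)).minimalPrimes) :
    Q ∈ ((Q.under A).map (algebraMap A B)).minimalPrimes := by
  haveI : Q.IsPrime := hQ.1.1
  refine ⟨⟨inferInstance, Ideal.map_comap_le⟩, ?_⟩
  rintro Q1 ⟨hQ1, hle1⟩ hQ1Q
  have hle : 𝔞 ≤ Q.under A := Ideal.map_le_iff_le_comap.mp hQ.1.2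
  exact hQ.2 ⟨hQ1, (Ideal.map_mono hle).trans hle1⟩ hQ1Q

theorem under_eq_of_mem_minimalPrimes_map [Module.Flat A B] (p : Ideal A) [p.IsPrime]
    (Q : Ideal B) (hQ : Q ∈ (p.map (algebraMap A B)).minimalPrimes) : Q.under A = p := by
  have h := under_mem_minimalPrimes p Q hQ
  rw [Ideal.minimalPrimes_eq_subsingleton_self] at h
  exact h

/-- A minimal prime over `pB` (flat) which lies over a prime minimal over `𝔞` is minimal over
`𝔞B`. -/
theorem mem_minimalPrimes_map_of_mem_minimalPrimes [Module.Flat A B] (𝔞 p : Ideal A)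
    (hp : p ∈ 𝔞.minimalPrimes) (Q : Ideal B)
    (hQ : Q ∈ (p.map (algebraMap A B)).minimalPrimes) :
    Q ∈ (𝔞.map (algebraMap A B)).minimalPrimes := by
  haveI : p.IsPrime := hp.1.1
  haveI : Q.IsPrime := hQ.1.1
  have hQp : Q.under A = p := under_eq_of_mem_minimalPrimes_map p Q hQ
  refine ⟨⟨inferInstance, (Ideal.map_mono hp.1.2).trans hQ.1.2⟩, ?_⟩
  rintro Q1 ⟨hQ1, hIQ1⟩ hQ1Q
  haveI := hQ1
  have h1 : 𝔞 ≤ Q1.under A := Ideal.map_le_iff_le_comap.mp hIQ1
  have h2 : Q1.under A ≤ p := by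
    rw [← hQp]
    exact Ideal.comap_mono hQ1Q
  have h3 : p ≤ Q1.under A := hp.2 ⟨inferInstance, h1⟩ h2
  exact hQ.2 ⟨hQ1, Ideal.map_le_iff_le_comap.mpr h3⟩ hQ1Q

theorem height_eq_of_mem_minimalPrimes_map [IsNoetherianRing A] [IsNoetherianRing B]
    [Module.Flat A B] (p : Ideal A) [p.IsPrime] (Q : Ideal B)
    (hQ : Q ∈ (p.map (algebraMap A B)).minimalPrimes) : Q.height = p.height := by
  haveI : Q.IsPrime := hQ.1.1
  haveI : Q.LiesOver p := ⟨(under_eq_of_mem_minimalPrimes_map p Q hQ).symm⟩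
  rw [Ideal.height_eq_height_add_of_liesOver_of_hasGoingDown p Q]
  have h0 : (Q.map (Ideal.Quotient.mk (p.map (algebraMap A B)))).height = 0 := by
    haveI : (Q.map (Ideal.Quotient.mk (p.map (algebraMap A B)))).IsPrime :=
      map_mk_isPrime hQ.1.2
    rw [Ideal.height_eq_zero_iff]
    exact map_mk_mem_minimalPrimes hQ
  rw [h0, add_zero]

end GoingDown

/-! ### Target catenary, equidimensional and local -/

section CatEq

variable {A B : Type u} [CommRing A] [CommRing B] [Algebra A B] [IsNoetherianRing A]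
  [IsNoetherianRing B] [IsLocalRing B] [Module.Flat A B]

theorem dim_quot_add_height_eq (hcat : CAlg.IsCatenary B) (heq : EGA4.IsEquidim B)
    (p : Ideal A) [p.IsPrime] (Q : Ideal B)
    (hQ : Q ∈ (p.map (algebraMap A B)).minimalPrimes) :
    ringKrullDim (B ⧸ Q) + ((p.height : ℕ∞) : WithBot ℕ∞) = ringKrullDim B := by
  haveI : Q.IsPrime := hQ.1.1
  have h := Groth.Agent.Helper7.CatDim.height_add_dim_quot B hcat heq Q
  rw [height_eq_of_mem_minimalPrimes_map p Q hQ, add_comm] at h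
  exact h

theorem dim_quot_eq_dim_quot_map (hcat : CAlg.IsCatenary B) (heq : EGA4.IsEquidim B)
    (p : Ideal A) [p.IsPrime] (Q : Ideal B)
    (hQ : Q ∈ (p.map (algebraMap A B)).minimalPrimes) :
    ringKrullDim (B ⧸ Q) = ringKrullDim (B ⧸ p.map (algebraMap A B)) := by
  have hfin : p.height ≠ ⊤ := Ideal.height_ne_top_of_isPrime
  apply le_antisymm
  · rw [← Groth.Agent.Helper7.CatDim.dim_quot_quot B (p.map (algebraMap A B)) Q hQ.1.2]
    exact ringKrullDim_quotient_le _
  · apply Groth.Agent.Lead.Conn.ringKrullDim_le_of_forall_minimalPrimes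
    intro Q1' hQ1'
    have hQ1 : Q1'.comap (Ideal.Quotient.mk (p.map (algebraMap A B))) ∈
        (p.map (algebraMap A B)).minimalPrimes := comap_mk_mem_minimalPrimes hQ1'
    have e1 := dim_quot_add_height_eq hcat heq p _ hQ1
    have e2 := dim_quot_add_height_eq hcat heq p Q hQ
    have e3 : ringKrullDim (B ⧸ Q1'.comap (Ideal.Quotient.mk (p.map (algebraMap A B)))) =
        ringKrullDim (B ⧸ Q) :=
      Groth.Agent.Lead.FE.withBot_add_right_cancel hfin (e1.trans e2.symm)
    have e4 := Groth.Agent.Helper7.CatDim.dim_quot_quot B (p.map (algebraMap A B))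
      (Q1'.comap (Ideal.Quotient.mk (p.map (algebraMap A B)))) hQ1.1.2
    rw [Ideal.map_comap_of_surjective _ Ideal.Quotient.mk_surjective] at e4
    exact (e4.trans e3).le

/-- `B/pB` is equidimensional (flat `A → B`, `B` catenary equidimensional local). -/
theorem isEquidim_quotient_map (hcat : CAlg.IsCatenary B) (heq : EGA4.IsEquidim B)
    (p : Ideal A) [p.IsPrime] : EGA4.IsEquidim (B ⧸ p.map (algebraMap A B)) := by
  intro Q' hQ'
  have hQ := comap_mk_mem_minimalPrimes hQ'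
  have e4 := Groth.Agent.Helper7.CatDim.dim_quot_quot B (p.map (algebraMap A B))
    (Q'.comap (Ideal.Quotient.mk (p.map (algebraMap A B)))) hQ.1.2
  rw [Ideal.map_comap_of_surjective _ Ideal.Quotient.mk_surjective] at e4
  rw [e4]
  exact dim_quot_eq_dim_quot_map hcat heq p _ hQ

end CatEq

/-! ### Flat local homomorphisms -/

section LocalFlat

variable {A B : Type u} [CommRing A] [CommRing B] [IsLocalRing A] [IsLocalRing B]
  [IsNoetherianRing A] [IsNoetherianRing B] [Algebra A B] [IsLocalHom (algebraMap A B)]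

theorem map_ne_top (𝔞 : Ideal A) (h : 𝔞 ≠ ⊤) : 𝔞.map (algebraMap A B) ≠ ⊤ := by
  intro htop
  have h1 : 𝔞.map (algebraMap A B) ≤ maximalIdeal B :=
    (Ideal.map_mono (le_maximalIdeal h)).trans (IsLocalRing.map_maximalIdeal_le (algebraMap A B))
  rw [htop] at h1
  exact (maximalIdeal.isMaximal B).ne_top (top_le_iff.mp h1)

theorem ringKrullDim_fibRing_quotient (𝔞 : Ideal A) [Nontrivial (A ⧸ 𝔞)] :
    ringKrullDim (EGA4.FibRing (A ⧸ 𝔞) (B ⧸ 𝔞.map (algebraMap A B))) =
      ringKrullDim (EGA4.FibRing A B) := by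
  have h𝔞 : 𝔞 ≤ maximalIdeal A :=
    le_maximalIdeal (fun h => (Ideal.Quotient.nontrivial_iff.mp ‹_›) h)
  have hle : 𝔞.map (algebraMap A B) ≤ EGA4.mB A B := Ideal.map_mono h𝔞
  have hJ : EGA4.mB (A ⧸ 𝔞) (B ⧸ 𝔞.map (algebraMap A B)) =
      (EGA4.mB A B).map (Ideal.Quotient.mk (𝔞.map (algebraMap A B))) := by
    change (maximalIdeal (A ⧸ 𝔞)).map (algebraMap (A ⧸ 𝔞) (B ⧸ 𝔞.map (algebraMap A B))) =
      ((maximalIdeal A).map (algebraMap A B)).map (Ideal.Quotient.mk (𝔞.map (algebraMap A B)))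
    rw [← IsLocalRing.map_maximalIdeal_of_surjective (Ideal.Quotient.mk 𝔞)
      Ideal.Quotient.mk_surjective, Ideal.map_map, Ideal.map_map]
    rfl
  have h1 := Groth.Agent.Helper7.CatDim.dim_quot_quot B (𝔞.map (algebraMap A B)) (EGA4.mB A B) hle
  rw [← hJ] at h1
  exact h1

variable [Module.Flat A B]

theorem ringKrullDim_eq_add_fibre :
    ringKrullDim B = ringKrullDim A + ringKrullDim (EGA4.FibRing A B) := by
  have h := Groth.Agent.Lead.Fib.height_eq_add_fibre (R := A) (S := B) (EGA4.mB A B) rfl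
  rw [← IsLocalRing.maximalIdeal_height_eq_ringKrullDim (R := B),
    ← IsLocalRing.maximalIdeal_height_eq_ringKrullDim (R := A),
    ← IsLocalRing.maximalIdeal_height_eq_ringKrullDim (R := EGA4.FibRing A B), h,
    WithBot.coe_add]

/-- `dim A/p + ht p = dim A` for a flat local `A → B` with `B` catenary equidimensional. -/
theorem dim_quot_add_height (hcat : CAlg.IsCatenary B) (heq : EGA4.IsEquidim B)
    (p : Ideal A) [hp : p.IsPrime] :
    ringKrullDim (A ⧸ p) + ((p.height : ℕ∞) : WithBot ℕ∞) = ringKrullDim A := by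
  have hItop : p.map (algebraMap A B) ≠ ⊤ := map_ne_top p hp.ne_top
  obtain ⟨Q, hQ⟩ := Ideal.nonempty_minimalPrimes hItop
  have e1 := dim_quot_add_height_eq hcat heq p Q hQ
  have e2 := dim_quot_eq_dim_quot_map hcat heq p Q hQ
  have e3 := ringKrullDim_eq_add_fibre (A := A) (B := B)
  haveI : Nontrivial (A ⧸ p) := Ideal.Quotient.nontrivial_iff.mpr hp.ne_top
  haveI : Nontrivial (B ⧸ p.map (algebraMap A B)) := Ideal.Quotient.nontrivial_iff.mpr hItop
  haveI : Module.Flat (A ⧸ p) (B ⧸ p.map (algebraMap A B)) :=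
    Groth.Agent.Helper14.RegAscent.flat_quotient_map p
  haveI : IsLocalHom (algebraMap (A ⧸ p) (B ⧸ p.map (algebraMap A B))) :=
    Groth.Agent.Helper14.RegAscent.isLocalHom_quotient_map p hItop
  have e4 := ringKrullDim_eq_add_fibre (A := A ⧸ p) (B := B ⧸ p.map (algebraMap A B))
  have e5 := ringKrullDim_fibRing_quotient (A := A) (B := B) p
  obtain ⟨a, ha⟩ := exists_nat_dim A
  obtain ⟨a', ha'⟩ := exists_nat_dim (A ⧸ p)
  obtain ⟨f, hf⟩ := exists_nat_dim (EGA4.FibRing A B)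
  obtain ⟨h, hh⟩ := ENat.ne_top_iff_exists.mp (Ideal.height_ne_top_of_isPrime (I := p))
  rw [← hh]
  rw [← hh] at e1
  rw [e5, hf, ha'] at e4
  rw [ha, hf] at e3
  rw [e2, e4, e3] at e1
  rw [ha', ha]
  have h1 : a' + f + h = a + f := by exact_mod_cast e1
  have h2 : a' + h = a := by omega
  exact_mod_cast h2

theorem isEquidim_of_flat (hcat : CAlg.IsCatenary B) (heq : EGA4.IsEquidim B) :
    EGA4.IsEquidim A := by
  intro p hp
  haveI : p.IsPrime := hp.1.1
  have h := dim_quot_add_height (B := B) hcat heq p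
  have h0 : p.height = 0 := Ideal.height_eq_zero_iff.mpr hp
  rw [h0] at h
  simpa using h

theorem isCatenary_of_flat (hcat : CAlg.IsCatenary B) (heq : EGA4.IsEquidim B) :
    CAlg.IsCatenary A := by
  apply Groth.Agent.Lead.Cat.isCatenary_of_height_covBy
  intro p p' hpp'
  haveI hp : p.asIdeal.IsPrime := p.isPrime
  haveI hp' : p'.asIdeal.IsPrime := p'.isPrime
  have hle : p.asIdeal ≤ p'.asIdeal := hpp'.le
  have hItop : p.asIdeal.map (algebraMap A B) ≠ ⊤ := map_ne_top p.asIdeal hp.ne_top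
  haveI : Nontrivial (A ⧸ p.asIdeal) := Ideal.Quotient.nontrivial_iff.mpr hp.ne_top
  haveI : Nontrivial (B ⧸ p.asIdeal.map (algebraMap A B)) :=
    Ideal.Quotient.nontrivial_iff.mpr hItop
  haveI : Module.Flat (A ⧸ p.asIdeal) (B ⧸ p.asIdeal.map (algebraMap A B)) :=
    Groth.Agent.Helper14.RegAscent.flat_quotient_map p.asIdeal
  haveI : IsLocalHom (algebraMap (A ⧸ p.asIdeal) (B ⧸ p.asIdeal.map (algebraMap A B))) :=
    Groth.Agent.Helper14.RegAscent.isLocalHom_quotient_map p.asIdeal hItop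
  have hcat' : CAlg.IsCatenary (B ⧸ p.asIdeal.map (algebraMap A B)) :=
    Groth.Agent.Helper14.isCatenary_of_surjective
      (Ideal.Quotient.mk (p.asIdeal.map (algebraMap A B))) Ideal.Quotient.mk_surjective hcat
  have heq' : EGA4.IsEquidim (B ⧸ p.asIdeal.map (algebraMap A B)) :=
    isEquidim_quotient_map hcat heq p.asIdeal
  haveI : (p'.asIdeal.map (Ideal.Quotient.mk p.asIdeal)).IsPrime := map_mk_isPrime hle
  have d1 := dim_quot_add_height (A := A ⧸ p.asIdeal)
    (B := B ⧸ p.asIdeal.map (algebraMap A B)) hcat' heq'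
    (p'.asIdeal.map (Ideal.Quotient.mk p.asIdeal))
  rw [height_map_mk_eq_one_of_covBy p p' hpp',
    Groth.Agent.Helper7.CatDim.dim_quot_quot A p.asIdeal p'.asIdeal hle] at d1
  have d2 := dim_quot_add_height (B := B) hcat heq p.asIdeal
  have d3 := dim_quot_add_height (B := B) hcat heq p'.asIdeal
  obtain ⟨a, ha⟩ := exists_nat_dim A
  obtain ⟨a1, ha1⟩ := exists_nat_dim (A ⧸ p.asIdeal)
  haveI : Nontrivial (A ⧸ p'.asIdeal) := Ideal.Quotient.nontrivial_iff.mpr hp'.ne_top
  obtain ⟨a2, ha2⟩ := exists_nat_dim (A ⧸ p'.asIdeal)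
  obtain ⟨h1, hh1⟩ := ENat.ne_top_iff_exists.mp (Ideal.height_ne_top_of_isPrime (I := p.asIdeal))
  obtain ⟨h2, hh2⟩ := ENat.ne_top_iff_exists.mp (Ideal.height_ne_top_of_isPrime (I := p'.asIdeal))
  rw [← hh1, ← hh2]
  rw [ha1, ha2] at d1
  rw [ha1, ha, ← hh1] at d2
  rw [ha2, ha, ← hh2] at d3
  have e1 : a2 + 1 = a1 := by exact_mod_cast d1
  have e2 : a1 + h1 = a := by exact_mod_cast d2
  have e3 : a2 + h2 = a := by exact_mod_cast d3
  have e4 : h2 = h1 + 1 := by omega
  exact_mod_cast e4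

/-- Zero-dimensional closed fibre: `dim B/Q = dim A/p` for `Q` minimal over `pB`. -/
theorem dim_quot_eq_of_fibre_zero (hcat : CAlg.IsCatenary B) (heq : EGA4.IsEquidim B)
    (h0 : ringKrullDim (EGA4.FibRing A B) = 0) (p : Ideal A) [p.IsPrime] (Q : Ideal B)
    (hQ : Q ∈ (p.map (algebraMap A B)).minimalPrimes) :
    ringKrullDim (B ⧸ Q) = ringKrullDim (A ⧸ p) := by
  have e1 := dim_quot_add_height_eq hcat heq p Q hQ
  have e2 := dim_quot_add_height (B := B) hcat heq p
  have e3 := ringKrullDim_eq_add_fibre (A := A) (B := B)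
  rw [h0, add_zero] at e3
  rw [e3, ← e2] at e1
  exact Groth.Agent.Lead.FE.withBot_add_right_cancel Ideal.height_ne_top_of_isPrime e1

theorem isEquidim_quotient_map_iff (hcat : CAlg.IsCatenary B) (heq : EGA4.IsEquidim B)
    (h0 : ringKrullDim (EGA4.FibRing A B) = 0) (𝔞 : Ideal A) :
    EGA4.IsEquidim (B ⧸ 𝔞.map (algebraMap A B)) ↔ EGA4.IsEquidim (A ⧸ 𝔞) := by
  by_cases h𝔞 : 𝔞 = ⊤
  · subst h𝔞
    haveI : Subsingleton (A ⧸ (⊤ : Ideal A)) := Ideal.Quotient.subsingleton_iff.mpr rfl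
    haveI : Subsingleton (B ⧸ (⊤ : Ideal A).map (algebraMap A B)) :=
      Ideal.Quotient.subsingleton_iff.mpr (Ideal.map_top _)
    exact ⟨fun _ => isEquidim_of_subsingleton _, fun _ => isEquidim_of_subsingleton _⟩
  have hItop : 𝔞.map (algebraMap A B) ≠ ⊤ := map_ne_top 𝔞 h𝔞
  haveI : Nontrivial (A ⧸ 𝔞) := Ideal.Quotient.nontrivial_iff.mpr h𝔞
  haveI : Nontrivial (B ⧸ 𝔞.map (algebraMap A B)) := Ideal.Quotient.nontrivial_iff.mpr hItop
  haveI : Module.Flat (A ⧸ 𝔞) (B ⧸ 𝔞.map (algebraMap A B)) :=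
    Groth.Agent.Helper14.RegAscent.flat_quotient_map 𝔞
  haveI : IsLocalHom (algebraMap (A ⧸ 𝔞) (B ⧸ 𝔞.map (algebraMap A B))) :=
    Groth.Agent.Helper14.RegAscent.isLocalHom_quotient_map 𝔞 hItop
  have e4 := ringKrullDim_eq_add_fibre (A := A ⧸ 𝔞) (B := B ⧸ 𝔞.map (algebraMap A B))
  rw [ringKrullDim_fibRing_quotient (A := A) (B := B) 𝔞, h0, add_zero] at e4
  constructor
  · intro hB pbar hpbar
    have hp : pbar.comap (Ideal.Quotient.mk 𝔞) ∈ 𝔞.minimalPrimes :=
      comap_mk_mem_minimalPrimes hpbar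
    haveI : (pbar.comap (Ideal.Quotient.mk 𝔞)).IsPrime := hp.1.1
    have hptop : (pbar.comap (Ideal.Quotient.mk 𝔞)).map (algebraMap A B) ≠ ⊤ :=
      map_ne_top _ (Ideal.IsPrime.ne_top inferInstance)
    obtain ⟨Q, hQ⟩ := Ideal.nonempty_minimalPrimes hptop
    have hQI : Q ∈ (𝔞.map (algebraMap A B)).minimalPrimes :=
      mem_minimalPrimes_map_of_mem_minimalPrimes 𝔞 _ hp Q hQ
    have d1 := hB _ (map_mk_mem_minimalPrimes hQI)
    rw [Groth.Agent.Helper7.CatDim.dim_quot_quot B (𝔞.map (algebraMap A B)) Q hQI.1.2] at d1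
    have d2 := dim_quot_eq_of_fibre_zero hcat heq h0 _ Q hQ
    have d3 := Groth.Agent.Helper7.CatDim.dim_quot_quot A 𝔞
      (pbar.comap (Ideal.Quotient.mk 𝔞)) hp.1.2
    rw [Ideal.map_comap_of_surjective _ Ideal.Quotient.mk_surjective] at d3
    rw [d3, ← d2, d1, e4]
  · intro hA Q' hQ'
    have hQ : Q'.comap (Ideal.Quotient.mk (𝔞.map (algebraMap A B))) ∈
        (𝔞.map (algebraMap A B)).minimalPrimes := comap_mk_mem_minimalPrimes hQ'
    haveI : (Q'.comap (Ideal.Quotient.mk (𝔞.map (algebraMap A B)))).IsPrime := hQ.1.1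
    have hp := under_mem_minimalPrimes 𝔞 _ hQ
    have hQp := mem_minimalPrimes_map_under 𝔞 _ hQ
    have d1 := hA _ (map_mk_mem_minimalPrimes hp)
    rw [Groth.Agent.Helper7.CatDim.dim_quot_quot A 𝔞 _ hp.1.2] at d1
    have d2 := dim_quot_eq_of_fibre_zero hcat heq h0 _ _ hQp
    have d3 := Groth.Agent.Helper7.CatDim.dim_quot_quot B (𝔞.map (algebraMap A B))
      (Q'.comap (Ideal.Quotient.mk (𝔞.map (algebraMap A B)))) hQ.1.2
    rw [Ideal.map_comap_of_surjective _ Ideal.Quotient.mk_surjective] at d3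
    rw [d3, d2, d1, e4]

end LocalFlat

end Groth.Agent.Lead.FEq
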