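import Mathlib
import Groth.Agent.Lib.Lead.FE1
import Groth.Agent.Lib.Lead.FEq1

/-!
# The dimension formula `dim B = dim A + dim B/m_A B` (EGA IV 6.1.1)

For a local homomorphism of Noetherian local rings such that, for every non-maximal prime `p` of
`A`, no minimal prime of `pB` lies over the maximal ideal of `A`.
-/

set_option autoImplicit false
set_option linter.style.haveILetI false

universe u

open IsLocalRing Pointwise

namespace Groth.Agent.Lead.DimF

/-- An element of the maximal ideal avoiding all minimal primes drops the dimension by exactly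
one. -/
theorem dim_quot_succ_eq {R : Type u} [CommRing R] [IsNoetherianRing R] [IsLocalRing R] {x : R}
    (hx : x ∈ maximalIdeal R) (hn : ∀ p ∈ minimalPrimes R, x ∉ p) :
    ringKrullDim (R ⧸ Ideal.span {x}) + 1 = ringKrullDim R := by
  have h : Ideal.span {x} = x • (⊤ : Ideal R) := by
    simp [← Submodule.ideal_span_singleton_smul]
  rw [ringKrullDim_eq_of_ringEquiv (Ideal.quotientEquivAlgOfEq R h).toRingEquiv,
    ← Module.supportDim_quotient_eq_ringKrullDim, ← Module.supportDim_self_eq_ringKrullDim]
  refine Module.supportDim_quotSMulTop_succ_eq_of_notMem_minimalPrimes_of_mem_maximalIdeal ?_ hx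
  intro p hp
  rw [Module.annihilator_eq_bot.mpr inferInstance] at hp
  exact hn p hp

/-- The maximal ideal of a quotient of a local ring is the image of the maximal ideal. -/
theorem maximalIdeal_quotient {R : Type u} [CommRing R] [IsLocalRing R] (I : Ideal R)
    [Nontrivial (R ⧸ I)] [IsLocalRing (R ⧸ I)] :
    maximalIdeal (R ⧸ I) = (maximalIdeal R).map (Ideal.Quotient.mk I) := by
  haveI : IsLocalHom (Ideal.Quotient.mk I) :=
    IsLocalHom.of_surjective _ Ideal.Quotient.mk_surjective
  apply le_antisymm
  · intro abar habar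
    obtain ⟨a, rfl⟩ := Ideal.Quotient.mk_surjective abar
    have ha : a ∈ maximalIdeal R := by
      by_contra hna
      have hu : IsUnit a := IsLocalRing.notMem_maximalIdeal.mp hna
      exact (IsLocalRing.notMem_maximalIdeal.mpr (hu.map (Ideal.Quotient.mk I))) habar
    exact Ideal.mem_map_of_mem _ ha
  · rw [Ideal.map_le_iff_le_comap]
    intro a ha
    exact map_nonunit (Ideal.Quotient.mk I) a ha

theorem add_fibre_le (n : ℕ) : ∀ (A B : Type u) [CommRing A] [CommRing B] [IsNoetherianRing A]
    [IsNoetherianRing B] [IsLocalRing A] [IsLocalRing B] (f : A →+* B) [IsLocalHom f],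
    ringKrullDim A = n →
    (∀ p : Ideal A, p.IsPrime → p ≠ maximalIdeal A →
      ∀ q ∈ (p.map f).minimalPrimes, q.comap f ≠ maximalIdeal A) →
    (n : WithBot ℕ∞) + ringKrullDim (B ⧸ (maximalIdeal A).map f) ≤ ringKrullDim B := by
  induction n with
  | zero =>
    intro A B _ _ _ _ _ _ f _ _ _
    rw [Nat.cast_zero, zero_add]
    exact ringKrullDim_quotient_le _
  | succ n ih =>
    intro A B _ _ _ _ _ _ f _ hA H
    -- minimal primes of `A` are not maximal
    have hminA : ∀ p ∈ minimalPrimes A, p ≠ maximalIdeal A := by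
      intro p hp hpm
      have h0 : (maximalIdeal A).height = 0 := by
        rw [Ideal.height_eq_zero_iff, ← hpm]
        exact hp
      have h1 : ringKrullDim A = 0 := by
        rw [← IsLocalRing.maximalIdeal_height_eq_ringKrullDim, h0]
        rfl
      have h' : ((n + 1 : ℕ) : WithBot ℕ∞) = ((0 : ℕ) : WithBot ℕ∞) := by
        rw [← hA, h1, Nat.cast_zero]
      have h'' : n + 1 = 0 := by exact_mod_cast h'
      omega
    -- minimal primes of `B` do not lie over the maximal ideal
    have hminB : ∀ q ∈ minimalPrimes B, q.comap f ≠ maximalIdeal A := by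
      intro q hq
      haveI : q.IsPrime := hq.1.1
      obtain ⟨p0, hp0, hp0q⟩ := Ideal.exists_minimalPrimes_le (J := q.comap f) (I := ⊥) bot_le
      refine H p0 hp0.1.1 (hminA p0 hp0) q
        ⟨⟨inferInstance, Ideal.map_le_iff_le_comap.mpr hp0q⟩, ?_⟩
      intro q' hq' hq'q
      exact hq.2 ⟨hq'.1, bot_le⟩ hq'q
    -- prime avoidance
    have hfinA : (minimalPrimes A).Finite := minimalPrimes.finite_of_isNoetherianRing A
    have hfinB : ((fun q : Ideal B => q.comap f) '' minimalPrimes B).Finite :=
      (minimalPrimes.finite_of_isNoetherianRing B).image _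
    obtain ⟨x, hxm, hxS⟩ : ∃ x ∈ maximalIdeal A,
        ∀ P ∈ minimalPrimes A ∪ (fun q : Ideal B => q.comap f) '' minimalPrimes B, x ∉ P := by
      by_contra hcon
      push Not at hcon
      have hprime : ∀ P ∈ minimalPrimes A ∪ (fun q : Ideal B => q.comap f) '' minimalPrimes B,
          P.IsPrime := by
        intro P hP
        rcases hP with hP | ⟨q, hq, rfl⟩
        · exact hP.1.1
        · haveI : q.IsPrime := hq.1.1
          exact Ideal.comap_isPrime f q
      obtain ⟨P, hP, hle⟩ := ((maximalIdeal A).subset_union_prime_finite (hfinA.union hfinB)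
        (f := id) ⊥ ⊥ (fun P hP _ _ => hprime P hP)).1 (by
          intro x hx
          obtain ⟨P, hP, hxP⟩ := hcon x hx
          exact Set.mem_biUnion hP hxP)
      have hPm : maximalIdeal A = P :=
        (maximalIdeal.isMaximal A).eq_of_le (hprime P hP).ne_top hle
      rcases hP with hP | ⟨q, hq, hqP⟩
      · exact hminA P hP hPm.symm
      · exact hminB q hq (hqP.trans hPm.symm)
    have hxA : ∀ p ∈ minimalPrimes A, x ∉ p := fun p hp => hxS p (Or.inl hp)
    have hxB : ∀ q ∈ minimalPrimes B, f x ∉ q := fun q hq hfx =>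
      hxS (q.comap f) (Or.inr ⟨q, hq, rfl⟩) (Ideal.mem_comap.mpr hfx)
    have hfxm : f x ∈ maximalIdeal B := map_nonunit f x hxm
    have hdA : ringKrullDim (A ⧸ Ideal.span {x}) + 1 = ringKrullDim A := dim_quot_succ_eq hxm hxA
    have hdB : ringKrullDim (B ⧸ Ideal.span {f x}) + 1 = ringKrullDim B :=
      dim_quot_succ_eq hfxm hxB
    have hdA' : ringKrullDim (A ⧸ Ideal.span {x}) = (n : WithBot ℕ∞) := by
      rw [hA, Nat.cast_succ] at hdA
      exact Groth.Agent.Lead.FE.withBot_add_right_cancel (h := 1) ENat.one_ne_top hdA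
    -- the quotient rings
    have hIle : Ideal.span {x} ≤ maximalIdeal A := (Ideal.span_singleton_le_iff_mem _).mpr hxm
    have hJle : Ideal.span {f x} ≤ maximalIdeal B := (Ideal.span_singleton_le_iff_mem _).mpr hfxm
    have hIne : Ideal.span {x} ≠ ⊤ := ne_top_of_le_ne_top (maximalIdeal.isMaximal A).ne_top hIle
    have hJne : Ideal.span {f x} ≠ ⊤ := ne_top_of_le_ne_top (maximalIdeal.isMaximal B).ne_top hJle
    haveI : Nontrivial (A ⧸ Ideal.span {x}) := Ideal.Quotient.nontrivial_iff.mpr hIne
    haveI : Nontrivial (B ⧸ Ideal.span {f x}) := Ideal.Quotient.nontrivial_iff.mpr hJne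
    haveI : IsLocalRing (A ⧸ Ideal.span {x}) :=
      IsLocalRing.of_surjective' (Ideal.Quotient.mk _) Ideal.Quotient.mk_surjective
    haveI : IsLocalRing (B ⧸ Ideal.span {f x}) :=
      IsLocalRing.of_surjective' (Ideal.Quotient.mk _) Ideal.Quotient.mk_surjective
    haveI : IsLocalHom (Ideal.Quotient.mk (Ideal.span {x})) :=
      IsLocalHom.of_surjective _ Ideal.Quotient.mk_surjective
    haveI : IsLocalHom (Ideal.Quotient.mk (Ideal.span {f x})) :=
      IsLocalHom.of_surjective _ Ideal.Quotient.mk_surjective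
    have hIJ : Ideal.span {x} ≤ (Ideal.span {f x}).comap f :=
      (Ideal.span_singleton_le_iff_mem _).mpr
        (Ideal.mem_comap.mpr (Ideal.mem_span_singleton_self (f x)))
    obtain ⟨fbar, hfbar⟩ : ∃ g : A ⧸ Ideal.span {x} →+* B ⧸ Ideal.span {f x},
        ∀ a, g (Ideal.Quotient.mk (Ideal.span {x}) a) =
          Ideal.Quotient.mk (Ideal.span {f x}) (f a) :=
      ⟨Ideal.quotientMap (Ideal.span {f x}) f hIJ, fun a => Ideal.quotientMap_mk⟩
    have hcomp : fbar.comp (Ideal.Quotient.mk (Ideal.span {x})) =
        (Ideal.Quotient.mk (Ideal.span {f x})).comp f := RingHom.ext (fun a => hfbar a)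
    have hmA : maximalIdeal (A ⧸ Ideal.span {x}) =
        (maximalIdeal A).map (Ideal.Quotient.mk (Ideal.span {x})) := maximalIdeal_quotient _
    haveI hloc : IsLocalHom fbar := by
      refine ((IsLocalRing.local_hom_TFAE fbar).out 2 0).mp ?_
      rw [hmA, Ideal.map_map, hcomp, ← Ideal.map_map, Ideal.map_le_iff_le_comap]
      intro b hb
      exact map_nonunit (Ideal.Quotient.mk (Ideal.span {f x})) b
        (IsLocalRing.map_maximalIdeal_le f hb)
    have hmap : (maximalIdeal (A ⧸ Ideal.span {x})).map fbar =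
        ((maximalIdeal A).map f).map (Ideal.Quotient.mk (Ideal.span {f x})) := by
      rw [hmA, Ideal.map_map, hcomp, ← Ideal.map_map]
    -- the hypothesis descends
    have Hbar : ∀ pbar : Ideal (A ⧸ Ideal.span {x}), pbar.IsPrime →
        pbar ≠ maximalIdeal (A ⧸ Ideal.span {x}) →
        ∀ qbar ∈ (pbar.map fbar).minimalPrimes,
          qbar.comap fbar ≠ maximalIdeal (A ⧸ Ideal.span {x}) := by
      intro pbar hpbar hpne qbar hqbar heq
      haveI := hpbar
      have hp_ne : pbar.comap (Ideal.Quotient.mk (Ideal.span {x})) ≠ maximalIdeal A := by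
        intro h
        apply hpne
        rw [← Ideal.map_comap_of_surjective (Ideal.Quotient.mk (Ideal.span {x}))
          Ideal.Quotient.mk_surjective pbar, h, hmA]
      have hx_p : x ∈ pbar.comap (Ideal.Quotient.mk (Ideal.span {x})) := by
        rw [Ideal.mem_comap]
        have h0 : (Ideal.Quotient.mk (Ideal.span {x})) x = 0 :=
          Ideal.Quotient.eq_zero_iff_mem.mpr (Ideal.mem_span_singleton_self x)
        rw [h0]
        exact pbar.zero_mem
      have hJle' : Ideal.span {f x} ≤
          (pbar.comap (Ideal.Quotient.mk (Ideal.span {x}))).map f :=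
        (Ideal.span_singleton_le_iff_mem _).mpr (Ideal.mem_map_of_mem f hx_p)
      have h1 : (pbar.map fbar).comap (Ideal.Quotient.mk (Ideal.span {f x})) =
          (pbar.comap (Ideal.Quotient.mk (Ideal.span {x}))).map f := by
        conv_lhs => rw [← Ideal.map_comap_of_surjective (Ideal.Quotient.mk (Ideal.span {x}))
          Ideal.Quotient.mk_surjective pbar]
        rw [Ideal.map_map, hcomp, ← Ideal.map_map]
        exact Groth.Agent.Lead.FEq.comap_map_mk hJle'
      have hq : qbar.comap (Ideal.Quotient.mk (Ideal.span {f x})) ∈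
          ((pbar.comap (Ideal.Quotient.mk (Ideal.span {x}))).map f).minimalPrimes := by
        rw [← h1, Ideal.comap_minimalPrimes_eq_of_surjective Ideal.Quotient.mk_surjective]
        exact ⟨qbar, hqbar, rfl⟩
      refine H _ (Ideal.comap_isPrime _ pbar) hp_ne _ hq ?_
      rw [Ideal.comap_comap, ← hcomp, ← Ideal.comap_comap, heq]
      exact IsLocalRing.maximalIdeal_comap (Ideal.Quotient.mk (Ideal.span {x}))
    have hih := ih (A ⧸ Ideal.span {x}) (B ⧸ Ideal.span {f x}) fbar hdA' Hbar
    -- identify the closed fibres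
    have hJK : Ideal.span {f x} ≤ (maximalIdeal A).map f :=
      (Ideal.span_singleton_le_iff_mem _).mpr (Ideal.mem_map_of_mem f hxm)
    have hfib : ringKrullDim ((B ⧸ Ideal.span {f x}) ⧸
        (maximalIdeal (A ⧸ Ideal.span {x})).map fbar) =
        ringKrullDim (B ⧸ (maximalIdeal A).map f) := by
      rw [hmap]
      exact ringKrullDim_eq_of_ringEquiv (DoubleQuot.quotQuotEquivQuotOfLE hJK)
    rw [hfib] at hih
    calc ((n + 1 : ℕ) : WithBot ℕ∞) + ringKrullDim (B ⧸ (maximalIdeal A).map f)
        = ((n : WithBot ℕ∞) + ringKrullDim (B ⧸ (maximalIdeal A).map f)) + 1 := by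
          rw [Nat.cast_succ, add_right_comm]
      _ ≤ ringKrullDim (B ⧸ Ideal.span {f x}) + 1 := add_le_add hih le_rfl
      _ = ringKrullDim B := hdB

/-- **EGA IV 6.1.1**: `dim B = dim A + dim B/m_A B` when no minimal prime of `pB` (`p` a non-maximal
prime of `A`) lies over the maximal ideal. -/
theorem main (A B : Type u) [CommRing A] [CommRing B] [IsNoetherianRing A] [IsNoetherianRing B]
    [IsLocalRing A] [IsLocalRing B] [Algebra A B] [IsLocalHom (algebraMap A B)]
    (h : ∀ p : Ideal A, p.IsPrime → p ≠ maximalIdeal A →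
      ∀ q ∈ (p.map (algebraMap A B)).minimalPrimes,
        q.comap (algebraMap A B) ≠ maximalIdeal A) :
    ringKrullDim B = ringKrullDim A +
      ringKrullDim (B ⧸ (maximalIdeal A).map (algebraMap A B)) := by
  obtain ⟨n, hn⟩ := Groth.Agent.Lead.FEq.exists_nat_dim A
  apply le_antisymm
  · haveI : (maximalIdeal B).LiesOver (maximalIdeal A) :=
      ⟨(IsLocalRing.maximalIdeal_comap (algebraMap A B)).symm⟩
    have h1 := Ideal.height_le_height_add_of_liesOver (maximalIdeal A) (maximalIdeal B)
    have hK : (maximalIdeal A).map (algebraMap A B) ≠ ⊤ :=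
      ne_top_of_le_ne_top (maximalIdeal.isMaximal B).ne_top
        (IsLocalRing.map_maximalIdeal_le (algebraMap A B))
    haveI : Nontrivial (B ⧸ (maximalIdeal A).map (algebraMap A B)) :=
      Ideal.Quotient.nontrivial_iff.mpr hK
    haveI : IsLocalRing (B ⧸ (maximalIdeal A).map (algebraMap A B)) :=
      IsLocalRing.of_surjective' (Ideal.Quotient.mk _) Ideal.Quotient.mk_surjective
    rw [← maximalIdeal_quotient] at h1
    rw [← IsLocalRing.maximalIdeal_height_eq_ringKrullDim (R := B),
      ← IsLocalRing.maximalIdeal_height_eq_ringKrullDim (R := A),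
      ← IsLocalRing.maximalIdeal_height_eq_ringKrullDim
        (R := B ⧸ (maximalIdeal A).map (algebraMap A B)), ← WithBot.coe_add]
    exact WithBot.coe_le_coe.mpr h1
  · rw [hn]
    exact add_fibre_le n A B (algebraMap A B) hn h

end Groth.Agent.Lead.DimF
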