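import Mathlib
import Groth.Agent.Lib.Helper1.LocalCriterion
import Groth.Agent.Lib.Helper29.DualFlat

/-!
# Flatness and regular sequences (Hironaka's criterion a) ⇔ c) for normal flatness)

For a Noetherian ring `B`, a finite `B`-module `N` and a sequence `fs` in the Jacobson radical which
is weakly regular on `B`: `N` is flat iff `N / (fs) N` is flat over `B / (fs)` and `fs` is weakly
regular on `N`.
-/

namespace Groth.Agent.Lead.NFReg

open TensorProduct Function RingTheory.Sequence Groth.Agent.Helper1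

universe u

section Tor

variable {B : Type u} [CommRing B] {N : Type u} [AddCommGroup N] [Module B N]

/-- The key inclusion `K ∩ J F ⊆ J K` along a weakly regular sequence. -/
theorem mem_smul_top_presK (fs : List B) (hreg : IsWeaklyRegular N fs) :
    ∀ (i : ℕ), i ≤ fs.length → ∀ x : PresK B N,
      presι B N x ∈ Ideal.ofList (fs.take i) • (⊤ : Submodule B (PresG B N)) →
      x ∈ Ideal.ofList (fs.take i) • (⊤ : Submodule B (PresK B N)) := by
  intro i
  induction i with
  | zero =>
    intro _ x hx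
    rw [List.take_zero, Ideal.ofList_nil, Submodule.bot_smul, Submodule.mem_bot] at hx
    have hx0 : x = 0 := presι_injective B N (by rw [hx, map_zero])
    rw [hx0]
    exact Submodule.zero_mem _
  | succ i ih =>
    intro hi x hx
    have hi' : i < fs.length := hi
    obtain ⟨J, hJ⟩ : ∃ J : Ideal B, J = Ideal.ofList (fs.take i) := ⟨_, rfl⟩
    obtain ⟨r, hr⟩ : ∃ r : B, r = fs[i] := ⟨_, rfl⟩
    have hregi : IsSMulRegular (N ⧸ J • (⊤ : Submodule B N)) r := by
      rw [hJ, hr]
      exact hreg.regular_mod_prev i hi'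
    have ih' := ih (le_of_lt hi')
    rw [← hJ] at ih'
    rw [List.take_succ_eq_append_getElem hi', Ideal.ofList_append, Ideal.ofList_singleton, ← hJ,
      ← hr, Submodule.sup_smul] at hx ⊢
    obtain ⟨y, hy, z, hz, hyz⟩ := Submodule.mem_sup.mp hx
    rw [Submodule.ideal_span_singleton_smul] at hz
    obtain ⟨w, -, hw⟩ := (Submodule.mem_smul_pointwise_iff_exists _ _ _).mp hz
    -- apply π
    have hπy : presπ B N y ∈ J • (⊤ : Submodule B N) := by
      have := Submodule.mem_map_of_mem (f := presπ B N) hy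
      rwa [Submodule.map_smul'', Submodule.map_top,
        LinearMap.range_eq_top.mpr (presπ_surjective B N)] at this
    have h0 : presπ B N (presι B N x) = 0 := (pres_exact B N).apply_apply_eq_zero x
    rw [← hyz, map_add, ← hw, map_smul] at h0
    have h1 : r • presπ B N w ∈ J • (⊤ : Submodule B N) := by
      have : r • presπ B N w = - presπ B N y := eq_neg_of_add_eq_zero_right h0
      rw [this]
      exact Submodule.neg_mem _ hπy
    have h2 : presπ B N w ∈ J • (⊤ : Submodule B N) := by
      have h3 : r • (Submodule.Quotient.mk (presπ B N w) : N ⧸ J • (⊤ : Submodule B N)) =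
          r • 0 := by
        rw [smul_zero, ← Submodule.Quotient.mk_smul, Submodule.Quotient.mk_eq_zero]
        exact h1
      have h4 := hregi h3
      rwa [Submodule.Quotient.mk_eq_zero] at h4
    have h5 : presπ B N w ∈
        Submodule.map (presπ B N) (J • (⊤ : Submodule B (PresG B N))) := by
      rw [Submodule.map_smul'', Submodule.map_top,
        LinearMap.range_eq_top.mpr (presπ_surjective B N)]
      exact h2
    obtain ⟨j', hj', hj'w⟩ := h5
    have h6 : presπ B N (w - j') = 0 := by rw [map_sub, hj'w, sub_self]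
    obtain ⟨k, hk⟩ := ((pres_exact B N) (w - j')).mp h6
    have h7 : presι B N (x - r • k) ∈ J • (⊤ : Submodule B (PresG B N)) := by
      rw [map_sub, map_smul, hk, ← hyz, ← hw, smul_sub]
      have : y + r • w - (r • w - r • j') = y + r • j' := by abel
      rw [this]
      exact Submodule.add_mem _ hy (Submodule.smul_mem _ r hj')
    have h8 := ih' (x - r • k) h7
    have h9 : x = (x - r • k) + r • k := by abel
    rw [h9]
    refine Submodule.add_mem _ (Submodule.mem_sup_left h8) (Submodule.mem_sup_right ?_)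
    exact Submodule.smul_mem_smul (Ideal.mem_span_singleton_self r) Submodule.mem_top

/-- `Tor₁(B/(fs), N) = 0` when `fs` is weakly regular on `N`. -/
theorem torVanish_of_isWeaklyRegular (fs : List B) (hreg : IsWeaklyRegular N fs) :
    TorVanish B N (B ⧸ Ideal.ofList fs) := by
  unfold TorVanish
  rw [lTensor_quotient_injective_iff]
  intro x hx
  have h := mem_smul_top_presK fs hreg fs.length le_rfl x
  rw [List.take_length] at h
  exact h hx

theorem rTensor_injective_of_isWeaklyRegular (fs : List B) (hreg : IsWeaklyRegular N fs) :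
    Injective ((Ideal.ofList fs).subtype.rTensor N) :=
  (torVanish_of_isWeaklyRegular fs hreg).rTensor_injective (Ideal.ofList fs).subtype
    (Ideal.ofList fs).mkQ (Submodule.injective_subtype _) (LinearMap.exact_subtype_mkQ _)
    (Submodule.mkQ_surjective _)

/-- Local criterion: a finite module over a Noetherian ring on which a sequence in the radical is
weakly regular is flat as soon as its quotient by the sequence is flat over the quotient ring. -/
theorem flat_of_isWeaklyRegular [IsNoetherianRing B] [Module.Finite B N] (fs : List B)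
    (hrad : ∀ x ∈ fs, x ∈ (⊥ : Ideal B).jacobson) (hreg : IsWeaklyRegular N fs)
    (I : Ideal B) (hI : I = Ideal.ofList fs)
    [Module.Flat (B ⧸ I) ((B ⧸ I) ⊗[B] N)] : Module.Flat B N := by
  subst hI
  have H1 := rTensor_injective_of_isWeaklyRegular fs hreg
  refine flat_of_flat_quotient_pow (R := B) (S := B) (M := N) (Ideal.ofList fs) ?_
    (fun n _ => flat_quotient_pow (Ideal.ofList fs) H1 n)
  rw [Algebra.algebraMap_self, Ideal.map_id, Ideal.span_le]
  intro x hx
  exact hrad x hx

/-- A sequence weakly regular on the ring is weakly regular on every flat module. -/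
theorem isWeaklyRegular_of_flat [Module.Flat B N] (fs : List B) (hreg : IsWeaklyRegular B fs) :
    IsWeaklyRegular N fs := by
  refine ⟨fun i hi => ?_⟩
  have h1 := hreg.regular_mod_prev i hi
  obtain ⟨J, hJ⟩ : ∃ J : Ideal B, J = Ideal.ofList (fs.take i) := ⟨_, rfl⟩
  obtain ⟨r, hr⟩ : ∃ r : B, r = fs[i] := ⟨_, rfl⟩
  rw [← hJ, ← hr] at h1 ⊢
  have h2 : ∀ b : B, r * b ∈ J → b ∈ J := by
    intro b hb
    have h3 : r • (Submodule.Quotient.mk b : B ⧸ (J • (⊤ : Submodule B B))) = r • 0 := by
      rw [smul_zero, ← Submodule.Quotient.mk_smul, Submodule.Quotient.mk_eq_zero,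
        Ideal.smul_eq_mul, Ideal.mul_top, smul_eq_mul]
      exact hb
    have h4 := h1 h3
    rw [Submodule.Quotient.mk_eq_zero, Ideal.smul_eq_mul, Ideal.mul_top] at h4
    exact h4
  let μ : B ⧸ J →ₗ[B] B ⧸ J := LinearMap.lsmul B (B ⧸ J) r
  have hμ : Injective μ := by
    rw [injective_iff_map_eq_zero]
    intro x hx
    obtain ⟨b, rfl⟩ := Ideal.Quotient.mk_surjective x
    have hμb : μ (Ideal.Quotient.mk J b) = Ideal.Quotient.mk J (r * b) := rfl
    rw [hμb, Ideal.Quotient.eq_zero_iff_mem] at hx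
    rw [Ideal.Quotient.eq_zero_iff_mem]
    exact h2 b hx
  have hμN : Injective (μ.rTensor N) :=
    Module.Flat.rTensor_preserves_injective_linearMap μ hμ
  rw [isSMulRegular_iff_right_eq_zero_of_smul]
  intro m hm
  obtain ⟨n, rfl⟩ := Submodule.Quotient.mk_surjective _ m
  rw [← Submodule.Quotient.mk_smul, Submodule.Quotient.mk_eq_zero] at hm
  rw [Submodule.Quotient.mk_eq_zero]
  rw [← one_tmul_eq_zero_iff] at hm ⊢
  apply hμN
  rw [map_zero, LinearMap.rTensor_tmul]
  show (r • (1 : B ⧸ J)) ⊗ₜ[B] n = 0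
  rw [TensorProduct.smul_tmul]
  exact hm

end Tor

section Transfer

variable {A : Type u} [CommRing A] (R J : Ideal A) (G : Type u) [AddCommGroup G] [Module A G]
  [Module (A ⧸ R) G] [IsScalarTower A (A ⧸ R) G]

theorem mem_smul_top_iff (g : G) :
    g ∈ (R ⊔ J) • (⊤ : Submodule A G) ↔
      g ∈ (J.map (Ideal.Quotient.mk R)) • (⊤ : Submodule (A ⧸ R) G) := by
  constructor
  · intro hg
    refine Submodule.smul_induction_on hg ?_ ?_
    · intro q hq g' _
      obtain ⟨r, hr, j, hj, rfl⟩ := Submodule.mem_sup.mp hq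
      have h1 : (r + j) • g' = (Ideal.Quotient.mk R j) • g' := by
        rw [add_smul, ← algebraMap_smul (A ⧸ R) r g', ← algebraMap_smul (A ⧸ R) j g',
          Ideal.Quotient.algebraMap_eq, Ideal.Quotient.eq_zero_iff_mem.mpr hr, zero_smul, zero_add]
      rw [h1]
      exact Submodule.smul_mem_smul (Ideal.mem_map_of_mem _ hj) Submodule.mem_top
    · intro x y hx hy
      exact Submodule.add_mem _ hx hy
  · intro hg
    refine Submodule.smul_induction_on hg ?_ ?_
    · intro b hb g' _
      obtain ⟨j, hj, rfl⟩ :=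
        (Ideal.mem_map_iff_of_surjective _ Ideal.Quotient.mk_surjective).mp hb
      have h1 : (Ideal.Quotient.mk R j) • g' = j • g' := by
        rw [← Ideal.Quotient.algebraMap_eq, algebraMap_smul]
      rw [h1]
      exact Submodule.smul_mem_smul (Submodule.mem_sup_right hj) Submodule.mem_top
    · intro x y hx hy
      exact Submodule.add_mem _ hx hy

/-- The additive map `G ⧸ (R ⊔ J) G → ((A/R)/J') ⊗ G`, `[g] ↦ 1 ⊗ g`. -/
noncomputable def psi :
    (G ⧸ (R ⊔ J) • (⊤ : Submodule A G)) →+
      ((A ⧸ R) ⧸ J.map (Ideal.Quotient.mk R)) ⊗[A ⧸ R] G :=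
  QuotientAddGroup.lift ((R ⊔ J) • (⊤ : Submodule A G)).toAddSubgroup
    ((TensorProduct.mk (A ⧸ R) ((A ⧸ R) ⧸ J.map (Ideal.Quotient.mk R)) G 1).toAddMonoidHom)
    (by
      intro g hg
      have hg' : g ∈ (R ⊔ J) • (⊤ : Submodule A G) := hg
      rw [mem_smul_top_iff] at hg'
      rw [AddMonoidHom.mem_ker]
      show (1 : (A ⧸ R) ⧸ J.map (Ideal.Quotient.mk R)) ⊗ₜ[A ⧸ R] g = 0
      exact (one_tmul_eq_zero_iff _ g).mpr hg')

theorem psi_mk (g : G) :
    psi R J G (Submodule.Quotient.mk g) =
      (1 : (A ⧸ R) ⧸ J.map (Ideal.Quotient.mk R)) ⊗ₜ[A ⧸ R] g := rfl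

theorem psi_bijective : Bijective (psi R J G) := by
  constructor
  · rw [injective_iff_map_eq_zero]
    intro p hp
    obtain ⟨g, rfl⟩ := Submodule.Quotient.mk_surjective _ p
    rw [psi_mk, one_tmul_eq_zero_iff, ← mem_smul_top_iff] at hp
    exact (Submodule.Quotient.mk_eq_zero _).mpr hp
  · intro t
    obtain ⟨g, rfl⟩ := exists_one_tmul_eq (J.map (Ideal.Quotient.mk R)) t
    exact ⟨Submodule.Quotient.mk g, psi_mk R J G g⟩

theorem psi_smul (c : A ⧸ R ⊔ J) (p : G ⧸ (R ⊔ J) • (⊤ : Submodule A G)) :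
    psi R J G (c • p) = (DoubleQuot.quotQuotEquivQuotSup R J).symm c • psi R J G p := by
  obtain ⟨a, rfl⟩ := Ideal.Quotient.mk_surjective c
  obtain ⟨g, rfl⟩ := Submodule.Quotient.mk_surjective _ p
  have h1 : (DoubleQuot.quotQuotEquivQuotSup R J).symm (Ideal.Quotient.mk (R ⊔ J) a) =
      DoubleQuot.quotQuotMk R J a := by
    rw [RingEquiv.symm_apply_eq]
    rfl
  have h2 : Ideal.Quotient.mk (R ⊔ J) a •
      (Submodule.Quotient.mk g : G ⧸ (R ⊔ J) • (⊤ : Submodule A G)) =
      Submodule.Quotient.mk (a • g) := rfl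
  rw [h1, h2, psi_mk, psi_mk, ← algebraMap_smul (A ⧸ R) a g, TensorProduct.tmul_smul]
  exact (algebraMap_smul ((A ⧸ R) ⧸ J.map (Ideal.Quotient.mk R))
    (algebraMap A (A ⧸ R) a) _).symm

/-- Flatness of the closed fibre, in its two incarnations. -/
theorem flat_quotient_sup_iff :
    Module.Flat ((A ⧸ R) ⧸ J.map (Ideal.Quotient.mk R))
        (((A ⧸ R) ⧸ J.map (Ideal.Quotient.mk R)) ⊗[A ⧸ R] G) ↔
      Module.Flat (A ⧸ R ⊔ J) (G ⧸ (R ⊔ J) • (⊤ : Submodule A G)) := by
  constructor
  · intro h
    have := h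
    exact Groth.Agent.Helper29.DualFlat.flat_of_semilinear_bijective
      (DoubleQuot.quotQuotEquivQuotSup R J).symm.toRingHom
      (DoubleQuot.quotQuotEquivQuotSup R J).symm.bijective
      (psi R J G) (psi_bijective R J G) (fun c p => psi_smul R J G c p)
  · intro h
    have := h
    let E : (G ⧸ (R ⊔ J) • (⊤ : Submodule A G)) ≃+
        ((A ⧸ R) ⧸ J.map (Ideal.Quotient.mk R)) ⊗[A ⧸ R] G :=
      AddEquiv.ofBijective (psi R J G) (psi_bijective R J G)
    have hE : ∀ x, E x = psi R J G x := fun _ => rfl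
    refine Groth.Agent.Helper29.DualFlat.flat_of_semilinear_bijective
      (DoubleQuot.quotQuotEquivQuotSup R J).toRingHom
      (DoubleQuot.quotQuotEquivQuotSup R J).bijective
      E.symm.toAddMonoidHom E.symm.bijective ?_
    intro c t
    apply E.injective
    show E (E.symm (c • t)) = E ((DoubleQuot.quotQuotEquivQuotSup R J) c • E.symm t)
    rw [AddEquiv.apply_symm_apply, hE, psi_smul, RingEquiv.symm_apply_apply, ← hE,
      AddEquiv.apply_symm_apply]

end Transfer

section Main

theorem mk_mem_jacobson_bot {A : Type u} [CommRing A] (R : Ideal A) {a : A}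
    (ha : a ∈ (⊥ : Ideal A).jacobson) :
    Ideal.Quotient.mk R a ∈ (⊥ : Ideal (A ⧸ R)).jacobson := by
  rw [Ideal.mem_jacobson_bot] at ha ⊢
  intro y
  obtain ⟨y, rfl⟩ := Ideal.Quotient.mk_surjective y
  have := (ha y).map (Ideal.Quotient.mk R)
  rwa [map_add, map_mul, map_one] at this

/-- **Hironaka's criterion**, module form: for a module `G` over `A/R`, flatness over `A/R` is
equivalent to flatness of `G/QG` over `A/Q` together with regularity of the sequence, where
`Q = R + (fs)` and `fs` is a sequence in the radical, regular on `A/R`. -/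
theorem flat_iff (A : Type u) [CommRing A] [IsNoetherianRing A] (R : Ideal A) (fs : List A)
    (hrad : ∀ x ∈ fs, x ∈ (⊥ : Ideal A).jacobson)
    (hreg : IsWeaklyRegular (A ⧸ R) fs) (J : Ideal A) (hJ : J = Ideal.ofList fs)
    (G : Type u) [AddCommGroup G] [Module A G] [Module (A ⧸ R) G] [IsScalarTower A (A ⧸ R) G]
    [Module.Finite A G] :
    Module.Flat (A ⧸ R) G ↔
      Module.Flat (A ⧸ R ⊔ J) (G ⧸ (R ⊔ J) • (⊤ : Submodule A G)) ∧ IsWeaklyRegular G fs := by
  have hfs' : J.map (Ideal.Quotient.mk R) = Ideal.ofList (fs.map (algebraMap A (A ⧸ R))) := by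
    rw [hJ, Ideal.map_ofList]
    rfl
  have hreg' : IsWeaklyRegular (A ⧸ R) (fs.map (algebraMap A (A ⧸ R))) :=
    (isWeaklyRegular_map_algebraMap_iff (A ⧸ R) (A ⧸ R) fs).mpr hreg
  haveI hfin : Module.Finite (A ⧸ R) G := Module.Finite.of_restrictScalars_finite A (A ⧸ R) G
  rw [← flat_quotient_sup_iff R J G]
  constructor
  · intro hflat
    have := hflat
    refine ⟨inferInstance, ?_⟩
    exact (isWeaklyRegular_map_algebraMap_iff (A ⧸ R) G fs).mp (isWeaklyRegular_of_flat _ hreg')
  · rintro ⟨hflat, hregG⟩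
    have := hflat
    have hregG' : IsWeaklyRegular G (fs.map (algebraMap A (A ⧸ R))) :=
      (isWeaklyRegular_map_algebraMap_iff (A ⧸ R) G fs).mpr hregG
    refine flat_of_isWeaklyRegular (fs.map (algebraMap A (A ⧸ R))) ?_ hregG'
      (J.map (Ideal.Quotient.mk R)) hfs'
    intro x hx
    obtain ⟨a, ha, rfl⟩ := List.mem_map.mp hx
    exact mk_mem_jacobson_bot R (hrad a ha)

end Main

end Groth.Agent.Lead.NFReg
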