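import Mathlib
import Groth.Agent.Lib.Lead.Depth14
import Groth.Agent.Lib.Lead.RLR2
import Groth.Agent.Lib.Lead.Hom9
import Groth.Agent.Lib.Lead.NFReg

/-!
# Miracle flatness

A Cohen–Macaulay module over a local ring `B`, along a local homomorphism `A → B` from a regular
local ring, with `dim M = dim A + dim M / m_A M`, is flat over `A`.
-/

set_option autoImplicit false
set_option linter.style.haveILetI false
universe u

open TensorProduct RingTheory.Sequence IsLocalRing LocCoh Pointwise

namespace Groth.Agent.Lead.Miracle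

open Groth.Agent.Lead.Depth

section Arith

theorem arith {a n' n'' : WithBot ℕ∞} {l m : ℕ} (ha : a = (m : WithBot ℕ∞))
    (h1 : n'' + ((l + 1 : ℕ) : WithBot ℕ∞) = a) (h2 : n' ≤ n'' + (l : WithBot ℕ∞))
    (h3 : a ≤ n' + 1) :
    n' + 1 = a ∧ n'' + (l : WithBot ℕ∞) = n' := by
  subst ha
  induction n'' using WithBot.recBotCoe with
  | bot =>
    rw [WithBot.bot_add] at h1
    exact absurd h1 (by simp)
  | coe e =>
    induction n' using WithBot.recBotCoe with
    | bot =>
      rw [WithBot.bot_add] at h3
      exact absurd h3 (by simp)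
    | coe f =>
      have h1' : e + ((l + 1 : ℕ) : ℕ∞) = (m : ℕ∞) := by exact_mod_cast h1
      have h2' : f ≤ e + (l : ℕ∞) := by exact_mod_cast h2
      have h3' : (m : ℕ∞) ≤ f + 1 := by exact_mod_cast h3
      have he : e ≠ ⊤ := by
        rintro rfl
        rw [top_add] at h1'
        exact absurd h1' (ENat.top_ne_coe m)
      lift e to ℕ using he
      have hf : f ≠ ⊤ := by
        rintro rfl
        have h4 : (⊤ : ℕ∞) ≤ ((e + l : ℕ) : ℕ∞) := by exact_mod_cast h2'
        exact (ENat.coe_lt_top (e + l)).not_ge h4
      lift f to ℕ using hf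
      have h1'' : e + (l + 1) = m := by exact_mod_cast h1'
      have h2'' : f ≤ e + l := by exact_mod_cast h2'
      have h3'' : m ≤ f + 1 := by exact_mod_cast h3'
      have hf' : f + 1 = m := by omega
      have he' : e + l = f := by omega
      constructor
      · exact_mod_cast hf'
      · exact_mod_cast he'

end Arith

section Drop

variable {R : Type u} [CommRing R] [IsLocalRing R] [IsNoetherianRing R]

/-- `dim M ≤ dim M/(rs)M + length rs` for a sequence in the maximal ideal. -/
theorem supportDim_le_add_length (rs : List R) :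
    ∀ (M : Type u) [AddCommGroup M] [Module R M] [Module.Finite R M],
      (∀ r ∈ rs, r ∈ maximalIdeal R) →
      Module.supportDim R M ≤
        Module.supportDim R (M ⧸ Ideal.ofList rs • (⊤ : Submodule R M)) +
          (rs.length : WithBot ℕ∞) := by
  induction rs with
  | nil =>
    intro M _ _ _ _
    rw [List.length_nil, Nat.cast_zero, add_zero]
    have h0 : Ideal.ofList ([] : List R) • (⊤ : Submodule R M) = ⊥ := by
      rw [Ideal.ofList_nil, Submodule.bot_smul]
    exact le_of_eq (Module.supportDim_eq_of_equiv (Submodule.quotEquivOfEqBot _ h0).symm)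
  | cons x rs ih =>
    intro M _ _ _ hmem
    have hx : x ∈ maximalIdeal R := hmem x List.mem_cons_self
    have hrs : ∀ r ∈ rs, r ∈ maximalIdeal R := fun r hr => hmem r (List.mem_cons_of_mem _ hr)
    have h1 := Module.supportDim_le_supportDim_quotSMulTop_succ (R := R) (M := M) hx
    have h2 := ih (QuotSMulTop x M) hrs
    have h3 := Module.supportDim_eq_of_equiv
      (Submodule.quotOfListConsSMulTopEquivQuotSMulTopInner M x rs)
    rw [h3, List.length_cons, Nat.cast_add, Nat.cast_one, ← add_assoc]
    exact h1.trans (add_le_add h2 le_rfl)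

/-- For a Cohen–Macaulay module, a sequence in the maximal ideal cutting the dimension down by its
length is a regular sequence. -/
theorem isWeaklyRegular_of_supportDim_drop (rs : List R) :
    ∀ (M : Type u) [AddCommGroup M] [Module R M] [Module.Finite R M],
      LocCoh.IsCohenMacaulayModule R M → (∀ r ∈ rs, r ∈ maximalIdeal R) →
      Module.supportDim R (M ⧸ Ideal.ofList rs • (⊤ : Submodule R M)) +
          (rs.length : WithBot ℕ∞) = Module.supportDim R M →
      IsWeaklyRegular M rs := by
  induction rs with
  | nil =>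
    intro M _ _ _ _ _ _
    exact IsWeaklyRegular.nil R M
  | cons x rs ih =>
    intro M _ _ _ hCM hmem hdim
    have hx : x ∈ maximalIdeal R := hmem x List.mem_cons_self
    have hrs : ∀ r ∈ rs, r ∈ maximalIdeal R := fun r hr => hmem r (List.mem_cons_of_mem _ hr)
    haveI : Nontrivial M := nontrivial_of_isCohenMacaulayModule M hCM
    obtain ⟨m, hm⟩ := exists_nat_supportDim (R := R) M
    have h3 := Module.supportDim_eq_of_equiv
      (Submodule.quotOfListConsSMulTopEquivQuotSMulTopInner M x rs)
    rw [h3, List.length_cons] at hdim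
    have hA := supportDim_le_add_length rs (QuotSMulTop x M) hrs
    have hB := Module.supportDim_le_supportDim_quotSMulTop_succ (R := R) (M := M) hx
    obtain ⟨e1, e2⟩ := arith hm hdim hA hB
    have e1' : Module.supportDim R (M ⧸ Ideal.span {x} • (⊤ : Submodule R M)) + 1 =
        Module.supportDim R M := by
      rw [Module.supportDim_eq_of_equiv (quotSpanSingletonEquiv M x)]
      exact e1
    obtain ⟨hreg, hCM', -⟩ := cohenMacaulay_quotient_of_supportDim_drop M hCM x hx e1'
    have hCM'' : LocCoh.IsCohenMacaulayModule R (QuotSMulTop x M) := by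
      unfold LocCoh.IsCohenMacaulayModule at hCM' ⊢
      rw [← Module.supportDim_eq_of_equiv (quotSpanSingletonEquiv M x),
        ← depth_congr (quotSpanSingletonEquiv M x)]
      exact hCM'
    rw [isWeaklyRegular_cons_iff]
    exact ⟨hreg, ih (QuotSMulTop x M) hCM'' hrs e2⟩

end Drop

section Main

/-- **Miracle flatness**, module form. -/
theorem flat_of_isCohenMacaulayModule (A B : Type u) [CommRing A] [CommRing B]
    [IsRegularLocalRing A] [IsNoetherianRing B] [IsLocalRing B] [Algebra A B]
    [IsLocalHom (algebraMap A B)]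
    (M : Type u) [AddCommGroup M] [Module B M] [Module A M] [IsScalarTower A B M]
    [Module.Finite B M] (hCM : LocCoh.IsCohenMacaulayModule B M)
    (hdim : Module.supportDim B M = ringKrullDim A +
      Module.supportDim B
        (M ⧸ ((maximalIdeal A).map (algebraMap A B)) • (⊤ : Submodule B M))) :
    Module.Flat A M := by
  obtain ⟨x, hx⟩ := Groth.Agent.Lead.Hom.exists_generators_maximalIdeal (R := A)
  have hd : ringKrullDim A = ((maximalIdeal A).spanFinrank : ℕ) :=
    (IsRegularLocalRing.spanFinrank_maximalIdeal (R := A)).symm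
  obtain ⟨xs, hxs⟩ : ∃ xs : List A, xs = List.ofFn x := ⟨_, rfl⟩
  have hI : Ideal.ofList xs = maximalIdeal A := by
    rw [hxs]
    refine Eq.trans ?_ hx
    unfold Ideal.ofList
    congr 1
    ext z
    simp only [Set.mem_setOf_eq, List.mem_ofFn, Set.mem_range]
  have hlen : xs.length = (maximalIdeal A).spanFinrank := by rw [hxs, List.length_ofFn]
  obtain ⟨ys, hys⟩ : ∃ ys : List B, ys = xs.map (algebraMap A B) := ⟨_, rfl⟩
  have hJ : Ideal.ofList ys = (maximalIdeal A).map (algebraMap A B) := by
    rw [hys, ← Ideal.map_ofList, hI]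
  have hymem : ∀ r ∈ ys, r ∈ maximalIdeal B := by
    intro r hr
    have h1 : r ∈ Ideal.ofList ys := Ideal.subset_span hr
    rw [hJ] at h1
    exact IsLocalRing.map_maximalIdeal_le (algebraMap A B) h1
  have hdim' : Module.supportDim B (M ⧸ Ideal.ofList ys • (⊤ : Submodule B M)) +
      (ys.length : WithBot ℕ∞) = Module.supportDim B M := by
    have e := Module.supportDim_eq_of_equiv
      (Submodule.quotEquivOfEq (Ideal.ofList ys • (⊤ : Submodule B M))
        (((maximalIdeal A).map (algebraMap A B)) • (⊤ : Submodule B M)) (by rw [hJ]))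
    rw [e, hdim, hd, hys, List.length_map, hlen]
    exact add_comm _ _
  have hregM : IsWeaklyRegular M ys :=
    isWeaklyRegular_of_supportDim_drop ys M hCM hymem hdim'
  have hregMA : IsWeaklyRegular M xs := by
    rw [hys] at hregM
    exact (isWeaklyRegular_map_algebraMap_iff B M xs).mp hregM
  have H1 : Function.Injective ((Ideal.ofList xs).subtype.rTensor M) :=
    Groth.Agent.Lead.NFReg.rTensor_injective_of_isWeaklyRegular xs hregMA
  rw [hI] at H1
  letI : Field (A ⧸ maximalIdeal A) := Ideal.Quotient.field (maximalIdeal A)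
  haveI : Module.Flat (A ⧸ maximalIdeal A) ((A ⧸ maximalIdeal A) ⊗[A] M) := inferInstance
  refine Groth.Agent.Helper1.flat_of_flat_quotient_pow (R := A) (S := B) (M := M)
    (maximalIdeal A) ?_
    (fun n _ => Groth.Agent.Helper1.flat_quotient_pow (maximalIdeal A) H1 n)
  rw [IsLocalRing.jacobson_eq_maximalIdeal ⊥ bot_ne_top]
  exact IsLocalRing.map_maximalIdeal_le (algebraMap A B)

end Main

end Groth.Agent.Lead.Miracle
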