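import Groth.Prelude.Def_RefHull
import Mathlib

/-!
# Sections of the concrete sheaf Hom `RefHull.homSh` (lead)

General calculus (no quasi-coherence): extensionality, gluing of sections of a module from
germs, and evaluation `evalSec g m` of a section of `homSh F G` at a section of `F`.
-/

set_option autoImplicit false
universe u
open CategoryTheory CategoryTheory.Limits AlgebraicGeometry Opposite TopologicalSpace
open RefHull

namespace Groth.Agent.Lead.HomSh

variable {X : Scheme.{u}}

/-- a section of a module is determined by its germs -/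
theorem sec_ext' (G : X.Modules) {W : X.Opens} (s t : Γ(G, W))
    (h : ∀ y : W, G.presheaf.germ W y.1 y.2 s = G.presheaf.germ W y.1 y.2 t) : s = t :=
  TopCat.Presheaf.section_ext ⟨G.presheaf, G.isSheaf⟩ W s t (fun x hx => h ⟨x, hx⟩)

/-- a family of germs which is locally the family of germs of a section is globally so. -/
theorem exists_glue (G : X.Modules) (W : X.Opens) (t : ∀ y : W, G.presheaf.stalk y.1)
    (h : ∀ y : W, ∃ (W' : X.Opens) (_ : y.1 ∈ W') (j : W' ⟶ W) (n : Γ(G, W')),
      ∀ z : W', G.presheaf.germ W' z.1 z.2 n = t ⟨z.1, j.le z.2⟩) :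
    ∃ n : Γ(G, W), ∀ y : W, G.presheaf.germ W y.1 y.2 n = t y := by
  choose W' hy j n hn using h
  have hcompat : TopCat.Presheaf.IsCompatible G.presheaf W' n := by
    intro i k
    apply sec_ext' G
    intro z
    rw [TopCat.Presheaf.germ_res_apply, TopCat.Presheaf.germ_res_apply]
    rw [hn i ⟨z.1, z.2.1⟩, hn k ⟨z.1, z.2.2⟩]
  obtain ⟨s, hs, -⟩ := TopCat.Sheaf.existsUnique_gluing'
    (⟨G.presheaf, G.isSheaf⟩ : TopCat.Sheaf Ab X) W' W j
    (fun y hyW => Opens.mem_iSup.2 ⟨⟨y, hyW⟩, hy ⟨y, hyW⟩⟩) n hcompat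
  refine ⟨s, fun y => ?_⟩
  have h1 : G.presheaf.map (j y).op s = n y := hs y
  rw [← TopCat.Presheaf.germ_res_apply G.presheaf (j y) y.1 (hy y) s, h1]
  exact hn y ⟨y.1, hy y⟩

variable {F G : X.Modules}

theorem sec_ext {U : X.Opens} {g h : Γ(homSh F G, U)} (H : ∀ y : U, g.1 y = h.1 y) : g = h :=
  Subtype.ext (funext H)

theorem map_apply {U V : X.Opens} (i : V ⟶ U) (g : Γ(homSh F G, U)) (y : V) :
    ((homSh F G).presheaf.map i.op g).1 y = g.1 ⟨y.1, i.le y.2⟩ := rfl

theorem smul_apply {U : X.Opens} (r : Γ(X, U)) (g : Γ(homSh F G, U)) (y : U) :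
    (r • g).1 y = X.presheaf.germ U y.1 y.2 r • g.1 y := rfl

theorem add_apply {U : X.Opens} (g h : Γ(homSh F G, U)) (y : U) :
    (g + h).1 y = g.1 y + h.1 y := rfl

theorem zero_apply {U : X.Opens} (y : U) :
    (0 : Γ(homSh F G, U)).1 y = 0 := rfl

theorem exists_evalSec {W : X.Opens} (g : Γ(homSh F G, W)) (m : Γ(F, W)) :
    ∃ n : Γ(G, W), ∀ y : W, G.presheaf.germ W y.1 y.2 n =
      g.1 y (F.presheaf.germ W y.1 y.2 m) := by
  apply exists_glue G W (fun y => g.1 y (F.presheaf.germ W y.1 y.2 m))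
  intro y
  obtain ⟨W', hyW', j, n, hn⟩ := isLocSect_of_mem g W (𝟙 W) m y
  exact ⟨W', hyW', j, n, fun z => (hn z).symm⟩

/-- evaluation of a section of the sheaf Hom at a section of the source. -/
noncomputable def evalSec {W : X.Opens} (g : Γ(homSh F G, W)) (m : Γ(F, W)) : Γ(G, W) :=
  (exists_evalSec g m).choose

theorem germ_evalSec {W : X.Opens} (g : Γ(homSh F G, W)) (m : Γ(F, W)) (y : X) (hy : y ∈ W) :
    G.presheaf.germ W y hy (evalSec g m) = g.1 ⟨y, hy⟩ (F.presheaf.germ W y hy m) :=
  (exists_evalSec g m).choose_spec ⟨y, hy⟩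

theorem evalSec_add_right {W : X.Opens} (g : Γ(homSh F G, W)) (m m' : Γ(F, W)) :
    evalSec g (m + m') = evalSec g m + evalSec g m' := by
  apply sec_ext' G
  intro y
  rw [map_add, germ_evalSec, germ_evalSec, germ_evalSec, map_add, map_add]

theorem evalSec_add_left {W : X.Opens} (g g' : Γ(homSh F G, W)) (m : Γ(F, W)) :
    evalSec (g + g') m = evalSec g m + evalSec g' m := by
  apply sec_ext' G
  intro y
  rw [map_add, germ_evalSec, germ_evalSec, germ_evalSec, add_apply, LinearMap.add_apply]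

theorem evalSec_zero_left {W : X.Opens} (m : Γ(F, W)) :
    evalSec (0 : Γ(homSh F G, W)) m = 0 := by
  apply sec_ext' G
  intro y
  rw [germ_evalSec, zero_apply, LinearMap.zero_apply, map_zero]

theorem evalSec_smul_right {W : X.Opens} (g : Γ(homSh F G, W)) (r : Γ(X, W)) (m : Γ(F, W)) :
    evalSec g (r • m) = r • evalSec g m := by
  apply sec_ext' G
  intro y
  rw [Mero.germ_smul, germ_evalSec, germ_evalSec, Mero.germ_smul, map_smul]

theorem evalSec_smul_left {W : X.Opens} (g : Γ(homSh F G, W)) (r : Γ(X, W)) (m : Γ(F, W)) :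
    evalSec (r • g) m = r • evalSec g m := by
  apply sec_ext' G
  intro y
  rw [Mero.germ_smul, germ_evalSec, germ_evalSec, smul_apply, LinearMap.smul_apply]

theorem evalSec_res {W W' : X.Opens} (i : W' ⟶ W) (g : Γ(homSh F G, W)) (m : Γ(F, W)) :
    G.presheaf.map i.op (evalSec g m) =
      evalSec ((homSh F G).presheaf.map i.op g) (F.presheaf.map i.op m) := by
  apply sec_ext' G
  intro y
  rw [TopCat.Presheaf.germ_res_apply, germ_evalSec, germ_evalSec, map_apply,
    TopCat.Presheaf.germ_res_apply]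

/-- a section of the sheaf Hom vanishing (through `evalSec`) on a family of sections generating
all stalks is zero. -/
theorem eq_zero_of_evalSec_eq_zero {W : X.Opens} (g : Γ(homSh F G, W)) {I : Type*}
    (m : I → Γ(F, W))
    (hm : ∀ y : W, Submodule.span (X.presheaf.stalk y.1)
      (Set.range fun i => F.presheaf.germ W y.1 y.2 (m i)) = ⊤)
    (h0 : ∀ i, evalSec g (m i) = 0) : g = 0 := by
  apply sec_ext
  intro y
  rw [zero_apply]
  apply LinearMap.ext_on_range (hm y)
  intro i
  rw [LinearMap.zero_apply, ← germ_evalSec g (m i) y.1 y.2, h0 i, map_zero]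

end Groth.Agent.Lead.HomSh
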