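import Groth.Agent.Lib.Lead.HomSh3
import Groth.Agent.Lib.Helper6.QcohLocal
import Groth.Agent.Lib.Helper13.FinAffine2

/-!
# Quasi-coherence and coherence of the sheaf Hom `RefHull.homSh F G` (lead)
-/

set_option autoImplicit false
universe u
open CategoryTheory CategoryTheory.Limits AlgebraicGeometry Opposite TopologicalSpace
open RefHull
open Groth.Agent.Helper13.QCoh Groth.Agent.Helper13.QCohLoc Groth.Agent.Helper13.LocFree
open Groth.Agent.Helper13.FinType

namespace Groth.Agent.Lead.HomSh

variable {X : Scheme.{u}} {F G : X.Modules}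

/-- (E): sections of the sheaf Hom over a basic open extend after multiplying by a power. -/
theorem homSh_exists_pow_smul_eq_res
    [SheafOfModules.IsFinitePresentation (R := X.ringCatSheaf) F] [G.IsQuasicoherent]
    {V : X.Opens} (hV : IsAffineOpen V) (r : Γ(X, V)) (g : Γ(homSh F G, X.basicOpen r)) :
    ∃ (n : ℕ) (h : Γ(homSh F G, V)),
      (X.presheaf.map (homOfLE (X.basicOpen_le r)).op r) ^ n • g =
        (homSh F G).presheaf.map (homOfLE (X.basicOpen_le r)).op h := by
  haveI : Module.FinitePresentation Γ(X, V) Γ(F, V) :=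
    finitePresentation_sections_of_isFinitePresentation F hV
  letI := modBasicOpen G r
  haveI := isLocalizedModule_basicOpen G hV r
  let Ψ : Γ(F, V) →ₗ[Γ(X, V)] Γ(G, X.basicOpen r) :=
    { toFun := fun m => evalSec g (F.presheaf.map (homOfLE (X.basicOpen_le r)).op m)
      map_add' := fun a b => by rw [map_add, evalSec_add_right]
      map_smul' := fun a m => by
        rw [res_smul, evalSec_smul_right]
        rfl }
  obtain ⟨Φ, ⟨_, n, rfl⟩, hΦ⟩ := Module.FinitePresentation.exists_lift_of_isLocalizedModule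
    (Submonoid.powers r) (resBasicOpen G r) Ψ
  obtain ⟨h, hh⟩ := exists_secOfLin (G := G) hV (le_refl V) Φ.toAddMonoidHom (fun a m => by
    change Φ (a • m) = _
    rw [map_smul]
    congr 1
    exact (res_id_apply' _ a).symm)
  refine ⟨n, h, ?_⟩
  apply sec_ext
  intro y
  have hyV : y.1 ∈ V := X.basicOpen_le r y.2
  apply stalkHom_ext hV y.1 hyV
  intro m
  have h1 : resBasicOpen G r (Φ m) = (r ^ n) • Ψ m := by
    have := LinearMap.congr_fun hΦ m
    simpa [Submonoid.smul_def] using this
  have h2 := congrArg (G.presheaf.germ (X.basicOpen r) y.1 y.2) h1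
  rw [resBasicOpen_apply, TopCat.Presheaf.germ_res_apply] at h2
  have h3 : (r ^ n) • Ψ m = X.presheaf.map (homOfLE (X.basicOpen_le r)).op (r ^ n) • Ψ m := rfl
  rw [h3, Mero.germ_smul] at h2
  have h4 : Ψ m = evalSec g (F.presheaf.map (homOfLE (X.basicOpen_le r)).op m) := rfl
  rw [h4, germ_evalSec] at h2
  simp only [TopCat.Presheaf.germ_res_apply, map_pow] at h2
  rw [smul_apply, LinearMap.smul_apply, map_apply]
  simp only [TopCat.Presheaf.germ_res_apply, map_pow]
  have h5 := hh ⟨y.1, hyV⟩ m
  dsimp only at h5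
  rw [h5]
  exact h2.symm

/-- (U0): a section of the sheaf Hom over an affine open vanishing on a basic open is killed by a
power. -/
theorem homSh_exists_pow_smul_eq_zero
    [F.IsQuasicoherent] [SheafOfModules.IsFiniteType (R := X.ringCatSheaf) F] [G.IsQuasicoherent]
    {V : X.Opens} (hV : IsAffineOpen V) (r : Γ(X, V)) (h : Γ(homSh F G, V))
    (h0 : (homSh F G).presheaf.map (homOfLE (X.basicOpen_le r)).op h = 0) :
    ∃ n : ℕ, r ^ n • h = 0 := by
  classical
  obtain ⟨I, hI, m, hm⟩ := exists_finite_genOn_of_isFiniteType F hV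
  haveI := Fintype.ofFinite I
  have key : ∀ i, ∃ n : ℕ, r ^ n • evalSec h (m i) = 0 := by
    intro i
    apply exists_pow_smul_eq_zero G hV r
    rw [evalSec_res, h0, evalSec_zero_left]
  choose n hn using key
  refine ⟨∑ i, n i, ?_⟩
  apply eq_zero_of_evalSec_eq_zero _ m (fun y => hm y.1 y.2)
  intro i
  rw [evalSec_smul_left, ← Finset.sum_erase_add _ _ (Finset.mem_univ i), pow_add, mul_smul, hn i,
    smul_zero]

theorem isQuasicoherent_homSh
    [SheafOfModules.IsFinitePresentation (R := X.ringCatSheaf) F] [G.IsQuasicoherent] :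
    (homSh F G).IsQuasicoherent := by
  apply Groth.Agent.Helper6.QcohLocal.isQuasicoherent_of_affineOpens (homSh F G)
    (fun V : X.affineOpens => V.1) (fun V => V.2)
  · intro x
    obtain ⟨_, ⟨V, hV, rfl⟩, hxV, -⟩ := X.isBasis_affineOpens.exists_subset_of_mem_open
      (Set.mem_univ x) isOpen_univ
    exact ⟨⟨V, hV⟩, hxV⟩
  · rintro V r W U' rfl hW rfl s
    exact homSh_exists_pow_smul_eq_res V.2 r s
  · rintro V r W U' rfl hW rfl t ht
    obtain ⟨n, hn⟩ := homSh_exists_pow_smul_eq_zero V.2 r t ht
    refine ⟨n, ?_⟩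
    rw [res_id_apply']
    exact hn

/-- sections of the sheaf Hom of coherent modules over an affine open of a locally Noetherian
scheme form a finite module. -/
theorem finite_sections_homSh [IsLocallyNoetherian X]
    [F.IsQuasicoherent] [SheafOfModules.IsFiniteType (R := X.ringCatSheaf) F]
    [G.IsQuasicoherent] [SheafOfModules.IsFiniteType (R := X.ringCatSheaf) G]
    {V : X.Opens} (hV : IsAffineOpen V) : Module.Finite Γ(X, V) Γ(homSh F G, V) := by
  classical
  obtain ⟨I, hI, m, hm⟩ := exists_finite_genOn_of_isFiniteType F hV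
  haveI := Fintype.ofFinite I
  haveI : IsNoetherianRing Γ(X, V) := IsLocallyNoetherian.component_noetherian ⟨V, hV⟩
  haveI : Module.Finite Γ(X, V) Γ(G, V) := finite_sections_of_isFiniteType G hV
  let ev : Γ(homSh F G, V) →ₗ[Γ(X, V)] (I → Γ(G, V)) :=
    { toFun := fun g i => evalSec g (m i)
      map_add' := fun a b => by
        funext i
        exact evalSec_add_left a b (m i)
      map_smul' := fun a b => by
        funext i
        exact evalSec_smul_left b a (m i) }
  have hinj : Function.Injective ev := by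
    rw [← LinearMap.ker_eq_bot, LinearMap.ker_eq_bot']
    intro g hg
    apply eq_zero_of_evalSec_eq_zero g m (fun y => hm y.1 y.2)
    intro i
    exact congrFun hg i
  exact Module.Finite.of_injective ev hinj

theorem isFinitePresentation_of_isCoh [IsLocallyNoetherian X] (hF : Coh.IsCoh F) :
    SheafOfModules.IsFinitePresentation (R := X.ringCatSheaf) F := by
  haveI : F.IsQuasicoherent := hF.1
  haveI : SheafOfModules.IsFiniteType (R := X.ringCatSheaf) F := hF.2
  apply isFinitePresentation_of_finitePresentation_sections F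
  intro x
  obtain ⟨_, ⟨V, hV, rfl⟩, hxV, -⟩ := X.isBasis_affineOpens.exists_subset_of_mem_open
    (Set.mem_univ x) isOpen_univ
  haveI : IsNoetherianRing Γ(X, V) := IsLocallyNoetherian.component_noetherian ⟨V, hV⟩
  haveI : Module.Finite Γ(X, V) Γ(F, V) := finite_sections_of_isFiniteType F hV
  exact ⟨V, hV, hxV, Module.finitePresentation_of_finite _ _⟩

/-- the sheaf Hom of coherent modules on a locally Noetherian scheme is coherent. -/
theorem isCoh_homSh [IsLocallyNoetherian X] (hF : Coh.IsCoh F) (hG : Coh.IsCoh G) :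
    Coh.IsCoh (homSh F G) := by
  haveI := isFinitePresentation_of_isCoh hF
  haveI : G.IsQuasicoherent := hG.1
  haveI : SheafOfModules.IsFiniteType (R := X.ringCatSheaf) G := hG.2
  haveI : (homSh F G).IsQuasicoherent := isQuasicoherent_homSh
  refine ⟨inferInstance, ?_⟩
  apply isFiniteType_of_finite_sections (homSh F G)
  intro x
  obtain ⟨_, ⟨V, hV, rfl⟩, hxV, -⟩ := X.isBasis_affineOpens.exists_subset_of_mem_open
    (Set.mem_univ x) isOpen_univ
  exact ⟨V, hxV, hV, finite_sections_homSh hV⟩

end Groth.Agent.Lead.HomSh
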