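import Groth.Agent.Lib.Lead.HomSh1
import Groth.Agent.Lib.Helper13.QCohLoc

/-!
# Sections of `RefHull.homSh` out of a quasi-coherent module over an affine open (lead)
-/

set_option autoImplicit false
universe u
open CategoryTheory CategoryTheory.Limits AlgebraicGeometry Opposite TopologicalSpace
open RefHull
open Groth.Agent.Helper13.QCoh Groth.Agent.Helper13.QCohLoc

namespace Groth.Agent.Lead.HomSh

/-- algebra: extension of a linear map through a localization, linear over the localized ring -/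
theorem exists_lift_loc {A : Type u} [CommRing A] (S : Submonoid A) (O : Type u) [CommRing O]
    [Algebra A O] [IsLocalization S O]
    {M Fy Gy : Type u} [AddCommGroup M] [Module A M] [AddCommGroup Fy] [Module A Fy] [Module O Fy]
    [IsScalarTower A O Fy] [AddCommGroup Gy] [Module A Gy] [Module O Gy] [IsScalarTower A O Gy]
    (germ : M →ₗ[A] Fy) [IsLocalizedModule S germ] (ψ : M →ₗ[A] Gy) :
    ∃ f : Fy →ₗ[O] Gy, ∀ m, f (germ m) = ψ m := by
  have hunit : ∀ s : S, IsUnit (algebraMap A (Module.End A Gy) s) := by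
    intro s
    rw [Module.End.isUnit_iff]
    obtain ⟨u, hu⟩ := IsLocalization.map_units O s
    constructor
    · intro a b hab
      have hab' : (s : A) • a = (s : A) • b := hab
      have h1 : (u : O) • a = (u : O) • b := by
        rw [hu, algebraMap_smul, algebraMap_smul]
        exact hab'
      have h2 := congrArg (fun z => (↑u⁻¹ : O) • z) h1
      simpa [smul_smul] using h2
    · intro b
      refine ⟨(↑u⁻¹ : O) • b, ?_⟩
      change (s : A) • ((↑u⁻¹ : O) • b) = b
      rw [← algebraMap_smul O (s : A), ← hu, smul_smul, Units.mul_inv, one_smul]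
  refine ⟨LinearMap.extendScalarsOfIsLocalization S O (IsLocalizedModule.lift S germ ψ hunit),
    fun m => ?_⟩
  rw [LinearMap.extendScalarsOfIsLocalization_apply']
  exact IsLocalizedModule.lift_apply S germ ψ hunit m

variable {X : Scheme.{u}} {F G : X.Modules}

/-- stalk maps out of a quasi-coherent module are determined on germs of sections over an affine
open neighbourhood. -/
theorem stalkHom_ext [F.IsQuasicoherent] {V : X.Opens} (hV : IsAffineOpen V) (y : X) (hy : y ∈ V)
    (f f' : StalkHom F G y)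
    (h : ∀ m : Γ(F, V), f (F.presheaf.germ V y hy m) = f' (F.presheaf.germ V y hy m)) :
    f = f' := by
  apply LinearMap.ext
  intro v
  obtain ⟨g, hyg, t, ht⟩ := exists_germ_smul_eq F hV y hy v
  obtain ⟨u, hu⟩ := (X.mem_basicOpen g y hy).1 hyg
  have hv : v = ((u⁻¹ : (X.presheaf.stalk y)ˣ) : X.presheaf.stalk y) •
      F.presheaf.germ V y hy t := by
    rw [← ht, ← hu, smul_smul, Units.inv_mul, one_smul]
  rw [hv, map_smul, map_smul, h t]

theorem exists_stalkHom [F.IsQuasicoherent] {V W : X.Opens} (hV : IsAffineOpen V) (hWV : W ≤ V)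
    (Ψ : Γ(F, V) →+ Γ(G, W))
    (hΨ : ∀ (a : Γ(X, V)) (m : Γ(F, V)),
      Ψ (a • m) = X.presheaf.map (homOfLE hWV).op a • Ψ m)
    (y : W) : ∃ f : StalkHom F G y.1, ∀ m : Γ(F, V),
      f (F.presheaf.germ V y.1 (hWV y.2) m) = G.presheaf.germ W y.1 y.2 (Ψ m) := by
  let yV : V := ⟨y.1, hWV y.2⟩
  letI := modStalk F yV
  letI := modStalk G yV
  haveI := isScalarTower_stalk F yV
  haveI := isScalarTower_stalk G yV
  haveI := isLocalizedModule_germ F hV yV
  haveI : IsLocalization (hV.primeIdealOf yV).asIdeal.primeCompl (X.presheaf.stalk (yV : X)) :=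
    hV.isLocalization_stalk yV
  let ψ : Γ(F, V) →ₗ[Γ(X, V)] G.presheaf.stalk (yV : X) :=
    { toFun := fun m => G.presheaf.germ W y.1 y.2 (Ψ m)
      map_add' := fun a b => by rw [map_add, map_add]
      map_smul' := fun a m => by
        rw [hΨ, Mero.germ_smul, TopCat.Presheaf.germ_res_apply]
        rfl }
  obtain ⟨f, hf⟩ := exists_lift_loc (hV.primeIdealOf yV).asIdeal.primeCompl
    (X.presheaf.stalk (yV : X)) (germLin F yV) ψ
  exact ⟨f, fun m => hf m⟩

/-- **Sections of the sheaf Hom from semilinear maps.** For `F` quasi-coherent, `V` affine and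
`W ≤ V` open, an additive map `Γ(F, V) → Γ(G, W)` which is semilinear over the restriction
`Γ(X, V) → Γ(X, W)` defines a section of `homSh F G` over `W`. -/
theorem exists_secOfLin [F.IsQuasicoherent] {V W : X.Opens} (hV : IsAffineOpen V) (hWV : W ≤ V)
    (Ψ : Γ(F, V) →+ Γ(G, W))
    (hΨ : ∀ (a : Γ(X, V)) (m : Γ(F, V)),
      Ψ (a • m) = X.presheaf.map (homOfLE hWV).op a • Ψ m) :
    ∃ g : Γ(homSh F G, W), ∀ (y : W) (m : Γ(F, V)),
      g.1 y (F.presheaf.germ V y.1 (hWV y.2) m) = G.presheaf.germ W y.1 y.2 (Ψ m) := by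
  choose f hf using exists_stalkHom hV hWV Ψ hΨ
  refine ⟨⟨f, ?_⟩, hf⟩
  intro V'' i m' x
  obtain ⟨s, hsV'', hxs⟩ := hV.exists_basicOpen_le x (hWV (i.le x.2))
  have hDV : X.basicOpen s ≤ V := X.basicOpen_le s
  have hDW : X.basicOpen s ≤ W := hsV''.trans i.le
  obtain ⟨n, t, ht⟩ := exists_pow_smul_eq_res F hV s (F.presheaf.map (homOfLE hsV'').op m')
  obtain ⟨u, hu⟩ : IsUnit (X.presheaf.map (homOfLE (X.basicOpen_le s)).op s) :=
    RingedSpace.isUnit_res_basicOpen _ s
  refine ⟨X.basicOpen s, hxs, homOfLE hsV'',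
    ((↑(u⁻¹) : Γ(X, X.basicOpen s)) ^ n) • G.presheaf.map (homOfLE hDW).op (Ψ t), fun z => ?_⟩
  have hzW : z.1 ∈ W := hDW z.2
  have h1 : (X.presheaf.germ (X.basicOpen s) z.1 z.2 (↑u : Γ(X, X.basicOpen s))) ^ n •
      F.presheaf.germ V'' z.1 (hsV'' z.2) m' = F.presheaf.germ V z.1 (hDV z.2) t := by
    have h := congrArg (F.presheaf.germ (X.basicOpen s) z.1 z.2) ht
    rw [TopCat.Presheaf.germ_res_apply, Mero.germ_smul, TopCat.Presheaf.germ_res_apply,
      map_pow] at h
    rw [hu]
    exact h.symm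
  have h2 := hf ⟨z.1, hzW⟩ t
  rw [Mero.germ_smul, TopCat.Presheaf.germ_res_apply, map_pow]
  rw [← h2, ← h1, map_smul, smul_smul, ← mul_pow, ← map_mul, Units.inv_mul, map_one, one_pow,
    one_smul]

end Groth.Agent.Lead.HomSh
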