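import Groth.Agent.Lib.Lead.KerFree
import Groth.Agent.Lib.Lead.HomSh4
import Groth.Agent.Lib.Helper13.QCohKer
import Groth.Agent.Lib.Helper13.EpiStalk
import Groth.Agent.Lib.Helper13.ExtSheaf
import Groth.Agent.Lib.Helper5.FPC1

/-!
# Kernels of epimorphisms from finite locally free modules on regular schemes of dimension `≤ 2`
(lead)
-/

set_option autoImplicit false
universe u
open CategoryTheory CategoryTheory.Limits AlgebraicGeometry Opposite TopologicalSpace
open IsLocalRing
open Groth.Agent.Helper13.QCoh Groth.Agent.Helper13.FinType Groth.Agent.Helper13.LocFree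

namespace Groth.Agent.Lead.KerFree

variable {X : Scheme.{u}}

/-- the kernel of a morphism of coherent modules on a locally Noetherian scheme is coherent. -/
theorem isCoh_kernel [IsLocallyNoetherian X] {M N : X.Modules} (hM : Coh.IsCoh M)
    (hN : Coh.IsCoh N) (φ : M ⟶ N) : Coh.IsCoh (kernel φ) := by
  haveI : M.IsQuasicoherent := hM.1
  haveI : N.IsQuasicoherent := hN.1
  haveI : SheafOfModules.IsFiniteType (R := X.ringCatSheaf) M := hM.2
  haveI hq : (kernel φ).IsQuasicoherent := Groth.Agent.Helper13.QCohLocal.isQuasicoherent_kernel φ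
  refine ⟨hq, ?_⟩
  apply isFiniteType_of_finite_sections (kernel φ)
  intro x
  obtain ⟨_, ⟨U, hU, rfl⟩, hxU, -⟩ :=
    X.isBasis_affineOpens.exists_subset_of_mem_open (Set.mem_univ x) isOpen_univ
  refine ⟨U, hxU, hU, ?_⟩
  haveI : IsNoetherianRing Γ(X, U) := IsLocallyNoetherian.component_noetherian ⟨U, hU⟩
  haveI : Module.Finite Γ(X, U) Γ(M, U) := finite_sections_of_isFiniteType M hU
  let ι : Γ(kernel φ, U) →ₗ[Γ(X, U)] Γ(M, U) :=
    { toFun := fun t => (kernel.ι φ).app U t
      map_add' := fun a b => map_add _ a b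
      map_smul' := fun r t => Scheme.Modules.Hom.app_smul (kernel.ι φ) r t }
  have hinj : Function.Injective ι := (mono_iff_app_injective (kernel.ι φ)).1 inferInstance U
  exact Module.Finite.of_injective ι hinj

/-- **Kernels of epimorphisms from finite locally free modules.** -/
theorem isFinLocFree_kernel [IsLocallyNoetherian X]
    (hreg : ∀ x : X, IsRegularLocalRing (X.presheaf.stalk x))
    (hdim : ∀ x : X, ringKrullDim (X.presheaf.stalk x) ≤ 2)
    (M N : X.Modules) (hM : FlatMod.IsFinLocFree M) (hN : Coh.IsCoh N) (φ : M ⟶ N) [Epi φ]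
    (hdepth : ∀ x : X, (2 : WithBot ℕ∞) ≤ ringKrullDim (X.presheaf.stalk x) →
      1 ≤ LocCoh.depth (X.presheaf.stalk x) (N.presheaf.stalk x)) :
    FlatMod.IsFinLocFree (kernel φ) := by
  haveI hMq : M.IsQuasicoherent := Groth.Agent.Helper5.FPC.isQuasicoherent_of_isFinLocFree M hM
  haveI hMfp : SheafOfModules.IsFinitePresentation (R := X.ringCatSheaf) M :=
    isFinitePresentation_of_isFinLocFree M hM
  haveI hMft : SheafOfModules.IsFiniteType (R := X.ringCatSheaf) M := inferInstance
  haveI : N.IsQuasicoherent := hN.1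
  haveI : SheafOfModules.IsFiniteType (R := X.ringCatSheaf) N := hN.2
  have hK : Coh.IsCoh (kernel φ) := isCoh_kernel ⟨hMq, hMft⟩ hN φ
  haveI : (kernel φ).IsQuasicoherent := hK.1
  haveI : SheafOfModules.IsFiniteType (R := X.ringCatSheaf) (kernel φ) := hK.2
  have hKfp := Groth.Agent.Lead.HomSh.isFinitePresentation_of_isCoh hK
  refine @isFinLocFree_of_isFinitePresentation_of_free_stalks X (kernel φ) hK.1 hKfp ?_
  intro x
  haveI := hreg x
  haveI : Module.Finite (X.presheaf.stalk x) ((kernel φ).presheaf.stalk x) :=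
    finite_stalk_of_isFiniteType (kernel φ) x
  haveI : Module.Finite (X.presheaf.stalk x) (M.presheaf.stalk x) :=
    finite_stalk_of_isFiniteType M x
  haveI : Module.Finite (X.presheaf.stalk x) (N.presheaf.stalk x) :=
    finite_stalk_of_isFiniteType N x
  haveI : Module.Free (X.presheaf.stalk x) (M.presheaf.stalk x) :=
    free_stalk_of_isFinLocFree M hM x
  have hf : Function.Injective (stalkLinearMap (kernel.ι φ) x) :=
    Groth.Agent.Helper13.Ext.stalkMap_injective_of_mono (kernel.ι φ) x
  have hg : Function.Surjective (stalkLinearMap φ x) := stalkMap_surjective_of_epi φ x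
  have hS : (ShortComplex.mk (kernel.ι φ) φ (kernel.condition φ)).Exact :=
    ShortComplex.exact_of_f_is_kernel _ (kernelIsKernel φ)
  have hfg : Function.Exact (stalkLinearMap (kernel.ι φ) x) (stalkLinearMap φ x) := by
    intro m
    constructor
    · intro hm
      haveI : Mono (ShortComplex.mk (kernel.ι φ) φ (kernel.condition φ)).f :=
        inferInstanceAs (Mono (kernel.ι φ))
      obtain ⟨m₁, hm₁⟩ := stalk_exact_of_exact_of_mono
        (ShortComplex.mk (kernel.ι φ) φ (kernel.condition φ)) hS x m hm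
      exact ⟨m₁, hm₁⟩
    · rintro ⟨k, rfl⟩
      obtain ⟨U, hxU, t, rfl⟩ := TopCat.Presheaf.exists_germ_eq (kernel φ).presheaf k
      rw [stalkLinearMap_apply, stalkLinearMap_apply, stalkMap_germ, stalkMap_germ]
      have h2 := congrArg (fun g => g.app U) (kernel.condition φ)
      have h3 : φ.app U ((kernel.ι φ).app U t) = 0 := congr($h2 t)
      rw [h3, map_zero]
  exact free_of_exact (X.presheaf.stalk x) (hdim x) _ _ _ (stalkLinearMap (kernel.ι φ) x)
    (stalkLinearMap φ x) hf hg hfg (hdepth x)

end Groth.Agent.Lead.KerFree
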