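import Mathlib
import Groth.Agent.S1700
import Groth.Agent.Lib.Helper14.PuncAffE

set_option autoImplicit false
universe u
open CategoryTheory CategoryTheory.Limits AlgebraicGeometry TopologicalSpace

namespace Groth.Agent.Lead.EffCompl

/-- The reduced induced closed subscheme structure is reduced. -/
theorem isReduced_vanishingIdeal_subscheme {X : Scheme.{u}} (Z : TopologicalSpace.Closeds X) :
    IsReduced (Scheme.IdealSheafData.vanishingIdeal Z).subscheme := by
  set I := Scheme.IdealSheafData.vanishingIdeal Z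
  rw [IsReduced.iff_of_openCover (X := I.subscheme) I.subschemeCover.openCover]
  intro (U : X.affineOpens)
  have h3 : (I.ideal U).IsRadical := by
    rw [Scheme.IdealSheafData.vanishingIdeal_ideal]
    exact PrimeSpectrum.isRadical_vanishingIdeal _
  have h2 : _root_.IsReduced (Γ(X, U) ⧸ I.ideal U) := (Ideal.isRadical_iff_quotient_reduced _).mp h3
  exact (affine_isReduced_iff (.of (Γ(X, U) ⧸ I.ideal U))).mpr h2

/-- In a reduced local ring whose maximal ideal is an associated prime, the maximal ideal is zero. -/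
theorem maximalIdeal_eq_bot_of_isAssociatedPrime (R : Type*) [CommRing R] [IsLocalRing R]
    [_root_.IsReduced R] (h : IsAssociatedPrime (IsLocalRing.maximalIdeal R) R) :
    IsLocalRing.maximalIdeal R = ⊥ := by
  obtain ⟨hp, a, ha⟩ := h
  have hcol : ∀ t : R, t ∈ IsLocalRing.maximalIdeal R → ∃ n : ℕ, t ^ n * a = 0 := by
    intro t ht
    rw [ha] at ht
    obtain ⟨n, hn⟩ := ht
    refine ⟨n, ?_⟩
    have := Submodule.mem_colon_singleton.mp hn
    simpa using this
  rw [eq_bot_iff]
  intro t ht
  rw [Submodule.mem_bot]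
  by_cases hau : IsUnit a
  · obtain ⟨n, hn⟩ := hcol t ht
    have h0 : t ^ n = 0 := by
      obtain ⟨u, rfl⟩ := hau
      exact (Units.mul_left_eq_zero u).mp hn
    exact IsNilpotent.eq_zero ⟨n, h0⟩
  · have ham : a ∈ IsLocalRing.maximalIdeal R := (IsLocalRing.mem_maximalIdeal a).mpr hau
    obtain ⟨n, hn⟩ := hcol a ham
    have ha0 : a = 0 := IsNilpotent.eq_zero ⟨n + 1, by rw [pow_succ]; exact hn⟩
    -- then colon is ⊤, contradiction with primality
    exfalso
    have : (1 : R) ∈ IsLocalRing.maximalIdeal R := by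
      rw [ha]
      apply Ideal.le_radical
      rw [Submodule.mem_colon_singleton, ha0]
      simp
    exact (Ideal.ne_top_iff_one _).mp hp.ne_top this

/-- A point whose local ring has zero maximal ideal has no proper generisations. -/
theorem eq_of_specializes_of_maximalIdeal_eq_bot {Y : Scheme.{u}} (z z' : Y)
    (h : IsLocalRing.maximalIdeal (Y.presheaf.stalk z) = ⊥) (hs : z' ⤳ z) : z' = z := by
  have hmem : z' ∈ Set.range (Y.fromSpecStalk z) := by
    rw [Scheme.range_fromSpecStalk]; exact hs
  obtain ⟨p, rfl⟩ := hmem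
  have hp : p = IsLocalRing.closedPoint (Y.presheaf.stalk z) := by
    apply PrimeSpectrum.ext
    have h1 : p.asIdeal ≤ IsLocalRing.maximalIdeal (Y.presheaf.stalk z) :=
      IsLocalRing.le_maximalIdeal p.2.ne_top
    rw [h] at h1
    show p.asIdeal = IsLocalRing.maximalIdeal (Y.presheaf.stalk z)
    rw [h]
    exact le_antisymm h1 bot_le
  rw [hp]
  exact Scheme.fromSpecStalk_closedPoint

/-- If intersections of affine opens are affine, the inclusion of an affine open is affine. -/
theorem isAffineHom_ι (X : Scheme.{u})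
    (hΔ : ∀ V W : X.Opens, IsAffineOpen V → IsAffineOpen W → IsAffineOpen (V ⊓ W))
    (U : X.Opens) (hU : IsAffineOpen U) : IsAffineHom U.ι := by
  refine ⟨fun W hW => ?_⟩
  rw [← Scheme.Hom.isAffineOpen_iff_of_isOpenImmersion U.ι,
    Scheme.Hom.image_preimage_eq_opensRange_inf, Scheme.Opens.opensRange_ι]
  exact hΔ U W hU hW

/-- Main result: effective Cartier divisor supported on the complement of a dense affine open. -/
theorem main (X : Scheme.{u}) [IsNoetherian X]
    (hΔ : ∀ V W : X.Opens, IsAffineOpen V → IsAffineOpen W → IsAffineOpen (V ⊓ W))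
    (U : X.Opens) (hU : IsAffineOpen U) (hdense : Dense (U : Set ↥X))
    (hufd : ∀ x : ↥X, x ∉ U →
      IsDomain (X.presheaf.stalk x) ∧ UniqueFactorizationMonoid (X.presheaf.stalk x)) :
    ∃ 𝓘 : X.IdealSheafData, BlowUp.IsEffCartierIdeal 𝓘 ∧
      (𝓘.support : Set ↥X) = (U : Set ↥X)ᶜ := by
  classical
  haveI : IsAffineHom U.ι := isAffineHom_ι X hΔ U hU
  let Z : TopologicalSpace.Closeds X := ⟨(U : Set X)ᶜ, U.isOpen.isClosed_compl⟩
  set 𝓘 := Scheme.IdealSheafData.vanishingIdeal Z with h𝓘
  have hsupp : (𝓘.support : Set X) = (U : Set X)ᶜ := by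
    rw [h𝓘, Scheme.IdealSheafData.coe_support_vanishingIdeal]
    rfl
  refine ⟨𝓘, ?_, hsupp⟩
  haveI : IsReduced 𝓘.subscheme := isReduced_vanishingIdeal_subscheme Z
  have hrange : ∀ η : X, η ∉ U → ∃ z' : 𝓘.subscheme, 𝓘.subschemeι z' = η := by
    intro η hη
    have : η ∈ Set.range 𝓘.subschemeι := by
      rw [Scheme.IdealSheafData.range_subschemeι, hsupp]; exact hη
    exact this
  have hnot : ∀ z : 𝓘.subscheme, 𝓘.subschemeι z ∉ U := by
    intro z hz
    have : 𝓘.subschemeι z ∈ (𝓘.support : Set X) := by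
      rw [← Scheme.IdealSheafData.range_subschemeι]; exact ⟨z, rfl⟩
    rw [hsupp] at this
    exact this hz
  apply Groth.Agent.S1700.result X 𝓘
  · intro z hz z' hz'
    exact eq_of_specializes_of_maximalIdeal_eq_bot z z'
      (maximalIdeal_eq_bot_of_isAssociatedPrime _ hz) hz'
  · intro z hmax
    apply Groth.Agent.Helper14.PuncAff.dim_stalk_eq_one X U _ (hnot z) ?_
      (by rw [hdense.closure_eq]; trivial)
    intro η hη hspec
    obtain ⟨z', rfl⟩ := hrange η hη
    have : z' ⤳ z := (𝓘.subschemeι.isEmbedding.isInducing.specializes_iff).mp hspec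
    rw [hmax z' this]
  · intro x hx
    apply hufd x
    intro hxU
    have : x ∈ (𝓘.support : Set X) := hx
    rw [hsupp] at this
    exact this hxU

end Groth.Agent.Lead.EffCompl
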