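import Mathlib
import Groth.Prelude.Def_MoreMor
import Groth.Agent.Lib.Lead.EffCompl
import Groth.Agent.Lib.Helper13.IdealTwist
import Groth.Agent.Lib.Helper13.EffCartier
import Groth.Agent.Lib.Helper13.InvDual
import Groth.Agent.Lib.Helper13.GenLocusQcqs
import Groth.Agent.Lib.Helper13.GenLocusAffine
import Groth.Agent.Lib.Helper2.GenericPts
import Groth.Agent.S8914

set_option autoImplicit false
universe u
open CategoryTheory CategoryTheory.Limits AlgebraicGeometry Opposite TopologicalSpace
open Groth.Agent.Helper13.QCoh Groth.Agent.Helper13.FinType Groth.Agent.Helper13.KerSec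
open Groth.Agent.Helper13.CounitGen Groth.Agent.Helper13.WeakAss Groth.Agent.Helper13.Inv
open Groth.Agent.Helper13.Tensor Groth.Agent.Helper13.VanishIdeal Groth.Agent.Helper13.GenLoc

namespace Groth.Agent.Lead.AmpleFam

variable {X : Scheme.{u}}

/-- Every point of a Noetherian scheme has a dense affine open neighbourhood. -/
theorem exists_dense_affineOpen_mem (X : Scheme.{u}) [IsNoetherian X] (x : X) :
    ∃ U : X.Opens, IsAffineOpen U ∧ x ∈ U ∧ Dense (U : Set X) := by
  classical
  have hfin : (irreducibleComponents X).Finite :=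
    TopologicalSpace.NoetherianSpace.finite_irreducibleComponents
  have hgen : ∀ Z : Set X, Z ∈ irreducibleComponents X → ∃ η : X, IsGenericPoint η Z := by
    intro Z hZ
    exact QuasiSober.sober hZ.1 (isClosed_of_mem_irreducibleComponents Z hZ)
  haveI : Nonempty X := ⟨x⟩
  choose! gp hgp using hgen
  let T : Finset X := hfin.toFinset.image gp
  have hT : ∀ η ∈ T, closure ({η} : Set X) ∈ irreducibleComponents (X : Type u) := by
    intro η hη
    obtain ⟨Z, hZ, rfl⟩ := Finset.mem_image.mp hη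
    have hZ' : Z ∈ irreducibleComponents X := hfin.mem_toFinset.mp hZ
    rw [(hgp Z hZ').def]
    exact hZ'
  obtain ⟨U, hU, hxU, hTU⟩ := Groth.Agent.Helper2.GenericPts.exists_affine_of_finset x T hT
  refine ⟨U, hU, hxU, ?_⟩
  rw [dense_iff_closure_eq, Set.eq_univ_iff_forall]
  intro y
  have hy : y ∈ ⋃₀ irreducibleComponents X := by
    rw [sUnion_irreducibleComponents]; trivial
  obtain ⟨Z, hZ, hyZ⟩ := hy
  have h1 : gp Z ∈ (U : Set X) :=
    hTU _ (Finset.mem_image.mpr ⟨Z, hfin.mem_toFinset.mpr hZ, rfl⟩)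
  have h2 : Z = closure {gp Z} := (hgp Z hZ).def.symm
  rw [h2] at hyZ
  exact closure_mono (Set.singleton_subset_iff.mpr h1) hyZ

theorem secSpan_eq_top_of_isGen (F : X.Modules) (t : Γ(F, ⊤)) (x : X)
    (h : IsGen F t x trivial) : secSpan F ⊤ x trivial = ⊤ := by
  rw [eq_top_iff]
  intro m _
  obtain ⟨r, rfl⟩ := h.2 m
  exact Submodule.smul_mem _ r (Submodule.subset_span ⟨t, rfl⟩)

/-- For an effective Cartier divisor and a point off it, an invertible module with a section
generating at the point and whose non-vanishing locus misses the divisor. -/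
theorem exists_section (𝓘 : X.IdealSheafData) (hC : BlowUp.IsEffCartierIdeal 𝓘) (x : X)
    (hx : x ∉ 𝓘.support) :
    ∃ (N : X.Modules) (s : Coh.structureModule X ⟶ N), PicF.IsInvertible N ∧
      x ∈ CohB1.genLocus N s ∧ ∀ z ∈ CohB1.genLocus N s, z ∉ 𝓘.support := by
  have hrange : Set.range 𝓘.subschemeι = (𝓘.support : Set X) :=
    Scheme.IdealSheafData.range_subschemeι 𝓘
  have hcl : IsClosed (Set.range 𝓘.subschemeι) := by
    rw [hrange]; exact 𝓘.support.isClosed
  have hJ : PicF.IsInvertible (idealMod 𝓘.subschemeι) :=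
    isInvertible_of_iso (Groth.Agent.Helper13.EffCartier.idealModIso 𝓘)
      ((Groth.Agent.S8914.result 𝓘).mpr hC)
  obtain ⟨N, hN, ⟨e⟩, -⟩ := Groth.Agent.Helper13.InvDual.exists_inverse
    (idealMod 𝓘.subschemeι) hJ
  obtain ⟨t, ht⟩ := exists_isGen_of_iso _ e.symm
  have hxr : x ∉ Set.range 𝓘.subschemeι := by rw [hrange]; exact hx
  obtain ⟨V, hxV, k, hk⟩ := exists_one_section 𝓘.subschemeι hcl x hxr
  obtain ⟨s, hsx, hsz⟩ := exists_section_twist 𝓘.subschemeι (𝟙 (idealMod 𝓘.subschemeι)) hN ⊤ x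
    trivial ⟨V, hxV, k, hk⟩ (secSpan_eq_top_of_isGen _ t x (ht x))
  refine ⟨N, Groth.Agent.Helper13.LocFree.homOfSec N s, hN, ?_, ?_⟩
  · rw [mem_genLocus_iff_isGen N _ hN, sec_homOfSec]
    exact hsx
  · intro z hz hzs
    rw [mem_genLocus_iff_isGen N _ hN, sec_homOfSec] at hz
    exact hsz z trivial (by rw [hrange]; exact hzs) hz

/-- A Noetherian scheme with affine diagonal whose local rings are factorial has an ample family
of invertible modules. -/
theorem hasAmpleFamily (X : Scheme.{u}) [IsNoetherian X]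
    (hΔ : ∀ V W : X.Opens, IsAffineOpen V → IsAffineOpen W → IsAffineOpen (V ⊓ W))
    (hufd : ∀ x : X,
      IsDomain (X.presheaf.stalk x) ∧ UniqueFactorizationMonoid (X.presheaf.stalk x)) :
    MoreMor.HasAmpleFamily X := by
  refine ⟨inferInstance, fun x => ?_⟩
  obtain ⟨U, hU, hxU, hdense⟩ := exists_dense_affineOpen_mem X x
  obtain ⟨𝓘, hC, hsupp⟩ := Groth.Agent.Lead.EffCompl.main X hΔ U hU hdense (fun y _ => hufd y)
  have hx : x ∉ 𝓘.support := by
    intro h
    have : x ∈ (𝓘.support : Set X) := h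
    rw [hsupp] at this
    exact this hxU
  obtain ⟨N, s, hN, hxs, hs⟩ := exists_section 𝓘 hC x hx
  have hle : CohB1.genLocus N s ≤ U := by
    intro z hz
    by_contra hzU
    apply hs z hz
    show z ∈ (𝓘.support : Set X)
    rw [hsupp]
    exact hzU
  have haff : IsAffineOpen (CohB1.genLocus N s) := isAffineOpen_genLocus_of_le N hN s hU hle
  refine ⟨N, 1, s ≫ (lid N).inv, hN, le_refl 1, ?_, ?_⟩
  · show x ∈ CohB1.genLocus (CohB1.tensorMod (Coh.structureModule X) N) (s ≫ (lid N).symm.hom)
    rw [genLocus_comp_iso]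
    exact hxs
  · show IsAffineOpen
      (CohB1.genLocus (CohB1.tensorMod (Coh.structureModule X) N) (s ≫ (lid N).symm.hom))
    rw [genLocus_comp_iso]
    exact haff

end Groth.Agent.Lead.AmpleFam
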