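import Mathlib
import Groth.Agent.Lib.Helper8.LCFalt2

/-!
# Algebraic core of the "depth ≥ 2 ⇒ sections extend" (Hartogs) theorem for modules (lead)
-/

set_option autoImplicit false
set_option linter.style.haveILetI false

universe u

open LocCoh IsLocalRing

namespace Groth.Agent.Lead.Hartogs

open Groth.Agent.Lead.Depth

variable {R : Type u} [CommRing R] [IsNoetherianRing R]

/-- the second inequality of the depth lemma after localizing at a prime. -/
theorem depth_localized_shortExact_right (p : Ideal R) [p.IsPrime]
    (N' : Type u) [AddCommGroup N'] [Module R N']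
    [Module.Finite R N'] (N : Type u) [AddCommGroup N] [Module R N] [Module.Finite R N]
    (N'' : Type u) [AddCommGroup N''] [Module R N''] [Module.Finite R N'']
    (f : N' →ₗ[R] N) (g : N →ₗ[R] N'') (hf : Function.Injective f) (hg : Function.Surjective g)
    (hfg : Function.Exact f g) :
    min (LocCoh.depth (Localization.AtPrime p) (LocalizedModule p.primeCompl N))
      (LocCoh.depth (Localization.AtPrime p) (LocalizedModule p.primeCompl N') - 1) ≤
      LocCoh.depth (Localization.AtPrime p) (LocalizedModule p.primeCompl N'') := by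
  have h := idealDepth_shortExact (IsLocalRing.maximalIdeal (Localization.AtPrime p))
    (LocalizedModule p.primeCompl N') (LocalizedModule p.primeCompl N)
    (LocalizedModule p.primeCompl N'')
    (LocalizedModule.map p.primeCompl f) (LocalizedModule.map p.primeCompl g)
    (LocalizedModule.map_injective p.primeCompl f hf)
    (LocalizedModule.map_surjective p.primeCompl g hg)
    (LocalizedModule.map_exact p.primeCompl f g hfg)
  exact h.2.1

/-- **Abstract Hartogs lemma for modules.** `M` a finite module over a Noetherian ring, `f : M → G`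
a linear map which "looks like" the restriction of sections of `M~` to the open `⋃ D(a i)`
(conditions `E1`, `E2`, `E3`).  If `M_p` has depth `≥ 2` at every prime containing all the `a i`,
then `f` is bijective. -/
theorem bijective_of_depth {M G : Type u} [AddCommGroup M] [Module R M] [Module.Finite R M]
    [AddCommGroup G] [Module R G] (f : M →ₗ[R] G) {ι : Type*} (a : ι → R)
    (E1 : ∀ (g : G) (i : ι), ∃ (n : ℕ) (x : M), (a i) ^ n • g = f x)
    (E2 : ∀ (m : M) (i : ι), f m = 0 → ∃ n : ℕ, (a i) ^ n • m = 0)
    (E3 : ∀ g : G, (∀ i, ∃ n : ℕ, (a i) ^ n • g = 0) → g = 0)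
    (hdepth : ∀ (p : Ideal R) [p.IsPrime], (∀ i, a i ∈ p) →
      2 ≤ LocCoh.depth (Localization.AtPrime p) (LocalizedModule p.primeCompl M)) :
    Function.Bijective f := by
  have hinj : Function.Injective f := by
    rw [← LinearMap.ker_eq_bot]
    by_contra hne
    haveI : Nontrivial (LinearMap.ker f) := Submodule.nontrivial_iff_ne_bot.2 hne
    obtain ⟨p, hp⟩ := associatedPrimes.nonempty R (LinearMap.ker f)
    obtain ⟨hprime, k, hk⟩ := isAssociatedPrime_iff.1 hp
    haveI := hprime
    have hpM : p ∈ associatedPrimes R M :=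
      associatedPrimes.subset_of_injective (f := (LinearMap.ker f).subtype)
        (Submodule.injective_subtype _) hp
    have hap : ∀ i, a i ∈ p := by
      intro i
      obtain ⟨n, hn⟩ := E2 (k : M) i (LinearMap.mem_ker.1 k.2)
      have hmem : a i ^ n ∈ p := by
        rw [hk, Submodule.mem_colon_singleton, Submodule.mem_bot]
        exact Subtype.ext hn
      exact hprime.mem_of_pow_mem n hmem
    have h0 := Groth.Agent.Helper8.LC.depth_localizedModule_eq_zero_of_mem_associatedPrimes p M hpM
    have h2 := hdepth p hap
    rw [h0] at h2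
    exact absurd h2 (by norm_num)
  refine ⟨hinj, fun g => ?_⟩
  by_contra hg
  let φ : (M × R) →ₗ[R] G := f.coprod (LinearMap.toSpanSingleton R G g)
  have hφ : ∀ (m : M) (r : R), φ (m, r) = f m + r • g := fun m r => by
    simp [φ, LinearMap.coprod_apply, LinearMap.toSpanSingleton_apply]
  let N : Submodule R G := LinearMap.range φ
  haveI : Module.Finite R N := Module.Finite.range φ
  have hfN : ∀ m : M, f m ∈ N := fun m => ⟨(m, 0), by rw [hφ, zero_smul, add_zero]⟩
  have hgN : g ∈ N := ⟨(0, 1), by rw [hφ, map_zero, zero_add, one_smul]⟩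
  let f' : M →ₗ[R] N := LinearMap.codRestrict N f hfN
  have hf'v : ∀ m : M, ((f' m : N) : G) = f m := fun m => rfl
  have hf' : Function.Injective f' := fun x y h => hinj (congrArg Subtype.val h)
  let π : N →ₗ[R] (N ⧸ LinearMap.range f') := (LinearMap.range f').mkQ
  have hex : Function.Exact f' π := LinearMap.exact_map_mkQ_range f'
  have hπ : Function.Surjective π := Submodule.mkQ_surjective _
  haveI : Nontrivial (N ⧸ LinearMap.range f') := by
    rw [Submodule.Quotient.nontrivial_iff]
    intro htop
    have : (⟨g, hgN⟩ : N) ∈ LinearMap.range f' := by rw [htop]; trivial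
    obtain ⟨m, hm⟩ := this
    exact hg ⟨m, congrArg Subtype.val hm⟩
  obtain ⟨p, hp⟩ := associatedPrimes.nonempty R (N ⧸ LinearMap.range f')
  obtain ⟨hprime, q, hq⟩ := isAssociatedPrime_iff.1 hp
  haveI := hprime
  have hap : ∀ i, a i ∈ p := by
    intro i
    obtain ⟨n, hn⟩ := hπ q
    obtain ⟨⟨m, r⟩, hmr⟩ := n.2
    obtain ⟨k, x, hx⟩ := E1 g i
    have hmem : a i ^ k ∈ p := by
      rw [hq, Submodule.mem_colon_singleton, Submodule.mem_bot, ← hn, ← map_smul]
      change (LinearMap.range f').mkQ (a i ^ k • n) = 0
      rw [Submodule.mkQ_apply, Submodule.Quotient.mk_eq_zero]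
      refine ⟨a i ^ k • m + r • x, Subtype.ext ?_⟩
      rw [hf'v, Submodule.coe_smul, ← hmr, hφ, map_add, map_smul, map_smul, smul_add, ← hx,
        smul_comm (a i ^ k) r g]
    exact hprime.mem_of_pow_mem k hmem
  have hdM := hdepth p hap
  have hdQ := Groth.Agent.Helper8.LC.depth_localizedModule_eq_zero_of_mem_associatedPrimes p
    (N ⧸ LinearMap.range f') hp
  have hlem := depth_localized_shortExact_right p M N (N ⧸ LinearMap.range f') f' π hf' hπ hex
  have hdN : LocCoh.depth (Localization.AtPrime p) (LocalizedModule p.primeCompl N) = 0 := by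
    rw [hdQ] at hlem
    have h1 : (1 : ℕ∞) ≤
        LocCoh.depth (Localization.AtPrime p) (LocalizedModule p.primeCompl M) - 1 := by
      apply ENat.le_sub_of_add_le_right ENat.one_ne_top
      rw [one_add_one_eq_two]
      exact hdM
    rcases min_le_iff.1 hlem with h | h
    · exact nonpos_iff_eq_zero.1 h
    · exact absurd (h1.trans h) (by norm_num)
  have hpN := Groth.Agent.Helper8.LC.mem_associatedPrimes_of_depth_localizedModule_eq_zero p N hdN
  obtain ⟨-, n, hn⟩ := isAssociatedPrime_iff.1 hpN
  have hn0 : (n : G) = 0 := by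
    apply E3
    intro i
    refine ⟨1, ?_⟩
    have h1 : a i • n = 0 := by
      have := hap i
      rwa [hn, Submodule.mem_colon_singleton, Submodule.mem_bot] at this
    rw [pow_one]
    exact congrArg Subtype.val h1
  apply hprime.ne_top
  rw [Ideal.eq_top_iff_one, hn, Submodule.mem_colon_singleton, Submodule.mem_bot, one_smul]
  exact Subtype.ext hn0

end Groth.Agent.Lead.Hartogs
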