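import Mathlib
import Groth.Agent.Lib.Lead.Hartogs1
import Groth.Agent.Lib.Lead.Depth21
import Groth.Agent.Lib.Helper13.LocFree2
import Groth.Agent.Lib.Helper13.FlatOverAffine

/-!
# Hartogs for coherent modules on locally Noetherian schemes (lead)

If `F` is coherent on a locally Noetherian scheme and `depth F_x ≥ 2` at all points outside an open
`U`, then `Γ(V, F) → Γ(V ∩ U, F)` is bijective for every open `V`.
-/

set_option autoImplicit false
set_option linter.style.haveILetI false

universe u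

open CategoryTheory AlgebraicGeometry Opposite TopologicalSpace LocCoh IsLocalRing
open Groth.Agent.Helper13.QCoh Groth.Agent.Helper13.FinType Groth.Agent.Helper13.QCohLoc
  Groth.Agent.Helper13.LocFree

namespace Groth.Agent.Lead.Hartogs

open Groth.Agent.Lead.Depth

variable {X : Scheme.{u}}

section Depth

variable (F : X.Modules) [F.IsQuasicoherent]
  [SheafOfModules.IsFiniteType (R := X.ringCatSheaf) F]

/-- depth of the stalk of a coherent module = depth of the localization of the module of sections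
over an affine open. -/
theorem depth_stalk_eq {V : X.Opens} (hV : IsAffineOpen V) [IsNoetherianRing Γ(X, V)] (x : V)
    (y : PrimeSpectrum Γ(X, V)) (hy : hV.primeIdealOf x = y) :
    LocCoh.depth (X.presheaf.stalk (x : X)) (F.presheaf.stalk (x : X)) =
      LocCoh.depth (Localization.AtPrime y.asIdeal)
        (LocalizedModule y.asIdeal.primeCompl Γ(F, V)) := by
  subst hy
  haveI hloc : IsLocalization.AtPrime (X.presheaf.stalk (x : X)) (hV.primeIdealOf x).asIdeal :=
    hV.isLocalization_stalk x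
  letI := modStalk F x
  haveI := isScalarTower_stalk F x
  haveI hlm : IsLocalizedModule (hV.primeIdealOf x).asIdeal.primeCompl (germLin F x) :=
    isLocalizedModule_germ F hV x
  haveI : Module.Finite (X.presheaf.stalk (x : X)) (F.presheaf.stalk (x : X)) :=
    finite_stalk_of_isFiniteType F x
  let σ : Localization.AtPrime (hV.primeIdealOf x).asIdeal ≃ₐ[Γ(X, V)] X.presheaf.stalk (x : X) :=
    IsLocalization.algEquiv (hV.primeIdealOf x).asIdeal.primeCompl _ _
  letI : Algebra (Localization.AtPrime (hV.primeIdealOf x).asIdeal) (X.presheaf.stalk (x : X)) :=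
    σ.toRingHom.toAlgebra
  letI : Module (Localization.AtPrime (hV.primeIdealOf x).asIdeal) (F.presheaf.stalk (x : X)) :=
    Module.compHom _ σ.toRingHom
  haveI : IsScalarTower (Localization.AtPrime (hV.primeIdealOf x).asIdeal)
      (X.presheaf.stalk (x : X)) (F.presheaf.stalk (x : X)) :=
    IsScalarTower.of_algebraMap_smul (fun _ _ => rfl)
  haveI : IsScalarTower Γ(X, V) (Localization.AtPrime (hV.primeIdealOf x).asIdeal)
      (F.presheaf.stalk (x : X)) := by
    refine IsScalarTower.of_algebraMap_smul (fun r m => ?_)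
    change σ (algebraMap _ _ r) • m = r • m
    rw [σ.commutes]
    rfl
  have hsurj : Function.Surjective (algebraMap (Localization.AtPrime (hV.primeIdealOf x).asIdeal)
      (X.presheaf.stalk (x : X))) := fun z => by
    obtain ⟨w, hw⟩ := σ.surjective z
    exact ⟨w, hw⟩
  have h1 := depth_localizedModule_eq_of_isLocalizedModule (hV.primeIdealOf x).asIdeal (germLin F x)
  have h2 := depth_eq_of_surjective hsurj (F.presheaf.stalk (x : X))
  rw [h1, h2]

end Depth

section Affine

variable (F : X.Modules) [F.IsQuasicoherent]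
  [SheafOfModules.IsFiniteType (R := X.ringCatSheaf) F]

/-- affine case of Hartogs -/
theorem bijective_res_affine (V : X.Opens) (hV : IsAffineOpen V) [IsNoetherianRing Γ(X, V)]
    (U' : X.Opens) (hle : U' ≤ V)
    (hdepth : ∀ x : X, x ∈ V → x ∉ U' →
      2 ≤ LocCoh.depth (X.presheaf.stalk x) (F.presheaf.stalk x)) :
    Function.Bijective (F.presheaf.map (homOfLE hle).op) := by
  haveI : Module.Finite Γ(X, V) Γ(F, V) := finite_sections_of_isFiniteType F hV
  letI modG : Module Γ(X, V) Γ(F, U') :=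
    Module.compHom Γ(F, U') (X.presheaf.map (homOfLE hle).op).hom
  have hsmul : ∀ (r : Γ(X, V)) (g : Γ(F, U')),
      r • g = X.presheaf.map (homOfLE hle).op r • g := fun _ _ => rfl
  let f : Γ(F, V) →ₗ[Γ(X, V)] Γ(F, U') :=
    { toFun := fun t => F.presheaf.map (homOfLE hle).op t
      map_add' := fun a b => map_add _ a b
      map_smul' := fun r t => Scheme.Modules.map_smul F (homOfLE hle) r t }
  have hf : ∀ t, f t = F.presheaf.map (homOfLE hle).op t := fun _ => rfl
  -- compactness of `U'`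
  haveI : NoetherianSpace ↥V := noetherianSpace_of_isAffineOpen V hV
  have hcomp : IsCompact (U' : Set X) := by
    have h1 : (U' : Set X) =
        (Subtype.val : ↥V → X) '' ((Subtype.val : ↥V → X) ⁻¹' (U' : Set X)) := by
      ext y
      simp only [SetLike.mem_coe, Set.mem_image, Set.mem_preimage, Subtype.exists,
        exists_and_left, exists_prop, exists_eq_right_right]
      exact ⟨fun h => ⟨h, hle h⟩, fun h => h.1⟩
    rw [h1]
    exact (NoetherianSpace.isCompact _).image continuous_subtype_val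
  -- the basic opens inside `U'` cover `U'`
  have hcover : U' ≤ ⨆ i : {a : Γ(X, V) // X.basicOpen a ≤ U'}, X.basicOpen i.1 := by
    intro x hx
    obtain ⟨b, hb1, hb2⟩ := hV.exists_basicOpen_le (V := U') ⟨x, hx⟩ (hle hx)
    exact Opens.mem_iSup.2 ⟨⟨b, hb1⟩, hb2⟩
  -- restriction and the `Γ(X, V)`-action
  have hres_smul : ∀ (W : X.Opens) (hW : W ≤ U') (r : Γ(X, V)) (g : Γ(F, U')),
      F.presheaf.map (homOfLE hW).op (r • g) =
        X.presheaf.map (homOfLE (hW.trans hle)).op r • F.presheaf.map (homOfLE hW).op g := by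
    intro W hW r g
    rw [hsmul, Scheme.Modules.map_smul F (homOfLE hW)]
    congr 1
    exact res_map_map_eq _ _ _ r
  -- a section of `U'` vanishing on `D(a)` is killed by a power of `a`
  have hkill : ∀ (i : {a : Γ(X, V) // X.basicOpen a ≤ U'}) (h : Γ(F, U')),
      F.presheaf.map (homOfLE i.2).op h = 0 → ∃ n : ℕ, (i.1 ^ n) • h = 0 := by
    intro i h hh
    have hb : ∀ b : {a : Γ(X, V) // X.basicOpen a ≤ U'}, ∃ n : ℕ, ∀ m, n ≤ m →
        F.presheaf.map (homOfLE b.2).op ((i.1 ^ m) • h) = 0 := by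
      intro b
      have hDb : IsAffineOpen (X.basicOpen b.1) := hV.basicOpen b.1
      have hbo : X.basicOpen (X.presheaf.map (homOfLE (X.basicOpen_le b.1)).op i.1) =
          X.basicOpen b.1 ⊓ X.basicOpen i.1 := X.basicOpen_res _ _
      have hle' : X.basicOpen (X.presheaf.map (homOfLE (X.basicOpen_le b.1)).op i.1) ≤
          X.basicOpen i.1 := by rw [hbo]; exact inf_le_right
      have h0 : F.presheaf.map (homOfLE (X.basicOpen_le
          (X.presheaf.map (homOfLE (X.basicOpen_le b.1)).op i.1))).op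
            (F.presheaf.map (homOfLE b.2).op h) = 0 := by
        rw [map_map_eq F _ _ (homOfLE ((X.basicOpen_le
            (X.presheaf.map (homOfLE (X.basicOpen_le b.1)).op i.1)).trans b.2)).op,
          ← map_map_eq F (homOfLE i.2).op (homOfLE hle').op
            (homOfLE ((X.basicOpen_le
              (X.presheaf.map (homOfLE (X.basicOpen_le b.1)).op i.1)).trans b.2)).op, hh, map_zero]
      obtain ⟨n, hn⟩ := exists_pow_smul_eq_zero F hDb
        (X.presheaf.map (homOfLE (X.basicOpen_le b.1)).op i.1) _ h0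
      refine ⟨n, fun m hm => ?_⟩
      rw [hres_smul _ b.2, map_pow]
      change (X.presheaf.map (homOfLE (X.basicOpen_le b.1)).op i.1) ^ m •
        F.presheaf.map (homOfLE b.2).op h = 0
      rw [← Nat.sub_add_cancel hm, pow_add, mul_smul, hn, smul_zero]
    choose n hn using hb
    obtain ⟨t, ht⟩ := hcomp.elim_finite_subcover
      (fun b : {a : Γ(X, V) // X.basicOpen a ≤ U'} => (X.basicOpen b.1 : Set X))
      (fun b => (X.basicOpen b.1).isOpen) (by
        intro x hx
        have := hcover hx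
        rw [Opens.mem_iSup] at this
        obtain ⟨b, hb⟩ := this
        exact Set.mem_iUnion.2 ⟨b, hb⟩)
    refine ⟨t.sup n, ?_⟩
    refine TopCat.Sheaf.eq_of_locally_eq' (⟨F.presheaf, F.isSheaf⟩ : TopCat.Sheaf Ab X)
      (fun b : t => X.basicOpen b.1.1) U' (fun b => homOfLE b.1.2) ?_ _ _ (fun b => ?_)
    · intro x hx
      have := ht hx
      rw [Set.mem_iUnion₂] at this
      obtain ⟨b, hbt, hxb⟩ := this
      exact Opens.mem_iSup.2 ⟨⟨b, hbt⟩, hxb⟩
    · change F.presheaf.map (homOfLE b.1.2).op _ = F.presheaf.map (homOfLE b.1.2).op 0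
      rw [map_zero]
      exact hn b.1 _ (Finset.le_sup b.2)
  have hbij : Function.Bijective f := by
    refine bijective_of_depth f (fun i : {a : Γ(X, V) // X.basicOpen a ≤ U'} => i.1) ?_ ?_ ?_ ?_
    · -- E1
      intro g i
      obtain ⟨n, t, ht⟩ := exists_pow_smul_eq_res F hV i.1 (F.presheaf.map (homOfLE i.2).op g)
      have hz : F.presheaf.map (homOfLE i.2).op ((i.1 ^ n) • g - f t) = 0 := by
        rw [map_sub, hres_smul _ i.2, hf, map_map_eq F _ _ (homOfLE (X.basicOpen_le i.1)).op, ht,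
          map_pow, sub_self]
      obtain ⟨k, hk⟩ := hkill i _ hz
      refine ⟨k + n, (i.1 ^ k) • t, ?_⟩
      rw [smul_sub, sub_eq_zero] at hk
      rw [pow_add, mul_smul, hk, map_smul]
    · -- E2
      intro m i hm
      apply exists_pow_smul_eq_zero F hV i.1 m
      rw [← map_map_eq F (homOfLE hle).op (homOfLE i.2).op (homOfLE (X.basicOpen_le i.1)).op,
        ← hf, hm, map_zero]
    · -- E3
      intro g hg
      refine TopCat.Sheaf.eq_of_locally_eq' (⟨F.presheaf, F.isSheaf⟩ : TopCat.Sheaf Ab X)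
        (fun i : {a : Γ(X, V) // X.basicOpen a ≤ U'} => X.basicOpen i.1) U'
        (fun i => homOfLE i.2) hcover _ _ (fun i => ?_)
      change F.presheaf.map (homOfLE i.2).op g = F.presheaf.map (homOfLE i.2).op 0
      rw [map_zero]
      obtain ⟨n, hn⟩ := hg i
      have h1 := congrArg (F.presheaf.map (homOfLE i.2).op) hn
      rw [hres_smul _ i.2, map_zero, map_pow] at h1
      have hu : IsUnit ((X.presheaf.map (homOfLE (i.2.trans hle)).op i.1) ^ n) :=
        (RingedSpace.isUnit_res_basicOpen X.toRingedSpace i.1).pow n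
      exact (hu.smul_eq_zero).1 h1
    · -- depth
      intro p hp hap
      have hyV : hV.fromSpec ⟨p, hp⟩ ∈ V := by
        have : hV.fromSpec ⟨p, hp⟩ ∈ hV.fromSpec.opensRange := ⟨_, rfl⟩
        rwa [hV.opensRange_fromSpec] at this
      have hyU : hV.fromSpec ⟨p, hp⟩ ∉ U' := by
        intro hy
        obtain ⟨b, hb1, hb2⟩ := hV.exists_basicOpen_le (V := U') ⟨hV.fromSpec ⟨p, hp⟩, hy⟩ hyV
        have h1 : (⟨p, hp⟩ : PrimeSpectrum Γ(X, V)) ∈ hV.fromSpec ⁻¹ᵁ X.basicOpen b := hb2
        rw [hV.fromSpec_preimage_basicOpen] at h1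
        exact h1 (hap ⟨b, hb1⟩)
      have hd := hdepth _ hyV hyU
      rw [depth_stalk_eq F hV ⟨hV.fromSpec ⟨p, hp⟩, hyV⟩ ⟨p, hp⟩
        (Groth.Agent.Helper13.FlatOver.primeIdealOf_fromSpec' hV _ _)] at hd
      exact hd
  exact hbij

end Affine

section General

/-- **Hartogs for coherent modules.** -/
theorem bijective_res [IsLocallyNoetherian X] (F : X.Modules) [F.IsQuasicoherent]
    [SheafOfModules.IsFiniteType (R := X.ringCatSheaf) F] (U : X.Opens)
    (hdepth : ∀ x : X, x ∉ U →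
      2 ≤ LocCoh.depth (X.presheaf.stalk x) (F.presheaf.stalk x)) (V : X.Opens) :
    Function.Bijective (F.presheaf.map (homOfLE (inf_le_left : V ⊓ U ≤ V)).op) := by
  -- the affine case
  have haff : ∀ W : X.Opens, IsAffineOpen W →
      Function.Bijective (F.presheaf.map (homOfLE (inf_le_left : W ⊓ U ≤ W)).op) := by
    intro W hW
    haveI : IsNoetherianRing Γ(X, W) := IsLocallyNoetherian.component_noetherian ⟨W, hW⟩
    exact bijective_res_affine F W hW (W ⊓ U) inf_le_left
      (fun x hxW hxU => hdepth x (fun hx => hxU ⟨hxW, hx⟩))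
  -- affine opens inside `V` cover `V`
  have hcov : ∀ V' : X.Opens, V' ≤ ⨆ W : {W : X.Opens // IsAffineOpen W ∧ W ≤ V'}, W.1 := by
    intro V' x hx
    obtain ⟨W, hW, hxW, hWV⟩ := exists_isAffineOpen_mem_and_subset (x := x) (U := V') hx
    exact Opens.mem_iSup.2 ⟨⟨W, hW, hWV⟩, hxW⟩
  have hcovU : ∀ V' : X.Opens,
      V' ⊓ U ≤ ⨆ W : {W : X.Opens // IsAffineOpen W ∧ W ≤ V'}, W.1 ⊓ U := by
    intro V' x hx
    have := hcov V' hx.1
    rw [Opens.mem_iSup] at this
    obtain ⟨W, hxW⟩ := this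
    exact Opens.mem_iSup.2 ⟨W, ⟨hxW, hx.2⟩⟩
  -- injectivity on every open
  have hinj : ∀ V' : X.Opens,
      Function.Injective (F.presheaf.map (homOfLE (inf_le_left : V' ⊓ U ≤ V')).op) := by
    intro V' s t hst
    refine TopCat.Sheaf.eq_of_locally_eq' (⟨F.presheaf, F.isSheaf⟩ : TopCat.Sheaf Ab X)
      (fun W : {W : X.Opens // IsAffineOpen W ∧ W ≤ V'} => W.1) V'
      (fun W => homOfLE W.2.2) (hcov V') _ _ (fun W => ?_)
    apply (haff W.1 W.2.1).1
    change F.presheaf.map (homOfLE (inf_le_left : W.1 ⊓ U ≤ W.1)).op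
        (F.presheaf.map (homOfLE W.2.2).op s) =
      F.presheaf.map (homOfLE (inf_le_left : W.1 ⊓ U ≤ W.1)).op
        (F.presheaf.map (homOfLE W.2.2).op t)
    have hWU : W.1 ⊓ U ≤ V' ⊓ U := inf_le_inf_right U W.2.2
    rw [map_map_eq F _ _ (homOfLE (hWU.trans inf_le_left)).op,
      map_map_eq F _ _ (homOfLE (hWU.trans inf_le_left)).op,
      ← map_map_eq F (homOfLE (inf_le_left : V' ⊓ U ≤ V')).op (homOfLE hWU).op
        (homOfLE (hWU.trans inf_le_left)).op s,
      ← map_map_eq F (homOfLE (inf_le_left : V' ⊓ U ≤ V')).op (homOfLE hWU).op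
        (homOfLE (hWU.trans inf_le_left)).op t, hst]
  refine ⟨hinj V, fun g => ?_⟩
  -- local lifts
  have hloc : ∀ W : {W : X.Opens // IsAffineOpen W ∧ W ≤ V}, ∃ s : Γ(F, W.1),
      F.presheaf.map (homOfLE (inf_le_left : W.1 ⊓ U ≤ W.1)).op s =
        F.presheaf.map (homOfLE (inf_le_inf_right U W.2.2 : W.1 ⊓ U ≤ V ⊓ U)).op g :=
    fun W => (haff W.1 W.2.1).2 _
  choose s hs using hloc
  have hcompat : TopCat.Presheaf.IsCompatible F.presheaf
      (fun W : {W : X.Opens // IsAffineOpen W ∧ W ≤ V} => W.1) s := by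
    intro W W'
    apply hinj (W.1 ⊓ W'.1)
    change F.presheaf.map (homOfLE (inf_le_left : (W.1 ⊓ W'.1) ⊓ U ≤ W.1 ⊓ W'.1)).op
        (F.presheaf.map (homOfLE (inf_le_left : W.1 ⊓ W'.1 ≤ W.1)).op (s W)) =
      F.presheaf.map (homOfLE (inf_le_left : (W.1 ⊓ W'.1) ⊓ U ≤ W.1 ⊓ W'.1)).op
        (F.presheaf.map (homOfLE (inf_le_right : W.1 ⊓ W'.1 ≤ W'.1)).op (s W'))
    have h1 : (W.1 ⊓ W'.1) ⊓ U ≤ W.1 ⊓ U := inf_le_inf_right U inf_le_left
    have h2 : (W.1 ⊓ W'.1) ⊓ U ≤ W'.1 ⊓ U := inf_le_inf_right U inf_le_right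
    rw [map_map_eq F _ _ (homOfLE (h1.trans inf_le_left)).op,
      map_map_eq F _ _ (homOfLE (h2.trans inf_le_left)).op,
      ← map_map_eq F (homOfLE (inf_le_left : W.1 ⊓ U ≤ W.1)).op (homOfLE h1).op
        (homOfLE (h1.trans inf_le_left)).op (s W),
      ← map_map_eq F (homOfLE (inf_le_left : W'.1 ⊓ U ≤ W'.1)).op (homOfLE h2).op
        (homOfLE (h2.trans inf_le_left)).op (s W'), hs W, hs W',
      map_map_eq F _ _ (homOfLE (h1.trans (inf_le_inf_right U W.2.2))).op,
      map_map_eq F _ _ (homOfLE (h1.trans (inf_le_inf_right U W.2.2))).op]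
  obtain ⟨s₀, hs₀, -⟩ := TopCat.Sheaf.existsUnique_gluing'
    (⟨F.presheaf, F.isSheaf⟩ : TopCat.Sheaf Ab X)
    (fun W : {W : X.Opens // IsAffineOpen W ∧ W ≤ V} => W.1) V (fun W => homOfLE W.2.2) (hcov V)
    s hcompat
  refine ⟨s₀, ?_⟩
  refine TopCat.Sheaf.eq_of_locally_eq' (⟨F.presheaf, F.isSheaf⟩ : TopCat.Sheaf Ab X)
    (fun W : {W : X.Opens // IsAffineOpen W ∧ W ≤ V} => W.1 ⊓ U) (V ⊓ U)
    (fun W => homOfLE (inf_le_inf_right U W.2.2)) (hcovU V) _ _ (fun W => ?_)
  change F.presheaf.map (homOfLE (inf_le_inf_right U W.2.2 : W.1 ⊓ U ≤ V ⊓ U)).op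
      (F.presheaf.map (homOfLE (inf_le_left : V ⊓ U ≤ V)).op s₀) =
    F.presheaf.map (homOfLE (inf_le_inf_right U W.2.2 : W.1 ⊓ U ≤ V ⊓ U)).op g
  rw [← hs W, ← hs₀ W]
  change _ = F.presheaf.map (homOfLE (inf_le_left : W.1 ⊓ U ≤ W.1)).op
    (F.presheaf.map (homOfLE W.2.2).op s₀)
  rw [map_map_eq F _ _ (homOfLE ((inf_le_left : W.1 ⊓ U ≤ W.1).trans W.2.2)).op,
    map_map_eq F _ _ (homOfLE ((inf_le_left : W.1 ⊓ U ≤ W.1).trans W.2.2)).op]

end General

end Groth.Agent.Lead.Hartogs
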