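import Mathlib
import Groth.Prelude
import Groth.Agent.Lib.Helper8.LCFalt2
import Groth.Agent.Lib.Lead.Hartogs2

/-!
# Isomorphism criterion: stalkwise iso or (depth ≥ 2 and not an associated point) (lead)

Algebra: `ψ : M → N` over a Noetherian ring, `M` finite, such that at every prime either `ψ_p` is
bijective or `depth M_p ≥ 2` and `p ∉ Ass N`; then `ψ` is bijective.  Then the sheaf version.
-/

set_option autoImplicit false
set_option linter.style.haveILetI false

universe u v

open IsLocalRing RingTheory.Sequence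

namespace Groth.Agent.Lead.IsoDepth

/-- a regular pair on a finite module of depth ≥ 2 over a local ring. -/
theorem exists_regPair_of_depth (S : Type u) [CommRing S] [IsLocalRing S] (M : Type v)
    [AddCommGroup M] [Module S M] [Module.Finite S M]
    (h : (2 : ℕ∞) ≤ LocCoh.depth S M) :
    ∃ a b : S, a ∈ maximalIdeal S ∧ b ∈ maximalIdeal S ∧ IsSMulRegular M a ∧
      ∀ x y : M, b • x = a • y → ∃ z, x = a • z := by
  classical
  by_cases htop : maximalIdeal S • (⊤ : Submodule S M) = ⊤
  · have hbot : (⊤ : Submodule S M) = ⊥ :=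
      Submodule.eq_bot_of_le_smul_of_le_jacobson_bot (maximalIdeal S) ⊤ Module.Finite.fg_top
        (le_of_eq htop.symm) (IsLocalRing.jacobson_eq_maximalIdeal ⊥ bot_ne_top).ge
    have hsub : ∀ x : M, x = 0 := fun x => by
      have hx : x ∈ (⊤ : Submodule S M) := trivial
      rw [hbot] at hx
      exact (Submodule.mem_bot S).1 hx
    exact ⟨0, 0, zero_mem _, zero_mem _, fun x y _ => (hsub x).trans (hsub y).symm,
      fun x _ _ => ⟨0, by rw [smul_zero]; exact hsub x⟩⟩
  · unfold LocCoh.depth LocCoh.idealDepth at h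
    rw [if_neg htop] at h
    obtain ⟨rs, hrs, hlen⟩ : ∃ rs : List S,
        (IsWeaklyRegular M rs ∧ ∀ r ∈ rs, r ∈ maximalIdeal S) ∧ 2 ≤ rs.length := by
      by_contra hcon
      push Not at hcon
      have : (⨆ (rs : List S) (_ : IsWeaklyRegular M rs ∧ ∀ r ∈ rs, r ∈ maximalIdeal S),
          (rs.length : ℕ∞)) ≤ 1 := by
        refine iSup_le fun rs => iSup_le fun hrs => ?_
        have := hcon rs hrs
        have h1 : rs.length ≤ 1 := by omega
        exact_mod_cast h1
      have h2 := h.trans this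
      exact absurd h2 (by decide)
    match rs, hrs, hlen with
    | t₁ :: t₂ :: rest, hrs, _ =>
      obtain ⟨hreg, hmem⟩ := hrs
      rw [isWeaklyRegular_cons_iff] at hreg
      obtain ⟨hr1, hreg2⟩ := hreg
      rw [isWeaklyRegular_cons_iff] at hreg2
      obtain ⟨hr2, -⟩ := hreg2
      refine ⟨t₁, t₂, hmem t₁ (by simp), hmem t₂ (by simp), hr1, ?_⟩
      intro x y hxy
      have h0 : t₂ • (Submodule.Quotient.mk x : QuotSMulTop t₁ M) = t₂ • 0 := by
        rw [smul_zero, ← Submodule.Quotient.mk_smul, Submodule.Quotient.mk_eq_zero, hxy]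
        exact Submodule.smul_mem_pointwise_smul y t₁ ⊤ trivial
      have h1 := hr2 h0
      rw [Submodule.Quotient.mk_eq_zero, Submodule.mem_smul_pointwise_iff_exists] at h1
      obtain ⟨z, -, hz⟩ := h1
      exact ⟨z, hz.symm⟩

variable {R : Type u} [CommRing R]

/-- element-wise form of a regular pair on `M_p`. -/
theorem exists_regPair_localized (p : Ideal R) [p.IsPrime] (M : Type u) [AddCommGroup M]
    [Module R M] [Module.Finite R M]
    (h : (2 : ℕ∞) ≤ LocCoh.depth (Localization.AtPrime p) (LocalizedModule p.primeCompl M)) :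
    ∃ a0 b0 : R, a0 ∈ p ∧ b0 ∈ p ∧ (∀ w : M, a0 • w = 0 → ∃ t : R, t ∉ p ∧ t • w = 0) ∧
      (∀ u v : M, b0 • u = a0 • v → ∃ t : R, t ∉ p ∧ ∃ u' : M, t • u = a0 • u') := by
  haveI : Module.Finite (Localization.AtPrime p) (LocalizedModule p.primeCompl M) :=
    Module.Finite.of_isLocalizedModule p.primeCompl (LocalizedModule.mkLinearMap p.primeCompl M)
  obtain ⟨a, b, ha, hb, hreg, hpair⟩ := exists_regPair_of_depth _ _ h
  obtain ⟨⟨a0, sa⟩, hsa⟩ := IsLocalization.surj p.primeCompl a
  obtain ⟨⟨b0, sb⟩, hsb⟩ := IsLocalization.surj p.primeCompl b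
  simp only at hsa hsb
  have ha0 : a0 ∈ p := by
    have h1 : algebraMap R (Localization.AtPrime p) a0 ∈ maximalIdeal (Localization.AtPrime p) := by
      rw [← hsa]
      exact Ideal.mul_mem_right _ _ ha
    exact (IsLocalization.AtPrime.to_map_mem_maximal_iff (Localization.AtPrime p) p a0).1 h1
  have hb0 : b0 ∈ p := by
    have h1 : algebraMap R (Localization.AtPrime p) b0 ∈ maximalIdeal (Localization.AtPrime p) := by
      rw [← hsb]
      exact Ideal.mul_mem_right _ _ hb
    exact (IsLocalization.AtPrime.to_map_mem_maximal_iff (Localization.AtPrime p) p b0).1 h1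
  have hsmulA : ∀ z : LocalizedModule p.primeCompl M, (sa : R) • (a • z) = a0 • z := fun z => by
    rw [← algebraMap_smul (Localization.AtPrime p) (sa : R) (a • z), smul_smul, mul_comm, hsa,
      algebraMap_smul]
  have hsmulB : ∀ z : LocalizedModule p.primeCompl M, (sb : R) • (b • z) = b0 • z := fun z => by
    rw [← algebraMap_smul (Localization.AtPrime p) (sb : R) (b • z), smul_smul, mul_comm, hsb,
      algebraMap_smul]
  have hcommA : ∀ (r : R) (z : LocalizedModule p.primeCompl M), a • (r • z) = r • (a • z) :=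
    fun r z => (smul_comm r a z).symm
  have hcommB : ∀ (r : R) (z : LocalizedModule p.primeCompl M), b • (r • z) = r • (b • z) :=
    fun r z => (smul_comm r b z).symm
  obtain ⟨f, hf⟩ : ∃ f : M →ₗ[R] LocalizedModule p.primeCompl M,
      f = LocalizedModule.mkLinearMap p.primeCompl M := ⟨_, rfl⟩
  haveI : IsLocalizedModule p.primeCompl f := hf ▸ inferInstance
  refine ⟨a0, b0, ha0, hb0, fun w hw => ?_, fun u v huv => ?_⟩
  · have h1 : a • f w = a • (0 : LocalizedModule p.primeCompl M) := by
      apply IsLocalizedModule.smul_injective f sa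
      show (sa : R) • (a • f w) = (sa : R) • (a • (0 : LocalizedModule p.primeCompl M))
      rw [hsmulA, hsmulA, ← map_smul, hw, map_zero, smul_zero]
    have h3 : f w = 0 := hreg h1
    obtain ⟨s, hs⟩ := (IsLocalizedModule.eq_zero_iff p.primeCompl f).1 h3
    exact ⟨s, Ideal.mem_primeCompl_iff.1 s.2, hs⟩
  · have h1 : b • ((sb : R) • f u) = a • ((sa : R) • f v) := by
      rw [hcommB, hsmulB, hcommA, hsmulA, ← map_smul, ← map_smul, huv]
    obtain ⟨z, hz⟩ := hpair _ _ h1
    obtain ⟨⟨z0, sz⟩, hsz⟩ := IsLocalizedModule.surj p.primeCompl f z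
    have hsz' : (sz : R) • z = f z0 := hsz
    have h2 : f (((sz : R) * (sa : R) * (sb : R)) • u) = f (a0 • z0) := by
      rw [map_smul, map_smul, mul_smul, mul_smul, hz, hsmulA, smul_comm (sz : R) a0, hsz']
    obtain ⟨c, hc⟩ := IsLocalizedModule.exists_of_eq (S := p.primeCompl) h2
    refine ⟨(c : R) * ((sz : R) * (sa : R) * (sb : R)), ?_, (c : R) • z0, ?_⟩
    · exact Ideal.mem_primeCompl_iff.1 (p.primeCompl.mul_mem c.2
        (p.primeCompl.mul_mem (p.primeCompl.mul_mem sz.2 sa.2) sb.2))
    · rw [mul_smul, smul_comm a0 (c : R) z0]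
      exact hc

/-- **Algebraic criterion.** -/
theorem bijective_of_depth_off_ass [IsNoetherianRing R] {M N : Type u} [AddCommGroup M]
    [Module R M] [Module.Finite R M] [AddCommGroup N] [Module R N] (ψ : M →ₗ[R] N)
    (h : ∀ (p : Ideal R) [p.IsPrime],
      ((∀ k : M, ψ k = 0 → ∃ s : R, s ∉ p ∧ s • k = 0) ∧
        (∀ n : N, ∃ s : R, s ∉ p ∧ ∃ m : M, s • n = ψ m)) ∨
      ((2 : ℕ∞) ≤ LocCoh.depth (Localization.AtPrime p) (LocalizedModule p.primeCompl M) ∧
        ¬ IsAssociatedPrime p N)) :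
    Function.Bijective ψ := by
  have hinj : Function.Injective ψ := by
    rw [← LinearMap.ker_eq_bot]
    by_contra hne
    haveI : Nontrivial (LinearMap.ker ψ) := Submodule.nontrivial_iff_ne_bot.2 hne
    obtain ⟨p, hp⟩ := associatedPrimes.nonempty R (LinearMap.ker ψ)
    have hpM : p ∈ associatedPrimes R M :=
      associatedPrimes.subset_of_injective (f := (LinearMap.ker ψ).subtype)
        (Submodule.injective_subtype _) hp
    haveI : p.IsPrime := hp.isPrime
    obtain ⟨-, k, hk⟩ := isAssociatedPrime_iff.1 hp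
    rcases h p with ⟨h1, -⟩ | ⟨h2, -⟩
    · obtain ⟨s, hs, hsk⟩ := h1 k.1 (LinearMap.mem_ker.1 k.2)
      apply hs
      rw [hk, Submodule.mem_colon_singleton, Submodule.mem_bot]
      exact Subtype.ext hsk
    · rw [Groth.Agent.Helper8.LC.depth_localizedModule_eq_zero_of_mem_associatedPrimes p M hpM]
        at h2
      exact absurd h2 (by decide)
  refine ⟨hinj, ?_⟩
  rw [← LinearMap.range_eq_top]
  by_contra hne
  haveI : Nontrivial (N ⧸ LinearMap.range ψ) := Submodule.Quotient.nontrivial_iff.2 hne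
  obtain ⟨p, hp⟩ := associatedPrimes.nonempty R (N ⧸ LinearMap.range ψ)
  haveI hpp : p.IsPrime := hp.isPrime
  obtain ⟨-, c, hc⟩ := isAssociatedPrime_iff.1 hp
  obtain ⟨n', rfl⟩ := Submodule.Quotient.mk_surjective _ c
  have key : ∀ r : R, r ∈ p ↔ r • n' ∈ LinearMap.range ψ := fun r => by
    rw [hc, Submodule.mem_colon_singleton, Submodule.mem_bot, ← Submodule.Quotient.mk_smul,
      Submodule.Quotient.mk_eq_zero]
  rcases h p with ⟨-, h1⟩ | ⟨h2, hnass⟩
  · obtain ⟨s, hs, m, hm⟩ := h1 n'
    exact hs ((key s).2 ⟨m, hm.symm⟩)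
  · apply hnass
    obtain ⟨a0, b0, ha0, hb0, hreg, hpair⟩ := exists_regPair_localized p M h2
    obtain ⟨u, hu⟩ := (key a0).1 ha0
    obtain ⟨v, hv⟩ := (key b0).1 hb0
    have huv : b0 • u = a0 • v := by
      apply hinj
      rw [map_smul ψ b0 u, map_smul ψ a0 v, hu, hv, smul_comm]
    obtain ⟨t, ht, u', hu'⟩ := hpair u v huv
    obtain ⟨g', hg'⟩ : ∃ g' : N, g' = t • n' - ψ u' := ⟨_, rfl⟩
    have hag : a0 • g' = 0 := by
      rw [hg', smul_sub, ← map_smul ψ a0 u', ← hu', map_smul ψ t u, hu, smul_comm a0 t n', sub_self]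
    have hstep : ∀ r ∈ p, ∃ s : R, s ∉ p ∧ s • r • g' = 0 := by
      intro r hr
      obtain ⟨w, hw⟩ := (key r).1 hr
      have h3 : r • g' = ψ (t • w - r • u') := by
        rw [hg', smul_sub, map_sub, map_smul ψ t w, map_smul ψ r u', hw, smul_comm r t n']
      have h4 : a0 • (t • w - r • u') = 0 := by
        apply hinj
        rw [map_smul ψ a0 _, ← h3, smul_comm a0 r g', hag, smul_zero, map_zero]
      obtain ⟨s, hs, hs0⟩ := hreg _ h4
      exact ⟨s, hs, by rw [h3, ← map_smul ψ s _, hs0, map_zero]⟩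
    have hfg : ∀ I : Ideal R, I.FG → I ≤ p → ∃ T : R, T ∉ p ∧ ∀ r ∈ I, T • r • g' = 0 := by
      intro I hI
      refine Submodule.fg_induction
        (motive := fun I _ => I ≤ p → ∃ T : R, T ∉ p ∧ ∀ r ∈ I, T • r • g' = 0) ?_ ?_ I hI
      · intro x hx
        have hxp : x ∈ p := hx (Submodule.mem_span_singleton_self x)
        obtain ⟨s, hs, hs0⟩ := hstep x hxp
        refine ⟨s, hs, fun r hr => ?_⟩
        obtain ⟨c, rfl⟩ := Submodule.mem_span_singleton.1 hr
        rw [smul_assoc, smul_comm s c, hs0, smul_zero]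
      · intro I₁ I₂ _ _ h1 h2 hle
        obtain ⟨T₁, hT₁, hk₁⟩ := h1 (le_sup_left.trans hle)
        obtain ⟨T₂, hT₂, hk₂⟩ := h2 (le_sup_right.trans hle)
        refine ⟨T₁ * T₂, fun hmem => (hpp.mem_or_mem hmem).elim hT₁ hT₂, fun r hr => ?_⟩
        obtain ⟨r₁, hr₁, r₂, hr₂, rfl⟩ := Submodule.mem_sup.1 hr
        rw [add_smul, smul_add, mul_smul, mul_smul, hk₂ r₂ hr₂, smul_zero, smul_comm T₁ T₂,
          hk₁ r₁ hr₁, smul_zero, add_zero]
    obtain ⟨T, hT, hTk⟩ := hfg p (IsNoetherian.noetherian p) le_rfl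
    refine isAssociatedPrime_iff.2 ⟨hpp, T • g', ?_⟩
    ext r
    rw [Submodule.mem_colon_singleton, Submodule.mem_bot]
    constructor
    · intro hr
      rw [smul_comm]
      exact hTk r hr
    · intro hr
      have h5 : (r * T * t) • n' ∈ LinearMap.range ψ := by
        refine ⟨r • T • u', ?_⟩
        have h6 : r • T • g' = (r * T * t) • n' - ψ (r • T • u') := by
          rw [hg', smul_sub, smul_sub, map_smul ψ r _, map_smul ψ T _, mul_smul, mul_smul]
        rw [hr] at h6
        exact (sub_eq_zero.1 h6.symm).symm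
      have h6 := (key _).2 h5
      rcases hpp.mem_or_mem h6 with h7 | h7
      · rcases hpp.mem_or_mem h7 with h8 | h8
        · exact h8
        · exact absurd h8 hT
      · exact absurd h7 ht


section Geometric

open CategoryTheory AlgebraicGeometry Opposite TopologicalSpace
open Groth.Agent.Helper13.QCoh Groth.Agent.Helper13.FinType Groth.Agent.Helper13.QCohLoc
  Groth.Agent.Helper13.LocFree Groth.Agent.Helper13.FlatOver

/-- an associated prime of the sections over an affine open gives an associated point. -/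
theorem isAssPoint_of_isAssociatedPrime {X : Scheme.{u}} (G : X.Modules) [G.IsQuasicoherent]
    {V : X.Opens} (hV : IsAffineOpen V) (x : V)
    (hp : IsAssociatedPrime (hV.primeIdealOf x).asIdeal Γ(G, V)) : Curv2.IsAssPoint G (x : X) := by
  haveI hloc : IsLocalization.AtPrime (X.presheaf.stalk (x : X)) (hV.primeIdealOf x).asIdeal :=
    hV.isLocalization_stalk x
  letI := modStalk G x
  haveI := isScalarTower_stalk G x
  haveI hlm : IsLocalizedModule (hV.primeIdealOf x).asIdeal.primeCompl (germLin G x) :=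
    isLocalizedModule_germ G hV x
  have hcomap : Ideal.comap (algebraMap Γ(X, V) (X.presheaf.stalk (x : X)))
      (IsLocalRing.maximalIdeal (X.presheaf.stalk (x : X))) = (hV.primeIdealOf x).asIdeal :=
    IsLocalization.AtPrime.under_maximalIdeal (X.presheaf.stalk (x : X))
      (hV.primeIdealOf x).asIdeal
  exact Module.associatedPrimes.mem_associatedPrimes_of_comap_mem_associatedPrimes_of_isLocalizedModule
    (hV.primeIdealOf x).asIdeal.primeCompl (germLin G x)
    (IsLocalRing.maximalIdeal (X.presheaf.stalk (x : X))) (hcomap.symm ▸ hp)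

/-- **Sheaf criterion.** `φ : F ⟶ G` with `F` coherent, `G` quasi-coherent on a locally Noetherian
scheme; at every point either `φ_x` is bijective or `depth F_x ≥ 2` and `x` is not an associated
point of `G`.  Then `φ` is an isomorphism. -/
theorem isIso_of_stalk_or_depth (X : Scheme.{u}) [IsLocallyNoetherian X] {F G : X.Modules}
    (φ : F ⟶ G) [F.IsQuasicoherent] [SheafOfModules.IsFiniteType (R := X.ringCatSheaf) F]
    [G.IsQuasicoherent]
    (h : ∀ x : X, Function.Bijective (stalkMap φ x) ∨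
      ((2 : ℕ∞) ≤ LocCoh.depth (X.presheaf.stalk x) (F.presheaf.stalk x) ∧
        ¬ Curv2.IsAssPoint G x)) :
    IsIso φ := by
  refine isIso_of_app_bijective_of_isBasis φ X.isBasis_affineOpens ?_
  intro V hV
  have hV' : IsAffineOpen V := hV
  haveI : IsNoetherianRing Γ(X, V) := IsLocallyNoetherian.component_noetherian ⟨V, hV'⟩
  haveI : Module.Finite Γ(X, V) Γ(F, V) := finite_sections_of_isFiniteType F hV'
  have hb : Function.Bijective (appLinearMap φ V) := by
    refine bijective_of_depth_off_ass (appLinearMap φ V) ?_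
    intro p hp
    have hxV0 : hV'.fromSpec (⟨p, hp⟩ : PrimeSpectrum Γ(X, V)) ∈ V := by
      have : hV'.fromSpec (⟨p, hp⟩ : PrimeSpectrum Γ(X, V)) ∈ hV'.fromSpec.opensRange := ⟨_, rfl⟩
      rwa [hV'.opensRange_fromSpec] at this
    obtain ⟨x, hx⟩ : ∃ x : X, x = hV'.fromSpec (⟨p, hp⟩ : PrimeSpectrum Γ(X, V)) := ⟨_, rfl⟩
    have hxV : x ∈ V := hx ▸ hxV0
    have hprime : hV'.primeIdealOf ⟨x, hxV⟩ = ⟨p, hp⟩ := by
      subst hx
      exact primeIdealOf_fromSpec' hV' _ _
    have hnot : ∀ g : Γ(X, V), x ∈ X.basicOpen g ↔ g ∉ p := fun g => by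
      rw [mem_basicOpen_iff_notMem_primeIdealOf hV' x hxV g, hprime]
    rcases h x with hbij | ⟨hd, hass⟩
    · left
      refine ⟨fun k hk => ?_, fun n => ?_⟩
      · have hk' : φ.app V k = 0 := hk
        have h0 : F.presheaf.germ V x hxV k = 0 := by
          apply hbij.1
          rw [stalkMap_germ, hk', map_zero, map_zero]
        obtain ⟨g, hg1, hg2⟩ := exists_smul_eq_zero_of_germ_eq_zero F hV' x hxV k h0
        exact ⟨g, (hnot g).1 hg1, hg2⟩
      · obtain ⟨m, hm⟩ := hbij.2 (G.presheaf.germ V x hxV n)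
        obtain ⟨g, hg1, t, ht⟩ := exists_germ_smul_eq F hV' x hxV m
        have h0 : G.presheaf.germ V x hxV (g • n - φ.app V t) = 0 := by
          rw [map_sub, germ_smul, ← hm, ← stalkMap_smul, ht, stalkMap_germ, sub_self]
        obtain ⟨g', hg'1, hg'2⟩ := exists_smul_eq_zero_of_germ_eq_zero G hV' x hxV _ h0
        refine ⟨g' * g, fun hmem => (hp.mem_or_mem hmem).elim ((hnot g').1 hg'1) ((hnot g).1 hg1),
          g' • t, ?_⟩
        rw [smul_sub, sub_eq_zero] at hg'2
        rw [mul_smul, hg'2]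
        exact (Scheme.Modules.Hom.app_smul φ g' t).symm
    · right
      refine ⟨?_, fun hp' => hass ?_⟩
      · rw [← Groth.Agent.Lead.Hartogs.depth_stalk_eq F hV' ⟨x, hxV⟩ ⟨p, hp⟩ hprime]
        exact hd
      · refine isAssPoint_of_isAssociatedPrime G hV' ⟨x, hxV⟩ ?_
        rw [hprime]
        exact hp'
  exact ⟨fun a b hab => hb.1 hab, fun n => hb.2 n⟩

/-- a point of an integral scheme whose local ring has zero maximal ideal is the generic point. -/
theorem eq_genericPoint_of_maximalIdeal_eq_bot {X : Scheme.{u}} [IsIntegral X] {V : X.Opens}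
    (hV : IsAffineOpen V) (x : V)
    (hbot : IsLocalRing.maximalIdeal (X.presheaf.stalk (x : X)) = ⊥) :
    (x : X) = genericPoint X := by
  haveI : Nonempty V := ⟨x⟩
  haveI hloc : IsLocalization.AtPrime (X.presheaf.stalk (x : X)) (hV.primeIdealOf x).asIdeal :=
    hV.isLocalization_stalk x
  have hp : (hV.primeIdealOf x).asIdeal = ⊥ := by
    have h1 := IsLocalization.AtPrime.under_maximalIdeal (X.presheaf.stalk (x : X))
      (hV.primeIdealOf x).asIdeal
    rw [← h1, hbot, Ideal.under_def]
    refine Ideal.comap_bot_of_injective _ (IsLocalization.injective (X.presheaf.stalk (x : X))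
      (M := (hV.primeIdealOf x).asIdeal.primeCompl) ?_)
    intro s hs
    exact mem_nonZeroDivisors_of_ne_zero (fun h0 => hs (h0 ▸ zero_mem _))
  have hmem : genericPoint X ∈ V :=
    ((genericPoint_spec X).mem_open_set_iff V.isOpen).mpr ⟨x, trivial, x.2⟩
  have hgen : hV.primeIdealOf ⟨genericPoint X, hmem⟩ = genericPoint (Spec Γ(X, V)) :=
    hV.primeIdealOf_genericPoint
  rw [genericPoint_eq_bot_of_affine] at hgen
  have heq : hV.primeIdealOf x = hV.primeIdealOf ⟨genericPoint X, hmem⟩ :=
    (PrimeSpectrum.ext hp : hV.primeIdealOf x = ⊥).trans hgen.symm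
  calc (x : X) = hV.fromSpec (hV.primeIdealOf x) := (hV.fromSpec_primeIdealOf x).symm
    _ = hV.fromSpec (hV.primeIdealOf ⟨genericPoint X, hmem⟩) := by rw [heq]
    _ = genericPoint X := hV.fromSpec_primeIdealOf ⟨genericPoint X, hmem⟩

/-- on an integral scheme, a point other than the generic point is not associated to a module with
torsion-free stalk there. -/
theorem not_isAssPoint_of_ne_genericPoint {X : Scheme.{u}} [IsIntegral X] (G : X.Modules) (x : X)
    (htf : NoZeroSMulDivisors (X.presheaf.stalk x) (G.presheaf.stalk x))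
    (hx : x ≠ genericPoint X) : ¬ Curv2.IsAssPoint G x := by
  rintro ⟨-, g, hg⟩
  apply hx
  have hg0 : g ≠ 0 := by
    rintro rfl
    have h1 : (1 : X.presheaf.stalk x) ∈ IsLocalRing.maximalIdeal (X.presheaf.stalk x) := by
      rw [hg]
      apply Ideal.le_radical
      rw [Submodule.mem_colon_singleton, smul_zero]
      exact Submodule.zero_mem _
    exact (IsLocalRing.maximalIdeal.isMaximal _).ne_top ((Ideal.eq_top_iff_one _).2 h1)
  have hbot : IsLocalRing.maximalIdeal (X.presheaf.stalk x) = ⊥ := by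
    rw [eq_bot_iff]
    intro r hr
    rw [hg] at hr
    obtain ⟨n, hn⟩ := hr
    rw [Submodule.mem_colon_singleton, Submodule.mem_bot] at hn
    have h2 : r ^ n = 0 := (htf.eq_zero_or_eq_zero_of_smul_eq_zero hn).resolve_right hg0
    exact (Submodule.mem_bot _).2 (eq_zero_of_pow_eq_zero h2)
  obtain ⟨_, ⟨V, hV, rfl⟩, hxV, -⟩ :=
    X.isBasis_affineOpens.exists_subset_of_mem_open (Set.mem_univ x) isOpen_univ
  exact eq_genericPoint_of_maximalIdeal_eq_bot hV ⟨x, hxV⟩ hbot

end Geometric

end Groth.Agent.Lead.IsoDepth
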