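import Mathlib
import Groth.Agent.Lib.Lead.Hartogs2

/-!
# Converse of Hartogs for coherent modules (lead)

If `Γ(A, F) → Γ(A ∩ U, F)` is bijective for an affine open `A`, then `depth F_x ≥ 2` at all points
of `A` outside `U`.
-/

set_option autoImplicit false
set_option linter.style.haveILetI false

universe u

open CategoryTheory AlgebraicGeometry Opposite TopologicalSpace LocCoh IsLocalRing
open Groth.Agent.Helper13.QCoh Groth.Agent.Helper13.FinType Groth.Agent.Helper13.QCohLoc
  Groth.Agent.Helper13.LocFree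

namespace Groth.Agent.Lead.Hartogs

open Groth.Agent.Lead.Depth

section Alg

variable {R : Type u} [CommRing R] [IsNoetherianRing R]

/-- abstract converse of Hartogs: bijectivity of the "restriction" forces `depth_I N ≥ 2`. -/
theorem two_le_idealDepth_of_bijective {N G : Type u} [AddCommGroup N] [Module R N]
    [Module.Finite R N] [AddCommGroup G] [Module R G] (f : N →ₗ[R] G) {ι : Type*} (a : ι → R)
    (E3 : ∀ g : G, (∀ i, a i • g = 0) → g = 0)
    (E4 : ∀ (n : ι → N), (∀ c c', a c' • n c = a c • n c') → ∃ g : G, ∀ c, a c • g = f (n c))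
    (hf : Function.Bijective f) :
    2 ≤ idealDepth (Ideal.span (Set.range a)) N := by
  have haI : ∀ c, a c ∈ Ideal.span (Set.range a) := fun c => Ideal.subset_span ⟨c, rfl⟩
  have h0 : ∀ m : N, (∀ c, a c • m = 0) → m = 0 := by
    intro m hm
    apply hf.1
    rw [map_zero]
    apply E3
    intro c
    rw [← map_smul, hm c, map_zero]
  -- step 1
  obtain ⟨x, hxI, hx⟩ : ∃ x ∈ Ideal.span (Set.range a), IsSMulRegular N x := by
    by_contra hcon
    push Not at hcon
    obtain ⟨Q, hQ, hIQ⟩ := exists_le_associatedPrime_of_forall_not_regular' N _ hcon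
    obtain ⟨hprime, m, hm⟩ := isAssociatedPrime_iff.1 hQ
    have hm0 : m = 0 := h0 m (fun c => by
      have := hIQ (haI c)
      rwa [hm, Submodule.mem_colon_singleton, Submodule.mem_bot] at this)
    apply hprime.ne_top
    rw [Ideal.eq_top_iff_one, hm, Submodule.mem_colon_singleton, Submodule.mem_bot, one_smul]
    exact hm0
  -- step 2
  obtain ⟨y, hyI, hy⟩ : ∃ y ∈ Ideal.span (Set.range a), IsSMulRegular (QuotSMulTop x N) y := by
    by_contra hcon
    push Not at hcon
    obtain ⟨Q, hQ, hIQ⟩ :=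
      exists_le_associatedPrime_of_forall_not_regular' (QuotSMulTop x N) _ hcon
    obtain ⟨hprime, mbar, hm⟩ := isAssociatedPrime_iff.1 hQ
    obtain ⟨m, rfl⟩ := Submodule.Quotient.mk_surjective _ mbar
    have hmem : ∀ c, ∃ n : N, x • n = a c • m := by
      intro c
      have := hIQ (haI c)
      rw [hm, Submodule.mem_colon_singleton, Submodule.mem_bot, ← Submodule.Quotient.mk_smul,
        Submodule.Quotient.mk_eq_zero] at this
      obtain ⟨n, -, hn⟩ := (Submodule.mem_smul_pointwise_iff_exists _ _ _).1 this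
      exact ⟨n, hn⟩
    choose n hn using hmem
    have hcompat : ∀ c c', a c' • n c = a c • n c' := by
      intro c c'
      apply hx
      change x • (a c' • n c) = x • (a c • n c')
      rw [smul_comm x, hn, smul_comm x, hn, smul_comm]
    obtain ⟨g, hg⟩ := E4 n hcompat
    obtain ⟨n', rfl⟩ := hf.2 g
    have h1 : ∀ c, a c • n' = n c := fun c => hf.1 (by rw [map_smul]; exact hg c)
    have h2 : x • n' = m := by
      rw [← sub_eq_zero]
      apply h0
      intro c
      rw [smul_sub, smul_comm, h1, hn, sub_self]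
    apply hprime.ne_top
    rw [Ideal.eq_top_iff_one, hm, Submodule.mem_colon_singleton, Submodule.mem_bot, one_smul,
      Submodule.Quotient.mk_eq_zero, ← h2]
    exact Submodule.smul_mem_pointwise_smul n' x ⊤ trivial
  have hreg : RingTheory.Sequence.IsWeaklyRegular N [x, y] := by
    rw [RingTheory.Sequence.isWeaklyRegular_cons_iff]
    refine ⟨hx, ?_⟩
    rw [RingTheory.Sequence.isWeaklyRegular_cons_iff]
    exact ⟨hy, RingTheory.Sequence.IsWeaklyRegular.nil _ _⟩
  have := le_idealDepth_of_isWeaklyRegular (Ideal.span (Set.range a)) N [x, y] hreg (by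
    intro r hr
    simp only [List.mem_cons, List.not_mem_nil, or_false] at hr
    rcases hr with rfl | rfl
    exacts [hxI, hyI])
  simpa using this

end Alg

section Scheme

variable {X : Scheme.{u}} (F : X.Modules) [F.IsQuasicoherent]
  [SheafOfModules.IsFiniteType (R := X.ringCatSheaf) F]

/-- converse of Hartogs on an affine open -/
theorem two_le_depth_of_bijective (U : X.Opens) (A : X.Opens) (hA : IsAffineOpen A)
    [IsNoetherianRing Γ(X, A)]
    (hbij : Function.Bijective (F.presheaf.map (homOfLE (inf_le_left : A ⊓ U ≤ A)).op))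
    (x : X) (hxA : x ∈ A) (hxU : x ∉ U) :
    2 ≤ LocCoh.depth (X.presheaf.stalk x) (F.presheaf.stalk x) := by
  haveI : Module.Finite Γ(X, A) Γ(F, A) := finite_sections_of_isFiniteType F hA
  have hle : A ⊓ U ≤ A := inf_le_left
  letI modG : Module Γ(X, A) Γ(F, A ⊓ U) :=
    Module.compHom Γ(F, A ⊓ U) (X.presheaf.map (homOfLE hle).op).hom
  have hsmul : ∀ (r : Γ(X, A)) (g : Γ(F, A ⊓ U)),
      r • g = X.presheaf.map (homOfLE hle).op r • g := fun _ _ => rfl
  let f : Γ(F, A) →ₗ[Γ(X, A)] Γ(F, A ⊓ U) :=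
    { toFun := fun t => F.presheaf.map (homOfLE hle).op t
      map_add' := fun a b => map_add _ a b
      map_smul' := fun r t => Scheme.Modules.map_smul F (homOfLE hle) r t }
  have hf : ∀ t, f t = F.presheaf.map (homOfLE hle).op t := fun _ => rfl
  have hcover : A ⊓ U ≤ ⨆ i : {a : Γ(X, A) // X.basicOpen a ≤ A ⊓ U}, X.basicOpen i.1 := by
    intro z hz
    obtain ⟨b, hb1, hb2⟩ := hA.exists_basicOpen_le (V := A ⊓ U) ⟨z, hz⟩ (hle hz)
    exact Opens.mem_iSup.2 ⟨⟨b, hb1⟩, hb2⟩
  have hres_smul : ∀ (W : X.Opens) (hW : W ≤ A ⊓ U) (r : Γ(X, A)) (g : Γ(F, A ⊓ U)),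
      F.presheaf.map (homOfLE hW).op (r • g) =
        X.presheaf.map (homOfLE (hW.trans hle)).op r • F.presheaf.map (homOfLE hW).op g := by
    intro W hW r g
    rw [hsmul, Scheme.Modules.map_smul F (homOfLE hW)]
    congr 1
    exact res_map_map_eq _ _ _ r
  have hres_smul' : ∀ (W : X.Opens) (hW : W ≤ A) (r : Γ(X, A)) (t : Γ(F, A)),
      F.presheaf.map (homOfLE hW).op (r • t) =
        X.presheaf.map (homOfLE hW).op r • F.presheaf.map (homOfLE hW).op t :=
    fun W hW r t => Scheme.Modules.map_smul F (homOfLE hW) r t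
  -- units
  have hu : ∀ (i j : {a : Γ(X, A) // X.basicOpen a ≤ A ⊓ U}) (W : X.Opens) (hW : W ≤ X.basicOpen i.1)
      (hWA : W ≤ A), IsUnit (X.presheaf.map (homOfLE hWA).op i.1) := by
    intro i _ W hW hWA
    have h1 : IsUnit (X.presheaf.map (homOfLE (X.basicOpen_le i.1)).op i.1) :=
      RingedSpace.isUnit_res_basicOpen X.toRingedSpace i.1
    have h2 := h1.map (X.presheaf.map (homOfLE hW).op).hom
    have h3 : (X.presheaf.map (homOfLE hW).op).hom
        (X.presheaf.map (homOfLE (X.basicOpen_le i.1)).op i.1) =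
        X.presheaf.map (homOfLE hWA).op i.1 := res_map_map_eq _ _ _ i.1
    rwa [h3] at h2
  have hbij' : Function.Bijective f := hbij
  have hI := two_le_idealDepth_of_bijective f
    (fun i : {a : Γ(X, A) // X.basicOpen a ≤ A ⊓ U} => i.1) ?_ ?_ hbij'
  · -- conclude
    have hIp : Ideal.span (Set.range
        (fun i : {a : Γ(X, A) // X.basicOpen a ≤ A ⊓ U} => i.1)) ≤
        (hA.primeIdealOf ⟨x, hxA⟩).asIdeal := by
      rw [Ideal.span_le]
      rintro _ ⟨i, rfl⟩
      by_contra hni
      have h1 : hA.primeIdealOf ⟨x, hxA⟩ ∈ PrimeSpectrum.basicOpen i.1 := hni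
      rw [← hA.fromSpec_preimage_basicOpen] at h1
      have h2 : hA.fromSpec (hA.primeIdealOf ⟨x, hxA⟩) ∈ X.basicOpen i.1 := h1
      rw [hA.fromSpec_primeIdealOf ⟨x, hxA⟩] at h2
      exact hxU (i.2 h2).2
    have h1 := idealDepth_le_depth_localizedModule _ (hA.primeIdealOf ⟨x, hxA⟩).asIdeal hIp Γ(F, A)
    rw [depth_stalk_eq F hA ⟨x, hxA⟩ _ rfl]
    exact hI.trans h1
  · -- E3
    intro g hg
    refine TopCat.Sheaf.eq_of_locally_eq' (⟨F.presheaf, F.isSheaf⟩ : TopCat.Sheaf Ab X)
      (fun i : {a : Γ(X, A) // X.basicOpen a ≤ A ⊓ U} => X.basicOpen i.1) (A ⊓ U)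
      (fun i => homOfLE i.2) hcover _ _ (fun i => ?_)
    change F.presheaf.map (homOfLE i.2).op g = F.presheaf.map (homOfLE i.2).op 0
    rw [map_zero]
    have h1 := congrArg (F.presheaf.map (homOfLE i.2).op) (hg i)
    rw [hres_smul _ i.2, map_zero] at h1
    exact ((hu i i _ le_rfl (i.2.trans hle)).smul_eq_zero).1 h1
  · -- E4
    intro n hn
    -- local sections `s i` on `D(i)` with `i • s i = n i`
    have hloc : ∀ i : {a : Γ(X, A) // X.basicOpen a ≤ A ⊓ U}, ∃ s : Γ(F, X.basicOpen i.1),
        X.presheaf.map (homOfLE (i.2.trans hle)).op i.1 • s =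
          F.presheaf.map (homOfLE (i.2.trans hle)).op (n i) := by
      intro i
      obtain ⟨v, hv⟩ := hu i i _ le_rfl (i.2.trans hle)
      refine ⟨(↑v⁻¹ : Γ(X, X.basicOpen i.1)) • F.presheaf.map (homOfLE (i.2.trans hle)).op (n i), ?_⟩
      rw [← hv, smul_smul, Units.mul_inv, one_smul]
    choose s hs using hloc
    -- key identity on any open `W ≤ D(j)`
    have hkey : ∀ (i j : {a : Γ(X, A) // X.basicOpen a ≤ A ⊓ U}) (W : X.Opens)
        (hWj : W ≤ X.basicOpen j.1),
        X.presheaf.map (homOfLE (hWj.trans (j.2.trans hle))).op i.1 •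
          F.presheaf.map (homOfLE hWj).op (s j) =
        F.presheaf.map (homOfLE (hWj.trans (j.2.trans hle))).op (n i) := by
      intro i j W hWj
      have huj := hu j j W hWj (hWj.trans (j.2.trans hle))
      apply (huj.smul_left_cancel).1
      have e1 := congrArg (F.presheaf.map (homOfLE hWj).op) (hs j)
      rw [Scheme.Modules.map_smul F (homOfLE hWj),
        map_map_eq F _ _ (homOfLE (hWj.trans (j.2.trans hle))).op (n j),
        res_map_map_eq _ _ (homOfLE (hWj.trans (j.2.trans hle))).op j.1] at e1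
      rw [smul_smul, mul_comm, ← smul_smul, e1, ← hres_smul' W _ i.1 (n j),
        ← hres_smul' W _ j.1 (n i), hn j i]
    have hcompat : TopCat.Presheaf.IsCompatible F.presheaf
        (fun i : {a : Γ(X, A) // X.basicOpen a ≤ A ⊓ U} => X.basicOpen i.1) s := by
      intro i j
      have hWi : X.basicOpen i.1 ⊓ X.basicOpen j.1 ≤ X.basicOpen i.1 := inf_le_left
      have hWj : X.basicOpen i.1 ⊓ X.basicOpen j.1 ≤ X.basicOpen j.1 := inf_le_right
      have hui := hu i i _ hWi (hWi.trans (i.2.trans hle))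
      apply (hui.smul_left_cancel).1
      change X.presheaf.map (homOfLE (hWi.trans (i.2.trans hle))).op i.1 •
          F.presheaf.map (homOfLE hWi).op (s i) =
        X.presheaf.map (homOfLE (hWi.trans (i.2.trans hle))).op i.1 •
          F.presheaf.map (homOfLE hWj).op (s j)
      rw [hkey i i _ hWi]
      exact (hkey i j _ hWj).symm
    obtain ⟨g, hg, -⟩ := TopCat.Sheaf.existsUnique_gluing'
      (⟨F.presheaf, F.isSheaf⟩ : TopCat.Sheaf Ab X)
      (fun i : {a : Γ(X, A) // X.basicOpen a ≤ A ⊓ U} => X.basicOpen i.1) (A ⊓ U)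
      (fun i => homOfLE i.2) hcover s hcompat
    refine ⟨g, fun c => ?_⟩
    refine TopCat.Sheaf.eq_of_locally_eq' (⟨F.presheaf, F.isSheaf⟩ : TopCat.Sheaf Ab X)
      (fun i : {a : Γ(X, A) // X.basicOpen a ≤ A ⊓ U} => X.basicOpen i.1) (A ⊓ U)
      (fun i => homOfLE i.2) hcover _ _ (fun j => ?_)
    change F.presheaf.map (homOfLE j.2).op (c.1 • g) = F.presheaf.map (homOfLE j.2).op (f (n c))
    rw [hres_smul _ j.2, hf, map_map_eq F _ _ (homOfLE (j.2.trans hle)).op]
    have hgj : F.presheaf.map (homOfLE j.2).op g = s j := hg j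
    rw [hgj]
    have := hkey c j (X.basicOpen j.1) le_rfl
    rw [map_id_apply' F] at this
    exact this

end Scheme

end Groth.Agent.Lead.Hartogs

namespace Groth.Agent.Lead.Hartogs

open CategoryTheory AlgebraicGeometry

/-- variant of `bijective_res` for an open `W` equal to `V ⊓ U`. -/
theorem bijective_res' {X : Scheme.{u}} [IsLocallyNoetherian X] (F : X.Modules) [F.IsQuasicoherent]
    [SheafOfModules.IsFiniteType (R := X.ringCatSheaf) F] (U : X.Opens)
    (hdepth : ∀ x : X, x ∉ U →
      2 ≤ LocCoh.depth (X.presheaf.stalk x) (F.presheaf.stalk x)) (V W : X.Opens)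
    (hWV : W ≤ V) (hW : W = V ⊓ U) :
    Function.Bijective (F.presheaf.map (homOfLE hWV).op) := by
  subst hW
  exact bijective_res F U hdepth V

end Groth.Agent.Lead.Hartogs
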