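import Mathlib
import Groth.Prelude.Def_CInt
import Groth.Prelude.Def_Pic
import Groth.Agent.Lib.Lead.Hartogs4
import Groth.Agent.Lib.Lead.Depth13
import Groth.Agent.Lib.Helper13.InvGen
import Groth.Agent.Lib.Helper13.InvQCoh
import Groth.Agent.Lib.Helper13.GlobGen

/-!
# Sections of invertible modules on a flat scheme over a base with a schematically dense / big open
(lead)

* `depth_le_of_flat_local`: depth of the ring does not drop along flat local homomorphisms.
* `eq_zero_of_flat_of_forall_mul_eq_zero`: equational criterion: if `(0 : (r_i)) = 0` in `R` and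
  `B` is `R`-flat then `(0 :_B (r_i)) = 0`.
* `eq_zero_of_res_eq_zero`: functions on a flat `A/S` vanishing over a schematically dense open of
  `S` vanish.
* `injective_res_of_schematicallyDense`, `bijective_res_of_depth`: sections of invertible modules.
-/

set_option autoImplicit false
set_option linter.style.haveILetI false

universe u

open CategoryTheory AlgebraicGeometry Opposite TopologicalSpace LocCoh IsLocalRing
open Groth.Agent.Helper13.QCoh Groth.Agent.Helper13.FinType Groth.Agent.Helper13.Inv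

namespace Groth.Agent.Lead.SchDense

open Groth.Agent.Lead.Depth

section Alg

/-- depth does not drop along a flat local homomorphism. -/
theorem depth_le_of_flat_local {R S : Type u} [CommRing R] [CommRing S] [IsLocalRing R]
    [IsLocalRing S] (φ : R →+* S) (hφ : φ.Flat) [IsLocalHom φ] (n : ℕ)
    (h : (n : ℕ∞) ≤ LocCoh.depth R R) : (n : ℕ∞) ≤ LocCoh.depth S S := by
  letI := φ.toAlgebra
  haveI : Module.Flat R S := hφ
  have htop : maximalIdeal R • (⊤ : Submodule R R) ≠ ⊤ := by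
    rw [Ideal.smul_top_eq_map, Algebra.algebraMap_self, Ideal.map_id]
    intro h1
    have h2 : (1 : R) ∈ maximalIdeal R := by
      have : (1 : R) ∈ ((maximalIdeal R).restrictScalars R : Submodule R R) := by
        rw [h1]; trivial
      exact this
    exact (Ideal.ne_top_iff_one _).1 (IsLocalRing.maximalIdeal.isMaximal R).ne_top h2
  obtain ⟨rs, hlen, hreg, hmem⟩ := exists_of_le_idealDepth (maximalIdeal R) R htop n h
  have hreg' := RingTheory.Sequence.IsWeaklyRegular.of_flat (S := S) hreg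
  have hmem' : ∀ r ∈ rs.map (algebraMap R S), r ∈ maximalIdeal S := by
    intro r hr
    rw [List.mem_map] at hr
    obtain ⟨a, ha, rfl⟩ := hr
    rw [IsLocalRing.mem_maximalIdeal, mem_nonunits_iff]
    intro hu
    have : IsUnit a := IsLocalHom.map_nonunit (f := φ) a hu
    exact (IsLocalRing.mem_maximalIdeal a).1 (hmem a ha) this
  have := le_idealDepth_of_isWeaklyRegular (maximalIdeal S) S _ hreg' hmem'
  rw [List.length_map, hlen] at this
  exact this

/-- equational criterion: annihilators of finitely many elements commute with flat base change. -/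
theorem eq_zero_of_flat_of_forall_mul_eq_zero {R B : Type u} [CommRing R] [CommRing B]
    (φ : R →+* B) (hφ : φ.Flat) {ι : Type*} [Fintype ι] (r : ι → R)
    (hR : ∀ α : R, (∀ i, r i * α = 0) → α = 0) (c : B)
    (hc : ∀ i, φ (r i) * c = 0) : c = 0 := by
  classical
  letI := φ.toAlgebra
  haveI : Module.Flat R B := hφ
  let x : R →ₗ[R] B := LinearMap.toSpanSingleton R B c
  let f : (ι → R) →ₗ[R] R := Fintype.linearCombination R r
  have hsm : ∀ i, r i • c = 0 := fun i => by
    rw [Algebra.smul_def]; exact hc i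
  have hxf : x ∘ₗ f = 0 := by
    refine LinearMap.ext (fun v => ?_)
    simp only [x, f, LinearMap.comp_apply, LinearMap.toSpanSingleton_apply,
      Fintype.linearCombination_apply, LinearMap.zero_apply, Finset.sum_smul, smul_assoc, hsm,
      smul_zero, Finset.sum_const_zero]
  obtain ⟨k, a, y, hxy, haf⟩ := Module.Flat.exists_factorization_of_comp_eq_zero_of_free hxf
  have hc1 : c = y (a 1) := by
    have := LinearMap.congr_fun hxy 1
    simpa [x] using this
  have ha1 : a 1 = 0 := by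
    refine Finsupp.ext (fun j => ?_)
    apply hR
    intro i
    have h1 : a (f (Pi.single i 1)) = 0 := LinearMap.congr_fun haf (Pi.single i 1)
    have h2 : f (Pi.single i 1) = r i := by
      simp [f, Fintype.linearCombination_apply_single]
    rw [h2] at h1
    have h3 : a (r i) = r i • a 1 := by
      rw [← map_smul, smul_eq_mul, mul_one]
    rw [h3] at h1
    have := DFunLike.congr_fun h1 j
    simpa using this
  rw [hc1, ha1, map_zero]

end Alg

section Sch

variable {A S : Scheme.{u}} [IsLocallyNoetherian S] (f : A ⟶ S) [Flat f]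

/-- functions on a flat `S`-scheme vanishing over a schematically dense open of `S` vanish
(affine-local form). -/
theorem eq_zero_of_res_eq_zero (V : S.Opens) (hV : CInt.IsSchematicallyDense V)
    {W₀ : S.Opens} (hW₀ : IsAffineOpen W₀) {U₂ : A.Opens} (hU₂ : IsAffineOpen U₂)
    (e : U₂ ≤ f ⁻¹ᵁ W₀) (c : Γ(A, U₂))
    (hc : A.presheaf.map (homOfLE (inf_le_left : U₂ ⊓ f ⁻¹ᵁ V ≤ U₂)).op c = 0) : c = 0 := by
  classical
  haveI : IsNoetherianRing Γ(S, W₀) := IsLocallyNoetherian.component_noetherian ⟨W₀, hW₀⟩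
  haveI : NoetherianSpace ↥W₀ := noetherianSpace_of_isAffineOpen W₀ hW₀
  let U' : S.Opens := W₀ ⊓ V
  have hle : U' ≤ W₀ := inf_le_left
  have hcomp : IsCompact (U' : Set S) := by
    have h1 : (U' : Set S) =
        (Subtype.val : ↥W₀ → S) '' ((Subtype.val : ↥W₀ → S) ⁻¹' (U' : Set S)) := by
      ext y
      simp only [SetLike.mem_coe, Set.mem_image, Set.mem_preimage, Subtype.exists,
        exists_and_left, exists_prop, exists_eq_right_right]
      exact ⟨fun h => ⟨h, hle h⟩, fun h => h.1⟩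
    rw [h1]
    exact (NoetherianSpace.isCompact _).image continuous_subtype_val
  have hcover : U' ≤ ⨆ i : {b : Γ(S, W₀) // S.basicOpen b ≤ U'}, S.basicOpen i.1 := by
    intro x hx
    obtain ⟨b, hb1, hb2⟩ := hW₀.exists_basicOpen_le (V := U') ⟨x, hx⟩ (hle hx)
    exact Opens.mem_iSup.2 ⟨⟨b, hb1⟩, hb2⟩
  obtain ⟨t, ht⟩ := hcomp.elim_finite_subcover
    (fun b : {a : Γ(S, W₀) // S.basicOpen a ≤ U'} => (S.basicOpen b.1 : Set S))
    (fun b => (S.basicOpen b.1).isOpen) (by
      intro x hx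
      have := hcover hx
      rw [Opens.mem_iSup] at this
      obtain ⟨b, hb⟩ := this
      exact Set.mem_iUnion.2 ⟨b, hb⟩)
  let φ := f.appLE W₀ U₂ e
  have hflat : φ.hom.Flat := Flat.flat_appLE f hW₀ hU₂ e
  -- each `φ b` kills `c` up to a power
  have hb : ∀ b : {a : Γ(S, W₀) // S.basicOpen a ≤ U'}, ∃ n : ℕ, (φ.hom b.1) ^ n * c = 0 := by
    intro b
    have hbo : A.basicOpen (φ.hom b.1) ≤ U₂ ⊓ f ⁻¹ᵁ V := by
      have h1 : A.basicOpen (φ.hom b.1) = U₂ ⊓ f ⁻¹ᵁ (S.basicOpen b.1) :=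
        Scheme.basicOpen_appLE f U₂ W₀ e b.1
      rw [h1]
      refine inf_le_inf_left _ ?_
      intro z hz
      exact (b.2 hz).2
    apply exists_pow_mul_eq_zero_of_res_basicOpen_eq_zero_of_isAffineOpen A hU₂ c (φ.hom b.1)
    change A.presheaf.map (homOfLE (A.basicOpen_le (φ.hom b.1))).op c = 0
    rw [← res_map_map_eq (homOfLE (inf_le_left : U₂ ⊓ f ⁻¹ᵁ V ≤ U₂)).op (homOfLE hbo).op
      (homOfLE (A.basicOpen_le (φ.hom b.1))).op c, hc, map_zero]
  choose n hn using hb
  refine eq_zero_of_flat_of_forall_mul_eq_zero φ.hom hflat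
    (fun i : ↥t => (i.1.1 : Γ(S, W₀)) ^ n i.1) ?_ c ?_
  · intro α hα
    apply hV W₀
    rw [map_zero]
    refine TopCat.Sheaf.eq_of_locally_eq' S.sheaf
      (fun b : ↥t => S.basicOpen b.1.1) U' (fun b => homOfLE b.1.2) ?_ _ _ (fun b => ?_)
    · intro x hx
      have := ht hx
      rw [Set.mem_iUnion₂] at this
      obtain ⟨b, hbt, hxb⟩ := this
      exact Opens.mem_iSup.2 ⟨⟨b, hbt⟩, hxb⟩
    · change S.presheaf.map (homOfLE b.1.2).op
          (S.presheaf.map (homOfLE (inf_le_left : W₀ ⊓ V ≤ W₀)).op α) =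
        S.presheaf.map (homOfLE b.1.2).op 0
      rw [map_zero, res_map_map_eq _ _ (homOfLE (S.basicOpen_le b.1.1)).op α]
      have h1 := congrArg (S.presheaf.map (homOfLE (S.basicOpen_le b.1.1)).op) (hα b)
      rw [map_mul, map_pow, map_zero] at h1
      have hu : IsUnit ((S.presheaf.map (homOfLE (S.basicOpen_le b.1.1)).op b.1.1) ^ n b.1) :=
        (RingedSpace.isUnit_res_basicOpen S.toRingedSpace b.1.1).pow _
      exact (hu.mul_right_eq_zero).1 h1
  · intro i
    rw [map_pow]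
    exact hn i.1

variable (L : A.Modules) (hL : PicF.IsInvertible L)

include hL in
/-- sections of an invertible module on a flat `S`-scheme restrict injectively to the preimage of a
schematically dense open. -/
theorem injective_res_of_schematicallyDense (V : S.Opens) (hV : CInt.IsSchematicallyDense V)
    (W : S.Opens) :
    Function.Injective
      (L.presheaf.map (homOfLE (inf_le_left : f ⁻¹ᵁ W ⊓ f ⁻¹ᵁ V ≤ f ⁻¹ᵁ W)).op) := by
  intro s₁ s₂ h12
  have hs : L.presheaf.map (homOfLE (inf_le_left : f ⁻¹ᵁ W ⊓ f ⁻¹ᵁ V ≤ f ⁻¹ᵁ W)).op (s₁ - s₂) = 0 := by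
    rw [map_sub, h12, sub_self]
  suffices h0 : s₁ - s₂ = 0 from sub_eq_zero.1 h0
  generalize s₁ - s₂ = s at hs ⊢
  refine TopCat.Presheaf.section_ext (⟨L.presheaf, L.isSheaf⟩ : TopCat.Sheaf Ab A) (f ⁻¹ᵁ W) s 0
    (fun a ha => ?_)
  rw [map_zero]
  change L.presheaf.germ (f ⁻¹ᵁ W) a ha s = 0
  -- affine neighbourhood of `f a`
  obtain ⟨W₀, hW₀, hyW₀, hW₀W⟩ :=
    exists_isAffineOpen_mem_and_subset (x := f a) (U := W) ha
  -- local generator of `L`
  obtain ⟨U₀, haU₀, g, hg⟩ := (isInvertible_iff_exists_isGen L).1 hL a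
  obtain ⟨ca, hca⟩ := (hg a haU₀).2 (L.presheaf.germ (f ⁻¹ᵁ W) a ha s)
  obtain ⟨U₁, haU₁, c₁, hc₁⟩ := TopCat.Presheaf.exists_germ_eq A.presheaf ca
  let T : A.Opens := (U₁ ⊓ U₀) ⊓ (f ⁻¹ᵁ W ⊓ f ⁻¹ᵁ W₀)
  have haT : a ∈ T := ⟨⟨haU₁, haU₀⟩, ha, hyW₀⟩
  have hTW : T ≤ f ⁻¹ᵁ W := inf_le_right.trans inf_le_left
  have hTW₀ : T ≤ f ⁻¹ᵁ W₀ := inf_le_right.trans inf_le_right
  have hTU₀ : T ≤ U₀ := inf_le_left.trans inf_le_right
  have hTU₁ : T ≤ U₁ := inf_le_left.trans inf_le_left
  have hgerm : L.presheaf.germ T a haT (L.presheaf.map (homOfLE hTW).op s) =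
      L.presheaf.germ T a haT
        (A.presheaf.map (homOfLE hTU₁).op c₁ • L.presheaf.map (homOfLE hTU₀).op g) := by
    rw [germ_smul, TopCat.Presheaf.germ_res_apply, TopCat.Presheaf.germ_res_apply,
      TopCat.Presheaf.germ_res_apply, hc₁]
    exact hca.symm
  obtain ⟨T', haT', hT'aff, hT'T, hT'T2, heq⟩ :=
    TopCat.Presheaf.germ_eq_of_isBasis A.isBasis_affineOpens L.presheaf a haT haT hgerm
  have hT' : IsAffineOpen T' := hT'aff
  -- the sections on `T'`
  let c : Γ(A, T') := A.presheaf.map (homOfLE (hT'T.trans hTU₁)).op c₁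
  let g₂ : Γ(L, T') := L.presheaf.map (homOfLE (hT'T.trans hTU₀)).op g
  have hs' : L.presheaf.map (homOfLE (hT'T.trans hTW)).op s = c • g₂ := by
    rw [map_map_eq L _ _ (homOfLE (hT'T.trans hTW)).op s] at heq
    rw [heq, Scheme.Modules.map_smul L (homOfLE hT'T2)]
    congr 1
    · exact res_map_map_eq _ _ _ c₁
    · exact map_map_eq L _ _ _ g
  -- `c` vanishes over `V`
  have hcV : A.presheaf.map (homOfLE (inf_le_left : T' ⊓ f ⁻¹ᵁ V ≤ T')).op c = 0 := by
    refine TopCat.Presheaf.section_ext A.sheaf (T' ⊓ f ⁻¹ᵁ V) _ 0 (fun a' ha' => ?_)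
    change A.presheaf.germ (T' ⊓ f ⁻¹ᵁ V) a' ha'
        (A.presheaf.map (homOfLE (inf_le_left : T' ⊓ f ⁻¹ᵁ V ≤ T')).op c) =
      A.presheaf.germ (T' ⊓ f ⁻¹ᵁ V) a' ha' (0 : Γ(A, T' ⊓ f ⁻¹ᵁ V))
    rw [map_zero]
    have ha'U₀ : a' ∈ U₀ := hTU₀ (hT'T ha'.1)
    apply (hg a' ha'U₀).1
    simp only [zero_smul]
    change A.presheaf.germ (T' ⊓ f ⁻¹ᵁ V) a' ha'
        (A.presheaf.map (homOfLE (inf_le_left : T' ⊓ f ⁻¹ᵁ V ≤ T')).op c) •
      L.presheaf.germ U₀ a' ha'U₀ g = 0
    rw [TopCat.Presheaf.germ_res_apply]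
    have h1 : L.presheaf.germ T' a' ha'.1 (c • g₂) = 0 := by
      rw [← hs', TopCat.Presheaf.germ_res_apply]
      have ha'WV : a' ∈ f ⁻¹ᵁ W ⊓ f ⁻¹ᵁ V := ⟨hTW (hT'T ha'.1), ha'.2⟩
      have h2 := congrArg (L.presheaf.germ (f ⁻¹ᵁ W ⊓ f ⁻¹ᵁ V) a' ha'WV) hs
      rw [TopCat.Presheaf.germ_res_apply, map_zero] at h2
      exact h2
    have hg' : L.presheaf.germ T' a' ha'.1 g₂ = L.presheaf.germ U₀ a' ha'U₀ g :=
      TopCat.Presheaf.germ_res_apply L.presheaf (homOfLE (hT'T.trans hTU₀)) a' ha'.1 g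
    rw [germ_smul, hg'] at h1
    exact h1
  have hc0 : c = 0 := eq_zero_of_res_eq_zero f V hV hW₀ hT' (hT'T.trans hTW₀) c hcV
  have h3 : L.presheaf.map (homOfLE (hT'T.trans hTW)).op s = 0 := by
    rw [hs', hc0, zero_smul]
  have h4 := congrArg (L.presheaf.germ T' a haT') h3
  rw [TopCat.Presheaf.germ_res_apply, map_zero] at h4
  exact h4

include hL in
/-- sections of an invertible module on a flat, locally finite type `S`-scheme restrict bijectively
to the preimage of an open whose complement has depth `≥ 2`. -/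
theorem bijective_res_of_depth [LocallyOfFiniteType f] (V : S.Opens)
    (hd : ∀ x : S, x ∉ V → 2 ≤ LocCoh.depth (S.presheaf.stalk x) (S.presheaf.stalk x))
    (W : S.Opens) :
    Function.Bijective
      (L.presheaf.map (homOfLE (inf_le_left : f ⁻¹ᵁ W ⊓ f ⁻¹ᵁ V ≤ f ⁻¹ᵁ W)).op) := by
  haveI : IsLocallyNoetherian A := LocallyOfFiniteType.isLocallyNoetherian f
  haveI : L.IsQuasicoherent := isQuasicoherent_of_isInvertible L hL
  haveI : SheafOfModules.IsFiniteType (R := A.ringCatSheaf) L :=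
    Groth.Agent.Helper13.GlobGen.isFiniteType_of_isInvertible L hL
  refine Groth.Agent.Lead.Hartogs.bijective_res' L (f ⁻¹ᵁ V) ?_ (f ⁻¹ᵁ W) _ inf_le_left rfl
  intro a ha
  have hfa : f a ∉ V := ha
  have h2 : ((2 : ℕ) : ℕ∞) ≤ LocCoh.depth (S.presheaf.stalk (f a)) (S.presheaf.stalk (f a)) :=
    hd (f a) hfa
  have h3 : ((2 : ℕ) : ℕ∞) ≤ LocCoh.depth (A.presheaf.stalk a) (A.presheaf.stalk a) :=
    depth_le_of_flat_local (f.stalkMap a).hom (Flat.stalkMap f a) 2 h2
  obtain ⟨U₀, haU₀, g, hg⟩ := (isInvertible_iff_exists_isGen L).1 hL a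
  have hb := hg a haU₀
  have hb' : Function.Bijective
      (LinearMap.toSpanSingleton (A.presheaf.stalk a) (L.presheaf.stalk a)
        (L.presheaf.germ U₀ a haU₀ g)) := by
    have : ⇑(LinearMap.toSpanSingleton (A.presheaf.stalk a) (L.presheaf.stalk a)
        (L.presheaf.germ U₀ a haU₀ g)) =
        fun r : A.presheaf.stalk a => r • L.presheaf.germ U₀ a haU₀ g := by
      funext r
      exact LinearMap.toSpanSingleton_apply _ _ _ _
    rw [this]
    exact hb
  have e := LinearEquiv.ofBijective _ hb'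
  rw [← depth_congr e]
  exact h3

end Sch

end Groth.Agent.Lead.SchDense
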