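import Mathlib
import Groth.Prelude.Def_Pic
import Groth.Agent.Lib.Lead.SchDense
import Groth.Agent.Lib.Lead.IsoDepth
import Groth.Agent.Lib.Helper1.SerreNormal
import Groth.Agent.Lib.Helper13.InvTensor

/-!
# Invertible modules on normal schemes and opens with complement of codimension `≥ 2` (lead)
-/

set_option autoImplicit false
set_option linter.style.haveILetI false

universe u

open CategoryTheory AlgebraicGeometry Opposite TopologicalSpace LocCoh IsLocalRing
open Groth.Agent.Helper13.QCoh Groth.Agent.Helper13.FinType Groth.Agent.Helper13.Inv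

namespace Groth.Agent.Lead.NormalExt

open Groth.Agent.Lead.Depth

/-- a normal Noetherian local domain of dimension `≥ 2` has depth `≥ 2`. -/
theorem two_le_depth_of_normal (A : Type u) [CommRing A] [IsLocalRing A] [IsNoetherianRing A]
    [IsDomain A] [IsIntegrallyClosed A] (h : 2 ≤ ringKrullDim A) :
    (2 : ℕ∞) ≤ LocCoh.depth A A := by
  have h1 := Groth.Agent.Helper1.SerreNormal.min_le_depth_of_hasSk (A := A) 2
    Groth.Agent.Helper1.SerreNormal.hasSk_two_of_normal_domain
  have h3 : ((2 : ℕ) : WithBot ℕ∞) ≤ ringKrullDim A := by exact_mod_cast h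
  rw [min_eq_left h3] at h1
  have h4 : (((2 : ℕ∞)) : WithBot ℕ∞) ≤ ((LocCoh.depth A A : ℕ∞) : WithBot ℕ∞) := by
    have h5 : ((2 : ℕ) : WithBot ℕ∞) = ((2 : ℕ∞) : WithBot ℕ∞) := rfl
    rw [← h5]
    exact h1
  exact WithBot.coe_le_coe.1 h4

variable {X : Scheme.{u}}

/-- the stalk of an invertible module is free of rank one. -/
theorem exists_stalk_equiv (L : X.Modules) (hL : PicF.IsInvertible L) (x : X) :
    Nonempty (X.presheaf.stalk x ≃ₗ[X.presheaf.stalk x] L.presheaf.stalk x) := by
  obtain ⟨U₀, haU₀, g, hg⟩ := (isInvertible_iff_exists_isGen L).1 hL x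
  have hb := hg x haU₀
  have hb' : Function.Bijective
      (LinearMap.toSpanSingleton (X.presheaf.stalk x) (L.presheaf.stalk x)
        (L.presheaf.germ U₀ x haU₀ g)) := by
    have : ⇑(LinearMap.toSpanSingleton (X.presheaf.stalk x) (L.presheaf.stalk x)
        (L.presheaf.germ U₀ x haU₀ g)) =
        fun r : X.presheaf.stalk x => r • L.presheaf.germ U₀ x haU₀ g := by
      funext r
      exact LinearMap.toSpanSingleton_apply _ _ _ _
    rw [this]
    exact hb
  exact ⟨LinearEquiv.ofBijective _ hb'⟩

/-- if `x` is an associated point of a module with torsion-free stalk over a domain `O_x`, then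
`𝔪_x = 0`. -/
theorem maximalIdeal_eq_bot_of_isAssPoint (G : X.Modules) (x : X)
    [IsDomain (X.presheaf.stalk x)]
    (htf : NoZeroSMulDivisors (X.presheaf.stalk x) (G.presheaf.stalk x))
    (h : Curv2.IsAssPoint G x) : IsLocalRing.maximalIdeal (X.presheaf.stalk x) = ⊥ := by
  obtain ⟨-, g, hg⟩ := h
  have hg0 : g ≠ 0 := by
    rintro rfl
    have h1 : (1 : X.presheaf.stalk x) ∈ IsLocalRing.maximalIdeal (X.presheaf.stalk x) := by
      rw [hg]
      apply Ideal.le_radical
      rw [Submodule.mem_colon_singleton, smul_zero]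
      exact Submodule.zero_mem _
    exact (IsLocalRing.maximalIdeal.isMaximal _).ne_top ((Ideal.eq_top_iff_one _).2 h1)
  rw [eq_bot_iff]
  intro r hr
  rw [hg] at hr
  obtain ⟨n, hn⟩ := hr
  rw [Submodule.mem_colon_singleton, Submodule.mem_bot] at hn
  have h2 : r ^ n = 0 := (htf.eq_zero_or_eq_zero_of_smul_eq_zero hn).resolve_right hg0
  exact (Submodule.mem_bot _).2 (eq_zero_of_pow_eq_zero h2)

/-- **Normal schemes, codimension two.** -/
theorem sections_and_pic (T : Scheme.{u}) [IsLocallyNoetherian T]
    (hT : ∀ x : T, IsDomain (T.presheaf.stalk x) ∧ IsIntegrallyClosed (T.presheaf.stalk x))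
    (U : T.Opens) (hU : ∀ x : T, x ∉ (U : Set T) → 2 ≤ ringKrullDim (T.presheaf.stalk x))
    (L : T.Modules) (hL : PicF.IsInvertible L) :
    Function.Bijective (L.presheaf.map (homOfLE (le_top (a := U))).op) ∧
      (Nonempty (L.restrict U.ι ≅ Coh.structureModule (U : Scheme.{u})) →
        Nonempty (L ≅ Coh.structureModule T)) := by
  haveI : L.IsQuasicoherent := isQuasicoherent_of_isInvertible L hL
  haveI : SheafOfModules.IsFiniteType (R := T.ringCatSheaf) L :=
    Groth.Agent.Helper13.GlobGen.isFiniteType_of_isInvertible L hL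
  have hO : PicF.IsInvertible (Coh.structureModule T) := isInvertible_structureModule
  haveI : (Coh.structureModule T).IsQuasicoherent := isQuasicoherent_of_isInvertible _ hO
  haveI : SheafOfModules.IsFiniteType (R := T.ringCatSheaf) (Coh.structureModule T) :=
    Groth.Agent.Helper13.GlobGen.isFiniteType_of_isInvertible _ hO
  have hdO : ∀ x : T, x ∉ U →
      (2 : ℕ∞) ≤ LocCoh.depth (T.presheaf.stalk x) (T.presheaf.stalk x) := by
    intro x hx
    haveI := (hT x).1
    haveI := (hT x).2
    exact two_le_depth_of_normal _ (hU x hx)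
  have hdL : ∀ x : T, x ∉ U →
      (2 : ℕ∞) ≤ LocCoh.depth (T.presheaf.stalk x) (L.presheaf.stalk x) := by
    intro x hx
    obtain ⟨e⟩ := exists_stalk_equiv L hL x
    rw [← depth_congr e]
    exact hdO x hx
  have hbij : Function.Bijective (L.presheaf.map (homOfLE (le_top (a := U))).op) :=
    Groth.Agent.Lead.Hartogs.bijective_res' L U hdL ⊤ U le_top (top_inf_eq U).symm
  refine ⟨hbij, ?_⟩
  rintro ⟨e⟩
  obtain ⟨s', hs'⟩ := exists_isGen_of_iso (L.restrict U.ι) e.symm
  let s₀ : Γ(L, U.ι ''ᵁ ⊤) := s'
  let sU : Γ(L, U) := L.presheaf.map (eqToHom (ι_image_top U).symm).op s₀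
  have hsU : ∀ (y : T) (hy : y ∈ U), IsGen L sU y hy := by
    intro y hy
    change IsGen L (L.presheaf.map (eqToHom (ι_image_top U).symm).op s₀) y hy
    rw [isGen_res]
    exact (isGen_restrict_iff U.ι L (U := ⊤) s₀ ⟨y, hy⟩ trivial).1 (hs' ⟨y, hy⟩)
  obtain ⟨st, hst⟩ := hbij.2 sU
  haveI : IsIso (Groth.Agent.Helper13.LocFree.homOfSec L st) := by
    refine Groth.Agent.Lead.IsoDepth.isIso_of_stalk_or_depth T _ (fun x => ?_)
    by_cases hx : x ∈ U
    · left
      have hgen : IsGen L st x trivial := by
        have h1 := hsU x hx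
        rw [← hst] at h1
        exact (isGen_res L (homOfLE (le_top (a := U))) st x hx).1 h1
      have : (fun a => stalkMap (Groth.Agent.Helper13.LocFree.homOfSec L st) x a) =
          (fun r : T.presheaf.stalk x => r • L.presheaf.germ ⊤ x trivial st) ∘
            (Groth.Agent.Helper13.WeakAss.unitStalkEquiv x) := by
        funext a
        exact stalkMap_homOfSec L st x a
      change Function.Bijective
        (fun a => stalkMap (Groth.Agent.Helper13.LocFree.homOfSec L st) x a)
      rw [this]
      exact hgen.comp (Groth.Agent.Helper13.WeakAss.unitStalkEquiv x).bijective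
    · right
      refine ⟨?_, ?_⟩
      · rw [depth_congr (Groth.Agent.Helper13.WeakAss.unitStalkEquiv x)]
        exact hdO x hx
      · intro hass
        haveI := (hT x).1
        obtain ⟨eL⟩ := exists_stalk_equiv L hL x
        have htf : NoZeroSMulDivisors (T.presheaf.stalk x) (L.presheaf.stalk x) :=
          eL.symm.injective.noZeroSMulDivisors eL.symm (map_zero _) (fun c m => map_smul _ c m)
        have hbot := maximalIdeal_eq_bot_of_isAssPoint L x htf hass
        have hfield : IsField (T.presheaf.stalk x) :=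
          IsLocalRing.isField_iff_maximalIdeal_eq.2 hbot
        have hdim : ringKrullDim (T.presheaf.stalk x) = 0 :=
          ringKrullDim_eq_zero_of_isField hfield
        have h2 := hU x hx
        rw [hdim] at h2
        exact absurd h2 (by norm_num)
  exact ⟨(asIso (Groth.Agent.Helper13.LocFree.homOfSec L st)).symm⟩

end Groth.Agent.Lead.NormalExt
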