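import Mathlib
import Groth.Prelude.Def_CurvBase
import Groth.Agent.Lib.Helper13.K0Tensor
import Groth.Agent.Lib.Helper13.EulerAdd2
import Groth.Agent.Lib.Helper13.TensorUnit
import Groth.Agent.Lib.Helper5.KZeroSub

import Groth.Agent.Lib.Helper13.QCohKer
import Groth.Agent.Lib.Helper13.QCohFin
import Groth.Agent.Lib.Helper13.FinTypeEpi
import Groth.Agent.Lib.Helper13.InvQCoh
import Groth.Agent.Lib.Helper13.GlobGen

/-!
# The Euler characteristic as a homomorphism on `K₀(Coh X)` (lead)

* `eulerHom k X : K₀(Coh X) →+ ℤ`;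
* `euler_of_isZero`, `euler_congr` (isomorphic coherent modules);
* `euler_tensor_left / euler_tensor_right`: `χ(E ⊗ F) = n χ(F)` for `E` locally free of rank `n` and
  `F` coherent with support of dimension `≤ 0`, on a proper scheme over a field.
-/

set_option autoImplicit false
universe u
open CategoryTheory CategoryTheory.Limits AlgebraicGeometry Opposite TopologicalSpace
open ZeroObject

namespace Groth.Agent.Lead.EulerK0

theorem isNoetherian_of_proper' (k : Type u) [Field k] (X : Scheme.{u})
    [X.Over (Spec (CommRingCat.of k))] [IsProper (X ↘ Spec (CommRingCat.of k))] :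
    IsNoetherian X := by
  haveI : LocallyOfFiniteType (X ↘ Spec (CommRingCat.of k)) := inferInstance
  haveI : IsLocallyNoetherian X :=
    LocallyOfFiniteType.isLocallyNoetherian (X ↘ Spec (CommRingCat.of k))
  haveI : CompactSpace X :=
    QuasiCompact.compactSpace_of_compactSpace (X ↘ Spec (CommRingCat.of k))
  exact {}

variable (k : Type u) [Field k] (X : Scheme.{u}) [X.Over (Spec (CommRingCat.of k))]
  [IsProper (X ↘ Spec (CommRingCat.of k))]

/-- the Euler characteristic on `K₀` of coherent modules. -/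
noncomputable def eulerHom : KZero.K0sub (fun M : X.Modules => Coh.IsCoh M) →+ ℤ :=
  Groth.Agent.Helper5.KZ.lift (fun M : X.Modules => Coh.IsCoh M)
    (fun M => Curv2.euler k X M.1)
    (fun S h₁ h₂ h₃ hS => Groth.Agent.Helper13.EulerAdd.euler_additive k S hS h₁ h₂ h₃)

theorem eulerHom_clSub (M : X.Modules) (h : Coh.IsCoh M) :
    eulerHom k X (KZero.clSub (fun M : X.Modules => Coh.IsCoh M) M) = Curv2.euler k X M :=
  Groth.Agent.Helper5.KZ.lift_clSub (fun M : X.Modules => Coh.IsCoh M) _ _ M h

variable {X}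

theorem euler_of_isZero (Z : X.Modules) (hZ : IsZero Z) (hc : Coh.IsCoh Z) :
    Curv2.euler k X Z = 0 := by
  let S : ShortComplex X.Modules := ShortComplex.mk (0 : Z ⟶ Z) (0 : Z ⟶ Z) zero_comp
  have hS : S.ShortExact := by
    haveI : Mono S.f := ⟨fun a b _ => hZ.eq_of_tgt a b⟩
    haveI : Epi S.g := ⟨fun a b _ => hZ.eq_of_src a b⟩
    exact ShortComplex.ShortExact.mk' (ShortComplex.exact_of_isZero_X₂ S hZ)
      inferInstance inferInstance
  have h := Groth.Agent.Helper13.EulerAdd.euler_additive k S hS hc hc hc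
  change Curv2.euler k X Z = Curv2.euler k X Z + Curv2.euler k X Z at h
  linarith

theorem euler_congr {M M' : X.Modules} (e : M ≅ M') (h : Coh.IsCoh M) (h' : Coh.IsCoh M')
    (Z : X.Modules) (hZ : IsZero Z) (hc : Coh.IsCoh Z) :
    Curv2.euler k X M = Curv2.euler k X M' := by
  let S : ShortComplex X.Modules := ShortComplex.mk e.hom (0 : M' ⟶ Z) comp_zero
  have hS : S.ShortExact := by
    haveI : Mono S.f := inferInstanceAs (Mono e.hom)
    haveI : Epi S.g := ⟨fun a b _ => hZ.eq_of_src a b⟩
    refine ShortComplex.ShortExact.mk' ?_ inferInstance inferInstance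
    rw [ShortComplex.exact_iff_epi _ (by rfl : S.g = 0)]
    exact inferInstanceAs (Epi e.hom)
  have h1 := Groth.Agent.Helper13.EulerAdd.euler_additive k S hS h h' hc
  change Curv2.euler k X M' = Curv2.euler k X M + Curv2.euler k X Z at h1
  rw [euler_of_isZero k Z hZ hc] at h1
  linarith

theorem isCoh_of_isZero (Z : X.Modules) (hZ : IsZero Z) : Coh.IsCoh Z := by
  haveI : (Coh.structureModule X).IsQuasicoherent :=
    Groth.Agent.Helper13.Inv.isQuasicoherent_of_isInvertible _
      Groth.Agent.Helper13.Inv.isInvertible_structureModule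
  haveI : SheafOfModules.IsFiniteType (R := X.ringCatSheaf) (Coh.structureModule X) :=
    Groth.Agent.Helper13.GlobGen.isFiniteType_of_isInvertible _
      Groth.Agent.Helper13.Inv.isInvertible_structureModule
  haveI : Epi (0 : Coh.structureModule X ⟶ Z) := ⟨fun a b _ => hZ.eq_of_src a b⟩
  exact ⟨Groth.Agent.Helper13.QCohFin.isQuasicoherent_of_isZero hZ,
    Groth.Agent.Helper13.FinType.isFiniteType_of_epi (0 : Coh.structureModule X ⟶ Z)⟩

/-- isomorphic coherent modules have the same Euler characteristic. -/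
theorem euler_iso {M M' : X.Modules} (e : M ≅ M') (h : Coh.IsCoh M) (h' : Coh.IsCoh M') :
    Curv2.euler k X M = Curv2.euler k X M' :=
  euler_congr k e h h' (0 : X.Modules) (isZero_zero _) (isCoh_of_isZero _ (isZero_zero _))

theorem support_eq_empty_of_dim_lt (G : X.Modules)
    (h : topologicalKrullDim ↥(CohB1.support G) < ((0 : ℕ) : WithBot ℕ∞)) :
    CohB1.support G = ∅ := by
  by_contra hne
  obtain ⟨x, hx⟩ := Set.nonempty_iff_ne_empty.2 hne
  haveI : Nonempty (IrreducibleCloseds ↥(CohB1.support G)) :=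
    ⟨⟨closure {⟨x, hx⟩}, isIrreducible_singleton.closure, isClosed_closure⟩⟩
  have h0 : (0 : WithBot ℕ∞) ≤ topologicalKrullDim ↥(CohB1.support G) := by
    unfold topologicalKrullDim
    exact Order.krullDim_nonneg
  rw [Nat.cast_zero] at h
  exact absurd (lt_of_le_of_lt h0 h) (lt_irrefl _)

theorem isZero_of_support_eq_empty (G : X.Modules) (h : CohB1.support G = ∅) : IsZero G := by
  rw [Groth.Agent.Helper13.QCoh.isZero_iff_stalk]
  intro y
  by_contra hy
  have : y ∈ CohB1.support G := hy
  rw [h] at this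
  exact this

/-- `χ(E ⊗ F) = n χ(F)` for `E` locally free of rank `n`, `F` coherent with `dim Supp F ≤ 0`. -/
theorem euler_tensor_left (E : X.Modules) (n : ℕ) (hE : FlatMod.IsFinLocFreeOfRank n E)
    (F : X.Modules) (hF : Coh.IsCoh F)
    (hsupp : topologicalKrullDim ↥(CohB1.support F) ≤ 0) :
    Curv2.euler k X (CohB1.tensorMod E F) = n * Curv2.euler k X F := by
  haveI : IsNoetherian X := isNoetherian_of_proper' k X
  have hmem := Groth.Agent.Helper13.K0Tensor.main_tensor (fun M : X.Modules => Coh.IsCoh M)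
    (fun _ => Iff.rfl) E n hE F hF 0 (by simpa using hsupp)
  have hEF := Groth.Agent.Helper13.K0Tensor.isCoh_tensor E n hE F hF
  have hker : ∀ c ∈ Groth.Agent.Helper13.K0Length.filtLt (fun M : X.Modules => Coh.IsCoh M) 0,
      eulerHom k X c = 0 := by
    intro c hc
    unfold Groth.Agent.Helper13.K0Length.filtLt at hc
    refine AddSubgroup.closure_induction (p := fun c _ => eulerHom k X c = 0) ?_ ?_ ?_ ?_ hc
    · rintro c ⟨G, hG, hdim, rfl⟩
      rw [eulerHom_clSub k X G hG]
      exact euler_of_isZero k G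
        (isZero_of_support_eq_empty G (support_eq_empty_of_dim_lt G hdim)) hG
    · exact map_zero _
    · intro a b _ _ ha hb
      rw [map_add, ha, hb, add_zero]
    · intro a _ ha
      rw [map_neg, ha, neg_zero]
  have h1 := hker _ hmem
  rw [map_sub, map_nsmul, eulerHom_clSub k X _ hEF, eulerHom_clSub k X _ hF, nsmul_eq_mul] at h1
  linarith

/-- `χ(F ⊗ E) = n χ(F)` for `E` locally free of rank `n`, `F` coherent with `dim Supp F ≤ 0`. -/
theorem euler_tensor_right (E : X.Modules) (n : ℕ) (hE : FlatMod.IsFinLocFreeOfRank n E)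
    (F : X.Modules) (hF : Coh.IsCoh F)
    (hsupp : topologicalKrullDim ↥(CohB1.support F) ≤ 0) :
    Curv2.euler k X (CohB1.tensorMod F E) = n * Curv2.euler k X F := by
  haveI : IsNoetherian X := isNoetherian_of_proper' k X
  have hEF := Groth.Agent.Helper13.K0Tensor.isCoh_tensor E n hE F hF
  have e : CohB1.tensorMod F E ≅ CohB1.tensorMod E F := Groth.Agent.Helper13.Tensor.braid F E
  have hFE : Coh.IsCoh (CohB1.tensorMod F E) := by
    haveI := hEF.1
    haveI := hEF.2
    haveI : Epi e.inv := inferInstance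
    exact ⟨Groth.Agent.Helper13.QCohLocal.isQuasicoherent_of_iso e.symm,
      Groth.Agent.Helper13.FinType.isFiniteType_of_epi e.inv⟩
  rw [euler_iso k e hFE hEF]
  exact euler_tensor_left k E n hE F hF hsupp

end Groth.Agent.Lead.EulerK0
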