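import Mathlib
import Groth.Prelude.Def_CurvBase
import Groth.Prelude.Def_ClSub2
import Groth.Agent.Lib.Lead.EulerK0
import Groth.Agent.Lib.Helper13.CartierMax
import Groth.Agent.Lib.Helper13.DiscSupp
import Groth.Agent.Lib.Helper13.DimLemma
import Groth.Agent.Lib.Helper13.TensorAssoc
import Groth.Agent.Lib.Helper13.TensorFunctor
import Groth.Agent.Lib.Helper13.TensorFinLocFree
import Groth.Agent.Lib.Helper13.CurveDeg2
import Groth.Agent.Lib.Helper24.PtIdeal2
import Groth.Agent.S1526

/-!
# Degree of `E ⊗ O(D)` on a proper scheme of dimension `≤ 1` (lead)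

* `isClosed_singleton_of_mem_support`: on a locally noetherian scheme of dimension `≤ 1`, every point of
  an effective Cartier divisor is closed;
* `dim_le_zero_of_forall_isClosed`, `isFinite_of_finite_support`;
* `euler_tensor_inverse`: `χ(E ⊗ L) = n h⁰(O_D) + χ(E)` for `L ⊗ I_D ≅ O`.
-/

set_option autoImplicit false
universe u
open CategoryTheory CategoryTheory.Limits AlgebraicGeometry Opposite TopologicalSpace

namespace Groth.Agent.Lead.EffDeg

section Top

theorem closure_nonneg {T : Type*} [TopologicalSpace T] (x : T) :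
    (0 : WithBot ℕ∞) ≤ topologicalKrullDim ↥(closure ({x} : Set T)) := by
  haveI : Nonempty (IrreducibleCloseds ↥(closure ({x} : Set T))) :=
    ⟨⟨closure {⟨x, subset_closure rfl⟩}, isIrreducible_singleton.closure, isClosed_closure⟩⟩
  unfold topologicalKrullDim
  exact Order.krullDim_nonneg

theorem dim_le_zero_of_forall_isClosed {T : Type*} [TopologicalSpace T] [QuasiSober T] (S : Set T)
    (hS : IsClosed S) (h : ∀ x ∈ S, IsClosed ({x} : Set T)) : topologicalKrullDim ↥S ≤ 0 := by
  haveI : QuasiSober ↥S := hS.isClosedEmbedding_subtypeVal.quasiSober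
  unfold topologicalKrullDim
  rw [Order.krullDim_nonpos_iff_forall_isMin]
  intro Z Z' hle
  obtain ⟨g, hg⟩ := QuasiSober.sober Z.isIrreducible Z.isClosed
  have hgc : IsClosed ({g} : Set ↥S) := by
    have e : ({g} : Set ↥S) = Subtype.val ⁻¹' ({g.1} : Set T) := by
      ext z
      simp [Subtype.ext_iff]
    rw [e]
    exact (h g.1 g.2).preimage continuous_subtype_val
  have hZ : (Z : Set ↥S) = {g} := by
    rw [← hg.def, hgc.closure_eq]
  obtain ⟨z, hz⟩ := Z'.isIrreducible.nonempty
  have hzg : z = g := by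
    have h1 : z ∈ (Z : Set ↥S) := hle hz
    rw [hZ] at h1
    exact h1
  intro w hw
  have hwg : w = g := by
    have hw' : w ∈ (Z : Set ↥S) := hw
    rw [hZ] at hw'
    exact hw'
  rw [hwg, ← hzg]
  exact hz

end Top

section Cartier

variable {X : Scheme.{u}} [IsLocallyNoetherian X]

theorem isClosed_singleton_of_mem_support (hdim : topologicalKrullDim X ≤ 1)
    (D : X.IdealSheafData) (hD : BlowUp.IsEffCartierIdeal D) (y : X)
    (hy : y ∈ (D.support : Set X)) : IsClosed ({y} : Set X) := by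
  obtain ⟨ξ, hξy, hξgen⟩ := Groth.Agent.Helper13.CartierMax.exists_generic_specializes y
  have hne : ξ ≠ y := by
    rintro rfl
    exact Groth.Agent.Helper13.CartierMax.not_generic_of_mem_support_effCartier D hD ξ hy hξgen
  rw [← closure_eq_iff_isClosed]
  refine Set.Subset.antisymm ?_ subset_closure
  intro x hx
  have hyx : y ⤳ x := specializes_iff_mem_closure.2 hx
  by_contra hxy
  have hxy' : x ≠ y := hxy
  have h1 : closure ({x} : Set X) ≠ closure {y} := fun h =>
    hxy' ((inseparable_iff_closure_eq.2 h).eq)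
  have h2 : closure ({y} : Set X) ≠ closure {ξ} := fun h =>
    hne ((inseparable_iff_closure_eq.2 h).eq).symm
  have d1 := Groth.Agent.Helper13.DimLemma.dim_closure_add_one_le hyx h1
  have d2 := Groth.Agent.Helper13.DimLemma.dim_closure_add_one_le hξy h2
  have d3 : topologicalKrullDim ↥(closure ({ξ} : Set X)) ≤ topologicalKrullDim X :=
    topologicalKrullDim_subspace_le X _
  have d0 := closure_nonneg x
  have hb : topologicalKrullDim ↥(closure ({y} : Set X)) < ((1 : ℕ) : WithBot ℕ∞) := by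
    apply Groth.Agent.Helper13.DimLemma.lt_of_add_one_le_coe
    rw [Nat.cast_one]
    exact d2.trans (d3.trans hdim)
  have ha : topologicalKrullDim ↥(closure ({x} : Set X)) + 1 < ((1 : ℕ) : WithBot ℕ∞) :=
    lt_of_le_of_lt d1 hb
  have h01 : (0 : WithBot ℕ∞) + 1 ≤ topologicalKrullDim ↥(closure ({x} : Set X)) + 1 :=
    add_le_add d0 le_rfl
  rw [zero_add] at h01
  rw [Nat.cast_one] at ha
  exact absurd (lt_of_le_of_lt h01 ha) (lt_irrefl _)

theorem dim_support_le_zero (hdim : topologicalKrullDim X ≤ 1)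
    (D : X.IdealSheafData) (hD : BlowUp.IsEffCartierIdeal D) :
    topologicalKrullDim ↥(D.support : Set X) ≤ 0 :=
  dim_le_zero_of_forall_isClosed _ D.support.isClosed
    (fun y hy => isClosed_singleton_of_mem_support hdim D hD y hy)

end Cartier

section Finite

variable (k : Type u) [Field k] {X : Scheme.{u}} [X.Over (Spec (CommRingCat.of k))]
  [IsProper (X ↘ Spec (CommRingCat.of k))]

theorem isFinite_of_finite_support (D : X.IdealSheafData) (hfin : (D.support : Set X).Finite) :
    IsFinite (D.subschemeι ≫ (X ↘ Spec (CommRingCat.of k))) := by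
  haveI : LocallyQuasiFinite (D.subschemeι ≫ (X ↘ Spec (CommRingCat.of k))) := by
    apply LocallyQuasiFinite.of_finite_preimage_singleton
    intro x
    have h1 : ((D.subschemeι : D.subscheme → X) ⁻¹' (D.support : Set X)).Finite :=
      hfin.preimage (D.subschemeι.isClosedEmbedding.injective.injOn)
    refine h1.subset ?_
    intro z _
    change D.subschemeι z ∈ (D.support : Set X)
    rw [← D.range_subschemeι]
    exact ⟨z, rfl⟩
  exact IsFinite.of_isProper_of_locallyQuasiFinite _

theorem isFinite_of_effCartier (hdim : topologicalKrullDim X ≤ 1)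
    (D : X.IdealSheafData) (hD : BlowUp.IsEffCartierIdeal D) :
    IsFinite (D.subschemeι ≫ (X ↘ Spec (CommRingCat.of k))) := by
  haveI : IsNoetherian X := Groth.Agent.Helper24.PtIdeal.isNoetherian_of_proper k X
  exact isFinite_of_finite_support k D
    (Groth.Agent.Helper13.DiscSupp.finite_of_closed_points _ D.support.isClosed
      (fun y hy => isClosed_singleton_of_mem_support hdim D hD y hy))

end Finite

section Rank

variable {X : Scheme.{u}} [IsNoetherian X]

theorem isFinLocFreeOfRank_one_of_isInvertible (L : X.Modules) (hL : PicF.IsInvertible L) :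
    FlatMod.IsFinLocFreeOfRank 1 L := fun x => by
  obtain ⟨U, hxU, ⟨e⟩⟩ := hL x
  exact ⟨U, hxU, ⟨e ≪≫
    (coproductUniqueIso (fun _ : Fin 1 => Coh.structureModule (U : Scheme.{u}))).symm⟩⟩

open Groth.Agent.Helper13.StalkBasis Groth.Agent.Helper13.TensorFinLocFree in
theorem isFinLocFreeOfRank_tensor (E : X.Modules) (n : ℕ) (hE : FlatMod.IsFinLocFreeOfRank n E)
    (L : X.Modules) (hL : FlatMod.IsFinLocFreeOfRank 1 L) :
    FlatMod.IsFinLocFreeOfRank n (CohB1.tensorMod E L) := by
  intro x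
  obtain ⟨V₁, s₁, hx₁, hb₁⟩ := Groth.Agent.Helper13.K0Tensor.exists_isBasisAt_of_rank E n hE x
  obtain ⟨V₂, s₂, hx₂, hb₂⟩ := Groth.Agent.Helper13.K0Tensor.exists_isBasisAt_of_rank L 1 hL x
  let V : X.Opens := V₁ ⊓ V₂
  let t₁ : Fin n → Γ(E, V) := fun i => E.presheaf.map (homOfLE (inf_le_left : V ≤ V₁)).op (s₁ i)
  let t₂ : Fin 1 → Γ(L, V) := fun i => L.presheaf.map (homOfLE (inf_le_right : V ≤ V₂)).op (s₂ i)
  have ht₁ : ∀ (y : X) (hy : y ∈ V), IsBasisAt E t₁ y hy := by
    intro y hy
    rw [isBasisAt_res E (homOfLE (inf_le_left : V ≤ V₁)) s₁ y hy]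
    exact hb₁ y _
  have ht₂ : ∀ (y : X) (hy : y ∈ V), IsBasisAt L t₂ y hy := by
    intro y hy
    rw [isBasisAt_res L (homOfLE (inf_le_right : V ≤ V₂)) s₂ y hy]
    exact hb₂ y _
  refine ⟨V, ⟨hx₁, hx₂⟩, ?_⟩
  have h := nonempty_restrict_iso_freeMod (CohB1.tensorMod E L) _
    (fun y hy => isBasisAt_tmul E L t₁ t₂ y hy (ht₁ y hy) (ht₂ y hy))
  rwa [Nat.mul_one] at h

open Groth.Agent.Helper13.StalkBasis Groth.Agent.Helper13.TensorFinLocFree in
theorem flat_stalk_of_rank (G : X.Modules) (n : ℕ) (hG : FlatMod.IsFinLocFreeOfRank n G) (x : X) :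
    Module.Flat (X.presheaf.stalk x) (G.presheaf.stalk x) := by
  obtain ⟨V, s, hx, hb⟩ := Groth.Agent.Helper13.K0Tensor.exists_isBasisAt_of_rank G n hG x
  haveI : Module.Free (X.presheaf.stalk x) (G.presheaf.stalk x) :=
    Module.Free.of_basis (basisOf G s x hx (hb x hx))
  infer_instance

end Rank

section Euler

variable (k : Type u) [Field k] {X : Scheme.{u}} [X.Over (Spec (CommRingCat.of k))]
  [IsProper (X ↘ Spec (CommRingCat.of k))]

theorem isCoh_of_iso {M M' : X.Modules} (e : M ≅ M') (h : Coh.IsCoh M) : Coh.IsCoh M' := by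
  haveI := h.1
  haveI := h.2
  haveI : Epi e.hom := inferInstance
  exact ⟨Groth.Agent.Helper13.QCohLocal.isQuasicoherent_of_iso e,
    Groth.Agent.Helper13.FinType.isFiniteType_of_epi e.hom⟩

theorem isCoh_structureModule : Coh.IsCoh (Coh.structureModule X) :=
  Groth.Agent.Helper13.CurveDeg.isCoh_of_isInvertible _
    Groth.Agent.Helper13.Inv.isInvertible_structureModule

/-- `χ(E ⊗ L) = n h⁰(O_D) + χ(E)` when `L ⊗ I_D ≅ O_X`, `E` of rank `n`, `dim X ≤ 1`. -/
theorem euler_tensor_inverse (hdim : topologicalKrullDim X ≤ 1)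
    (D : X.IdealSheafData) (hD : BlowUp.IsEffCartierIdeal D)
    (L : X.Modules) (hL : PicF.IsInvertible L) (hLD : ClSub.IsInverseOf L (ClSub.idealMod D))
    (n : ℕ) (E : X.Modules) (hE : FlatMod.IsFinLocFreeOfRank n E) :
    Curv2.euler k X (CohB1.tensorMod E L) =
      n * (Module.finrank k (Coh.HH X (ClSub.quotMod D) 0) : ℤ) + Curv2.euler k X E := by
  haveI : IsNoetherian X := Groth.Agent.Helper24.PtIdeal.isNoetherian_of_proper k X
  obtain ⟨eLD⟩ := hLD
  -- notation
  have hO : Coh.IsCoh (Coh.structureModule X) := isCoh_structureModule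
  have hLc : Coh.IsCoh L := Groth.Agent.Helper13.CurveDeg.isCoh_of_isInvertible L hL
  have hI : Coh.IsCoh (ClSub.idealMod D) := Groth.Agent.Helper24.PtIdeal.isCoh_idealMod D
  have hQ : Coh.IsCoh (ClSub.quotMod D) := Groth.Agent.Helper24.PtIdeal.isCoh_quotMod D
  have hEc : Coh.IsCoh E :=
    isCoh_of_iso (Groth.Agent.Helper13.Tensor.rid E)
      (Groth.Agent.Helper13.K0Tensor.isCoh_tensor E n hE _ hO)
  have hGr : FlatMod.IsFinLocFreeOfRank n (CohB1.tensorMod E L) :=
    isFinLocFreeOfRank_tensor E n hE L (isFinLocFreeOfRank_one_of_isInvertible L hL)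
  have hG : Coh.IsCoh (CohB1.tensorMod E L) :=
    Groth.Agent.Helper13.K0Tensor.isCoh_tensor E n hE L hLc
  -- the tensored sequence
  have hT := Groth.Agent.Helper13.TensorFunctor.tensorSC_shortExact_of_flat
    (Groth.Agent.Helper24.PtIdeal.idealSC D) (Groth.Agent.Helper24.PtIdeal.idealSC_shortExact D)
    (CohB1.tensorMod E L) (fun x => flat_stalk_of_rank _ n hGr x)
  have h₁ : Coh.IsCoh (CohB1.tensorMod (ClSub.idealMod D) (CohB1.tensorMod E L)) :=
    isCoh_of_iso (Groth.Agent.Helper13.Tensor.braid _ _)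
      (Groth.Agent.Helper13.K0Tensor.isCoh_tensor _ n hGr _ hI)
  have h₂ : Coh.IsCoh (CohB1.tensorMod (Coh.structureModule X) (CohB1.tensorMod E L)) :=
    isCoh_of_iso (Groth.Agent.Helper13.Tensor.lid _).symm hG
  have h₃ : Coh.IsCoh (CohB1.tensorMod (ClSub.quotMod D) (CohB1.tensorMod E L)) :=
    isCoh_of_iso (Groth.Agent.Helper13.Tensor.braid _ _)
      (Groth.Agent.Helper13.K0Tensor.isCoh_tensor _ n hGr _ hQ)
  have hadd := Groth.Agent.Helper13.EulerAdd.euler_additive k _ hT h₁ h₂ h₃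
  change Curv2.euler k X (CohB1.tensorMod (Coh.structureModule X) (CohB1.tensorMod E L)) =
    Curv2.euler k X (CohB1.tensorMod (ClSub.idealMod D) (CohB1.tensorMod E L)) +
    Curv2.euler k X (CohB1.tensorMod (ClSub.quotMod D) (CohB1.tensorMod E L)) at hadd
  -- identify the three terms
  have e₂ := Groth.Agent.Lead.EulerK0.euler_iso k (Groth.Agent.Helper13.Tensor.lid (CohB1.tensorMod E L)) h₂ hG
  let i₁ : CohB1.tensorMod (ClSub.idealMod D) (CohB1.tensorMod E L) ≅ E :=
    Groth.Agent.Helper13.Tensor.braid _ _ ≪≫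
      Groth.Agent.Helper13.Tensor.assoc E L (ClSub.idealMod D) ≪≫
      Groth.Agent.Helper13.Tensor.mapIso (Iso.refl E) eLD ≪≫
      Groth.Agent.Helper13.Tensor.rid E
  have e₁ := Groth.Agent.Lead.EulerK0.euler_iso k i₁ h₁ hEc
  have hsQ : topologicalKrullDim ↥(CohB1.support (ClSub.quotMod D)) ≤ 0 :=
    (Groth.Agent.Helper13.DimLemma.dim_subset_le
      (Groth.Agent.Helper24.PtIdeal.support_quotMod_subset D)).trans
      (dim_support_le_zero hdim D hD)
  have e₃ := Groth.Agent.Lead.EulerK0.euler_tensor_right k (CohB1.tensorMod E L) n hGr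
    (ClSub.quotMod D) hQ hsQ
  have e₄ := Groth.Agent.Helper13.EulerAdd.euler_eq_sum k (ClSub.quotMod D) 1
    (fun p hp => Groth.Agent.S1526.result k X (ClSub.quotMod D) hQ hsQ p hp)
  rw [Finset.sum_range_one, pow_zero, one_mul] at e₄
  rw [e₂, e₁, e₃, e₄] at hadd
  rw [hadd]
  ring

end Euler

end Groth.Agent.Lead.EffDeg
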