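import Mathlib
import Groth.Prelude.Def_CurvBase
import Groth.Agent.Lib.Lead.EulerK0
import Groth.Agent.Lib.Lead.EffDeg

/-!
# Degree of a tensor product of locally free modules in dimension `≤ 1` (lead)

`psi k E n hE : K₀(Coh X) →+ ℤ`, `[F] ↦ χ(F ⊗ E) − n χ(F)`; it kills the classes supported in dimension
`≤ 0`, which gives `χ(E ⊗ V) = n χ(V) + m χ(E) − n m χ(O)` when `dim X ≤ 1`.
-/

set_option autoImplicit false
universe u
open CategoryTheory CategoryTheory.Limits AlgebraicGeometry Opposite TopologicalSpace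

namespace Groth.Agent.Lead.DegTensor

open Groth.Agent.Lead.EulerK0 Groth.Agent.Lead.EffDeg

theorem le_zero_of_lt_one {a : WithBot ℕ∞} (h : a < ((1 : ℕ) : WithBot ℕ∞)) : a ≤ 0 := by
  induction a using WithBot.recBotCoe with
  | bot => exact bot_le
  | coe a' =>
    induction a' using ENat.recTopCoe with
    | top =>
      exfalso
      have h3 : (⊤ : ℕ∞) < ((1 : ℕ) : ℕ∞) := by exact_mod_cast h
      exact absurd h3 (by simp)
    | coe m =>
      have h2 : m < 1 := by exact_mod_cast h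
      have h3 : m = 0 := by omega
      subst h3
      exact_mod_cast le_rfl

variable (k : Type u) [Field k] {X : Scheme.{u}} [X.Over (Spec (CommRingCat.of k))]
  [IsProper (X ↘ Spec (CommRingCat.of k))]

theorem isCoh_tensor_right [IsNoetherian X] (E : X.Modules) (n : ℕ)
    (hE : FlatMod.IsFinLocFreeOfRank n E) (F : X.Modules) (hF : Coh.IsCoh F) :
    Coh.IsCoh (CohB1.tensorMod F E) :=
  isCoh_of_iso (Groth.Agent.Helper13.Tensor.braid E F)
    (Groth.Agent.Helper13.K0Tensor.isCoh_tensor E n hE F hF)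

theorem euler_tensorSC (E : X.Modules) (n : ℕ) (hE : FlatMod.IsFinLocFreeOfRank n E)
    (S : ShortComplex X.Modules) (hS : S.ShortExact)
    (h₁ : Coh.IsCoh S.X₁) (h₂ : Coh.IsCoh S.X₂) (h₃ : Coh.IsCoh S.X₃) :
    Curv2.euler k X (CohB1.tensorMod S.X₂ E) =
      Curv2.euler k X (CohB1.tensorMod S.X₁ E) + Curv2.euler k X (CohB1.tensorMod S.X₃ E) := by
  haveI : IsNoetherian X := isNoetherian_of_proper' k X
  have hT := Groth.Agent.Helper13.TensorFunctor.tensorSC_shortExact_of_flat S hS E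
    (fun x => flat_stalk_of_rank E n hE x)
  have hadd := Groth.Agent.Helper13.EulerAdd.euler_additive k
    (Groth.Agent.Helper13.TwistSES.tensorSC S E) hT
    (isCoh_tensor_right E n hE S.X₁ h₁) (isCoh_tensor_right E n hE S.X₂ h₂)
    (isCoh_tensor_right E n hE S.X₃ h₃)
  exact hadd

/-- `[F] ↦ χ(F ⊗ E) − n χ(F)` on `K₀` of coherent modules. -/
noncomputable def psi (E : X.Modules) (n : ℕ) (hE : FlatMod.IsFinLocFreeOfRank n E) :
    KZero.K0sub (fun M : X.Modules => Coh.IsCoh M) →+ ℤ :=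
  Groth.Agent.Helper5.KZ.lift (fun M : X.Modules => Coh.IsCoh M)
    (fun M => Curv2.euler k X (CohB1.tensorMod M.1 E) - n * Curv2.euler k X M.1)
    (fun S h₁ h₂ h₃ hS => by
      have e1 := euler_tensorSC k E n hE S hS h₁ h₂ h₃
      have e2 := Groth.Agent.Helper13.EulerAdd.euler_additive k S hS h₁ h₂ h₃
      change Curv2.euler k X (CohB1.tensorMod S.X₂ E) - n * Curv2.euler k X S.X₂ =
        (Curv2.euler k X (CohB1.tensorMod S.X₁ E) - n * Curv2.euler k X S.X₁) +
        (Curv2.euler k X (CohB1.tensorMod S.X₃ E) - n * Curv2.euler k X S.X₃)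
      rw [e1, e2]
      ring)

theorem psi_clSub (E : X.Modules) (n : ℕ) (hE : FlatMod.IsFinLocFreeOfRank n E)
    (M : X.Modules) (h : Coh.IsCoh M) :
    psi k E n hE (KZero.clSub (fun M : X.Modules => Coh.IsCoh M) M) =
      Curv2.euler k X (CohB1.tensorMod M E) - n * Curv2.euler k X M :=
  Groth.Agent.Helper5.KZ.lift_clSub (fun M : X.Modules => Coh.IsCoh M) _ _ M h

theorem psi_eq_zero_of_mem_filtLt_one [IsNoetherian X] (E : X.Modules) (n : ℕ)
    (hE : FlatMod.IsFinLocFreeOfRank n E)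
    (c : KZero.K0sub (fun M : X.Modules => Coh.IsCoh M))
    (hc : c ∈ Groth.Agent.Helper13.K0Length.filtLt (fun M : X.Modules => Coh.IsCoh M) 1) :
    psi k E n hE c = 0 := by
  unfold Groth.Agent.Helper13.K0Length.filtLt at hc
  refine AddSubgroup.closure_induction (p := fun c _ => psi k E n hE c = 0) ?_ ?_ ?_ ?_ hc
  · rintro c ⟨G, hG, hdim, rfl⟩
    rw [psi_clSub k E n hE G hG,
      euler_tensor_right k E n hE G hG (le_zero_of_lt_one hdim)]
    ring
  · exact map_zero _
  · intro a b _ _ ha hb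
    rw [map_add, ha, hb, add_zero]
  · intro a _ ha
    rw [map_neg, ha, neg_zero]

/-- `χ(E ⊗ V) = n χ(V) + m χ(E) − n m χ(O)` on a proper scheme of dimension `≤ 1`. -/
theorem euler_tensor_locFree (hdim : topologicalKrullDim X ≤ 1) (n m : ℕ) (E V : X.Modules)
    (hE : FlatMod.IsFinLocFreeOfRank n E) (hV : FlatMod.IsFinLocFreeOfRank m V) :
    Curv2.euler k X (CohB1.tensorMod E V) =
      n * Curv2.euler k X V + m * Curv2.euler k X E -
        n * m * Curv2.euler k X (Coh.structureModule X) := by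
  haveI : IsNoetherian X := isNoetherian_of_proper' k X
  have hO : Coh.IsCoh (Coh.structureModule X) := isCoh_structureModule
  have hVO : Coh.IsCoh (CohB1.tensorMod V (Coh.structureModule X)) :=
    Groth.Agent.Helper13.K0Tensor.isCoh_tensor V m hV _ hO
  have hVc : Coh.IsCoh V := isCoh_of_iso (Groth.Agent.Helper13.Tensor.rid V) hVO
  have hEc : Coh.IsCoh E := isCoh_of_iso (Groth.Agent.Helper13.Tensor.rid E)
    (Groth.Agent.Helper13.K0Tensor.isCoh_tensor E n hE _ hO)
  have hr : topologicalKrullDim ↥(CohB1.support (Coh.structureModule X)) ≤ ((1 : ℕ) : WithBot ℕ∞) := by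
    rw [Nat.cast_one]
    exact (topologicalKrullDim_subspace_le X _).trans hdim
  have hmem := Groth.Agent.Helper13.K0Tensor.main_tensor (fun M : X.Modules => Coh.IsCoh M)
    (fun _ => Iff.rfl) V m hV (Coh.structureModule X) hO 1 hr
  have h1 := psi_eq_zero_of_mem_filtLt_one k E n hE _ hmem
  rw [map_sub, map_nsmul, psi_clSub k E n hE _ hVO, psi_clSub k E n hE _ hO, nsmul_eq_mul] at h1
  -- identify the terms
  have hVOE : Coh.IsCoh (CohB1.tensorMod (CohB1.tensorMod V (Coh.structureModule X)) E) :=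
    isCoh_tensor_right E n hE _ hVO
  have hEV : Coh.IsCoh (CohB1.tensorMod E V) :=
    Groth.Agent.Helper13.K0Tensor.isCoh_tensor E n hE V hVc
  have i₁ : CohB1.tensorMod (CohB1.tensorMod V (Coh.structureModule X)) E ≅ CohB1.tensorMod E V :=
    Groth.Agent.Helper13.Tensor.mapIso (Groth.Agent.Helper13.Tensor.rid V) (Iso.refl E) ≪≫
      Groth.Agent.Helper13.Tensor.braid V E
  have e₁ := euler_iso k i₁ hVOE hEV
  have e₂ := euler_iso k (Groth.Agent.Helper13.Tensor.rid V) hVO hVc
  have e₃ := euler_iso k (Groth.Agent.Helper13.Tensor.lid E) (isCoh_tensor_right E n hE _ hO) hEc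
  rw [e₁, e₂, e₃] at h1
  linarith

end Groth.Agent.Lead.DegTensor
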