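import Mathlib

/-!
# Functions on `ℕ^r` all of whose mixed forward differences of a given order vanish

`IsPolyDeg d g` says that every `d`-fold mixed forward difference of `g : (Fin r → ℕ) → ℤ`
vanishes ("`g` is a polynomial function of total degree `< d`").  Used for Snapper's theorem.
-/

namespace Groth.Agent.Lead.PolyDeg

/-- forward difference in the `i`-th coordinate -/
def fd {r : ℕ} (i : Fin r) (g : (Fin r → ℕ) → ℤ) : (Fin r → ℕ) → ℤ :=
  fun n => g (n + Pi.single i 1) - g n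

/-- all mixed forward differences of order `d` vanish ("total degree `< d`") -/
def IsPolyDeg {r : ℕ} : ℕ → ((Fin r → ℕ) → ℤ) → Prop
  | 0, g => ∀ n, g n = 0
  | d + 1, g => ∀ i, IsPolyDeg d (fd i g)

theorem isPolyDeg_zero_iff {r : ℕ} (g : (Fin r → ℕ) → ℤ) : IsPolyDeg 0 g ↔ ∀ n, g n = 0 :=
  Iff.rfl

theorem isPolyDeg_succ_iff {r : ℕ} (d : ℕ) (g : (Fin r → ℕ) → ℤ) :
    IsPolyDeg (d + 1) g ↔ ∀ i, IsPolyDeg d (fd i g) :=
  Iff.rfl

theorem fd_add {r : ℕ} (i : Fin r) (g h : (Fin r → ℕ) → ℤ) : fd i (g + h) = fd i g + fd i h := by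
  funext n
  simp only [fd, Pi.add_apply]
  ring

theorem fd_neg {r : ℕ} (i : Fin r) (g : (Fin r → ℕ) → ℤ) : fd i (-g) = -fd i g := by
  funext n
  simp only [fd, Pi.neg_apply]
  ring

theorem fd_zero {r : ℕ} (i : Fin r) : fd i (0 : (Fin r → ℕ) → ℤ) = 0 := by
  funext n
  simp [fd]

theorem IsPolyDeg.zero {r : ℕ} (d : ℕ) : IsPolyDeg d (0 : (Fin r → ℕ) → ℤ) := by
  induction d with
  | zero => intro n; rfl
  | succ d ih => intro i; rw [fd_zero]; exact ih

theorem IsPolyDeg.add {r : ℕ} {d : ℕ} {g h : (Fin r → ℕ) → ℤ} (hg : IsPolyDeg d g)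
    (hh : IsPolyDeg d h) : IsPolyDeg d (g + h) := by
  induction d generalizing g h with
  | zero => intro n; simp [hg n, hh n]
  | succ d ih => intro i; rw [fd_add]; exact ih (hg i) (hh i)

theorem IsPolyDeg.neg {r : ℕ} {d : ℕ} {g : (Fin r → ℕ) → ℤ} (hg : IsPolyDeg d g) :
    IsPolyDeg d (-g) := by
  induction d generalizing g with
  | zero => intro n; simp [hg n]
  | succ d ih => intro i; rw [fd_neg]; exact ih (hg i)

end Groth.Agent.Lead.PolyDeg
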