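import Groth.Agent.Lib.Lead.SnapperFinal
import Groth.Agent.Lib.Helper23.SnapperPoly

/-!
# Discharging the Newton interpolation hypothesis
-/

namespace Groth.Agent.Lead.SnapperFinal

theorem newtonHyp : NewtonHyp :=
  fun _ d g h => Groth.Agent.Helper23.SnapperPoly.exists_mvPolynomial_of_isPolyDeg d g h

end Groth.Agent.Lead.SnapperFinal
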