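import Mathlib
import Groth.Prelude.Def_CurvBase
import Groth.Agent.Lib.Lead.EulerK0
import Groth.Agent.Lib.Lead.EffDeg
import Groth.Agent.Lib.Lead.DegTensor
import Groth.Agent.Lib.Helper13.K0Length
import Groth.Agent.Lib.Helper13.ClosureSheaf

/-!
# Nef invertible modules have nonnegative degree in dimension one (lead)
-/

set_option autoImplicit false
universe u
open CategoryTheory CategoryTheory.Limits AlgebraicGeometry Opposite TopologicalSpace

namespace Groth.Agent.Lead.NefDeg

open Groth.Agent.Lead.EulerK0 Groth.Agent.Lead.EffDeg Groth.Agent.Lead.DegTensor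

theorem isIntegral_ptIdeal_subscheme {X : Scheme.{u}} (x : X) :
    IsIntegral (IntMult.ptIdeal x).subscheme := by
  haveI : IsReduced (IntMult.ptIdeal x).subscheme :=
    Groth.Agent.Helper16.GenND.isReduced_vanishingIdeal_subscheme _
  haveI : IrreducibleSpace (IntMult.ptIdeal x).subscheme := by
    have hemb := (IntMult.ptIdeal x).subschemeι.isClosedEmbedding
    have hr := Groth.Agent.Helper13.ClosureSheaf.range_ptIdeal_subschemeι x
    have hirr : IsIrreducible (Set.range (IntMult.ptIdeal x).subschemeι) := by
      rw [hr]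
      exact isIrreducible_singleton.closure
    haveI : IrreducibleSpace ↥(Set.range (IntMult.ptIdeal x).subschemeι) :=
      Subtype.irreducibleSpace hirr
    exact (hemb.isEmbedding.toHomeomorph.irreducibleSpace_iff).2 inferInstance
  exact isIntegral_of_irreducibleSpace_of_isReduced _

theorem coe_support_ptIdeal {X : Scheme.{u}} (x : X) :
    ((IntMult.ptIdeal x).support : Set X) = closure ({x} : Set X) := by
  unfold IntMult.ptIdeal
  rw [Scheme.IdealSheafData.coe_support_vanishingIdeal]
  rfl

variable (k : Type u) [Field k] {X : Scheme.{u}} [X.Over (Spec (CommRingCat.of k))]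
  [IsProper (X ↘ Spec (CommRingCat.of k))]

theorem deg_nonneg_of_nef (hdim : topologicalKrullDim X = 1) (L : X.Modules)
    (hL : PicF.IsInvertible L)
    (hnef : ∀ C : X.IdealSheafData, IsIntegral C.subscheme →
      topologicalKrullDim (C.support : Set X) = 1 →
        0 ≤ Curv2.euler k X (CohB1.tensorMod (ClSub.quotMod C) L) -
          Curv2.euler k X (ClSub.quotMod C)) :
    0 ≤ Curv2.deg k X L 1 := by
  haveI : IsNoetherian X := isNoetherian_of_proper' k X
  classical
  have hO : Coh.IsCoh (Coh.structureModule X) := isCoh_structureModule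
  have hLc : Coh.IsCoh L := Groth.Agent.Helper13.CurveDeg.isCoh_of_isInvertible L hL
  have hL1 : FlatMod.IsFinLocFreeOfRank 1 L := isFinLocFreeOfRank_one_of_isInvertible L hL
  have hd : topologicalKrullDim ↥(CohB1.support (Coh.structureModule X)) ≤
      ((1 : ℕ) : WithBot ℕ∞) := by
    rw [Nat.cast_one]
    exact (topologicalKrullDim_subspace_le X _).trans hdim.le
  have hm := Groth.Agent.Helper13.K0Length.main (fun M : X.Modules => Coh.IsCoh M)
    (fun _ => Iff.rfl) 1 (Coh.structureModule X) hO hd
  have hfin := Groth.Agent.Helper13.K0Tensor.finite_support_term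
    (fun M : X.Modules => Coh.IsCoh M) 1 (Coh.structureModule X) hO hd
  have h0 := psi_eq_zero_of_mem_filtLt_one k L 1 hL1 _ hm
  rw [map_sub, psi_clSub k L 1 hL1 _ hO, map_finsum _ hfin] at h0
  have hnn : (0 : ℤ) ≤ ∑ᶠ x : X, psi k L 1 hL1
      (if topologicalKrullDim ↥(closure ({x} : Set X)) = ((1 : ℕ) : WithBot ℕ∞) then
        (Module.length (X.presheaf.stalk x)
          ((Coh.structureModule X).presheaf.stalk x)).toNat •
          KZero.clSub (fun M : X.Modules => Coh.IsCoh M) (Cyc.closureStructureSheaf x)
        else 0) := by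
    apply finsum_nonneg
    intro x
    split_ifs with hx
    · rw [map_nsmul, psi_clSub k L 1 hL1 _
        (Groth.Agent.Helper13.ClosureSheaf.isCoh_closureStructureSheaf x)]
      apply nsmul_nonneg
      have hs : topologicalKrullDim ↥((IntMult.ptIdeal x).support : Set X) = 1 := by
        rw [coe_support_ptIdeal, hx, Nat.cast_one]
      have := hnef (IntMult.ptIdeal x) (isIntegral_ptIdeal_subscheme x) hs
      have e : Cyc.closureStructureSheaf x = ClSub.quotMod (IntMult.ptIdeal x) := rfl
      rw [e]
      push_cast
      linarith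
    · rw [map_zero]
  have e₂ := euler_iso k (Groth.Agent.Helper13.Tensor.lid L) (isCoh_tensor_right L 1 hL1 _ hO) hLc
  rw [e₂] at h0
  unfold Curv2.deg
  linarith

end Groth.Agent.Lead.NefDeg
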