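import Mathlib
import Groth.Prelude.Def_CurvBase
import Groth.Prelude.Def_Curv2
import Groth.Agent.Lib.Lead.EulerK0
import Groth.Agent.Lib.Lead.EffDeg
import Groth.Agent.Lib.Lead.DegTensor
import Groth.Agent.Lib.Helper13.ProjFormulaLF
import Groth.Agent.Lib.Helper13.FinProj1
import Groth.Agent.Lib.Helper13.FinProj2
import Groth.Agent.Lib.Helper13.PbInv
import Groth.Agent.Lib.Helper13.PushFinite
import Groth.Agent.Lib.Helper13.QCohPush
import Groth.Agent.Lib.Helper13.InvTensor
import Groth.Agent.Lib.Helper13.TensorQCoh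
import Groth.Agent.S0028

/-!
# Intersection number with a closed subscheme of dimension `≤ 1` (lead)

* `euler_push'`: `χ(X, i_* G) = χ(Z, G)` for an affine morphism `i` and quasi-coherent `G`;
* `euler_quot_tensor`: `χ(X, i_* O_Z ⊗ L) = χ(Z, i^* L)` for a closed immersion `i`, `L` invertible;
* `euler_tensorPow_linear`: `χ(Q ⊗ L^n) = χ(Q) + n (χ(Q ⊗ L) − χ(Q))` when `dim Supp Q ≤ 1`;
* `coeff_eq_deg`: the linear coefficient of the Snapper polynomial is the degree of `L|_Z`.
-/

set_option autoImplicit false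
universe u
open CategoryTheory CategoryTheory.Limits AlgebraicGeometry Opposite TopologicalSpace

namespace Groth.Agent.Lead.IntNumDimOne

open Groth.Agent.Lead.EulerK0 Groth.Agent.Lead.EffDeg Groth.Agent.Lead.DegTensor

section Poly

theorem coeff_of_eval_eq (P : MvPolynomial (Fin 1) ℚ) (a d : ℚ)
    (h : ∀ n : Fin 1 → ℕ, MvPolynomial.eval (fun i => (n i : ℚ)) P = a + (n 0 : ℚ) * d) :
    MvPolynomial.coeff (Finsupp.equivFunOnFinite.symm fun _ : Fin 1 => 1) P = d := by
  have hP : P = MvPolynomial.C a + MvPolynomial.C d * MvPolynomial.X 0 := by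
    apply MvPolynomial.funext_set (fun _ => Set.range (Nat.cast : ℕ → ℚ))
      (fun _ => Set.infinite_range_of_injective Nat.cast_injective)
    intro x hx
    have hx' : ∀ i, ∃ m : ℕ, (m : ℚ) = x i := fun i => hx i (Set.mem_univ i)
    choose n hn using hx'
    have hxe : x = fun i => (n i : ℚ) := funext fun i => (hn i).symm
    rw [hxe, h n]
    simp [mul_comm]
  have hs : (Finsupp.equivFunOnFinite.symm fun _ : Fin 1 => 1) =
      Finsupp.single (0 : Fin 1) 1 := by
    ext
    simp
  rw [hs, hP, MvPolynomial.coeff_add, MvPolynomial.coeff_C, if_neg, zero_add,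
    MvPolynomial.coeff_C_mul]
  · simp
  · intro h0
    have h1 := congrArg (fun f : Fin 1 →₀ ℕ => f 0) h0
    simp at h1

end Poly

section Push

variable (k : Type u) [Field k] {X : Scheme.{u}} [X.Over (Spec (CommRingCat.of k))]
  {Z : Scheme.{u}} [Z.Over (Spec (CommRingCat.of k))] (i : Z ⟶ X)
  (hi : i ≫ (X ↘ Spec (CommRingCat.of k)) = Z ↘ Spec (CommRingCat.of k))

include hi in
theorem euler_push' [IsAffineHom i] (G : Z.Modules) [G.IsQuasicoherent] :
    Curv2.euler k X ((Scheme.Modules.pushforward i).obj G) = Curv2.euler k Z G := by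
  unfold Curv2.euler
  refine finsum_congr (fun p => ?_)
  have e := LinearEquiv.ofBijective (Groth.Agent.Helper13.FinProj.pushEdgeLin i k hi G p)
    (Groth.Agent.Helper13.PushEdgeSch.pushEdge_bijective i G p
      (fun q => Groth.Agent.S0028.result i G (q + 1) (Nat.succ_pos q)))
  rw [e.finrank_eq]

variable [IsProper (X ↘ Spec (CommRingCat.of k))]

include hi in
theorem euler_quot_tensor [IsClosedImmersion i] (L : X.Modules) (hL : PicF.IsInvertible L) :
    Curv2.euler k X (CohB1.tensorMod
      ((Scheme.Modules.pushforward i).obj (Coh.structureModule Z)) L) =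
      Curv2.euler k Z ((Scheme.Modules.pullback i).obj L) := by
  haveI : IsProper (Z ↘ Spec (CommRingCat.of k)) := by
    rw [← hi]
    infer_instance
  haveI : IsNoetherian X := isNoetherian_of_proper' k X
  have hL1 : FlatMod.IsFinLocFreeOfRank 1 L := isFinLocFreeOfRank_one_of_isInvertible L hL
  have hE : FlatMod.IsFinLocFree L := Groth.Agent.Helper13.K0Tensor.isFinLocFree_of_rank L 1 hL1
  haveI := Groth.Agent.Helper13.ProjFormulaLF.isIso_ν i L (Coh.structureModule Z) hE
  let e := asIso (Groth.Agent.Helper13.ProjFormulaLF.ν i L (Coh.structureModule Z))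
  have hQ : Coh.IsCoh ((Scheme.Modules.pushforward i).obj (Coh.structureModule Z)) :=
    Groth.Agent.Helper13.FinProj.isCoh_push_closed i _ isCoh_structureModule
  have c1 := isCoh_tensor_right L 1 hL1 _ hQ
  have c2 := isCoh_of_iso e c1
  rw [euler_iso k e c1 c2]
  have cZ2 : Coh.IsCoh ((Scheme.Modules.pullback i).obj L) :=
    Groth.Agent.Helper13.CurveDeg.isCoh_of_isInvertible _
      (Groth.Agent.Helper13.PbInv.isInvertible_pullback i L hL)
  have cZ1 : Coh.IsCoh (CohB1.tensorMod (Coh.structureModule Z)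
      ((Scheme.Modules.pullback i).obj L)) :=
    isCoh_of_iso (Groth.Agent.Helper13.Tensor.lid _).symm cZ2
  haveI := cZ1.1
  rw [euler_push' k i hi _]
  exact euler_iso k (Groth.Agent.Helper13.Tensor.lid _) cZ1 cZ2

theorem isFinLocFreeOfRank_pullback {X Y : Scheme.{u}} (f : X ⟶ Y) (n : ℕ) (E : Y.Modules)
    (h : FlatMod.IsFinLocFreeOfRank n E) :
    FlatMod.IsFinLocFreeOfRank n ((Scheme.Modules.pullback f).obj E) := by
  intro x
  obtain ⟨W, hx, ⟨e⟩⟩ := h (f.base x)
  refine ⟨f ⁻¹ᵁ W, hx, ⟨?_⟩⟩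
  exact (Groth.Agent.Helper13.Pullback.pullbackRestrictIso f (f ⁻¹ᵁ W).ι W.ι (f ∣_ W)
    (morphismRestrict_ι f W).symm).app E ≪≫ (Scheme.Modules.pullback (f ∣_ W)).mapIso e ≪≫
    Groth.Agent.Helper13.ResAffine.pullbackFreeModIso (f ∣_ W) n

include hi in
theorem euler_finite_tensor_rank [IsFinite i] [IsProper (Z ↘ Spec (CommRingCat.of k))]
    (n : ℕ) (E : X.Modules) (hE : FlatMod.IsFinLocFreeOfRank n E) :
    Curv2.euler k X (CohB1.tensorMod
      ((Scheme.Modules.pushforward i).obj (Coh.structureModule Z)) E) =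
      Curv2.euler k Z ((Scheme.Modules.pullback i).obj E) := by
  haveI : IsNoetherian X := isNoetherian_of_proper' k X
  haveI : IsNoetherian Z := isNoetherian_of_proper' k Z
  have hE' : FlatMod.IsFinLocFree E := Groth.Agent.Helper13.K0Tensor.isFinLocFree_of_rank E n hE
  haveI := Groth.Agent.Helper13.ProjFormulaLF.isIso_ν i E (Coh.structureModule Z) hE'
  let e := asIso (Groth.Agent.Helper13.ProjFormulaLF.ν i E (Coh.structureModule Z))
  have hOZ : Coh.IsCoh (Coh.structureModule Z) := isCoh_structureModule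
  haveI := hOZ.1
  haveI := hOZ.2
  have hQ : Coh.IsCoh ((Scheme.Modules.pushforward i).obj (Coh.structureModule Z)) :=
    ⟨Groth.Agent.Helper13.QCohPush.isQuasicoherent_pushforward i _,
      (Groth.Agent.Helper13.PushFinite.isFiniteType_pushforward_iff i _).1 inferInstance⟩
  have c1 := isCoh_tensor_right E n hE _ hQ
  have c2 := isCoh_of_iso e c1
  rw [euler_iso k e c1 c2]
  have cZ2 : Coh.IsCoh ((Scheme.Modules.pullback i).obj E) :=
    isCoh_of_iso (Groth.Agent.Helper13.Tensor.rid _)
      (Groth.Agent.Helper13.K0Tensor.isCoh_tensor _ n (isFinLocFreeOfRank_pullback i n E hE) _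
        isCoh_structureModule)
  have cZ1 : Coh.IsCoh (CohB1.tensorMod (Coh.structureModule Z)
      ((Scheme.Modules.pullback i).obj E)) :=
    isCoh_of_iso (Groth.Agent.Helper13.Tensor.lid _).symm cZ2
  haveI := cZ1.1
  rw [euler_push' k i hi _]
  exact euler_iso k (Groth.Agent.Helper13.Tensor.lid _) cZ1 cZ2

include hi in
theorem euler_quot_tensor_rank [IsClosedImmersion i] (n : ℕ) (E : X.Modules)
    (hE : FlatMod.IsFinLocFreeOfRank n E) :
    Curv2.euler k X (CohB1.tensorMod
      ((Scheme.Modules.pushforward i).obj (Coh.structureModule Z)) E) =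
      Curv2.euler k Z ((Scheme.Modules.pullback i).obj E) := by
  haveI : IsProper (Z ↘ Spec (CommRingCat.of k)) := by
    rw [← hi]
    infer_instance
  exact euler_finite_tensor_rank k i hi n E hE

end Push

section Linear

variable (k : Type u) [Field k] {X : Scheme.{u}} [X.Over (Spec (CommRingCat.of k))]
  [IsProper (X ↘ Spec (CommRingCat.of k))]

theorem euler_tensorPow_linear (Q : X.Modules) (hQ : Coh.IsCoh Q)
    (hdQ : topologicalKrullDim ↥(CohB1.support Q) ≤ ((1 : ℕ) : WithBot ℕ∞))
    (L : X.Modules) (hL : PicF.IsInvertible L) (n : ℕ) :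
    Curv2.euler k X (CohB1.tensorMod Q (CohB1.tensorPow L n)) =
      Curv2.euler k X Q +
        n * (Curv2.euler k X (CohB1.tensorMod Q L) - Curv2.euler k X Q) := by
  haveI : IsNoetherian X := isNoetherian_of_proper' k X
  have hL1 : FlatMod.IsFinLocFreeOfRank 1 L := isFinLocFreeOfRank_one_of_isInvertible L hL
  induction n with
  | zero =>
    have e := euler_iso k (Groth.Agent.Helper13.Tensor.rid Q)
      (isCoh_tensor_right _ 1 (isFinLocFreeOfRank_one_of_isInvertible _
        Groth.Agent.Helper13.Inv.isInvertible_structureModule) Q hQ) hQ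
    change Curv2.euler k X (CohB1.tensorMod Q (Coh.structureModule X)) = _
    rw [e]
    simp
  | succ n ih =>
    have hLn : PicF.IsInvertible (CohB1.tensorPow L n) :=
      Groth.Agent.Helper13.Inv.isInvertible_tensorPow L hL n
    have hLn1 : FlatMod.IsFinLocFreeOfRank 1 (CohB1.tensorPow L n) :=
      isFinLocFreeOfRank_one_of_isInvertible _ hLn
    have cQn : Coh.IsCoh (CohB1.tensorMod Q (CohB1.tensorPow L n)) :=
      isCoh_tensor_right _ 1 hLn1 Q hQ
    have cnQ : Coh.IsCoh (CohB1.tensorMod (CohB1.tensorPow L n) Q) :=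
      Groth.Agent.Helper13.K0Tensor.isCoh_tensor _ 1 hLn1 Q hQ
    have cQnL : Coh.IsCoh (CohB1.tensorMod (CohB1.tensorMod Q (CohB1.tensorPow L n)) L) :=
      isCoh_tensor_right L 1 hL1 _ cQn
    have a : CohB1.tensorMod Q (CohB1.tensorMod (CohB1.tensorPow L n) L) ≅
        CohB1.tensorMod (CohB1.tensorMod Q (CohB1.tensorPow L n)) L :=
      (Groth.Agent.Helper13.Tensor.assoc Q (CohB1.tensorPow L n) L).symm
    have ea := euler_iso k a (isCoh_of_iso a.symm cQnL) cQnL
    change Curv2.euler k X (CohB1.tensorMod Q (CohB1.tensorMod (CohB1.tensorPow L n) L)) = _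
    rw [ea]
    have hmem := Groth.Agent.Helper13.K0Tensor.main_tensor (fun M : X.Modules => Coh.IsCoh M)
      (fun _ => Iff.rfl) (CohB1.tensorPow L n) 1 hLn1 Q hQ 1 hdQ
    have hb : KZero.clSub (fun M : X.Modules => Coh.IsCoh M)
        (CohB1.tensorMod Q (CohB1.tensorPow L n)) =
        KZero.clSub (fun M : X.Modules => Coh.IsCoh M)
          (CohB1.tensorMod (CohB1.tensorPow L n) Q) :=
      Groth.Agent.Helper5.KZ.clSub_iso (fun M : X.Modules => Coh.IsCoh M)
        (Groth.Agent.Helper13.Tensor.braid Q (CohB1.tensorPow L n)) cQn cnQ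
        (isZero_zero _) (isCoh_of_isZero _ (isZero_zero _))
    have h0 := psi_eq_zero_of_mem_filtLt_one k L 1 hL1 _ hmem
    rw [one_nsmul, map_sub, ← hb, psi_clSub k L 1 hL1 _ cQn, psi_clSub k L 1 hL1 _ hQ] at h0
    push_cast at h0 ⊢
    linarith

end Linear

section Main

variable (k : Type u) [Field k] {X : Scheme.{u}} [X.Over (Spec (CommRingCat.of k))]
  [IsProper (X ↘ Spec (CommRingCat.of k))]

theorem coeff_eq_deg (D : X.IdealSheafData)
    (hD : topologicalKrullDim ↥(D.support : Set X) ≤ 1)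
    (L : X.Modules) (hL : PicF.IsInvertible L) (P : MvPolynomial (Fin 1) ℚ)
    (hP : ∀ n : Fin 1 → ℕ, (Curv2.euler k X
      (Curv2.tensorPows (ClSub.quotMod D) 1 (fun _ => L) n) : ℚ) =
        MvPolynomial.eval (fun i => (n i : ℚ)) P) :
    MvPolynomial.coeff (Finsupp.equivFunOnFinite.symm fun _ : Fin 1 => 1) P =
      (@Curv2.deg k _ D.subscheme ⟨D.subschemeι ≫ (X ↘ (Spec (CommRingCat.of k)))⟩
        ((Scheme.Modules.pullback D.subschemeι).obj L) 1 : ℚ) := by
  letI : D.subscheme.Over (Spec (CommRingCat.of k)) :=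
    ⟨D.subschemeι ≫ (X ↘ (Spec (CommRingCat.of k)))⟩
  have hQ : Coh.IsCoh (ClSub.quotMod D) := Groth.Agent.Helper24.PtIdeal.isCoh_quotMod D
  have hdQ : topologicalKrullDim ↥(CohB1.support (ClSub.quotMod D)) ≤
      ((1 : ℕ) : WithBot ℕ∞) := by
    rw [Nat.cast_one]
    exact (Groth.Agent.Helper13.DimLemma.dim_subset_le
      (Groth.Agent.Helper24.PtIdeal.support_quotMod_subset D)).trans hD
  have key := coeff_of_eval_eq P (Curv2.euler k X (ClSub.quotMod D) : ℚ)
    ((Curv2.euler k X (CohB1.tensorMod (ClSub.quotMod D) L) -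
      Curv2.euler k X (ClSub.quotMod D) : ℤ) : ℚ) (fun n => by
      rw [← hP n]
      change ((Curv2.euler k X (CohB1.tensorMod (ClSub.quotMod D)
        (CohB1.tensorPow L (n 0))) : ℤ) : ℚ) = _
      rw [euler_tensorPow_linear k _ hQ hdQ L hL (n 0)]
      push_cast
      ring)
  rw [key]
  have e1 := euler_quot_tensor k D.subschemeι rfl L hL
  haveI : (Coh.structureModule D.subscheme).IsQuasicoherent :=
    (isCoh_structureModule (X := D.subscheme)).1
  have e2 := euler_push' k D.subschemeι rfl (Coh.structureModule D.subscheme)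
  change Curv2.euler k X (CohB1.tensorMod (ClSub.quotMod D) L) = _ at e1
  change Curv2.euler k X (ClSub.quotMod D) = _ at e2
  unfold Curv2.deg
  rw [e1, e2]
  push_cast
  ring

end Main

end Groth.Agent.Lead.IntNumDimOne
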