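import Mathlib
import Groth.Prelude.Def_CurvBase
import Groth.Prelude.Def_Curv2
import Groth.Agent.Lib.Lead.EulerK0
import Groth.Agent.Lib.Lead.EffDeg
import Groth.Agent.Lib.Lead.DegTensor
import Groth.Agent.Lib.Lead.PolyDeg
import Groth.Agent.Lib.Helper13.K0Tensor
import Groth.Agent.Lib.Helper13.K0Length
import Groth.Agent.Lib.Helper13.TensorAssoc
import Groth.Agent.Lib.Helper13.TensorUnit
import Groth.Agent.Lib.Helper13.TensorMap

/-!
# Snapper's theorem (difference form)

For `F` coherent with `dim Supp F ≤ d` on a proper `k`-scheme and invertible `L_1, …, L_r`, all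
mixed forward differences of order `d + 1` of `n ↦ χ(F ⊗ L^n)` vanish.
-/

set_option autoImplicit false

universe u

open CategoryTheory CategoryTheory.Limits AlgebraicGeometry Opposite TopologicalSpace

namespace Groth.Agent.Lead.Snapper

open Groth.Agent.Lead.EulerK0 Groth.Agent.Lead.EffDeg Groth.Agent.Lead.DegTensor
  Groth.Agent.Lead.PolyDeg Groth.Agent.Helper13.Tensor

theorem le_of_lt_succ {a : WithBot ℕ∞} {d : ℕ} (h : a < ((d + 1 : ℕ) : WithBot ℕ∞)) :
    a ≤ ((d : ℕ) : WithBot ℕ∞) := by
  induction a using WithBot.recBotCoe with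
  | bot => exact bot_le
  | coe a' =>
    induction a' using ENat.recTopCoe with
    | top =>
      exfalso
      have h3 : (⊤ : ℕ∞) < ((d + 1 : ℕ) : ℕ∞) := by exact_mod_cast h
      exact absurd h3 (by simp)
    | coe m =>
      have h2 : m < d + 1 := by exact_mod_cast h
      have h3 : m ≤ d := by omega
      exact_mod_cast h3

theorem lt_succ_of_le {a : WithBot ℕ∞} {d : ℕ} (h : a ≤ ((d : ℕ) : WithBot ℕ∞)) :
    a < ((d + 1 : ℕ) : WithBot ℕ∞) :=
  lt_of_le_of_lt h (by exact_mod_cast Nat.lt_succ_self d)

section Twist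

variable {X : Scheme.{u}} [IsNoetherian X]

/-- the twist `L_0^{n_0} ⊗ ⋯ ⊗ L_{r-1}^{n_{r-1}}` -/
noncomputable abbrev tw (r : ℕ) (L : Fin r → X.Modules) (n : Fin r → ℕ) : X.Modules :=
  Curv2.tensorPows (Coh.structureModule X) r L n

theorem rank_one_structure : FlatMod.IsFinLocFreeOfRank 1 (Coh.structureModule X) :=
  isFinLocFreeOfRank_one_of_isInvertible _ Groth.Agent.Helper13.Inv.isInvertible_structureModule

theorem rank_one_tensorPow (L : X.Modules) (hL : FlatMod.IsFinLocFreeOfRank 1 L) (m : ℕ) :
    FlatMod.IsFinLocFreeOfRank 1 (CohB1.tensorPow L m) := by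
  induction m with
  | zero => exact rank_one_structure
  | succ m ih => exact isFinLocFreeOfRank_tensor _ 1 ih L hL

theorem rank_one_tw : ∀ (r : ℕ) (L : Fin r → X.Modules)
    (_ : ∀ i, FlatMod.IsFinLocFreeOfRank 1 (L i)) (n : Fin r → ℕ),
    FlatMod.IsFinLocFreeOfRank 1 (tw r L n)
  | 0, _, _, _ => rank_one_structure
  | r + 1, L, hL, n =>
    isFinLocFreeOfRank_tensor _ 1
      (rank_one_tw r (fun i => L i.castSucc) (fun i => hL i.castSucc) (fun i => n i.castSucc))
      _ (rank_one_tensorPow _ (hL (Fin.last r)) _)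

/-- `F ⊗ L^n` in the prelude's bracketing is `F ⊗ (O ⊗ L^n)` -/
theorem tensorPows_iso (F : X.Modules) : ∀ (r : ℕ) (L : Fin r → X.Modules) (n : Fin r → ℕ),
    Nonempty (Curv2.tensorPows F r L n ≅ CohB1.tensorMod F (tw r L n))
  | 0, _, _ => ⟨(rid F).symm⟩
  | r + 1, L, n => by
    obtain ⟨e⟩ := tensorPows_iso F r (fun i => L i.castSucc) (fun i => n i.castSucc)
    exact ⟨mapIso e (Iso.refl _) ≪≫ assoc _ _ _⟩

/-- raising the `i`-th exponent by one tensors the twist with `L i` -/
theorem tw_step : ∀ (r : ℕ) (L : Fin r → X.Modules) (n n' : Fin r → ℕ) (i : Fin r)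
    (_ : n' i = n i + 1) (_ : ∀ j, j ≠ i → n' j = n j),
    Nonempty (tw r L n' ≅ CohB1.tensorMod (tw r L n) (L i))
  | 0, _, _, _, i, _, _ => i.elim0
  | r + 1, L, n, n', i, h1, h2 => by
    induction i using Fin.lastCases with
    | last =>
      have e : (fun j : Fin r => n' j.castSucc) = (fun j : Fin r => n j.castSucc) :=
        funext fun j => h2 _ (Fin.castSucc_lt_last j).ne
      have e0 : tw (r + 1) L n' = CohB1.tensorMod
          (tw r (fun j => L j.castSucc) (fun j => n j.castSucc))
          (CohB1.tensorMod (CohB1.tensorPow (L (Fin.last r)) (n (Fin.last r))) (L (Fin.last r))) := by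
        show CohB1.tensorMod (tw r (fun j => L j.castSucc) (fun j => n' j.castSucc))
          (CohB1.tensorPow (L (Fin.last r)) (n' (Fin.last r))) = _
        rw [e, h1]
        rfl
      exact ⟨eqToIso e0 ≪≫ (assoc _ _ _).symm⟩
    | cast j =>
      have hl : n' (Fin.last r) = n (Fin.last r) := h2 _ (Fin.castSucc_lt_last j).ne'
      obtain ⟨e⟩ := tw_step r (fun j => L j.castSucc) (fun j => n j.castSucc)
        (fun j => n' j.castSucc) j h1
        (fun j' hj' => h2 _ (fun h => hj' (Fin.castSucc_injective _ h)))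
      have e0 : tw (r + 1) L n' = CohB1.tensorMod
          (tw r (fun j => L j.castSucc) (fun j => n' j.castSucc))
          (CohB1.tensorPow (L (Fin.last r)) (n (Fin.last r))) := by
        show CohB1.tensorMod (tw r (fun j => L j.castSucc) (fun j => n' j.castSucc))
          (CohB1.tensorPow (L (Fin.last r)) (n' (Fin.last r))) = _
        rw [hl]
      exact ⟨eqToIso e0 ≪≫ mapIso e (Iso.refl _) ≪≫ assoc _ _ _ ≪≫
        mapIso (Iso.refl _) (braid _ _) ≪≫ (assoc _ _ _).symm⟩

end Twist

section Main

variable (k : Type u) [Field k] {X : Scheme.{u}} [X.Over (Spec (CommRingCat.of k))]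
  [IsProper (X ↘ Spec (CommRingCat.of k))]

/-- `[M] ↦ χ(M ⊗ E)` on `K₀` of coherent modules, `E` invertible. -/
noncomputable def Phi (E : X.Modules) (hE : FlatMod.IsFinLocFreeOfRank 1 E) :
    KZero.K0sub (fun M : X.Modules => Coh.IsCoh M) →+ ℤ :=
  psi k E 1 hE + eulerHom k X

theorem Phi_clSub (E : X.Modules) (hE : FlatMod.IsFinLocFreeOfRank 1 E) (M : X.Modules)
    (hM : Coh.IsCoh M) :
    Phi k E hE (KZero.clSub (fun M : X.Modules => Coh.IsCoh M) M) =
      Curv2.euler k X (CohB1.tensorMod M E) := by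
  unfold Phi
  rw [AddMonoidHom.add_apply, psi_clSub k E 1 hE M hM, eulerHom_clSub k X M hM]
  push_cast
  ring

theorem isPolyDeg_of_mem_filtLt (d : ℕ) :
    ∀ (c : KZero.K0sub (fun M : X.Modules => Coh.IsCoh M)),
      c ∈ Groth.Agent.Helper13.K0Length.filtLt (fun M : X.Modules => Coh.IsCoh M) d →
      ∀ (r : ℕ) (L : Fin r → X.Modules) (hL : ∀ i, FlatMod.IsFinLocFreeOfRank 1 (L i)),
        haveI : IsNoetherian X := isNoetherian_of_proper' k X
        IsPolyDeg d (fun n => Phi k (tw r L n) (rank_one_tw r L hL n) c) := by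
  haveI : IsNoetherian X := isNoetherian_of_proper' k X
  induction d with
  | zero =>
    intro c hc r L hL n
    show Phi k (tw r L n) (rank_one_tw r L hL n) c = 0
    unfold Groth.Agent.Helper13.K0Length.filtLt at hc
    refine AddSubgroup.closure_induction
      (p := fun c _ => Phi k (tw r L n) (rank_one_tw r L hL n) c = 0) ?_ ?_ ?_ ?_ hc
    · rintro c ⟨G, hG, hdim, rfl⟩
      rw [Phi_clSub k _ _ G hG]
      have hz : IsZero G := isZero_of_support_eq_empty G (support_eq_empty_of_dim_lt G hdim)
      have hz' : IsZero (CohB1.tensorMod G (tw r L n)) :=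
        (Groth.Agent.Helper13.TensorFunctor.tensorRight (tw r L n)).map_isZero hz
      exact euler_of_isZero k _ hz' (isCoh_of_isZero _ hz')
    · exact map_zero _
    · intro a b _ _ ha hb
      rw [map_add, ha, hb, add_zero]
    · intro a _ ha
      rw [map_neg, ha, neg_zero]
  | succ d ih =>
    intro c hc r L hL
    unfold Groth.Agent.Helper13.K0Length.filtLt at hc
    refine AddSubgroup.closure_induction
      (p := fun c _ => IsPolyDeg (d + 1)
        (fun n => Phi k (tw r L n) (rank_one_tw r L hL n) c)) ?_ ?_ ?_ ?_ hc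
    · rintro c ⟨G, hG, hdim, rfl⟩
      intro i
      have hmem := Groth.Agent.Helper13.K0Tensor.main_tensor (fun M : X.Modules => Coh.IsCoh M)
        (fun _ => Iff.rfl) (L i) 1 (hL i) G hG d (le_of_lt_succ hdim)
      have hLG := Groth.Agent.Helper13.K0Tensor.isCoh_tensor (L i) 1 (hL i) G hG
      have key := ih _ hmem r L hL
      have hfun : fd i (fun n => Phi k (tw r L n) (rank_one_tw r L hL n)
            (KZero.clSub (fun M : X.Modules => Coh.IsCoh M) G)) =
          (fun n => Phi k (tw r L n) (rank_one_tw r L hL n)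
            (KZero.clSub (fun M : X.Modules => Coh.IsCoh M) (CohB1.tensorMod (L i) G) -
              1 • KZero.clSub (fun M : X.Modules => Coh.IsCoh M) G)) := by
        funext n
        show Phi k (tw r L (n + Pi.single i 1)) _ _ - Phi k (tw r L n) _ _ = _
        rw [map_sub, one_nsmul, Phi_clSub k _ _ G hG, Phi_clSub k _ _ G hG,
          Phi_clSub k _ _ _ hLG]
        congr 1
        obtain ⟨e⟩ := tw_step r L n (n + Pi.single i 1) i (by simp)
          (fun j hj => by simp [Pi.single_eq_of_ne hj])
        have hT := rank_one_tw r L hL n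
        have hT' := rank_one_tw r L hL (n + Pi.single i 1)
        exact euler_iso k
          (mapIso (Iso.refl G) e ≪≫ (assoc G (tw r L n) (L i)).symm ≪≫ braid _ _ ≪≫
            (assoc (L i) G (tw r L n)).symm)
          (isCoh_tensor_right _ 1 hT' G hG) (isCoh_tensor_right _ 1 hT _ hLG)
      rw [hfun]
      exact key
    · have : (fun n => Phi k (tw r L n) (rank_one_tw r L hL n)
          (0 : KZero.K0sub (fun M : X.Modules => Coh.IsCoh M))) = 0 := by
        funext n
        exact map_zero _
      rw [this]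
      exact IsPolyDeg.zero _
    · intro a b _ _ ha hb
      have : (fun n => Phi k (tw r L n) (rank_one_tw r L hL n) (a + b)) =
          (fun n => Phi k (tw r L n) (rank_one_tw r L hL n) a) +
            (fun n => Phi k (tw r L n) (rank_one_tw r L hL n) b) := by
        funext n
        exact map_add _ _ _
      rw [this]
      exact ha.add hb
    · intro a _ ha
      have : (fun n => Phi k (tw r L n) (rank_one_tw r L hL n) (-a)) =
          -(fun n => Phi k (tw r L n) (rank_one_tw r L hL n) a) := by
        funext n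
        exact map_neg _ _
      rw [this]
      exact ha.neg

/-- **Snapper, difference form.** -/
theorem isPolyDeg_euler_tensorPows (F : X.Modules) (hF : Coh.IsCoh F) (d : ℕ)
    (hsupp : topologicalKrullDim ↥(CohB1.support F) ≤ d)
    (r : ℕ) (L : Fin r → X.Modules) (hL : ∀ i, PicF.IsInvertible (L i)) :
    IsPolyDeg (d + 1) (fun n => Curv2.euler k X (Curv2.tensorPows F r L n)) := by
  haveI : IsNoetherian X := isNoetherian_of_proper' k X
  have hL1 : ∀ i, FlatMod.IsFinLocFreeOfRank 1 (L i) :=
    fun i => isFinLocFreeOfRank_one_of_isInvertible _ (hL i)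
  have hmem : KZero.clSub (fun M : X.Modules => Coh.IsCoh M) F ∈
      Groth.Agent.Helper13.K0Length.filtLt (fun M : X.Modules => Coh.IsCoh M) (d + 1) :=
    AddSubgroup.subset_closure ⟨F, hF, lt_succ_of_le hsupp, rfl⟩
  have key := isPolyDeg_of_mem_filtLt k (d + 1) _ hmem r L hL1
  have hfun : (fun n => Curv2.euler k X (Curv2.tensorPows F r L n)) =
      (fun n => Phi k (tw r L n) (rank_one_tw r L hL1 n)
        (KZero.clSub (fun M : X.Modules => Coh.IsCoh M) F)) := by
    funext n
    rw [Phi_clSub k _ _ F hF]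
    obtain ⟨e⟩ := tensorPows_iso F r L n
    have hc2 := isCoh_tensor_right _ 1 (rank_one_tw r L hL1 n) F hF
    exact euler_iso k e (isCoh_of_iso e.symm hc2) hc2
  rw [hfun]
  exact key

end Main

end Groth.Agent.Lead.Snapper
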