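import Mathlib
import Groth.Agent.Lib.Lead.Snapper
import Groth.Agent.Lib.Lead.IntNumDimOne
import Groth.Agent.Lib.Helper13.ClosureSheaf
import Groth.Agent.Lib.Helper13.PbTensor
import Groth.Agent.Lib.Helper13.PbUnit
import Groth.Agent.Lib.Helper13.InvTensor
import Groth.Agent.Lib.Helper13.CurveDeg2

/-!
# Snapper's theorem: the leading part is carried by the top-dimensional components
-/

set_option autoImplicit false

universe u

open CategoryTheory CategoryTheory.Limits AlgebraicGeometry Opposite TopologicalSpace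

namespace Groth.Agent.Lead.SnapperComp

open Groth.Agent.Lead.EulerK0 Groth.Agent.Lead.EffDeg Groth.Agent.Lead.DegTensor
  Groth.Agent.Lead.PolyDeg Groth.Agent.Helper13.Tensor Groth.Agent.Lead.Snapper

section Pullback

variable {X Z : Scheme.{u}} (i : Z ⟶ X)

theorem isInvertible_tw : ∀ (r : ℕ) (L : Fin r → X.Modules) (_ : ∀ j, PicF.IsInvertible (L j))
    (n : Fin r → ℕ), PicF.IsInvertible (tw r L n)
  | 0, _, _, _ => Groth.Agent.Helper13.Inv.isInvertible_structureModule
  | r + 1, L, hL, n =>
    Groth.Agent.Helper13.Inv.isInvertible_tensorMod _ _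
      (isInvertible_tw r (fun j => L j.castSucc) (fun j => hL j.castSucc) (fun j => n j.castSucc))
      (Groth.Agent.Helper13.Inv.isInvertible_tensorPow _ (hL (Fin.last r)) _)

theorem pullback_tensorPow (L : X.Modules) (hL : PicF.IsInvertible L) : ∀ m : ℕ,
    Nonempty ((Scheme.Modules.pullback i).obj (CohB1.tensorPow L m) ≅
      CohB1.tensorPow ((Scheme.Modules.pullback i).obj L) m)
  | 0 => ⟨Groth.Agent.Helper13.PbUnit.pullbackUnitIso i⟩
  | m + 1 => by
    obtain ⟨e⟩ := pullback_tensorPow L hL m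
    exact ⟨Groth.Agent.Helper13.PbTensor.pullbackTensorIso i _ _
      (Groth.Agent.Helper13.Inv.isInvertible_tensorPow L hL m) hL ≪≫ mapIso e (Iso.refl _)⟩

theorem pullback_tw : ∀ (r : ℕ) (L : Fin r → X.Modules) (_ : ∀ j, PicF.IsInvertible (L j))
    (n : Fin r → ℕ),
    Nonempty ((Scheme.Modules.pullback i).obj (tw r L n) ≅
      tw r (fun j => (Scheme.Modules.pullback i).obj (L j)) n)
  | 0, _, _, _ => ⟨Groth.Agent.Helper13.PbUnit.pullbackUnitIso i⟩
  | r + 1, L, hL, n => by
    obtain ⟨e⟩ := pullback_tw r (fun j => L j.castSucc) (fun j => hL j.castSucc)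
      (fun j => n j.castSucc)
    obtain ⟨e'⟩ := pullback_tensorPow i (L (Fin.last r)) (hL (Fin.last r)) (n (Fin.last r))
    exact ⟨Groth.Agent.Helper13.PbTensor.pullbackTensorIso i _ _
      (isInvertible_tw r _ (fun j => hL j.castSucc) _)
      (Groth.Agent.Helper13.Inv.isInvertible_tensorPow _ (hL (Fin.last r)) _) ≪≫ mapIso e e'⟩

end Pullback

section Main

variable (k : Type u) [Field k] {X : Scheme.{u}} [X.Over (Spec (CommRingCat.of k))]
  [IsProper (X ↘ Spec (CommRingCat.of k))]

/-- the leading part of `χ(F ⊗ L^n)` is carried by the `d`-dimensional components of the support -/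
theorem isPolyDeg_sub_components (F : X.Modules) (hF : Coh.IsCoh F) (d : ℕ)
    (hsupp : topologicalKrullDim ↥(CohB1.support F) ≤ d)
    (r : ℕ) (L : Fin r → X.Modules) (hL : ∀ i, PicF.IsInvertible (L i))
    [DecidablePred fun x : X => topologicalKrullDim ↥(closure ({x} : Set X)) = (d : WithBot ℕ∞)] :
    IsPolyDeg d (fun n => Curv2.euler k X (Curv2.tensorPows F r L n) -
      ∑ᶠ ξ : X, (if topologicalKrullDim ↥(closure ({ξ} : Set X)) = (d : WithBot ℕ∞) then
        ((Module.length (X.presheaf.stalk ξ) (F.presheaf.stalk ξ)).toNat : ℤ) *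
          Curv2.euler k X (Curv2.tensorPows (Cyc.closureStructureSheaf ξ) r L n) else 0)) := by
  haveI : IsNoetherian X := isNoetherian_of_proper' k X
  have hL1 : ∀ i, FlatMod.IsFinLocFreeOfRank 1 (L i) :=
    fun i => isFinLocFreeOfRank_one_of_isInvertible _ (hL i)
  have hm := Groth.Agent.Helper13.K0Length.main (fun M : X.Modules => Coh.IsCoh M)
    (fun _ => Iff.rfl) d F hF hsupp
  have hfin := Groth.Agent.Helper13.K0Tensor.finite_support_term
    (fun M : X.Modules => Coh.IsCoh M) d F hF hsupp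
  have key := isPolyDeg_of_mem_filtLt k d _ hm r L hL1
  -- `χ(M ⊗ L^n)` through `Phi`
  have hPhi : ∀ (M : X.Modules) (hM : Coh.IsCoh M) (n : Fin r → ℕ),
      Phi k (tw r L n) (rank_one_tw r L hL1 n)
        (KZero.clSub (fun M : X.Modules => Coh.IsCoh M) M) =
        Curv2.euler k X (Curv2.tensorPows M r L n) := by
    intro M hM n
    rw [Phi_clSub k _ _ M hM]
    obtain ⟨e⟩ := tensorPows_iso M r L n
    have hc2 := isCoh_tensor_right _ 1 (rank_one_tw r L hL1 n) M hM
    exact (euler_iso k e (isCoh_of_iso e.symm hc2) hc2).symm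
  have hfun : (fun n => Curv2.euler k X (Curv2.tensorPows F r L n) -
      ∑ᶠ ξ : X, (if topologicalKrullDim ↥(closure ({ξ} : Set X)) = (d : WithBot ℕ∞) then
        ((Module.length (X.presheaf.stalk ξ) (F.presheaf.stalk ξ)).toNat : ℤ) *
          Curv2.euler k X (Curv2.tensorPows (Cyc.closureStructureSheaf ξ) r L n) else 0)) =
      (fun n => Phi k (tw r L n) (rank_one_tw r L hL1 n)
        (KZero.clSub (fun M : X.Modules => Coh.IsCoh M) F - (finsum fun x : X =>
          if topologicalKrullDim ↥(closure ({x} : Set X)) = d then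
            (Module.length (X.presheaf.stalk x) (F.presheaf.stalk x)).toNat •
              KZero.clSub (fun M : X.Modules => Coh.IsCoh M) (Cyc.closureStructureSheaf x)
          else 0))) := by
    funext n
    rw [map_sub, hPhi F hF n, map_finsum _ hfin]
    congr 1
    refine finsum_congr (fun ξ => ?_)
    split_ifs with hξ
    · rw [map_nsmul, hPhi _ (Groth.Agent.Helper13.ClosureSheaf.isCoh_closureStructureSheaf ξ) n,
        nsmul_eq_mul]
    · exact (map_zero _).symm
  rw [hfun]
  exact key

/-- Euler characteristic of a twist of the structure sheaf of the reduced closure of a point,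
computed on that closed subscheme. -/
theorem euler_closure_tensorPows (ξ : X) (r : ℕ) (L : Fin r → X.Modules)
    (hL : ∀ i, PicF.IsInvertible (L i)) (n : Fin r → ℕ) :
    Curv2.euler k X (Curv2.tensorPows (Cyc.closureStructureSheaf ξ) r L n) =
      @Curv2.euler k _ (IntMult.ptIdeal ξ).subscheme
        ⟨(IntMult.ptIdeal ξ).subschemeι ≫ (X ↘ (Spec (CommRingCat.of k)))⟩
        (Curv2.tensorPows (Coh.structureModule (IntMult.ptIdeal ξ).subscheme) r
          (fun i => (Scheme.Modules.pullback (IntMult.ptIdeal ξ).subschemeι).obj (L i)) n) := by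
  haveI : IsNoetherian X := isNoetherian_of_proper' k X
  letI : (IntMult.ptIdeal ξ).subscheme.Over (Spec (CommRingCat.of k)) :=
    ⟨(IntMult.ptIdeal ξ).subschemeι ≫ (X ↘ (Spec (CommRingCat.of k)))⟩
  haveI : IsProper ((IntMult.ptIdeal ξ).subscheme ↘ Spec (CommRingCat.of k)) := by
    show IsProper ((IntMult.ptIdeal ξ).subschemeι ≫ (X ↘ (Spec (CommRingCat.of k))))
    infer_instance
  haveI : IsNoetherian (IntMult.ptIdeal ξ).subscheme :=
    isNoetherian_of_proper' k (IntMult.ptIdeal ξ).subscheme
  have hL1 : ∀ i, FlatMod.IsFinLocFreeOfRank 1 (L i) :=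
    fun i => isFinLocFreeOfRank_one_of_isInvertible _ (hL i)
  have hT := rank_one_tw r L hL1 n
  have hO := Groth.Agent.Helper13.ClosureSheaf.isCoh_closureStructureSheaf ξ
  obtain ⟨e⟩ := tensorPows_iso (Cyc.closureStructureSheaf ξ) r L n
  have hc2 := isCoh_tensor_right _ 1 hT _ hO
  rw [euler_iso k e (isCoh_of_iso e.symm hc2) hc2]
  have e1 := Groth.Agent.Lead.IntNumDimOne.euler_quot_tensor_rank k
    (IntMult.ptIdeal ξ).subschemeι rfl 1 (tw r L n) hT
  change Curv2.euler k X (CohB1.tensorMod (Cyc.closureStructureSheaf ξ) (tw r L n)) = _ at e1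
  rw [e1]
  obtain ⟨e2⟩ := pullback_tw (IntMult.ptIdeal ξ).subschemeι r L hL n
  have hinv : PicF.IsInvertible ((Scheme.Modules.pullback (IntMult.ptIdeal ξ).subschemeι).obj
      (tw r L n)) :=
    Groth.Agent.Helper13.PbInv.isInvertible_pullback _ _ (isInvertible_tw r L hL n)
  exact euler_iso k e2 (Groth.Agent.Helper13.CurveDeg.isCoh_of_isInvertible _ hinv)
    (Groth.Agent.Helper13.CurveDeg.isCoh_of_isInvertible _
      (Groth.Agent.Helper13.Inv.isInvertible_of_iso e2 hinv))

end Main

end Groth.Agent.Lead.SnapperComp
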