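import Mathlib
import Groth.Agent.Lib.Lead.SnapperComp
import Groth.Agent.Lib.Helper13.StalkLength
import Groth.Agent.Lib.Helper24.PtIdeal2

/-!
# Snapper's theorem: polynomial forms

The polynomial input (multivariate Newton interpolation) is taken as a hypothesis `NewtonHyp`, to be
discharged by `Groth.Agent.Helper23.SnapperPoly.exists_mvPolynomial_of_isPolyDeg`.
-/

set_option autoImplicit false

universe u

open CategoryTheory CategoryTheory.Limits AlgebraicGeometry Opposite TopologicalSpace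

namespace Groth.Agent.Lead.SnapperFinal

open Groth.Agent.Lead.EulerK0 Groth.Agent.Lead.EffDeg Groth.Agent.Lead.DegTensor
  Groth.Agent.Lead.PolyDeg Groth.Agent.Lead.Snapper Groth.Agent.Lead.SnapperComp

/-- multivariate Newton interpolation, as a hypothesis -/
def NewtonHyp : Prop :=
  ∀ (r d : ℕ) (g : (Fin r → ℕ) → ℤ), IsPolyDeg (d + 1) g →
    ∃ P : MvPolynomial (Fin r) ℚ, P.totalDegree ≤ d ∧
      ∀ n : Fin r → ℕ, (g n : ℚ) = MvPolynomial.eval (fun i => (n i : ℚ)) P

theorem exists_poly_lt (hA : NewtonHyp) {r : ℕ} (d : ℕ) (g : (Fin r → ℕ) → ℤ)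
    (h : IsPolyDeg d g) :
    ∃ P : MvPolynomial (Fin r) ℚ, (∀ m ∈ P.support, (m.sum fun _ e => e) < d) ∧
      ∀ n : Fin r → ℕ, (g n : ℚ) = MvPolynomial.eval (fun i => (n i : ℚ)) P := by
  cases d with
  | zero =>
    refine ⟨0, fun m hm => by simp at hm, fun n => ?_⟩
    rw [h n, map_zero, Int.cast_zero]
  | succ d =>
    obtain ⟨P, hP, hev⟩ := hA r d g h
    exact ⟨P, fun m hm => lt_of_le_of_lt (MvPolynomial.le_totalDegree hm)
      (Nat.lt_succ_of_le hP), hev⟩

section Main

variable (k : Type u) [Field k] {X : Scheme.{u}} [X.Over (Spec (CommRingCat.of k))]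
  [IsProper (X ↘ Spec (CommRingCat.of k))]

theorem s1528 (hA : NewtonHyp) (F : X.Modules) (hF : Coh.IsCoh F) (d : ℕ)
    (hsupp : topologicalKrullDim (CohB1.support F) ≤ d)
    (r : ℕ) (L : Fin r → X.Modules) (hL : ∀ i, PicF.IsInvertible (L i)) :
    ∃ P : MvPolynomial (Fin r) ℚ, P.totalDegree ≤ d ∧
      ∀ n : Fin r → ℕ, (Curv2.euler k X (Curv2.tensorPows F r L n) : ℚ) =
        MvPolynomial.eval (fun i => (n i : ℚ)) P :=
  hA r d _ (isPolyDeg_euler_tensorPows k F hF d hsupp r L hL)

/-- finiteness of the set of top-dimensional points of the support -/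
theorem finite_top_points [IsNoetherian X] (F : X.Modules) (hF : Coh.IsCoh F) (d : ℕ)
    (hdim : topologicalKrullDim ↥(CohB1.support F) ≤ d) :
    {ξ : X | topologicalKrullDim ↥(closure ({ξ} : Set X)) = (d : WithBot ℕ∞) ∧
      (Module.length (X.presheaf.stalk ξ) (F.presheaf.stalk ξ)).toNat ≠ 0}.Finite := by
  have hX' : IsClosed (CohB1.support F) := Groth.Agent.S0020.result X F hF.2
  refine (Groth.Agent.Helper13.K0Length.finite_maxPts hX').subset ?_
  rintro x ⟨hd, hx⟩
  have hxX : x ∈ CohB1.support F := by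
    by_contra hxn
    apply hx
    rw [Groth.Agent.Helper13.StalkLength.length_stalk_eq_zero_of_notMem_support hxn]
    simp
  refine ⟨hxX, ?_⟩
  intro y hy hsp
  by_contra hne
  have hne' : closure ({x} : Set X) ≠ closure {y} := fun h =>
    hne ((inseparable_iff_closure_eq.2 h).eq).symm
  have h1 := Groth.Agent.Helper13.DimLemma.dim_closure_add_one_le hsp hne'
  have h2 : topologicalKrullDim ↥(closure ({y} : Set X)) ≤ d :=
    (Groth.Agent.Helper13.DimLemma.dim_subset_le
      (closure_minimal (Set.singleton_subset_iff.2 hy) hX')).trans hdim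
  have h3 := Groth.Agent.Helper13.DimLemma.lt_of_add_one_le_coe (h1.trans h2)
  rw [hd] at h3
  exact lt_irrefl _ h3

theorem s7650 (hA : NewtonHyp) (F : X.Modules) (hF : Coh.IsCoh F) (d : ℕ)
    (hd : topologicalKrullDim (CohB1.support F) = d)
    (r : ℕ) (L : Fin r → X.Modules) (hL : ∀ i, PicF.IsInvertible (L i))
    [DecidablePred fun x : X => topologicalKrullDim ↥(closure ({x} : Set X)) = (d : WithBot ℕ∞)] :
    ∃ P : MvPolynomial (Fin r) ℚ, (∀ m ∈ P.support, (m.sum fun _ e => e) < d) ∧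
      ∀ n : Fin r → ℕ,
        (Curv2.euler k X (Curv2.tensorPows F r L n) : ℚ) -
          ∑ᶠ ξ : X, (if topologicalKrullDim (closure ({ξ} : Set X)) = (d : WithBot ℕ∞) then
            ((Module.length (X.presheaf.stalk ξ) (F.presheaf.stalk ξ)).toNat : ℚ) *
              (@Curv2.euler k _ (IntMult.ptIdeal ξ).subscheme
                ⟨(IntMult.ptIdeal ξ).subschemeι ≫ (X ↘ (Spec (CommRingCat.of k)))⟩
                (Curv2.tensorPows (Coh.structureModule (IntMult.ptIdeal ξ).subscheme) r
                  (fun i => (Scheme.Modules.pullback (IntMult.ptIdeal ξ).subschemeι).obj (L i))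
                  n) : ℚ)
            else 0)
          = MvPolynomial.eval (fun i => (n i : ℚ)) P := by
  have key := isPolyDeg_sub_components k F hF d hd.le r L hL
  obtain ⟨P, hPs, hPe⟩ := exists_poly_lt hA d _ key
  refine ⟨P, hPs, fun n => ?_⟩
  have hcast : ∀ f : X → ℤ, ((∑ᶠ ξ, f ξ : ℤ) : ℚ) = ∑ᶠ ξ, (f ξ : ℚ) := fun f =>
    (Int.castAddHom ℚ).map_finsum_of_injective Int.cast_injective f
  rw [← hPe n]
  push_cast
  congr 1
  rw [hcast]
  refine finsum_congr (fun ξ => ?_)
  split_ifs with hξ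
  · rw [euler_closure_tensorPows k ξ r L hL n]
    push_cast
    rfl
  · simp

/-- the top coefficient of `χ(O_D ⊗ L^n)` is the multiplicity-weighted sum over components;
`hC` is the polynomial bookkeeping lemma. -/
theorem s7686 (hA : NewtonHyp) (D : X.IdealSheafData) (d : ℕ)
    (hD : topologicalKrullDim (D.support : Set X) = d)
    (L : Fin d → X.Modules) (hL : ∀ i, PicF.IsInvertible (L i)) (P : MvPolynomial (Fin d) ℚ)
    (hP : ∀ n : Fin d → ℕ, (Curv2.euler k X (Curv2.tensorPows (ClSub.quotMod D) d L n) : ℚ) =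
      MvPolynomial.eval (fun i => (n i : ℚ)) P)
    (Q : X → MvPolynomial (Fin d) ℚ)
    (hQ : ∀ ξ : X, topologicalKrullDim (closure ({ξ} : Set X)) = (d : WithBot ℕ∞) →
      ∀ n : Fin d → ℕ, (Curv2.euler k X (Curv2.tensorPows
        (Cyc.closureStructureSheaf ξ) d L n) : ℚ) = MvPolynomial.eval (fun i => (n i : ℚ)) (Q ξ))
    [DecidablePred fun x : X => topologicalKrullDim ↥(closure ({x} : Set X)) = (d : WithBot ℕ∞)]
    (hC : ∀ (S : Finset X) (m : X → ℚ) (P : MvPolynomial (Fin d) ℚ)
      (Q : X → MvPolynomial (Fin d) ℚ) (R : MvPolynomial (Fin d) ℚ),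
      (∀ mon ∈ R.support, (mon.sum fun _ e => e) < d) →
      (∀ n : Fin d → ℕ, MvPolynomial.eval (fun i => (n i : ℚ)) P -
        ∑ s ∈ S, m s * MvPolynomial.eval (fun i => (n i : ℚ)) (Q s) =
          MvPolynomial.eval (fun i => (n i : ℚ)) R) →
      MvPolynomial.coeff (Finsupp.equivFunOnFinite.symm fun _ : Fin d => 1) P =
        ∑ s ∈ S, m s * MvPolynomial.coeff (Finsupp.equivFunOnFinite.symm fun _ : Fin d => 1) (Q s)) :
    MvPolynomial.coeff (Finsupp.equivFunOnFinite.symm fun _ : Fin d => 1) P =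
      ∑ᶠ ξ : X, (if topologicalKrullDim (closure ({ξ} : Set X)) = (d : WithBot ℕ∞) then
        ((Module.length (X.presheaf.stalk ξ) ((ClSub.quotMod D).presheaf.stalk ξ)).toNat : ℚ) *
          MvPolynomial.coeff (Finsupp.equivFunOnFinite.symm fun _ : Fin d => 1) (Q ξ) else 0) := by
  haveI : IsNoetherian X := isNoetherian_of_proper' k X
  have hF : Coh.IsCoh (ClSub.quotMod D) := Groth.Agent.Helper24.PtIdeal.isCoh_quotMod D
  have hdF : topologicalKrullDim ↥(CohB1.support (ClSub.quotMod D)) ≤ d :=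
    (Groth.Agent.Helper13.DimLemma.dim_subset_le
      (Groth.Agent.Helper24.PtIdeal.support_quotMod_subset D)).trans hD.le
  have key := isPolyDeg_sub_components k (ClSub.quotMod D) hF d hdF d L hL
  obtain ⟨R, hRs, hRe⟩ := exists_poly_lt hA d _ key
  have hfin := finite_top_points (ClSub.quotMod D) hF d hdF
  set T : Finset X := hfin.toFinset with hT
  have hTmem : ∀ ξ, ξ ∈ T ↔ (topologicalKrullDim ↥(closure ({ξ} : Set X)) = (d : WithBot ℕ∞) ∧
      (Module.length (X.presheaf.stalk ξ) ((ClSub.quotMod D).presheaf.stalk ξ)).toNat ≠ 0) := by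
    intro ξ
    rw [hT, Set.Finite.mem_toFinset]
    rfl
  have hmain := hC T
    (fun ξ => ((Module.length (X.presheaf.stalk ξ)
      ((ClSub.quotMod D).presheaf.stalk ξ)).toNat : ℚ)) P Q R hRs (fun n => by
      have hcast : ∀ f : X → ℤ, ((∑ᶠ ξ, f ξ : ℤ) : ℚ) = ∑ᶠ ξ, (f ξ : ℚ) := fun f =>
        (Int.castAddHom ℚ).map_finsum_of_injective Int.cast_injective f
      rw [← hRe n, ← hP n]
      push_cast
      congr 1
      symm
      rw [hcast, finsum_eq_sum_of_support_subset (s := T)]
      · refine Finset.sum_congr rfl (fun ξ hξ => ?_)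
        have h1 := ((hTmem ξ).1 hξ).1
        rw [if_pos h1]
        push_cast
        rw [hQ ξ h1 n]
      · intro ξ hξ
        rw [Function.mem_support] at hξ
        rw [Finset.mem_coe, hTmem]
        by_cases h1 : topologicalKrullDim ↥(closure ({ξ} : Set X)) = (d : WithBot ℕ∞)
        · refine ⟨h1, fun h0 => hξ ?_⟩
          rw [if_pos h1, h0]
          simp
        · exact absurd (by rw [if_neg h1]; simp) hξ)
  rw [hmain]
  rw [finsum_eq_sum_of_support_subset (s := T)]
  · refine Finset.sum_congr rfl (fun ξ hξ => ?_)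
    rw [if_pos ((hTmem ξ).1 hξ).1]
  · intro ξ hξ
    rw [Function.mem_support] at hξ
    rw [Finset.mem_coe, hTmem]
    by_cases h1 : topologicalKrullDim ↥(closure ({ξ} : Set X)) = (d : WithBot ℕ∞)
    · refine ⟨h1, fun h0 => hξ ?_⟩
      rw [if_pos h1, h0]
      simp
    · exact absurd (by rw [if_neg h1]) hξ

end Main

end Groth.Agent.Lead.SnapperFinal
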