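import Mathlib
import Groth.Prelude.Def_StabCat

/-!
# Polynomial inequalities behind `Hom`-vanishing between (semi)stable sheaves
(for S15192–S15195).  Mathlib only.
-/

set_option autoImplicit false
universe u

open Polynomial

namespace Groth.Agent.Lead.StabPoly

open StabCat

theorem alpha_sub (d : ℕ) (p q : ℚ[X]) : alpha d (p - q) = alpha d p - alpha d q := by
  unfold alpha
  rw [coeff_sub]
  ring

theorem alpha_zero (d : ℕ) : alpha d (0 : ℚ[X]) = 0 := by
  simp [alpha]

/-- eventually nonnegative on `ℕ` -/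
def ENN (p : ℚ[X]) : Prop := ∃ N : ℕ, ∀ m : ℕ, N ≤ m → 0 ≤ p.eval (m : ℚ)

theorem eq_zero_of_eventually_zero (p : ℚ[X]) (N : ℕ)
    (h : ∀ m : ℕ, N ≤ m → p.eval (m : ℚ) = 0) : p = 0 := by
  apply Polynomial.eq_zero_of_infinite_isRoot
  apply Set.infinite_of_injective_forall_mem (f := fun i : ℕ => ((N + i : ℕ) : ℚ))
  · intro a b hab
    have := Nat.cast_injective (R := ℚ) hab
    omega
  · intro i
    exact h _ (Nat.le_add_right _ _)

theorem redLE_refl (d : ℕ) (p : ℚ[X]) : RedLE d p p := ⟨0, fun _ _ => le_rfl⟩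

theorem redLE_zero_left (d : ℕ) (p : ℚ[X]) : RedLE d 0 p := by
  refine ⟨0, fun m _ => ?_⟩
  simp [alpha_zero]

theorem redEq_refl (d : ℕ) (p : ℚ[X]) : RedEq d p p := rfl

/-- from a subobject to the quotient, non-strict -/
theorem quot_le (d : ℕ) (pF pK pI : ℚ[X]) (hI : pI = pF - pK) (ha : RedLE d pK pF) :
    ∃ N : ℕ, ∀ m : ℕ, N ≤ m →
      alpha d pI * pF.eval (m : ℚ) ≤ alpha d pF * pI.eval (m : ℚ) := by
  obtain ⟨N, hN⟩ := ha
  refine ⟨N, fun m hm => ?_⟩
  have h := hN m hm
  simp only [eval_smul, smul_eq_mul] at h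
  rw [hI, alpha_sub, eval_sub]
  linarith

/-- from a subobject to the quotient, strict -/
theorem quot_lt (d : ℕ) (pF pK pI : ℚ[X]) (hI : pI = pF - pK) (ha : RedLT d pK pF) :
    ∃ N : ℕ, ∀ m : ℕ, N ≤ m →
      alpha d pI * pF.eval (m : ℚ) < alpha d pF * pI.eval (m : ℚ) := by
  obtain ⟨N, hN⟩ := ha
  refine ⟨N, fun m hm => ?_⟩
  have h := hN m hm
  simp only [eval_smul, smul_eq_mul] at h
  rw [hI, alpha_sub, eval_sub]
  linarith

theorem alpha_F_nonneg (d : ℕ) (pF pK pI : ℚ[X]) (hI : pI = pF - pK)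
    (aK : 0 ≤ alpha d pK) (aI : 0 ≤ alpha d pI) : 0 ≤ alpha d pF := by
  have : alpha d pF = alpha d pI + alpha d pK := by rw [hI, alpha_sub]; ring
  rw [this]
  exact add_nonneg aI aK

/-- `Hom(F, G) = 0` for semistable `F`, `G` with `p(F) > p(G)`. -/
theorem false_of_redLT (d : ℕ) (pF pG pK pI : ℚ[X]) (hI : pI = pF - pK)
    (aK : 0 ≤ alpha d pK) (aI : 0 ≤ alpha d pI) (aG : 0 ≤ alpha d pG)
    (nG : ENN pG) (nI : ENN pI)
    (ha : RedLE d pK pF) (hb : RedLE d pI pG) (hlt : RedLT d pG pF) (hIne : pI ≠ 0) : False := by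
  have aF := alpha_F_nonneg d pF pK pI hI aK aI
  obtain ⟨N1, h1⟩ := quot_le d pF pK pI hI ha
  obtain ⟨N2, h2⟩ := hb
  obtain ⟨N3, h3⟩ := hlt
  obtain ⟨N4, h4⟩ := nG
  obtain ⟨N5, h5⟩ := nI
  simp only [eval_smul, smul_eq_mul] at h2 h3
  rcases aI.lt_or_eq with he | he
  · -- `alpha d pI > 0`
    let m := max (max N1 N2) N3
    have e1 := h1 m (le_trans (le_max_left _ _) (le_max_left _ _))
    have e2 := h2 m (le_trans (le_max_right _ _) (le_max_left _ _))
    have e3 := h3 m (le_max_right _ _)
    have f1 := mul_le_mul_of_nonneg_left e1 aG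
    have f2 := mul_le_mul_of_nonneg_left e2 aF
    have f3 := mul_lt_mul_of_pos_left e3 he
    linarith
  · rcases aG.lt_or_eq with hg | hg
    · apply hIne
      apply eq_zero_of_eventually_zero pI (max N2 N5)
      intro m hm
      have e2 := h2 m (le_trans (le_max_left _ _) hm)
      have e5 := h5 m (le_trans (le_max_right _ _) hm)
      rw [← he, zero_mul] at e2
      have : eval (m : ℚ) pI ≤ 0 := by
        by_contra hc
        rw [not_le] at hc
        have := mul_pos hg hc
        linarith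
      linarith
    · let m := max N3 N4
      have e3 := h3 m (le_max_left _ _)
      have e4 := h4 m (le_max_right _ _)
      rw [← hg, zero_mul] at e3
      have := mul_nonneg aF e4
      linarith

/-- a nonzero `F → G` from a stable `F` to a semistable `G` with the same reduced polynomial
has no kernel. -/
theorem false_of_redEq_sub (d : ℕ) (pF pG pK pI : ℚ[X]) (hI : pI = pF - pK)
    (aK : 0 ≤ alpha d pK) (aI : 0 ≤ alpha d pI) (aG : 0 ≤ alpha d pG)
    (nF : ENN pF)
    (ha : RedLT d pK pF) (hb : RedLE d pI pG) (heq : RedEq d pF pG) (hGne : pG ≠ 0) : False := by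
  have aF := alpha_F_nonneg d pF pK pI hI aK aI
  obtain ⟨N1, h1⟩ := quot_lt d pF pK pI hI ha
  obtain ⟨N2, h2⟩ := hb
  obtain ⟨N4, h4⟩ := nF
  simp only [eval_smul, smul_eq_mul] at h2
  have heq' : ∀ x : ℚ, alpha d pG * pF.eval x = alpha d pF * pG.eval x := by
    intro x
    have := congrArg (Polynomial.eval x) heq
    simpa only [eval_smul, smul_eq_mul] using this
  rcases aG.lt_or_eq with hg | hg
  · let m := max N1 N2
    have e1 := h1 m (le_max_left _ _)
    have e2 := h2 m (le_max_right _ _)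
    have e3 := heq' (m : ℚ)
    have f1 := mul_lt_mul_of_pos_left e1 hg
    have f2 := mul_le_mul_of_nonneg_left e2 aF
    have f3 : alpha d pI * (alpha d pG * eval (m : ℚ) pF) =
        alpha d pI * (alpha d pF * eval (m : ℚ) pG) := by rw [e3]
    linarith
  · have h0 : alpha d pF • pG = 0 := by
      have : alpha d pG • pF = alpha d pF • pG := heq
      rw [← this, ← hg, zero_smul]
    have hF0 : alpha d pF = 0 := by
      rcases smul_eq_zero.mp h0 with h | h
      · exact h
      · exact absurd h hGne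
    let m := max N1 N4
    have e1 := h1 m (le_max_left _ _)
    have e4 := h4 m (le_max_right _ _)
    rw [hF0, zero_mul] at e1
    have := mul_nonneg aI e4
    linarith

/-- a nonzero `F → G` from a semistable `F` to a stable `G` with the same reduced polynomial
is onto. -/
theorem false_of_redEq_quot (d : ℕ) (pF pG pK pI : ℚ[X]) (hI : pI = pF - pK)
    (aK : 0 ≤ alpha d pK) (aI : 0 ≤ alpha d pI) (aG : 0 ≤ alpha d pG)
    (nF : ENN pF)
    (ha : RedLE d pK pF) (hb : RedLT d pI pG) (heq : RedEq d pF pG) (hFne : pF ≠ 0) : False := by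
  have aF := alpha_F_nonneg d pF pK pI hI aK aI
  obtain ⟨N1, h1⟩ := quot_le d pF pK pI hI ha
  obtain ⟨N2, h2⟩ := hb
  obtain ⟨N4, h4⟩ := nF
  simp only [eval_smul, smul_eq_mul] at h2
  have heq' : ∀ x : ℚ, alpha d pG * pF.eval x = alpha d pF * pG.eval x := by
    intro x
    have := congrArg (Polynomial.eval x) heq
    simpa only [eval_smul, smul_eq_mul] using this
  rcases aF.lt_or_eq with hf | hf
  · let m := max N1 N2
    have e1 := h1 m (le_max_left _ _)
    have e2 := h2 m (le_max_right _ _)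
    have e3 := heq' (m : ℚ)
    have f1 := mul_le_mul_of_nonneg_left e1 aG
    have f2 := mul_lt_mul_of_pos_left e2 hf
    have f3 : alpha d pI * (alpha d pG * eval (m : ℚ) pF) =
        alpha d pI * (alpha d pF * eval (m : ℚ) pG) := by rw [e3]
    linarith
  · have h0 : alpha d pG • pF = 0 := by
      have : alpha d pG • pF = alpha d pF • pG := heq
      rw [this, ← hf, zero_smul]
    have hG0 : alpha d pG = 0 := by
      rcases smul_eq_zero.mp h0 with h | h
      · exact h
      · exact absurd h hFne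
    have hIpos : 0 < alpha d pI := by
      rcases aI.lt_or_eq with h | h
      · exact h
      · exfalso
        have e2 := h2 N2 le_rfl
        rw [hG0, zero_mul, ← h, zero_mul] at e2
        exact lt_irrefl _ e2
    apply hFne
    apply eq_zero_of_eventually_zero pF (max N1 N4)
    intro m hm
    have e1 := h1 m (le_trans (le_max_left _ _) hm)
    have e4 := h4 m (le_trans (le_max_right _ _) hm)
    rw [← hf, zero_mul] at e1
    have : eval (m : ℚ) pF ≤ 0 := by
      by_contra hc
      rw [not_le] at hc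
      have := mul_pos hIpos hc
      linarith
    linarith

end Groth.Agent.Lead.StabPoly
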