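import Mathlib
import Groth.Prelude.Def_ShStab
import Groth.Agent.Lib.Helper6.HilbDeg
import Groth.Agent.Lib.Helper25.ShStabFormal
import Groth.Agent.Lib.Lead.KerFree2
import Groth.Agent.Lib.Lead.StabPoly
import Groth.Agent.S1528

/-!
# Morphisms between (semi)stable sheaves (S15192–S15195)

The positivity input `ZHyp` (a coherent module with Hilbert polynomial `0` with respect to an ample
module is zero) is a hypothesis here; it is supplied in the statement files.
-/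

set_option autoImplicit false
universe u

open CategoryTheory CategoryTheory.Limits AlgebraicGeometry Polynomial

namespace Groth.Agent.Lead.ShStabHom

open StabCat Groth.Agent.Lead.StabPoly Groth.Agent.Helper25.ShStabFormal

variable (k : Type u) [Field k] (X : Scheme.{u}) [X.Over (Spec (CommRingCat.of k))]
  [IsProper (X ↘ Spec (CommRingCat.of k))]

/-- (Z): a coherent module with Hilbert polynomial `0` is zero. -/
def ZHyp (L : X.Modules) : Prop :=
  ∀ G : X.Modules, Coh.IsCoh G → ShStab.IsHilbPoly k X L G 0 → IsZero G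

theorem enn_of_isHilbPoly (L : X.Modules) (hL : CohB1.IsAmple L) (G : X.Modules)
    (hG : Coh.IsCoh G) (p : ℚ[X]) (hp : ShStab.IsHilbPoly k X L G p) : ENN p := by
  obtain ⟨n₀, hn₀⟩ := Groth.Agent.Helper6.HilbDeg.exists_forall_euler_twist_nonneg k X L hL G hG
  refine ⟨n₀, fun m hm => ?_⟩
  rw [← hp m]
  exact_mod_cast hn₀ m hm

/-- polynomial data of a coherent module whose support has dimension `≤ d` -/
structure PData (L G : X.Modules) (d : ℕ) (p : ℚ[X]) : Prop where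
  hp : ShStab.IsHilbPoly k X L G p
  deg : p.natDegree ≤ d
  enn : ENN p
  alpha : 0 ≤ StabCat.alpha d p

theorem pdata_of_dim_le (L : X.Modules) (hL : CohB1.IsAmple L) (G : X.Modules)
    (hG : Coh.IsCoh G) (d : ℕ)
    (hdim : topologicalKrullDim (CohB1.support G) ≤ (d : WithBot ℕ∞)) :
    ∃ p : ℚ[X], PData k X L G d p := by
  obtain ⟨p, hdeg, hp⟩ := exists_hilbPoly_of_snapper k X L G d
    (Groth.Agent.S1528.result k X G hG d hdim 1 (fun _ => L) (fun _ => hL.1))
  have henn := enn_of_isHilbPoly k X L hL G hG p hp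
  refine ⟨p, hp, hdeg, henn, ?_⟩
  unfold StabCat.alpha
  exact mul_nonneg (Nat.cast_nonneg _) (coeff_nonneg_of_eventually_nonneg p d hdeg henn)

theorem isHilbPoly_zero_of_isZero (L : X.Modules) (A : X.Modules) (hz : IsZero A) :
    ShStab.IsHilbPoly k X L A 0 := by
  intro m
  rw [euler_eq_zero_of_isZero k X _ (isZero_twist X L A hz m)]
  simp

theorem pdata_of_sub (L : X.Modules) (hL : CohB1.IsAmple L) (E : X.Modules) (d : ℕ)
    (hpure : ShStab.IsPure X E d) (A : X.Modules) (ι : A ⟶ E) [Mono ι] (hA : Coh.IsCoh A) :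
    ∃ p : ℚ[X], PData k X L A d p := by
  by_cases hz : IsZero A
  · refine ⟨0, isHilbPoly_zero_of_isZero k X L A hz, by simp, ⟨0, fun m _ => by simp⟩, ?_⟩
    rw [alpha_zero]
  · exact pdata_of_dim_le k X L hL A hA d (le_of_eq (hpure A ι inferInstance hA hz))

/-- the common skeleton -/
theorem skeleton (L : X.Modules) (hL : CohB1.IsAmple L) (d : ℕ) (F G : X.Modules)
    (hF : Coh.IsCoh F) (hG : Coh.IsCoh G) (hFp : ShStab.IsPure X F d)
    (hGp : ShStab.IsPure X G d) (pF pG : ℚ[X]) (hpF : ShStab.IsHilbPoly k X L F pF)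
    (hpG : ShStab.IsHilbPoly k X L G pG) (φ : F ⟶ G) :
    ∃ pK pI : ℚ[X], pI = pF - pK ∧ ShStab.IsHilbPoly k X L (kernel φ) pK ∧
      ShStab.IsHilbPoly k X L (Abelian.coimage φ) pI ∧
      Coh.IsCoh (kernel φ) ∧ Coh.IsCoh (Abelian.coimage φ) ∧
      0 ≤ StabCat.alpha d pK ∧ 0 ≤ StabCat.alpha d pI ∧ 0 ≤ StabCat.alpha d pG ∧
      ENN pF ∧ ENN pG ∧ ENN pI := by
  haveI : IsLocallyNoetherian X :=
    LocallyOfFiniteType.isLocallyNoetherian (X ↘ Spec (CommRingCat.of k))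
  have hK : Coh.IsCoh (kernel φ) := Groth.Agent.Lead.KerFree.isCoh_kernel hF hG φ
  obtain ⟨pK, dK⟩ := pdata_of_sub k X L hL F d hFp (kernel φ) (kernel.ι φ) hK
  obtain ⟨hI, hpI⟩ := Groth.Agent.Helper6.HilbDeg.isHilbPoly_cokernel k X L hL.1 hK hF
    (kernel.ι φ) pK pF dK.hp hpF
  obtain ⟨pI', dI⟩ := pdata_of_sub k X L hL G d hGp (Abelian.coimage φ)
    (Abelian.factorThruCoimage φ) hI
  have e1 : pI' = pF - pK := hilbPoly_unique k X L _ _ _ dI.hp hpI
  obtain ⟨pG', dG⟩ := pdata_of_sub k X L hL G d hGp G (𝟙 G) hG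
  have e2 : pG' = pG := hilbPoly_unique k X L _ _ _ dG.hp hpG
  refine ⟨pK, pF - pK, rfl, dK.hp, hpI, hK, hI, dK.alpha, ?_, ?_,
    enn_of_isHilbPoly k X L hL F hF pF hpF, enn_of_isHilbPoly k X L hL G hG pG hpG, ?_⟩
  · rw [← e1]; exact dI.alpha
  · rw [← e2]; exact dG.alpha
  · rw [← e1]; exact dI.enn

variable {k X}

theorem not_isIso_kernel_ι {F G : X.Modules} (φ : F ⟶ G) (hφ : φ ≠ 0) : ¬ IsIso (kernel.ι φ) := by
  intro hiso
  apply hφ
  have h : kernel.ι φ ≫ φ = 0 := kernel.condition φ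
  exact (cancel_epi (kernel.ι φ)).mp (by rw [h, Limits.comp_zero])

theorem not_isZero_coimage {F G : X.Modules} (φ : F ⟶ G) (hφ : φ ≠ 0) :
    ¬ IsZero (Abelian.coimage φ) := by
  intro hz
  apply hφ
  rw [← Abelian.coimage.fac φ, hz.eq_of_tgt (Abelian.coimage.π φ) 0, Limits.zero_comp]

variable (k X)

/-- the kernel inequality for a semistable source -/
theorem redLE_kernel (L : X.Modules) (d : ℕ) (F G : X.Modules)
    (hFss : StabCat.IsSS Coh.IsCoh (ShStab.IsHilbPoly k X L) d F) (φ : F ⟶ G) (hφ : φ ≠ 0)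
    (hKc : Coh.IsCoh (kernel φ)) (pK pF : ℚ[X]) (hpK : ShStab.IsHilbPoly k X L (kernel φ) pK)
    (hpF : ShStab.IsHilbPoly k X L F pF) : RedLE d pK pF := by
  by_cases hz : IsZero (kernel φ)
  · rw [hilbPoly_eq_zero_of_isZero k X L _ hz pK hpK]
    exact redLE_zero_left d pF
  · exact hFss (kernel φ) (kernel.ι φ) inferInstance hKc hz (not_isIso_kernel_ι φ hφ) pK pF hpK hpF

/-- the image inequality for a semistable target -/
theorem redLE_coimage (L : X.Modules) (d : ℕ) (F G : X.Modules)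
    (hGss : StabCat.IsSS Coh.IsCoh (ShStab.IsHilbPoly k X L) d G) (φ : F ⟶ G) (hφ : φ ≠ 0)
    (hIc : Coh.IsCoh (Abelian.coimage φ)) (pI pG : ℚ[X])
    (hpI : ShStab.IsHilbPoly k X L (Abelian.coimage φ) pI)
    (hpG : ShStab.IsHilbPoly k X L G pG) : RedLE d pI pG := by
  by_cases hiso : IsIso (Abelian.factorThruCoimage φ)
  · have : pI = pG := hilbPoly_unique k X L G pI pG
      (isHilbPoly_of_iso k X L (asIso (Abelian.factorThruCoimage φ)) pI hpI) hpG
    rw [this]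
    exact redLE_refl d pG
  · exact hGss _ (Abelian.factorThruCoimage φ) inferInstance hIc (not_isZero_coimage φ hφ) hiso
      pI pG hpI hpG

theorem main15192 (L : X.Modules) (hL : CohB1.IsAmple L) (hZ : ZHyp k X L) (d : ℕ)
    (F G : X.Modules)
    (hF : ShStab.IsSemistable k X L F d) (hG : ShStab.IsSemistable k X L G d)
    (pF pG : ℚ[X]) (hpF : ShStab.IsHilbPoly k X L F pF) (hpG : ShStab.IsHilbPoly k X L G pG)
    (hlt : StabCat.RedLT d pG pF) (φ : F ⟶ G) : φ = 0 := by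
  by_contra hφ
  obtain ⟨hFc, hFnz, hFp, hFss⟩ := hF
  obtain ⟨hGc, hGnz, hGp, hGss⟩ := hG
  obtain ⟨pK, pI, hIeq, hpK, hpI, hKc, hIc, aK, aI, aG, nF, nG, nI⟩ :=
    skeleton k X L hL d F G hFc hGc hFp hGp pF pG hpF hpG φ
  have ha := redLE_kernel k X L d F G hFss φ hφ hKc pK pF hpK hpF
  have hb := redLE_coimage k X L d F G hGss φ hφ hIc pI pG hpI hpG
  have hIne : pI ≠ 0 := fun h0 => not_isZero_coimage φ hφ (hZ _ hIc (h0 ▸ hpI))
  exact false_of_redLT d pF pG pK pI hIeq aK aI aG nG nI ha hb hlt hIne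

theorem main15193 (L : X.Modules) (hL : CohB1.IsAmple L) (hZ : ZHyp k X L) (d : ℕ)
    (F G : X.Modules)
    (hF : ShStab.IsStable k X L F d) (hG : ShStab.IsSemistable k X L G d)
    (pF pG : ℚ[X]) (hpF : ShStab.IsHilbPoly k X L F pF) (hpG : ShStab.IsHilbPoly k X L G pG)
    (heq : StabCat.RedEq d pF pG) (φ : F ⟶ G) (hφ : φ ≠ 0) : Mono φ := by
  obtain ⟨hFc, hFnz, hFp, hFst⟩ := hF
  obtain ⟨hGc, hGnz, hGp, hGss⟩ := hG
  obtain ⟨pK, pI, hIeq, hpK, hpI, hKc, hIc, aK, aI, aG, nF, nG, nI⟩ :=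
    skeleton k X L hL d F G hFc hGc hFp hGp pF pG hpF hpG φ
  apply Preadditive.mono_of_isZero_kernel
  by_contra hz
  have ha : RedLT d pK pF :=
    hFst (kernel φ) (kernel.ι φ) inferInstance hKc hz (not_isIso_kernel_ι φ hφ) pK pF hpK hpF
  have hb := redLE_coimage k X L d F G hGss φ hφ hIc pI pG hpI hpG
  have hGne : pG ≠ 0 := fun h0 => hGnz (hZ _ hGc (h0 ▸ hpG))
  exact false_of_redEq_sub d pF pG pK pI hIeq aK aI aG nF ha hb heq hGne

theorem main15194 (L : X.Modules) (hL : CohB1.IsAmple L) (hZ : ZHyp k X L) (d : ℕ)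
    (F G : X.Modules)
    (hF : ShStab.IsSemistable k X L F d) (hG : ShStab.IsStable k X L G d)
    (pF pG : ℚ[X]) (hpF : ShStab.IsHilbPoly k X L F pF) (hpG : ShStab.IsHilbPoly k X L G pG)
    (heq : StabCat.RedEq d pF pG) (φ : F ⟶ G) (hφ : φ ≠ 0) : Epi φ := by
  obtain ⟨hFc, hFnz, hFp, hFss⟩ := hF
  obtain ⟨hGc, hGnz, hGp, hGst⟩ := hG
  obtain ⟨pK, pI, hIeq, hpK, hpI, hKc, hIc, aK, aI, aG, nF, nG, nI⟩ :=
    skeleton k X L hL d F G hFc hGc hFp hGp pF pG hpF hpG φ
  have hiso : IsIso (Abelian.factorThruCoimage φ) := by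
    by_contra hiso
    have hb : RedLT d pI pG :=
      hGst _ (Abelian.factorThruCoimage φ) inferInstance hIc (not_isZero_coimage φ hφ) hiso
        pI pG hpI hpG
    have ha := redLE_kernel k X L d F G hFss φ hφ hKc pK pF hpK hpF
    have hFne : pF ≠ 0 := fun h0 => hFnz (hZ _ hFc (h0 ▸ hpF))
    exact false_of_redEq_quot d pF pG pK pI hIeq aK aI aG nF ha hb heq hFne
  rw [← Abelian.coimage.fac φ]
  infer_instance

theorem main15195 (L : X.Modules) (hL : CohB1.IsAmple L) (hZ : ZHyp k X L) (d : ℕ)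
    (F G : X.Modules)
    (hF : ShStab.IsSemistable k X L F d) (hG : ShStab.IsSemistable k X L G d)
    (hst : ShStab.IsStable k X L F d ∨ ShStab.IsStable k X L G d)
    (P : ℚ[X]) (hpF : ShStab.IsHilbPoly k X L F P) (hpG : ShStab.IsHilbPoly k X L G P)
    (φ : F ⟶ G) (hφ : φ ≠ 0) : IsIso φ := by
  rcases hst with hFst | hGst
  · haveI : Mono φ := main15193 k X L hL hZ d F G hFst hG P P hpF hpG (redEq_refl d P) φ hφ
    obtain ⟨hC, hpC⟩ := Groth.Agent.Helper6.HilbDeg.isHilbPoly_cokernel k X L hL.1 hF.1 hG.1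
      φ P P hpF hpG
    rw [sub_self] at hpC
    haveI : Epi φ := Preadditive.epi_of_isZero_cokernel φ (hZ _ hC hpC)
    exact isIso_of_mono_of_epi φ
  · haveI : Epi φ := main15194 k X L hL hZ d F G hF hGst P P hpF hpG (redEq_refl d P) φ hφ
    obtain ⟨pK, pI, hIeq, hpK, hpI, hKc, hIc, -⟩ :=
      skeleton k X L hL d F G hF.1 hG.1 hF.2.2.1 hG.2.2.1 P P hpF hpG φ
    have e : pI = P := hilbPoly_unique k X L G pI P
      (isHilbPoly_of_iso k X L (asIso (Abelian.factorThruCoimage φ)) pI hpI) hpG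
    have hK0 : pK = 0 := by
      have : P = P - pK := e.symm.trans hIeq
      have h2 : pK = P - (P - pK) := by ring
      rw [h2, ← this, sub_self]
    haveI : Mono φ := Preadditive.mono_of_isZero_kernel φ (hZ _ hKc (hK0 ▸ hpK))
    exact isIso_of_mono_of_epi φ

end Groth.Agent.Lead.ShStabHom
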