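import Mathlib
import Groth.Prelude.Def_EGA4b
import Groth.Agent.Lib.Lead.FEq1
import Groth.Agent.Lib.Lead.CQ1
import Groth.Agent.Lib.Lead.Cat1
import Groth.Agent.Lib.Lead.RLR1
import Groth.Agent.Lib.Lead.Fib3
import Groth.Agent.Lib.Helper5.RegPS
import Groth.Agent.Lib.Helper1.CompletionDim
import Groth.Agent.S0580
import Groth.Agent.S0543

/-!
# Complete Noetherian local rings are universally catenary; formal equidimensionality

Using the Cohen structure theorem: a complete Noetherian local ring is a quotient of a regular local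
ring, hence universally catenary.  Consequences for formally equidimensional local rings.
-/

set_option autoImplicit false
set_option linter.style.haveILetI false
set_option linter.unusedSectionVars false

universe u

open IsLocalRing

namespace Groth.Agent.Lead.FEq

/-- Cohen: a complete Noetherian local ring is a quotient of a regular local ring. -/
theorem exists_regular_local_surjective (C : Type u) [CommRing C] [IsNoetherianRing C]
    [IsLocalRing C] [IsAdicComplete (maximalIdeal C) C] :
    ∃ (P : Type u) (_ : CommRing P) (_ : IsRegularRing P) (_ : IsLocalRing P) (f : P →+* C),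
      Function.Surjective f := by
  obtain ⟨Λ, _, n, f, hΛ, hf⟩ :=
    Groth.Agent.S0580.result C (maximalIdeal C).fg_of_isNoetherianRing
  rcases hΛ with hΛ | hΛ
  · letI : Field Λ := hΛ.toField
    haveI : IsRegularRing Λ := inferInstance
    haveI : IsLocalRing Λ := inferInstance
    haveI := Groth.Agent.Helper5.RegPS.isRegularRing_mvPowerSeries_fin Λ n
    exact ⟨MvPowerSeries (Fin n) Λ, inferInstance, inferInstance, inferInstance, f, hf⟩
  · obtain ⟨hdom, hdvr, -, -⟩ := hΛ
    haveI := hdom
    haveI := hdvr
    haveI : IsRegularRing Λ := inferInstance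
    haveI : IsLocalRing Λ := inferInstance
    haveI := Groth.Agent.Helper5.RegPS.isRegularRing_mvPowerSeries_fin Λ n
    exact ⟨MvPowerSeries (Fin n) Λ, inferInstance, inferInstance, inferInstance, f, hf⟩

theorem isEquidim_of_isDomain (R : Type u) [CommRing R] [IsDomain R] : EGA4.IsEquidim R := by
  intro p hp
  have hp' : p = ⊥ := by
    rw [IsDomain.minimalPrimes_eq_singleton_bot] at hp
    exact hp
  subst hp'
  exact ringKrullDim_eq_of_ringEquiv (RingEquiv.quotientBot R)

/-- A quotient of a regular ring is universally catenary. -/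
theorem isUniversallyCatenary_of_surjective_of_isRegularRing {P C : Type u} [CommRing P]
    [CommRing C] [IsRegularRing P] (f : P →+* C) (hf : Function.Surjective f) :
    CAlg.IsUniversallyCatenary C := by
  haveI : LocCoh.IsCohenMacaulayRing P := Groth.Agent.Lead.Fib.isCohenMacaulayRing_of_isRegularRing P
  haveI : IsNoetherianRing P := inferInstance
  refine ⟨isNoetherianRing_of_surjective P C f hf, fun S _ _ hS => ?_⟩
  obtain ⟨n, g, hg⟩ := Algebra.FiniteType.iff_quotient_mvPolynomial''.mp hS
  haveI := Groth.Agent.Lead.Fib.isCohenMacaulayRing_mvPolynomial (R := P) (Fin n)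
  have hcat := Groth.Agent.Lead.Cat.isCatenary_of_isCohenMacaulayRing (MvPolynomial (Fin n) P)
  have hsurj : Function.Surjective
      ((g : MvPolynomial (Fin n) C →+* S).comp (MvPolynomial.map f)) :=
    hg.comp (MvPolynomial.map_surjective f hf)
  exact Groth.Agent.Helper14.isCatenary_of_surjective _ hsurj hcat

/-- A complete Noetherian local ring is universally catenary. -/
theorem isUniversallyCatenary_of_complete (C : Type u) [CommRing C] [IsNoetherianRing C]
    [IsLocalRing C] [IsAdicComplete (maximalIdeal C) C] : CAlg.IsUniversallyCatenary C := by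
  obtain ⟨P, _, _, _, f, hf⟩ := exists_regular_local_surjective C
  exact isUniversallyCatenary_of_surjective_of_isRegularRing f hf

theorem isCatenary_of_isUniversallyCatenary {R : Type u} [CommRing R]
    (h : CAlg.IsUniversallyCatenary R) : CAlg.IsCatenary R :=
  h.2 R inferInstance

section Completion

variable (A : Type u) [CommRing A] [IsNoetherianRing A] [IsLocalRing A]

instance isNoetherianRing_completion : IsNoetherianRing (AdicCompletion (maximalIdeal A) A) :=
  Groth.Agent.S0543.result A (maximalIdeal A)

instance flat_completion : Module.Flat A (AdicCompletion (maximalIdeal A) A) :=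
  AdicCompletion.flat_of_isNoetherian (maximalIdeal A)

theorem isCatenary_completion : CAlg.IsCatenary (AdicCompletion (maximalIdeal A) A) :=
  isCatenary_of_isUniversallyCatenary (isUniversallyCatenary_of_complete _)

theorem ringKrullDim_fibRing_completion :
    ringKrullDim (EGA4.FibRing A (AdicCompletion (maximalIdeal A) A)) = 0 := by
  have h : EGA4.mB A (AdicCompletion (maximalIdeal A) A) =
      maximalIdeal (AdicCompletion (maximalIdeal A) A) := AdicCompletion.maximalIdeal_eq_map.symm
  change ringKrullDim (AdicCompletion (maximalIdeal A) A ⧸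
    EGA4.mB A (AdicCompletion (maximalIdeal A) A)) = 0
  rw [h]
  exact ringKrullDim_eq_zero_of_isField
    ((Ideal.Quotient.maximal_ideal_iff_isField_quotient _).mp (maximalIdeal.isMaximal _))

/-- The completion of `A/𝔞` is `Â/𝔞Â`. -/
noncomputable def complQuotEquiv' (a : Ideal A) [Nontrivial (A ⧸ a)] :
    (AdicCompletion (maximalIdeal A) A ⧸ a.map (algebraMap A (AdicCompletion (maximalIdeal A) A)))
      ≃+* AdicCompletion (maximalIdeal (A ⧸ a)) (A ⧸ a) :=
  (Ideal.quotEquivOfEq (by rw [Ideal.mk_ker])).trans
    (Groth.Agent.Lead.CQ.complQuotEquiv (maximalIdeal A) (maximalIdeal (A ⧸ a))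
      (Ideal.Quotient.mk a) Ideal.Quotient.mk_surjective
      (IsLocalRing.map_maximalIdeal_of_surjective _ Ideal.Quotient.mk_surjective))

theorem isFormallyEquidim_quotient_iff (a : Ideal A) [Nontrivial (A ⧸ a)] :
    EGA4.IsFormallyEquidim (A ⧸ a) ↔
      EGA4.IsEquidim (AdicCompletion (maximalIdeal A) A ⧸
        a.map (algebraMap A (AdicCompletion (maximalIdeal A) A))) :=
  ⟨fun h => isEquidim_of_ringEquiv (complQuotEquiv' A a).symm h,
    fun h => isEquidim_of_ringEquiv (complQuotEquiv' A a) h⟩

/-- EGA IV 7.1.4-type statement. -/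
theorem formallyEquidim_main (h : EGA4.IsFormallyEquidim A) :
    (EGA4.IsEquidim A ∧ CAlg.IsCatenary A) ∧
      ∀ (a : Ideal A) [Nontrivial (A ⧸ a)],
        (EGA4.IsEquidim (A ⧸ a) ↔ EGA4.IsFormallyEquidim (A ⧸ a)) := by
  have hcat := isCatenary_completion A
  refine ⟨⟨isEquidim_of_flat (B := AdicCompletion (maximalIdeal A) A) hcat h,
    isCatenary_of_flat (B := AdicCompletion (maximalIdeal A) A) hcat h⟩, ?_⟩
  intro a _
  exact (isEquidim_quotient_map_iff hcat h (ringKrullDim_fibRing_completion A) a).symm.trans
    (isFormallyEquidim_quotient_iff A a).symm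

theorem isFormallyEquidim_iff :
    EGA4.IsFormallyEquidim A ↔
      (EGA4.IsEquidim A ∧ ∀ (p : Ideal A) [p.IsPrime], p ∈ minimalPrimes A →
        EGA4.IsFormallyEquidim (A ⧸ p)) := by
  constructor
  · intro h
    obtain ⟨⟨h1, -⟩, h2⟩ := formallyEquidim_main A h
    refine ⟨h1, fun p _ _ => ?_⟩
    exact (h2 p).mp (isEquidim_of_isDomain (A ⧸ p))
  · rintro ⟨hA, hmin⟩
    intro Q hQ
    have hQ' : Q ∈ ((⊥ : Ideal A).map
        (algebraMap A (AdicCompletion (maximalIdeal A) A))).minimalPrimes := by
      rw [Ideal.map_bot]; exact hQ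
    have hp : Q.under A ∈ minimalPrimes A := under_mem_minimalPrimes ⊥ Q hQ'
    haveI : (Q.under A).IsPrime := hp.1.1
    have hQp := mem_minimalPrimes_map_under ⊥ Q hQ'
    have hfe := (isFormallyEquidim_quotient_iff A (Q.under A)).mp (hmin (Q.under A) hp)
    have d1 := hfe _ (map_mk_mem_minimalPrimes hQp)
    rw [Groth.Agent.Helper7.CatDim.dim_quot_quot (AdicCompletion (maximalIdeal A) A)
      ((Q.under A).map (algebraMap A (AdicCompletion (maximalIdeal A) A))) Q hQp.1.2] at d1
    have d2 : ringKrullDim (AdicCompletion (maximalIdeal A) A ⧸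
        (Q.under A).map (algebraMap A (AdicCompletion (maximalIdeal A) A))) =
        ringKrullDim (A ⧸ Q.under A) := by
      rw [ringKrullDim_eq_of_ringEquiv (complQuotEquiv' A (Q.under A)),
        Groth.Agent.Helper1.ringKrullDim_adicCompletion_eq (A ⧸ Q.under A)]
    rw [d1, d2, hA _ hp, Groth.Agent.Helper1.ringKrullDim_adicCompletion_eq A]

end Completion

end Groth.Agent.Lead.FEq
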