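import Mathlib
import Groth.Agent.Lib.Helper28.ReflDepth

/-!
# Kaplansky's theorem: generators of an ideal of maximal grade form a regular sequence

* `exists_add_notMem` : coset prime avoidance.
* `isWeaklyRegular_of_le_idealDepth` : over a Noetherian local ring, if `xs ⊆ m` has length `n`
  and `n ≤ depth_{(xs)} M`, then `xs` is `M`-regular.
* `idealDepth_ofList_eq_length_iff` : `depth_{(xs)} M = length xs ↔ xs` is `M`-regular.
* `isWeaklyRegular_of_ofList_eq` : any generating system with the right number of elements of an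
  ideal generated by an `M`-regular sequence is `M`-regular.
-/

set_option autoImplicit false
universe u
open RingTheory.Sequence LocCoh Pointwise IsLocalRing

namespace Groth.Agent.Lead.Kap

open Groth.Agent.Lead.Depth

section Avoid

variable {R : Type*} [CommRing R]

/-- Coset prime avoidance. -/
theorem exists_add_notMem (s : Finset (Ideal R)) (hs : ∀ P ∈ s, P.IsPrime) (x : R) (J : Ideal R)
    (h : ∀ P ∈ s, x ∈ P → ¬ J ≤ P) : ∃ j ∈ J, ∀ P ∈ s, x + j ∉ P := by
  classical
  obtain ⟨t, ht⟩ : ∃ t : Finset (Ideal R), t = s.filter (fun P => ∀ Q ∈ s, P ≤ Q → Q ≤ P) :=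
    ⟨_, rfl⟩
  have htmem : ∀ P, P ∈ t ↔ P ∈ s ∧ ∀ Q ∈ s, P ≤ Q → Q ≤ P := by
    intro P
    rw [ht, Finset.mem_filter]
  have hcover : ∀ P ∈ s, ∃ P' ∈ t, P ≤ P' := by
    intro P hP
    obtain ⟨P', hPP', hmax⟩ := s.exists_le_maximal hP
    exact ⟨P', (htmem P').2 ⟨hmax.1, fun Q hQ hle => hmax.2 hQ hle⟩, hPP'⟩
  have hanti : ∀ P ∈ t, ∀ Q ∈ t, Q ≤ P → Q = P := by
    intro P hP Q hQ hle
    exact le_antisymm hle (((htmem Q).1 hQ).2 P ((htmem P).1 hP).1 hle)
  have htprime : ∀ P ∈ t, P.IsPrime := fun P hP => hs P ((htmem P).1 hP).1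
  obtain ⟨s1, hs1⟩ : ∃ s1 : Finset (Ideal R), s1 = t.filter (fun P => x ∈ P) := ⟨_, rfl⟩
  obtain ⟨s2, hs2⟩ : ∃ s2 : Finset (Ideal R), s2 = t.filter (fun P => x ∉ P) := ⟨_, rfl⟩
  have hm1 : ∀ P, P ∈ s1 ↔ P ∈ t ∧ x ∈ P := by
    intro P
    rw [hs1, Finset.mem_filter]
  have hm2 : ∀ P, P ∈ s2 ↔ P ∈ t ∧ x ∉ P := by
    intro P
    rw [hs2, Finset.mem_filter]
  have h1 : ∃ j0 ∈ J, ∀ P ∈ s1, j0 ∉ P := by
    by_contra hcon
    push Not at hcon
    obtain ⟨P, hP, hJP⟩ := (Ideal.subset_union_prime (s := s1) (f := fun P => P) ⊥ ⊥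
      (fun P hP _ _ => htprime P ((hm1 P).1 hP).1) (I := J)).1 (by
        intro j hj
        obtain ⟨P, hP, hjP⟩ := hcon j hj
        exact Set.mem_biUnion (Finset.mem_coe.2 hP) hjP)
    exact h P ((htmem P).1 ((hm1 P).1 hP).1).1 ((hm1 P).1 hP).2 hJP
  obtain ⟨j0, hj0, hj0P⟩ := h1
  have h2 : ∃ y ∈ s2.inf (fun P => P), ∀ P ∈ s1, y ∉ P := by
    by_contra hcon
    push Not at hcon
    obtain ⟨P, hP, hKP⟩ := (Ideal.subset_union_prime (s := s1) (f := fun P => P) ⊥ ⊥
      (fun P hP _ _ => htprime P ((hm1 P).1 hP).1) (I := s2.inf (fun P => P))).1 (by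
        intro y hy
        obtain ⟨P, hP, hyP⟩ := hcon y hy
        exact Set.mem_biUnion (Finset.mem_coe.2 hP) hyP)
    have hPprime := htprime P ((hm1 P).1 hP).1
    obtain ⟨Q, hQ, hQP⟩ := (Ideal.IsPrime.inf_le' hPprime).1 hKP
    have hQeq : Q = P := hanti P ((hm1 P).1 hP).1 Q ((hm2 Q).1 hQ).1 hQP
    exact ((hm2 Q).1 hQ).2 (hQeq ▸ ((hm1 P).1 hP).2)
  obtain ⟨y, hy, hyP⟩ := h2
  refine ⟨y * j0, J.mul_mem_left y hj0, ?_⟩
  intro P hP hmem
  obtain ⟨P', hP't, hPP'⟩ := hcover P hP
  have hmem' : x + y * j0 ∈ P' := hPP' hmem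
  have hP'prime := htprime P' hP't
  by_cases hx : x ∈ P'
  · have h3 : y * j0 ∈ P' := (Ideal.add_mem_iff_right P' hx).1 hmem'
    have hP's1 : P' ∈ s1 := (hm1 P').2 ⟨hP't, hx⟩
    exact (hP'prime.mem_or_mem h3).elim (hyP P' hP's1) (hj0P P' hP's1)
  · have hP's2 : P' ∈ s2 := (hm2 P').2 ⟨hP't, hx⟩
    have hyP' : y ∈ P' := (Finset.inf_le hP's2 : s2.inf (fun P => P) ≤ P') hy
    exact hx ((Ideal.add_mem_iff_left P' (P'.mul_mem_right j0 hyP')).1 hmem')

theorem isWeaklyRegular_of_subsingleton (M : Type*) [AddCommGroup M] [Module R M]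
    [Subsingleton M] (rs : List R) : IsWeaklyRegular M rs := by
  refine ⟨fun i hi => ?_⟩
  haveI : Subsingleton (M ⧸ (Ideal.ofList (rs.take i) • ⊤ : Submodule R M)) :=
    (Submodule.Quotient.mk_surjective _).subsingleton
  exact Function.injective_of_subsingleton _

end Avoid

section Noeth

variable {R : Type u} [CommRing R] [IsNoetherianRing R]

theorem isSMulRegular_of_notMem_ass {M : Type u} [AddCommGroup M] [Module R M] (b : R)
    (hb : ∀ P ∈ associatedPrimes R M, b ∉ P) : IsSMulRegular M b := by
  rw [isSMulRegular_iff_right_eq_zero_of_smul]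
  intro m hm
  by_contra hm0
  have h1 : b ∈ {r : R | ∃ x : M, x ≠ 0 ∧ r • x = 0} := ⟨m, hm0, hm⟩
  rw [← biUnion_associatedPrimes_eq_zero_divisors R M] at h1
  simp only [Set.mem_iUnion] at h1
  obtain ⟨P, hP, hbP⟩ := h1
  exact hb P hP hbP

theorem notMem_of_isSMulRegular {M : Type u} [AddCommGroup M] [Module R M] (r : R)
    (hr : IsSMulRegular M r) (P : Ideal R) (hP : P ∈ associatedPrimes R M) : r ∉ P := by
  intro hrP
  have h1 : r ∈ ⋃ p ∈ associatedPrimes R M, (p : Set R) := Set.mem_biUnion hP hrP
  rw [biUnion_associatedPrimes_eq_zero_divisors R M] at h1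
  obtain ⟨x, hx0, hx⟩ := h1
  exact hx0 (isSMulRegular_iff_right_eq_zero_of_smul.1 hr x hx)

/-- `depth_a M = depth_a (M/(xs)M) + length xs` for an `M`-regular sequence `xs` in `a`. -/
theorem idealDepth_eq_add_length (a : Ideal R) : ∀ (xs : List R) (M : Type u) [AddCommGroup M]
    [Module R M] [Module.Finite R M],
    a • (⊤ : Submodule R M) ≠ ⊤ → (∀ x ∈ xs, x ∈ a) → IsWeaklyRegular M xs →
    idealDepth a M = idealDepth a (M ⧸ (Ideal.ofList xs • ⊤ : Submodule R M)) + xs.length := by
  intro xs
  induction xs with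
  | nil =>
    intro M _ _ _ _ _ _
    have h0 : (Ideal.ofList ([] : List R) • ⊤ : Submodule R M) = ⊥ := by
      rw [Ideal.ofList_nil, Submodule.bot_smul]
    rw [idealDepth_congr a (Submodule.quotEquivOfEqBot _ h0)]
    simp
  | cons x ys ih =>
    intro M _ _ _ haM hmem hreg
    rw [isWeaklyRegular_cons_iff] at hreg
    have hxa : x ∈ a := hmem x List.mem_cons_self
    have hq := idealDepth_quotSMulTop_add_one a M haM x hxa hreg.1
    have h2 := ih (QuotSMulTop x M) (smul_top_quotSMulTop_ne_top hxa haM)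
      (fun y hy => hmem y (List.mem_cons_of_mem _ hy)) hreg.2
    rw [← hq, h2, idealDepth_congr a (Submodule.quotOfListConsSMulTopEquivQuotSMulTopInner M x ys)]
    rw [List.length_cons]
    push_cast
    rw [add_assoc]

end Noeth

section Local

variable {R : Type u} [CommRing R] [IsNoetherianRing R] [IsLocalRing R]

/-- Kaplansky, Theorem 129 (module version, with an auxiliary ideal `I` killing `M`). -/
theorem isWeaklyRegular_of_le_idealDepth : ∀ (n : ℕ) (M : Type u) [AddCommGroup M] [Module R M]
    [Module.Finite R M] (xs : List R) (I : Ideal R), xs.length = n →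
    (∀ x ∈ xs, x ∈ maximalIdeal R) → I ≤ maximalIdeal R → I ≤ Module.annihilator R M →
    (n : ℕ∞) ≤ idealDepth (Ideal.ofList xs ⊔ I) M → IsWeaklyRegular M xs := by
  intro n
  induction n with
  | zero =>
    intro M _ _ _ xs I hlen _ _ _ _
    rw [List.length_eq_zero_iff] at hlen
    rw [hlen]
    exact IsWeaklyRegular.nil R M
  | succ n ih =>
    intro M _ _ _ xs I hlen hxs hIm hIann hdepth
    classical
    cases xs with
    | nil => simp at hlen
    | cons x ys =>
      have hlen' : ys.length = n := by simpa using hlen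
      by_cases hsub : Subsingleton M
      · haveI := hsub
        exact isWeaklyRegular_of_subsingleton M _
      rw [not_subsingleton_iff_nontrivial] at hsub
      haveI := hsub
      have hxm : x ∈ maximalIdeal R := hxs x List.mem_cons_self
      have hys : ∀ y ∈ ys, y ∈ maximalIdeal R := fun y hy => hxs y (List.mem_cons_of_mem _ hy)
      have hJm : Ideal.ofList ys ≤ maximalIdeal R := Ideal.span_le.2 (fun y hy => hys y hy)
      obtain ⟨A, hA⟩ : ∃ A : Ideal R, A = Ideal.ofList (x :: ys) ⊔ I := ⟨_, rfl⟩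
      have hA' : A = Ideal.span {x} ⊔ (Ideal.ofList ys ⊔ I) := by
        rw [hA, Ideal.ofList_cons, sup_assoc]
      have hAm : A ≤ maximalIdeal R := by
        rw [hA']
        exact sup_le ((Ideal.span_singleton_le_iff_mem _).2 hxm) (sup_le hJm hIm)
      have hAM : A • (⊤ : Submodule R M) ≠ ⊤ :=
        (Submodule.top_ne_ideal_smul_of_le_jacobson_annihilator
          (hAm.trans (IsLocalRing.maximalIdeal_le_jacobson _))).symm
      rw [← hA] at hdepth
      have h1 : ((1 : ℕ) : ℕ∞) ≤ idealDepth A M :=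
        le_trans (by exact_mod_cast Nat.le_add_left 1 n) hdepth
      obtain ⟨rs, hrslen, hrsreg, hrsmem⟩ := exists_of_le_idealDepth A M hAM 1 h1
      obtain ⟨r, rfl⟩ := List.length_eq_one_iff.mp hrslen
      have hrA : r ∈ A := hrsmem r (by simp)
      have hrreg : IsSMulRegular M r := ((isWeaklyRegular_cons_iff M r []).mp hrsreg).1
      obtain ⟨s, hs⟩ : ∃ s : Finset (Ideal R), s = (associatedPrimes.finite R M).toFinset :=
        ⟨_, rfl⟩
      have hsmem : ∀ P, P ∈ s ↔ P ∈ associatedPrimes R M := by
        intro P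
        rw [hs, Set.Finite.mem_toFinset]
      obtain ⟨j', hj', hav⟩ := exists_add_notMem s
        (fun P hP => IsAssociatedPrime.isPrime ((hsmem P).1 hP)) x (Ideal.ofList ys ⊔ I)
        (by
          intro P hP hxP hle
          apply notMem_of_isSMulRegular r hrreg P ((hsmem P).1 hP)
          have hAP : A ≤ P := by
            rw [hA']
            exact sup_le ((Ideal.span_singleton_le_iff_mem _).2 hxP) hle
          exact hAP hrA)
      obtain ⟨j, hj, i, hi, hji⟩ := Submodule.mem_sup.1 hj'
      obtain ⟨b, hb⟩ : ∃ b : R, b = x + j := ⟨_, rfl⟩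
      have hikill : ∀ m : M, i • m = 0 := fun m => Module.mem_annihilator.1 (hIann hi) m
      have hbreg : IsSMulRegular M b := by
        have h2 : IsSMulRegular M (x + j') :=
          isSMulRegular_of_notMem_ass _ (fun P hP => hav P ((hsmem P).2 hP))
        rw [isSMulRegular_iff_right_eq_zero_of_smul] at h2 ⊢
        intro m hm
        apply h2 m
        rw [← hji, ← add_assoc, ← hb, add_smul, hm, hikill m, add_zero]
      have hbm : b ∈ maximalIdeal R := by
        rw [hb]
        exact Ideal.add_mem _ hxm (hJm hj)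
      have hspan : Ideal.span {b} ⊔ Ideal.ofList ys = Ideal.span {x} ⊔ Ideal.ofList ys := by
        apply le_antisymm
        · refine sup_le ((Ideal.span_singleton_le_iff_mem _).2 ?_) le_sup_right
          rw [hb]
          exact Ideal.add_mem _ (Ideal.mem_sup_left (Ideal.mem_span_singleton_self x))
            (Ideal.mem_sup_right hj)
        · refine sup_le ((Ideal.span_singleton_le_iff_mem _).2 ?_) le_sup_right
          have hx' : x = b - j := by
            rw [hb]
            ring
          rw [hx']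
          exact Ideal.sub_mem _ (Ideal.mem_sup_left (Ideal.mem_span_singleton_self b))
            (Ideal.mem_sup_right hj)
      have hAb : A = Ideal.ofList ys ⊔ (I ⊔ Ideal.span {b}) := by
        calc A = (Ideal.span {x} ⊔ Ideal.ofList ys) ⊔ I := by rw [hA, Ideal.ofList_cons]
          _ = (Ideal.span {b} ⊔ Ideal.ofList ys) ⊔ I := by rw [hspan]
          _ = Ideal.ofList ys ⊔ (I ⊔ Ideal.span {b}) := by
            rw [sup_comm (Ideal.span {b}) (Ideal.ofList ys), sup_assoc,
              sup_comm (Ideal.span {b}) I]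
      have hbA : b ∈ A := by
        rw [hAb]
        exact Ideal.mem_sup_right (Ideal.mem_sup_right (Ideal.mem_span_singleton_self b))
      have hq := idealDepth_quotSMulTop_add_one A M hAM b hbA hbreg
      have hdq : (n : ℕ∞) ≤ idealDepth A (QuotSMulTop b M) := by
        rw [← hq] at hdepth
        push_cast at hdepth
        exact (ENat.add_le_add_iff_right ENat.one_ne_top).mp hdepth
      rw [hAb] at hdq
      have hI'ann : I ⊔ Ideal.span {b} ≤ Module.annihilator R (QuotSMulTop b M) := by
        refine sup_le ?_ ((Ideal.span_singleton_le_iff_mem _).2 ?_)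
        · intro r' hr'
          rw [Module.mem_annihilator]
          intro m'
          obtain ⟨m, rfl⟩ := Submodule.Quotient.mk_surjective _ m'
          rw [← Submodule.Quotient.mk_smul, Module.mem_annihilator.1 (hIann hr') m,
            Submodule.Quotient.mk_zero]
        · rw [Module.mem_annihilator]
          intro m'
          obtain ⟨m, rfl⟩ := Submodule.Quotient.mk_surjective _ m'
          rw [← Submodule.Quotient.mk_smul, Submodule.Quotient.mk_eq_zero]
          exact Submodule.smul_mem_pointwise_smul _ _ _ Submodule.mem_top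
      have hwq : IsWeaklyRegular (QuotSMulTop b M) ys :=
        ih (QuotSMulTop b M) ys (I ⊔ Ideal.span {b}) hlen' hys
          (sup_le hIm ((Ideal.span_singleton_le_iff_mem _).2 hbm)) hI'ann hdq
      have hw1 : IsWeaklyRegular M (b :: ys) :=
        (isWeaklyRegular_cons_iff M b ys).mpr ⟨hbreg, hwq⟩
      have hw2 : IsWeaklyRegular M (ys ++ [b]) :=
        IsLocalRing.isWeaklyRegular_of_perm_of_subset_maximalIdeal hw1
          (List.perm_append_singleton b ys).symm
          (by
            intro y hy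
            rcases List.mem_cons.1 hy with hyb | hy
            · rw [hyb]
              exact hbm
            · exact hys y hy)
      rw [isWeaklyRegular_append_iff, isWeaklyRegular_singleton_iff] at hw2
      have hw3 : IsWeaklyRegular M (ys ++ [x]) := by
        rw [isWeaklyRegular_append_iff, isWeaklyRegular_singleton_iff]
        refine ⟨hw2.1, ?_⟩
        have h3 := hw2.2
        rw [isSMulRegular_iff_right_eq_zero_of_smul] at h3 ⊢
        intro m' hm'
        apply h3 m'
        have hjkill : j • m' = 0 := by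
          obtain ⟨m, rfl⟩ := Submodule.Quotient.mk_surjective _ m'
          rw [← Submodule.Quotient.mk_smul, Submodule.Quotient.mk_eq_zero]
          exact Submodule.smul_mem_smul hj Submodule.mem_top
        rw [hb, add_smul, hm', hjkill, add_zero]
      exact IsLocalRing.isWeaklyRegular_of_perm_of_subset_maximalIdeal hw3
        (List.perm_append_singleton x ys)
        (by
          intro y hy
          rcases List.mem_append.1 hy with hy | hy
          · exact hys y hy
          · rw [List.mem_singleton] at hy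
            rw [hy]
            exact hxm)

theorem idealDepth_ofList_eq_length_iff {M : Type u} [AddCommGroup M] [Module R M]
    [Module.Finite R M] [Nontrivial M] (xs : List R) (hxs : ∀ x ∈ xs, x ∈ maximalIdeal R) :
    idealDepth (Ideal.ofList xs) M = xs.length ↔ IsWeaklyRegular M xs := by
  have ham : Ideal.ofList xs ≤ maximalIdeal R := Ideal.span_le.2 (fun x hx => hxs x hx)
  have haM : Ideal.ofList xs • (⊤ : Submodule R M) ≠ ⊤ :=
    (Submodule.top_ne_ideal_smul_of_le_jacobson_annihilator
      (ham.trans (IsLocalRing.maximalIdeal_le_jacobson _))).symm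
  constructor
  · intro h
    refine isWeaklyRegular_of_le_idealDepth xs.length M xs ⊥ rfl hxs bot_le bot_le ?_
    rw [sup_bot_eq]
    exact h.ge
  · intro hreg
    have h1 := idealDepth_eq_add_length (Ideal.ofList xs) xs M haM
      (fun x hx => Ideal.subset_span hx) hreg
    rw [h1]
    have h0 : idealDepth (Ideal.ofList xs) (M ⧸ (Ideal.ofList xs • ⊤ : Submodule R M)) = 0 := by
      rw [← Order.lt_one_iff]
      by_contra hcon
      rw [not_lt] at hcon
      haveI : Nontrivial (M ⧸ (Ideal.ofList xs • ⊤ : Submodule R M)) :=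
        Submodule.Quotient.nontrivial_iff.2 haM
      have h2 := (Groth.Agent.Helper28.ReflDepth.one_le_idealDepth_iff (Ideal.ofList xs)
        (M ⧸ (Ideal.ofList xs • ⊤ : Submodule R M))).1 hcon
      obtain ⟨y, hy⟩ := exists_ne (0 : M ⧸ (Ideal.ofList xs • ⊤ : Submodule R M))
      apply hy
      apply h2 y
      intro r hr
      obtain ⟨m, rfl⟩ := Submodule.Quotient.mk_surjective _ y
      rw [← Submodule.Quotient.mk_smul, Submodule.Quotient.mk_eq_zero]
      exact Submodule.smul_mem_smul hr Submodule.mem_top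
    rw [h0, zero_add]

/-- Any system of `n` generators (in `m`) of an ideal generated by an `M`-regular sequence of
length `n` is an `M`-regular sequence. -/
theorem isWeaklyRegular_of_ofList_eq {M : Type u} [AddCommGroup M] [Module R M]
    [Module.Finite R M] [Nontrivial M] (xs ys : List R)
    (hxs : ∀ x ∈ xs, x ∈ maximalIdeal R) (hys : ∀ y ∈ ys, y ∈ maximalIdeal R)
    (hlen : xs.length = ys.length) (hI : Ideal.ofList xs = Ideal.ofList ys)
    (h : IsWeaklyRegular M ys) : IsWeaklyRegular M xs := by
  rw [← idealDepth_ofList_eq_length_iff xs hxs, hI, hlen]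
  exact (idealDepth_ofList_eq_length_iff ys hys).2 h

end Local

end Groth.Agent.Lead.Kap
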