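import Mathlib
import Groth.Agent.Lib.Lead.Flat6
import Groth.Agent.Lib.Lead.Bass1

/-!
# The dimension formula `dim (N ⊗ M) = dim M + dim N/m_R N` for flat `N` (EGA IV 6.1.2)
-/

set_option autoImplicit false
set_option linter.style.haveILetI false
set_option linter.unusedSectionVars false

universe u

open TensorProduct IsLocalRing Pointwise

namespace Groth.Agent.Lead.DimF

open Groth.Agent.Lead.FlatDepth Groth.Agent.Lead.Depth

section Arith

theorem bot_of_add_one_le_zero {a : WithBot ℕ∞} (h : a + 1 ≤ 0) : a = ⊥ := by
  induction a using WithBot.recBotCoe with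
  | bot => rfl
  | coe a =>
    exfalso
    have h' : a + 1 ≤ 0 := by exact_mod_cast h
    simp at h'

theorem le_of_add_one_le_succ {a : WithBot ℕ∞} {d : ℕ}
    (h : a + 1 ≤ ((d + 1 : ℕ) : WithBot ℕ∞)) : a ≤ (d : WithBot ℕ∞) := by
  induction a using WithBot.recBotCoe with
  | bot => exact bot_le
  | coe a =>
    have h' : a + 1 ≤ ((d + 1 : ℕ) : ℕ∞) := by exact_mod_cast h
    have h'' : a ≤ (d : ℕ∞) := by
      rw [Nat.cast_succ] at h'
      exact (ENat.add_le_add_iff_right ENat.one_ne_top).mp h'
    exact_mod_cast h''

theorem le_of_succ_le_add_one {a : WithBot ℕ∞} {d : ℕ}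
    (h : ((d + 1 : ℕ) : WithBot ℕ∞) ≤ a + 1) : (d : WithBot ℕ∞) ≤ a := by
  induction a using WithBot.recBotCoe with
  | bot =>
    exfalso
    rw [WithBot.bot_add] at h
    exact absurd h (by simp)
  | coe a =>
    have h' : ((d + 1 : ℕ) : ℕ∞) ≤ a + 1 := by exact_mod_cast h
    have h'' : (d : ℕ∞) ≤ a := by
      rw [Nat.cast_succ] at h'
      exact (ENat.add_le_add_iff_right ENat.one_ne_top).mp h'
    exact_mod_cast h''

end Arith

section General

variable {R S : Type u} [CommRing R] [CommRing S] [Algebra R S]
variable (N : Type u) [AddCommGroup N] [Module S N] [Module R N] [IsScalarTower R S N]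
variable (M : Type u) [AddCommGroup M] [Module R M]

theorem annihilator_le_annihilator_tensor :
    Module.annihilator S N ≤ Module.annihilator S (N ⊗[R] M) := by
  intro s hs
  rw [Module.mem_annihilator] at hs ⊢
  intro z
  induction z using TensorProduct.induction_on with
  | zero => simp
  | tmul n m => rw [TensorProduct.smul_tmul', hs n, TensorProduct.zero_tmul]
  | add a b ha hb => rw [smul_add, ha, hb, add_zero]

theorem map_annihilator_le_annihilator_tensor :
    (Module.annihilator R M).map (algebraMap R S) ≤ Module.annihilator S (N ⊗[R] M) := by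
  rw [Ideal.map_le_iff_le_comap]
  intro r hr
  rw [Ideal.mem_comap, Module.mem_annihilator]
  rw [Module.mem_annihilator] at hr
  intro z
  rw [algebraMap_smul]
  induction z using TensorProduct.induction_on with
  | zero => simp
  | tmul n m => rw [← TensorProduct.tmul_smul, hr m, TensorProduct.tmul_zero]
  | add a b ha hb => rw [smul_add, ha, hb, add_zero]

theorem annihilator_le_of_mem_support_tensor {q : PrimeSpectrum S}
    (hq : q ∈ Module.support S (N ⊗[R] M)) :
    Module.annihilator S N ≤ q.asIdeal ∧
      Module.annihilator R M ≤ q.asIdeal.comap (algebraMap R S) := by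
  have h1 := Module.annihilator_le_of_mem_support hq
  refine ⟨(annihilator_le_annihilator_tensor N M).trans h1, ?_⟩
  intro r hr
  rw [Ideal.mem_comap]
  exact h1 (map_annihilator_le_annihilator_tensor N M (Ideal.mem_map_of_mem _ hr))

/-- An associated prime `p` gives an embedding `R/p → M`. -/
theorem exists_injective_of_mem_associatedPrimes [IsNoetherianRing R] {p : Ideal R}
    (h : p ∈ associatedPrimes R M) :
    ∃ ι : (R ⧸ p) →ₗ[R] M, Function.Injective ι := by
  obtain ⟨-, x, hx⟩ := (isAssociatedPrime_iff (M := M)).mp h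
  have hker : LinearMap.ker (LinearMap.toSpanSingleton R M x) = p := by
    rw [hx]
    ext a
    rw [LinearMap.mem_ker, LinearMap.toSpanSingleton_apply, Submodule.mem_colon_singleton,
      Submodule.mem_bot]
  refine ⟨Submodule.liftQ p (LinearMap.toSpanSingleton R M x) hker.ge, ?_⟩
  rw [← LinearMap.ker_eq_bot, Submodule.ker_liftQ, hker]
  exact Submodule.mkQ_map_self _

end General

section Local

variable {R S : Type u} [CommRing R] [CommRing S] [IsLocalRing R] [IsLocalRing S]
  [IsNoetherianRing R] [IsNoetherianRing S] [Algebra R S] [IsLocalHom (algebraMap R S)]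

/-- A nonzero finite module over a local ring surjects onto the residue field. -/
theorem exists_surjective_to_residue (M : Type u) [AddCommGroup M] [Module R M]
    [Module.Finite R M] [Nontrivial M] :
    ∃ g : M →ₗ[R] (R ⧸ maximalIdeal R), Function.Surjective g := by
  obtain ⟨a, ha⟩ : ∃ a : Submodule R M, IsCoatom a := by
    obtain h | ⟨a, ha, -⟩ := eq_top_or_exists_le_coatom (⊥ : Submodule R M)
    · exact absurd h bot_ne_top
    · exact ⟨a, ha⟩
  haveI : IsSimpleModule R (M ⧸ a) := isSimpleModule_iff_isCoatom.mpr ha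
  obtain ⟨I, hI, ⟨e⟩⟩ :=
    isSimpleModule_iff_quot_maximal.mp (inferInstance : IsSimpleModule R (M ⧸ a))
  have hIm : I = maximalIdeal R := IsLocalRing.eq_maximalIdeal hI
  subst hIm
  exact ⟨e.toLinearMap.comp a.mkQ, e.surjective.comp a.mkQ_surjective⟩

/-- Either the support is the closed point, or some element of the maximal ideal avoids all
minimal primes of the support. -/
theorem exists_avoid_or (M : Type u) [AddCommGroup M] [Module R M] [Module.Finite R M] :
    (∀ p ∈ Module.support R M, p.asIdeal = maximalIdeal R) ∨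
      ∃ x ∈ maximalIdeal R, ∀ p ∈ (Module.annihilator R M).minimalPrimes, x ∉ p := by
  by_cases hm : maximalIdeal R ∈ (Module.annihilator R M).minimalPrimes
  · left
    intro p hp
    have h1 : Module.annihilator R M ≤ p.asIdeal := Module.annihilator_le_of_mem_support hp
    have h2 : p.asIdeal ≤ maximalIdeal R := IsLocalRing.le_maximalIdeal p.isPrime.ne_top
    exact le_antisymm h2 (hm.2 ⟨p.isPrime, h1⟩ h2)
  · right
    by_contra hcon
    push Not at hcon
    have hfin := (Module.annihilator R M).finite_minimalPrimes_of_isNoetherianRing R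
    obtain ⟨P, hP, hle⟩ := ((maximalIdeal R).subset_union_prime_finite hfin
      (f := id) ⊥ ⊥ (fun P hP _ _ => hP.1.1)).1 (by
        intro x hx
        obtain ⟨P, hP, hxP⟩ := hcon x hx
        exact Set.mem_biUnion hP hxP)
    have hPm : maximalIdeal R = P :=
      (maximalIdeal.isMaximal R).eq_of_le hP.1.1.ne_top hle
    apply hm
    rw [hPm]
    exact hP

/-- A chain of length `e` in the support of `M` gives an associated prime of coheight `≥ e`. -/
theorem exists_assoc_dim (M : Type u) [AddCommGroup M] [Module R M] [Module.Finite R M] (e : ℕ)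
    (he : (e : WithBot ℕ∞) ≤ Module.supportDim R M) :
    ∃ p ∈ associatedPrimes R M, (e : WithBot ℕ∞) ≤ ringKrullDim (R ⧸ p) := by
  obtain ⟨l, hl⟩ := Order.le_krullDim_iff.mp he
  have hhead : Module.annihilator R M ≤ l.head.1.asIdeal :=
    Module.annihilator_le_of_mem_support l.head.2
  obtain ⟨p0, hp0, hp0le⟩ := Ideal.exists_minimalPrimes_le hhead
  refine ⟨p0,
    Module.associatedPrimes.minimalPrimes_annihilator_subset_associatedPrimes R M hp0, ?_⟩
  rw [ringKrullDim_quotient, ← hl]
  let l' : LTSeries (PrimeSpectrum.zeroLocus (p0 : Set R)) :=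
    { length := l.length
      toFun := fun i => ⟨(l i).1, by
        rw [PrimeSpectrum.mem_zeroLocus, SetLike.coe_subset_coe]
        have h := l.head_le i
        exact hp0le.trans h⟩
      step := fun i => l.step i }
  exact Order.LTSeries.length_le_krullDim l'

variable (N : Type u) [AddCommGroup N] [Module S N] [Module R N] [IsScalarTower R S N]
  [Module.Finite S N]

theorem supportDim_tensor_le_of_support (M : Type u) [AddCommGroup M] [Module R M]
    [Module.Finite R M] (hM : ∀ p ∈ Module.support R M, p.asIdeal = maximalIdeal R) :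
    Module.supportDim S (N ⊗[R] M) ≤ Module.supportDim S
      (N ⧸ (maximalIdeal R).map (algebraMap R S) • (⊤ : Submodule S N)) := by
  have hsub : Module.support S (N ⊗[R] M) ⊆ Module.support S
      (N ⧸ (maximalIdeal R).map (algebraMap R S) • (⊤ : Submodule S N)) := by
    intro q hq
    obtain ⟨h1, h2⟩ := annihilator_le_of_mem_support_tensor N M hq
    rw [Module.support_quotient]
    refine ⟨Module.mem_support_iff_of_finite.mpr h1, ?_⟩
    rw [PrimeSpectrum.mem_zeroLocus, SetLike.coe_subset_coe, Ideal.map_le_iff_le_comap]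
    have hp : (⟨q.asIdeal.comap (algebraMap R S), inferInstance⟩ : PrimeSpectrum R) ∈
        Module.support R M := Module.mem_support_iff_of_finite.mpr h2
    exact (hM _ hp).ge
  exact Order.krullDim_le_of_strictMono (Set.inclusion hsub) (fun a b hab => hab)

/-- `dim (N ⊗ M) ≤ dim M + dim N/mN` (no flatness needed). -/
theorem supportDim_tensor_le (d : ℕ) : ∀ (M : Type u) [AddCommGroup M] [Module R M]
    [Module.Finite R M], Module.supportDim R M ≤ (d : WithBot ℕ∞) →
    Module.supportDim S (N ⊗[R] M) ≤ (d : WithBot ℕ∞) + Module.supportDim S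
      (N ⧸ (maximalIdeal R).map (algebraMap R S) • (⊤ : Submodule S N)) := by
  induction d with
  | zero =>
    intro M _ _ _ hd
    rcases exists_avoid_or (R := R) M with hA | ⟨x, hxm, hx⟩
    · rw [Nat.cast_zero, zero_add]
      exact supportDim_tensor_le_of_support N M hA
    · have h1 := Module.supportDim_quotSMulTop_succ_le_of_notMem_minimalPrimes hx
      rw [Nat.cast_zero] at hd
      have h2 : Module.supportDim R (QuotSMulTop x M) = ⊥ := bot_of_add_one_le_zero (h1.trans hd)
      haveI : Subsingleton (QuotSMulTop x M) :=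
        (Module.supportDim_eq_bot_iff_subsingleton R (QuotSMulTop x M)).mp h2
      haveI : Subsingleton (N ⊗[R] QuotSMulTop x M) := subsingleton_tensor_of_right N _
      haveI : Subsingleton (QuotSMulTop (algebraMap R S x) (N ⊗[R] M)) :=
        (quotSMulTopTensorRight N M x).toEquiv.subsingleton
      have h3 : Module.supportDim S (QuotSMulTop (algebraMap R S x) (N ⊗[R] M)) = ⊥ :=
        Module.supportDim_eq_bot_of_subsingleton S _
      haveI : Module.Finite S (N ⊗[R] M) := finite_tensor N M
      have h4 := Module.supportDim_le_supportDim_quotSMulTop_succ (M := N ⊗[R] M)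
        (map_nonunit (algebraMap R S) x hxm)
      rw [h3, WithBot.bot_add] at h4
      exact h4.trans bot_le
  | succ d ih =>
    intro M _ _ _ hd
    rcases exists_avoid_or (R := R) M with hA | ⟨x, hxm, hx⟩
    · exact (supportDim_tensor_le_of_support N M hA).trans
        (le_add_of_nonneg_left (Nat.cast_nonneg _))
    · have h1 := Module.supportDim_quotSMulTop_succ_le_of_notMem_minimalPrimes hx
      have h2 : Module.supportDim R (QuotSMulTop x M) ≤ (d : WithBot ℕ∞) :=
        le_of_add_one_le_succ (h1.trans hd)
      have h3 := ih (QuotSMulTop x M) h2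
      haveI : Module.Finite S (N ⊗[R] M) := finite_tensor N M
      have h4 := Module.supportDim_le_supportDim_quotSMulTop_succ (M := N ⊗[R] M)
        (map_nonunit (algebraMap R S) x hxm)
      rw [Module.supportDim_eq_of_equiv (quotSMulTopTensorRight N M x)] at h4
      calc Module.supportDim S (N ⊗[R] M)
          ≤ Module.supportDim S (N ⊗[R] QuotSMulTop x M) + 1 := h4
        _ ≤ ((d : WithBot ℕ∞) + Module.supportDim S
            (N ⧸ (maximalIdeal R).map (algebraMap R S) • (⊤ : Submodule S N))) + 1 :=
          add_le_add h3 le_rfl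
        _ = ((d + 1 : ℕ) : WithBot ℕ∞) + Module.supportDim S
            (N ⧸ (maximalIdeal R).map (algebraMap R S) • (⊤ : Submodule S N)) := by
          rw [Nat.cast_succ, add_right_comm]

/-- `dim M + dim N/mN ≤ dim (N ⊗ M)` for `N` flat over `R`. -/
theorem le_supportDim_tensor [Module.Flat R N] (d : ℕ) : ∀ (M : Type u) [AddCommGroup M]
    [Module R M] [Module.Finite R M], (d : WithBot ℕ∞) ≤ Module.supportDim R M →
    (d : WithBot ℕ∞) + Module.supportDim S
      (N ⧸ (maximalIdeal R).map (algebraMap R S) • (⊤ : Submodule S N)) ≤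
      Module.supportDim S (N ⊗[R] M) := by
  induction d with
  | zero =>
    intro M _ _ _ hd
    rw [Nat.cast_zero] at hd
    rw [Nat.cast_zero, zero_add]
    haveI : Nontrivial M := (Module.supportDim_ne_bot_iff_nontrivial R M).mp (fun h => by
      rw [h] at hd
      exact absurd hd (by simp))
    obtain ⟨g, hg⟩ := exists_surjective_to_residue (R := R) M
    have hsurj : Function.Surjective (AlgebraTensorModule.lTensor S N g) :=
      LinearMap.lTensor_surjective N hg
    have h1 := Module.supportDim_le_of_surjective (AlgebraTensorModule.lTensor S N g) hsurj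
    rw [← Module.supportDim_eq_of_equiv (fibreEquiv (S := S) (maximalIdeal R) N)] at h1
    exact h1
  | succ d ih =>
    intro M _ _ _ hd
    obtain ⟨p0, hp0ass, hp0dim⟩ := exists_assoc_dim (R := R) M (d + 1) hd
    haveI hp0prime : p0.IsPrime := hp0ass.isPrime
    have hp0ne : p0 ≠ maximalIdeal R := by
      intro h
      rw [h, ringKrullDim_quotient_maximalIdeal] at hp0dim
      have h' : d + 1 ≤ 0 := by exact_mod_cast hp0dim
      omega
    obtain ⟨x, hxm, hxp⟩ : ∃ x ∈ maximalIdeal R, x ∉ p0 := by
      by_contra hcon
      push Not at hcon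
      exact hp0ne (le_antisymm (IsLocalRing.le_maximalIdeal hp0prime.ne_top)
        (fun x hx => hcon x hx))
    have hreg : IsSMulRegular (R ⧸ p0) x := isSMulRegular_quotient_prime p0 x hxp
    have h1 : Module.supportDim R (QuotSMulTop x (R ⧸ p0)) + 1 =
        Module.supportDim R (R ⧸ p0) := Module.supportDim_quotSMulTop_succ_eq_supportDim hreg hxm
    rw [Module.supportDim_quotient_eq_ringKrullDim] at h1
    have h2 : (d : WithBot ℕ∞) ≤ Module.supportDim R (QuotSMulTop x (R ⧸ p0)) :=
      le_of_succ_le_add_one (hp0dim.trans h1.ge)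
    have h3 := ih (QuotSMulTop x (R ⧸ p0)) h2
    have hreg' : IsSMulRegular (N ⊗[R] (R ⧸ p0)) (algebraMap R S x) :=
      isSMulRegular_tensor_of_right N hreg
    haveI : Module.Finite S (N ⊗[R] (R ⧸ p0)) := finite_tensor N (R ⧸ p0)
    have h4 : Module.supportDim S (QuotSMulTop (algebraMap R S x) (N ⊗[R] (R ⧸ p0))) + 1 =
        Module.supportDim S (N ⊗[R] (R ⧸ p0)) :=
      Module.supportDim_quotSMulTop_succ_eq_supportDim hreg' (map_nonunit (algebraMap R S) x hxm)
    rw [Module.supportDim_eq_of_equiv (quotSMulTopTensorRight N (R ⧸ p0) x)] at h4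
    obtain ⟨ι, hι⟩ := exists_injective_of_mem_associatedPrimes M hp0ass
    have hinj : Function.Injective (AlgebraTensorModule.lTensor S N ι) :=
      Module.Flat.lTensor_preserves_injective_linearMap ι hι
    have h5 := Module.supportDim_le_of_injective (AlgebraTensorModule.lTensor S N ι) hinj
    calc ((d + 1 : ℕ) : WithBot ℕ∞) + Module.supportDim S
          (N ⧸ (maximalIdeal R).map (algebraMap R S) • (⊤ : Submodule S N))
        = ((d : WithBot ℕ∞) + Module.supportDim S
          (N ⧸ (maximalIdeal R).map (algebraMap R S) • (⊤ : Submodule S N))) + 1 := by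
          rw [Nat.cast_succ, add_right_comm]
      _ ≤ Module.supportDim S (N ⊗[R] QuotSMulTop x (R ⧸ p0)) + 1 := add_le_add h3 le_rfl
      _ = Module.supportDim S (N ⊗[R] (R ⧸ p0)) := h4
      _ ≤ Module.supportDim S (N ⊗[R] M) := h5

/-- **EGA IV 6.1.2**: `dim_S (N ⊗_R M) = dim_R M + dim_S (N / m_R N)` for `N` flat over `R`. -/
theorem supportDim_tensor_eq [Module.Flat R N] (M : Type u) [AddCommGroup M] [Module R M]
    [Module.Finite R M] [Nontrivial M] :
    Module.supportDim S (N ⊗[R] M) = Module.supportDim R M + Module.supportDim S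
      (N ⧸ (maximalIdeal R).map (algebraMap R S) • (⊤ : Submodule S N)) := by
  obtain ⟨d, hd⟩ := exists_nat_supportDim (R := R) M
  rw [hd]
  exact le_antisymm (supportDim_tensor_le N d M hd.le) (le_supportDim_tensor N d M hd.ge)

end Local

end Groth.Agent.Lead.DimF
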