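import Mathlib
import Groth.Agent.Lib.Lead.DimF2

/-!
# Cohen–Macaulayness of `N ⊗ M` for flat `N` (EGA IV 6.3.3)
-/

set_option autoImplicit false
set_option linter.style.haveILetI false
set_option linter.unusedSectionVars false

universe u

open TensorProduct IsLocalRing Pointwise

namespace Groth.Agent.Lead.DimF

open Groth.Agent.Lead.FlatDepth Groth.Agent.Lead.Depth

section Surj

variable {R₁ R₂ : Type u} [CommRing R₁] [CommRing R₂] [Algebra R₁ R₂]

theorem annihilator_eq_comap (X : Type u) [AddCommGroup X] [Module R₂ X] [Module R₁ X]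
    [IsScalarTower R₁ R₂ X] :
    Module.annihilator R₁ X = (Module.annihilator R₂ X).comap (algebraMap R₁ R₂) := by
  ext r
  rw [Ideal.mem_comap, Module.mem_annihilator, Module.mem_annihilator]
  constructor
  · intro hr x
    rw [algebraMap_smul]
    exact hr x
  · intro hr x
    rw [← algebraMap_smul R₂ r x]
    exact hr x

/-- The support dimension does not change along a surjective ring map. -/
theorem supportDim_eq_of_surjective (h : Function.Surjective (algebraMap R₁ R₂)) (X : Type u)
    [AddCommGroup X] [Module R₂ X] [Module R₁ X] [IsScalarTower R₁ R₂ X] [Module.Finite R₂ X] :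
    Module.supportDim R₁ X = Module.supportDim R₂ X := by
  haveI : Module.Finite R₁ R₂ := Module.Finite.of_surjective (Algebra.linearMap R₁ R₂) h
  haveI : Module.Finite R₁ X := Module.Finite.trans R₂ X
  rw [Module.supportDim_eq_ringKrullDim_quotient_annihilator (R := R₁) (M := X),
    Module.supportDim_eq_ringKrullDim_quotient_annihilator (R := R₂) (M := X),
    annihilator_eq_comap (R₁ := R₁) (R₂ := R₂) X]
  exact ringKrullDim_eq_of_ringEquiv (RingEquiv.ofBijective
    (Ideal.quotientMap (Module.annihilator R₂ X) (algebraMap R₁ R₂) le_rfl)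
    ⟨Ideal.quotientMap_injective, Ideal.quotientMap_surjective h⟩)

end Surj

section Local

variable {R S : Type u} [CommRing R] [CommRing S] [IsLocalRing R] [IsLocalRing S]
  [IsNoetherianRing R] [IsNoetherianRing S] [Algebra R S] [IsLocalHom (algebraMap R S)]

theorem nontrivial_fibre (N : Type u) [AddCommGroup N] [Module S N] [Module.Finite S N]
    [Nontrivial N] :
    Nontrivial (N ⧸ (maximalIdeal R).map (algebraMap R S) • (⊤ : Submodule S N)) := by
  rw [Submodule.Quotient.nontrivial_iff]
  intro htop
  have h3 : (maximalIdeal R).map (algebraMap R S) ≤ maximalIdeal S :=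
    IsLocalRing.map_maximalIdeal_le (algebraMap R S)
  have h4 : maximalIdeal S • (⊤ : Submodule S N) = ⊤ :=
    top_le_iff.mp (htop.ge.trans (Submodule.smul_mono_left h3))
  exact maximalIdeal_smul_top_ne_top N h4

/-- **EGA IV 6.3.3**: `N ⊗ M` is Cohen–Macaulay iff `M` and the closed fibre `N / m N` are. -/
theorem cm_tensor_iff (N : Type u) [AddCommGroup N] [Module S N] [Module R N]
    [IsScalarTower R S N] [Module.Finite S N] [Nontrivial N] [Module.Flat R N]
    (M : Type u) [AddCommGroup M] [Module R M] [Module.Finite R M] [Nontrivial M]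
    [IsLocalRing (S ⧸ (maximalIdeal R).map (algebraMap R S))] :
    LocCoh.IsCohenMacaulayModule S (N ⊗[R] M) ↔
      (LocCoh.IsCohenMacaulayModule R M ∧
        LocCoh.IsCohenMacaulayModule (S ⧸ (maximalIdeal R).map (algebraMap R S))
          (N ⧸ (maximalIdeal R).map (algebraMap R S) • (⊤ : Submodule S N))) := by
  have hdim := supportDim_tensor_eq (R := R) (S := S) N M
  have hdepth := depth_tensor_eq_add_fibre (R := R) (S := S) M N
  haveI hX : Nontrivial (N ⧸ (maximalIdeal R).map (algebraMap R S) • (⊤ : Submodule S N)) :=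
    nontrivial_fibre (R := R) N
  have h1 := depth_le_supportDim (R := R) M
  have h2 := depth_le_supportDim (R := S)
    (N ⧸ (maximalIdeal R).map (algebraMap R S) • (⊤ : Submodule S N))
  obtain ⟨a, ha⟩ := exists_nat_supportDim (R := R) M
  obtain ⟨b, hb⟩ := exists_nat_supportDim (R := S)
    (N ⧸ (maximalIdeal R).map (algebraMap R S) • (⊤ : Submodule S N))
  have hs : Function.Surjective
      (algebraMap S (S ⧸ (maximalIdeal R).map (algebraMap R S))) :=
    Ideal.Quotient.mk_surjective
  haveI : IsScalarTower S (S ⧸ (maximalIdeal R).map (algebraMap R S))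
      (N ⧸ (maximalIdeal R).map (algebraMap R S) • (⊤ : Submodule S N)) := inferInstance
  haveI : Module.Finite (S ⧸ (maximalIdeal R).map (algebraMap R S))
      (N ⧸ (maximalIdeal R).map (algebraMap R S) • (⊤ : Submodule S N)) :=
    Module.Finite.of_restrictScalars_finite S _ _
  have e1 := supportDim_eq_of_surjective hs
    (N ⧸ (maximalIdeal R).map (algebraMap R S) • (⊤ : Submodule S N))
  have e2 := depth_eq_of_surjective hs
    (N ⧸ (maximalIdeal R).map (algebraMap R S) • (⊤ : Submodule S N))
  unfold LocCoh.IsCohenMacaulayModule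
  rw [← e1, ← e2, hdim, hdepth, ha, hb]
  rw [ha] at h1
  rw [hb] at h2
  generalize LocCoh.depth R M = x at *
  generalize LocCoh.depth S
    (N ⧸ (maximalIdeal R).map (algebraMap R S) • (⊤ : Submodule S N)) = y at *
  have hx : x ≤ (a : ℕ∞) := by exact_mod_cast h1
  have hy : y ≤ (b : ℕ∞) := by exact_mod_cast h2
  lift x to ℕ using ne_top_of_le_ne_top (ENat.coe_ne_top a) hx
  lift y to ℕ using ne_top_of_le_ne_top (ENat.coe_ne_top b) hy
  have hx' : x ≤ a := by exact_mod_cast hx
  have hy' : y ≤ b := by exact_mod_cast hy
  constructor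
  · intro h
    have h' : a + b = x + y := by exact_mod_cast h
    have hax : a = x := by omega
    have hby : b = y := by omega
    subst hax
    subst hby
    exact ⟨rfl, rfl⟩
  · rintro ⟨h3, h4⟩
    have hax : a = x := by exact_mod_cast h3
    have hby : b = y := by exact_mod_cast h4
    subst hax
    subst hby
    push_cast
    rfl

end Local

end Groth.Agent.Lead.DimF
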