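import Mathlib
import Groth.Agent.Lib.Lead.Fib1
import Groth.Agent.Lib.Lead.Depth16
import Groth.Agent.Lib.Lead.Depth21
import Groth.Agent.S6918
import Groth.Prelude.Def_EGA4b

/-!
# Depth of a localized flat module through the fibre local module

For `A → B` Noetherian, `q` a prime of `B`, `p = q ∩ A`, `E` a finite `B`-module flat over `A`:
`depth_{B_q} E_q = depth A_p + depth_{B_q/pB_q} (E_q / p E_q)`
(with the fibre objects `EGA4.FibLocRing`, `EGA4.FibLocMod`).
-/

set_option autoImplicit false
set_option linter.style.haveILetI false
set_option linter.unusedSectionVars false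

universe u

open TensorProduct LocCoh IsLocalRing

namespace Groth.Agent.Lead.FibLoc

open Groth.Agent.Lead.Depth Groth.Agent.Lead.Fib Groth.Agent.Lead.FlatDepth

variable (A B : Type u) [CommRing A] [CommRing B] [Algebra A B]

instance liesOver_comap (q : Ideal B) : q.LiesOver (q.comap (algebraMap A B)) := ⟨rfl⟩

theorem map_fib_eq (q : Ideal B) [q.IsPrime] :
    q.map (algebraMap B (EGA4.FibLocRing A B q)) =
      maximalIdeal (FL (q.comap (algebraMap A B)) q) := by
  have h1 : algebraMap B (EGA4.FibLocRing A B q) =
      (Ideal.Quotient.mk ((q.comap (algebraMap A B)).map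
        (algebraMap A (Localization.AtPrime q)))).comp (algebraMap B (Localization.AtPrime q)) :=
    rfl
  rw [h1, ← Ideal.map_map, Localization.AtPrime.map_eq_maximalIdeal]
  exact IsLocalRing.map_maximalIdeal_of_surjective
    (Ideal.Quotient.mk ((q.comap (algebraMap A B)).map
        (algebraMap A (Localization.AtPrime q)))) Ideal.Quotient.mk_surjective

/-- **Depth formula** at a prime of `B` for a finite `B`-module flat over `A`. -/
theorem depth_localizedModule_eq [IsNoetherianRing A] [IsNoetherianRing B] (q : Ideal B)
    [q.IsPrime] (E : Type u) [AddCommGroup E] [Module B E] [Module A E] [IsScalarTower A B E]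
    [Module.Finite B E] [Module.Flat A E] :
    LocCoh.depth (Localization.AtPrime q) (LocalizedModule q.primeCompl E) =
      LocCoh.depth (Localization.AtPrime (q.comap (algebraMap A B)))
          (Localization.AtPrime (q.comap (algebraMap A B))) +
        LocCoh.idealDepth (q.map (algebraMap B (EGA4.FibLocRing A B q)))
          (EGA4.FibLocMod A B q E) := by
  letI alg : Algebra (Localization.AtPrime (q.comap (algebraMap A B))) (Localization.AtPrime q) :=
    Localization.AtPrime.algebraOfLiesOver (q.comap (algebraMap A B)) q
  haveI : IsLocalHom (algebraMap (Localization.AtPrime (q.comap (algebraMap A B)))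
      (Localization.AtPrime q)) :=
    Localization.isLocalHom_localRingHom _ _ _ _
  letI modAp : Module (Localization.AtPrime (q.comap (algebraMap A B)))
      (LocalizedModule q.primeCompl E) :=
    Module.compHom (LocalizedModule q.primeCompl E)
      (algebraMap (Localization.AtPrime (q.comap (algebraMap A B))) (Localization.AtPrime q))
  haveI st1 : IsScalarTower (Localization.AtPrime (q.comap (algebraMap A B)))
      (Localization.AtPrime q) (LocalizedModule q.primeCompl E) :=
    IsScalarTower.of_algebraMap_smul fun r x => rfl
  haveI st2 : IsScalarTower A (Localization.AtPrime (q.comap (algebraMap A B)))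
      (LocalizedModule q.primeCompl E) :=
    IsScalarTower.to₁₂₄ A (Localization.AtPrime (q.comap (algebraMap A B)))
      (Localization.AtPrime q) (LocalizedModule q.primeCompl E)
  haveI fl1 : Module.Flat A (LocalizedModule q.primeCompl E) :=
    Groth.Agent.S6918.flat_localizedModule q.primeCompl E
  haveI fl2 : Module.Flat (Localization.AtPrime (q.comap (algebraMap A B)))
      (LocalizedModule q.primeCompl E) :=
    (Module.flat_iff_of_isLocalization (Localization.AtPrime (q.comap (algebraMap A B)))
      (q.comap (algebraMap A B)).primeCompl (LocalizedModule q.primeCompl E)).mpr fl1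
  have h := depth_tensor_eq_add_fibre (R := Localization.AtPrime (q.comap (algebraMap A B)))
    (S := Localization.AtPrime q) (Localization.AtPrime (q.comap (algebraMap A B)))
    (LocalizedModule q.primeCompl E)
  have h1 : LocCoh.depth (Localization.AtPrime q)
      (LocalizedModule q.primeCompl E ⊗[Localization.AtPrime (q.comap (algebraMap A B))]
        Localization.AtPrime (q.comap (algebraMap A B))) =
      LocCoh.depth (Localization.AtPrime q) (LocalizedModule q.primeCompl E) :=
    depth_congr (TensorProduct.AlgebraTensorModule.rid
      (Localization.AtPrime (q.comap (algebraMap A B))) (Localization.AtPrime q)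
      (LocalizedModule q.primeCompl E))
  have hmap : (q.comap (algebraMap A B)).map (algebraMap A (Localization.AtPrime q)) =
      (maximalIdeal (Localization.AtPrime (q.comap (algebraMap A B)))).map
        (algebraMap (Localization.AtPrime (q.comap (algebraMap A B)))
          (Localization.AtPrime q)) := by
    rw [← Localization.AtPrime.map_eq_maximalIdeal, Ideal.map_map, ← IsScalarTower.algebraMap_eq]
  have h2 : LocCoh.depth (Localization.AtPrime q)
      (LocalizedModule q.primeCompl E ⧸
        (maximalIdeal (Localization.AtPrime (q.comap (algebraMap A B)))).map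
          (algebraMap (Localization.AtPrime (q.comap (algebraMap A B)))
            (Localization.AtPrime q)) •
          (⊤ : Submodule (Localization.AtPrime q) (LocalizedModule q.primeCompl E))) =
      LocCoh.depth (Localization.AtPrime q) (EGA4.FibLocMod A B q E) :=
    depth_congr (Submodule.quotEquivOfEq _ _ (by rw [hmap]))
  haveI fin3 : Module.Finite (FL (q.comap (algebraMap A B)) q) (EGA4.FibLocMod A B q E) :=
    Module.Finite.of_restrictScalars_finite (Localization.AtPrime q) _ _
  have h3 : LocCoh.depth (Localization.AtPrime q) (EGA4.FibLocMod A B q E) =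
      LocCoh.depth (FL (q.comap (algebraMap A B)) q) (EGA4.FibLocMod A B q E) :=
    depth_eq_of_surjective (R₁ := Localization.AtPrime q)
      (R₂ := FL (q.comap (algebraMap A B)) q) Ideal.Quotient.mk_surjective _
  rw [← h1, h, h2, h3, map_fib_eq]
  rfl

/-- Lower bound for `depth_J E` from the fibrewise depths. -/
theorem le_idealDepth_of_fibre [IsNoetherianRing A] [IsNoetherianRing B] (J : Ideal B)
    (E : Type u) [AddCommGroup E] [Module B E] [Module A E] [IsScalarTower A B E]
    [Module.Finite B E] [Module.Flat A E] (k : ℕ∞)
    (hk : ∀ q : PrimeSpectrum B, J ≤ q.asIdeal →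
      k ≤ LocCoh.idealDepth (q.asIdeal.map (algebraMap B (EGA4.FibLocRing A B q.asIdeal)))
        (EGA4.FibLocMod A B q.asIdeal E)) :
    k ≤ LocCoh.idealDepth J E := by
  rw [idealDepth_eq_iInf_depth_localizedModule J E]
  refine le_iInf₂ fun q hq => ?_
  rw [depth_localizedModule_eq A B q.asIdeal E]
  exact (hk q hq).trans le_add_self

end Groth.Agent.Lead.FibLoc
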