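import Mathlib
import Groth.Agent.Lib.Lead.Depth19

/-!
# Lower semicontinuity of `I`-depth along `V(p)`
-/

set_option autoImplicit false
set_option linter.style.haveILetI false

universe u v

open CategoryTheory Abelian RingTheory.Sequence LocCoh Pointwise IsLocalRing

namespace Groth.Agent.Lead.Depth

section General

variable {R : Type u} [CommRing R]

theorem exists_smul_eq_zero_of_subsingleton_localizedModule (p : Ideal R) [p.IsPrime]
    (M : Type v) [AddCommGroup M] [Module R M] [Module.Finite R M]
    (h : Subsingleton (LocalizedModule p.primeCompl M)) : ∃ f ∉ p, ∀ m : M, f • m = 0 := by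
  have h1 : (⟨p, inferInstance⟩ : PrimeSpectrum R) ∉ Module.support R M :=
    Module.notMem_support_iff.mpr h
  rw [Module.mem_support_iff_of_finite] at h1
  obtain ⟨f, hf, hfp⟩ := SetLike.not_le_iff_exists.mp h1
  exact ⟨f, hfp, fun m => Module.mem_annihilator.mp hf m⟩

theorem subsingleton_localizedModule_of_smul_eq_zero (q : Ideal R) [q.IsPrime]
    (M : Type v) [AddCommGroup M] [Module R M] (f : R) (hf : f ∉ q) (hfM : ∀ m : M, f • m = 0) :
    Subsingleton (LocalizedModule q.primeCompl M) := by
  refine ⟨fun x y => ?_⟩
  suffices ∀ z : LocalizedModule q.primeCompl M, z = 0 by rw [this x, this y]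
  intro z
  induction z using LocalizedModule.induction_on with
  | h m t =>
    rw [localizedModule_mk_eq_zero_iff]
    exact ⟨f, hf, hfM m⟩

end General

section Noeth

variable {R : Type u} [CommRing R] [IsNoetherianRing R]

/-- Spreading out `I`-depth: if `depth_{I R_p} M_p ≥ e`, the same holds at all primes `q ⊇ p`
in a basic open neighbourhood of `p`. -/
theorem exists_le_idealDepth_map_of_le (I p : Ideal R) [p.IsPrime] (hIp : I ≤ p) :
    ∀ (e : ℕ) (M : Type u) [AddCommGroup M] [Module R M] [Module.Finite R M],
      (e : ℕ∞) ≤ idealDepth (I.map (algebraMap R (Localization.AtPrime p)))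
        (LocalizedModule p.primeCompl M) →
      ∃ f ∉ p, ∀ (q : Ideal R) [q.IsPrime], p ≤ q → f ∉ q →
        (e : ℕ∞) ≤ idealDepth (I.map (algebraMap R (Localization.AtPrime q)))
          (LocalizedModule q.primeCompl M) := by
  intro e
  induction e with
  | zero =>
    intro M _ _ _ _
    exact ⟨1, fun h => (Ideal.ne_top_iff_one p).mp (Ideal.IsPrime.ne_top inferInstance) h,
      fun q _ _ _ => by simp⟩
  | succ e ih =>
    intro M _ _ _ hj
    by_cases hMp : Subsingleton (LocalizedModule p.primeCompl M)
    · obtain ⟨f, hf, hfM⟩ := exists_smul_eq_zero_of_subsingleton_localizedModule p M hMp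
      refine ⟨f, hf, fun q _ hpq hfq => ?_⟩
      haveI := subsingleton_localizedModule_of_smul_eq_zero q M f hfq hfM
      rw [idealDepth_of_eq_top _ _ (Subsingleton.elim _ _)]
      exact le_top
    rw [not_subsingleton_iff_nontrivial] at hMp
    set R' := Localization.AtPrime p
    set M' := LocalizedModule p.primeCompl M
    set J := I.map (algebraMap R R') with hJ
    have hJle : J ≤ maximalIdeal R' := by
      rw [hJ, Ideal.map_le_iff_le_comap]
      have hcm : Ideal.comap (algebraMap R R') (maximalIdeal R') = p :=
        IsLocalization.AtPrime.under_maximalIdeal R' p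
      rw [hcm]
      exact hIp
    have hne : J • (⊤ : Submodule R' M') ≠ ⊤ := by
      intro h
      apply maximalIdeal_smul_top_ne_top (R := R') M'
      exact top_le_iff.mp (h.ge.trans (Submodule.smul_mono_left hJle))
    have h1 : ((1 : ℕ) : ℕ∞) ≤ idealDepth J M' := by
      refine le_trans ?_ hj
      exact_mod_cast Nat.le_add_left 1 e
    obtain ⟨rs, hlen, hreg, hmem⟩ := exists_of_le_idealDepth J M' hne 1 h1
    obtain ⟨x', rfl⟩ := List.length_eq_one_iff.mp hlen
    have hx'mem : x' ∈ J := hmem x' (by simp)
    have hx'reg : IsSMulRegular M' x' := ((isWeaklyRegular_cons_iff M' x' []).mp hreg).1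
    have hq := idealDepth_quotSMulTop_add_one J M' hne x' hx'mem hx'reg
    have hjq : (e : ℕ∞) ≤ idealDepth J (QuotSMulTop x' M') := by
      rw [← hq] at hj
      push_cast at hj
      exact (ENat.add_le_add_iff_right (by simp)).mp hj
    obtain ⟨⟨⟨a, ha⟩, ⟨t, ht⟩⟩, hat⟩ :=
      (IsLocalization.mem_map_algebraMap_iff p.primeCompl R').mp hx'mem
    simp only at hat
    have hunit : IsUnit (algebraMap R R' t) := IsLocalization.map_units R' ⟨t, ht⟩
    have ha'reg : IsSMulRegular M' (algebraMap R R' a) := by
      rw [← hat]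
      exact hx'reg.mul (hunit.isSMulRegular M')
    have hsub : algebraMap R R' a • (⊤ : Submodule R' M') = x' • (⊤ : Submodule R' M') := by
      rw [← hat]
      apply le_antisymm
      · rintro _ ⟨m, -, rfl⟩
        change (x' * algebraMap R R' t) • m ∈ _
        rw [mul_smul]
        exact Submodule.smul_mem_pointwise_smul _ _ _ Submodule.mem_top
      · rintro _ ⟨m, -, rfl⟩
        obtain ⟨w, hw⟩ := hunit.exists_right_inv
        change x' • m ∈ _
        have : x' • m = (x' * algebraMap R R' t) • (w • m) := by
          rw [← mul_smul, mul_assoc, hw, mul_one]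
        rw [this]
        exact Submodule.smul_mem_pointwise_smul _ _ _ Submodule.mem_top
    have e1 : QuotSMulTop (algebraMap R R' a) M' ≃ₗ[R'] QuotSMulTop x' M' :=
      Submodule.quotEquivOfEq _ _ hsub
    have e2 := localizedQuotSMulTopEquiv p a M
    have hj2 : (e : ℕ∞) ≤ idealDepth J (LocalizedModule p.primeCompl (QuotSMulTop a M)) := by
      rw [idealDepth_congr J (e2.trans e1)]
      exact hjq
    obtain ⟨f2, hf2, hf2q⟩ := ih (QuotSMulTop a M) hj2
    -- the kernel of multiplication by `a`
    set K : Submodule R M := LinearMap.ker (LinearMap.lsmul R M a) with hK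
    have hKmem : ∀ m : M, m ∈ K ↔ a • m = 0 := by
      intro m
      rw [hK, LinearMap.mem_ker, LinearMap.lsmul_apply]
    haveI : IsNoetherian R M := isNoetherian_of_isNoetherianRing_of_finite R M
    have hKp : Subsingleton (LocalizedModule p.primeCompl K) := by
      rw [LocalizedModule.subsingleton_iff]
      intro k
      have hk : a • (k : M) = 0 := (hKmem _).mp k.2
      obtain ⟨v, hv, hvk⟩ := (isSMulRegular_localizedModule_iff p.primeCompl a M).mp ha'reg
        (k : M) ⟨1, Submonoid.one_mem _, by rw [one_smul]; exact hk⟩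
      exact ⟨v, hv, Subtype.ext (by simpa using hvk)⟩
    obtain ⟨f1, hf1, hf1K⟩ := exists_smul_eq_zero_of_subsingleton_localizedModule p K hKp
    refine ⟨f1 * f2, fun h => (Ideal.IsPrime.mem_or_mem inferInstance h).elim hf1 hf2,
      fun q _ hpq hfq => ?_⟩
    have hf1q : f1 ∉ q := fun h => hfq (Ideal.mul_mem_right _ _ h)
    have hf2q' : f2 ∉ q := fun h => hfq (Ideal.mul_mem_left _ _ h)
    set R'' := Localization.AtPrime q
    set M'' := LocalizedModule q.primeCompl M
    set J'' := I.map (algebraMap R R'') with hJ''
    have haq_mem : algebraMap R R'' a ∈ J'' := Ideal.mem_map_of_mem _ ha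
    have haq_reg : IsSMulRegular M'' (algebraMap R R'' a) := by
      rw [isSMulRegular_localizedModule_iff]
      rintro m ⟨u, hu, hum⟩
      have hmem : u • m ∈ K := by
        rw [hKmem, smul_comm]; exact hum
      have := hf1K ⟨u • m, hmem⟩
      refine ⟨f1 * u, q.primeCompl.mul_mem hf1q hu, ?_⟩
      rw [mul_smul]
      simpa using congrArg Subtype.val this
    by_cases htop : J'' • (⊤ : Submodule R'' M'') = ⊤
    · rw [idealDepth_of_eq_top _ _ htop]; exact le_top
    have hq' := idealDepth_quotSMulTop_add_one J'' M'' htop _ haq_mem haq_reg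
    have h3 := hf2q q hpq hf2q'
    rw [idealDepth_congr J'' (localizedQuotSMulTopEquiv q a M)] at h3
    rw [← hq']
    push_cast
    exact add_le_add_left h3 1

end Noeth

end Groth.Agent.Lead.Depth
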