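import Mathlib
import Groth.Prelude.Def_CAlg
import Groth.Agent.Lib.Lead.Depth22
import Groth.Agent.Lib.Helper9.Depth8

/-!
# Modules finite over a base ring: dimension of localizations

For `A → B`, `M` a `B`-module finite over `A` and `p` a prime of `A`:
`dim M_p = sup_q dim M_q`, `q` running over the primes of `B` over `p` in the support of `M`.
-/

set_option autoImplicit false
set_option linter.style.haveILetI false
set_option linter.unusedSectionVars false

universe u

open Groth.Agent.Lead.Depth

namespace Groth.Agent.Lead.FinRes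

section SuppLoc

variable {R : Type*} [CommRing R] {N : Type*} [AddCommGroup N] [Module R N]

/-- If `Q ∩ R ∈ Supp N` then `Q ∈ Supp N_P`. -/
theorem mem_support_localizedModule_of_comap (P : Ideal R) [P.IsPrime]
    (Q : PrimeSpectrum (Localization.AtPrime P))
    (hQ : PrimeSpectrum.comap (algebraMap R (Localization.AtPrime P)) Q ∈ Module.support R N) :
    Q ∈ Module.support (Localization.AtPrime P) (LocalizedModule P.primeCompl N) := by
  rw [Module.mem_support_iff'] at hQ ⊢
  obtain ⟨m, hm⟩ := hQ
  refine ⟨LocalizedModule.mk m 1, fun x hx h0 => ?_⟩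
  obtain ⟨r, s, rfl⟩ := IsLocalization.exists_mk'_eq P.primeCompl x
  have h1 : algebraMap R (Localization.AtPrime P) r •
      (LocalizedModule.mk m 1 : LocalizedModule P.primeCompl N) = 0 := by
    rw [← IsLocalization.mk'_spec (Localization.AtPrime P) r s, mul_comm, mul_smul, h0, smul_zero]
  rw [algebraMap_smul, LocalizedModule.smul'_mk, localizedModule_mk_eq_zero_iff] at h1
  obtain ⟨u, hu, hum⟩ := h1
  have hr : algebraMap R (Localization.AtPrime P) r ∉ Q.asIdeal := by
    intro h
    apply hx
    rw [IsLocalization.mk'_eq_mul_mk'_one]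
    exact Ideal.mul_mem_right _ _ h
  have hu' : algebraMap R (Localization.AtPrime P) u ∉ Q.asIdeal := by
    intro h
    exact Q.isPrime.ne_top (Ideal.eq_top_of_isUnit_mem _ h
      (IsLocalization.map_units (Localization.AtPrime P) (⟨u, hu⟩ : P.primeCompl)))
  have hur : u * r ∉ (PrimeSpectrum.comap (algebraMap R (Localization.AtPrime P)) Q).asIdeal := by
    intro h
    rw [PrimeSpectrum.comap_asIdeal, Ideal.mem_comap, map_mul] at h
    exact (Q.isPrime.mem_or_mem h).elim hu' hr
  exact hm (u * r) hur (by rw [mul_smul]; exact hum)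

/-- The dimension of the localization of a module at a prime of its support is the height of
that prime inside the support. -/
theorem supportDim_localizedModule_eq_height (P : PrimeSpectrum R)
    (hP : P ∈ Module.support R N) :
    Module.supportDim (Localization.AtPrime P.asIdeal) (LocalizedModule P.asIdeal.primeCompl N) =
      ((Order.height (⟨P, hP⟩ : Module.support R N) : ℕ∞) : WithBot ℕ∞) := by
  let e := IsLocalization.AtPrime.primeSpectrumOrderIso (Localization.AtPrime P.asIdeal) P.asIdeal
  apply le_antisymm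
  · rw [Order.height_eq_krullDim_Iic]
    refine Order.krullDim_le_of_strictMono
      (fun Q : Module.support (Localization.AtPrime P.asIdeal)
          (LocalizedModule P.asIdeal.primeCompl N) =>
        (⟨⟨(e Q.1).1, Groth.Agent.Helper9.Depth.comap_mem_support_of_mem_support_localizedModule
          P Q.1 Q.2⟩, (e Q.1).2⟩ : Set.Iic (⟨P, hP⟩ : Module.support R N))) ?_
    intro Q Q' hlt
    exact e.strictMono hlt
  · rw [Order.height_eq_krullDim_Iic]
    have hle : ∀ x : Set.Iic (⟨P, hP⟩ : Module.support R N),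
        x.1.1 ≤ (⟨P.asIdeal, P.isPrime⟩ : PrimeSpectrum R) := fun x => x.2
    have hmem : ∀ x : Set.Iic (⟨P, hP⟩ : Module.support R N), e.symm ⟨x.1.1, hle x⟩ ∈
        Module.support (Localization.AtPrime P.asIdeal)
          (LocalizedModule P.asIdeal.primeCompl N) := by
      intro x
      obtain ⟨Q, hQ⟩ : ∃ Q, Q = e.symm ⟨x.1.1, hle x⟩ := ⟨_, rfl⟩
      rw [← hQ]
      have h1 : (e Q).1 ∈ Module.support R N := by
        rw [hQ, e.apply_symm_apply]
        exact x.1.2
      exact mem_support_localizedModule_of_comap P.asIdeal Q h1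
    refine Order.krullDim_le_of_strictMono
      (fun x : Set.Iic (⟨P, hP⟩ : Module.support R N) => (⟨e.symm ⟨x.1.1, hle x⟩, hmem x⟩ :
        Module.support (Localization.AtPrime P.asIdeal)
          (LocalizedModule P.asIdeal.primeCompl N))) ?_
    intro x y hxy
    have h2 : (⟨x.1.1, hle x⟩ : Set.Iic (⟨P.asIdeal, P.isPrime⟩ : PrimeSpectrum R)) <
        ⟨y.1.1, hle y⟩ := hxy
    exact e.symm.strictMono h2

end SuppLoc

section Fin

variable (A B : Type u) [CommRing A] [CommRing B] [Algebra A B]
  (M : Type u) [AddCommGroup M] [Module B M] [Module A M] [IsScalarTower A B M]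

/-- The action of `B / Ann M` on `M` by `A`-linear endomorphisms. -/
noncomputable def actHom : (B ⧸ Module.annihilator B M) →ₐ[A] Module.End A M :=
  Ideal.Quotient.liftₐ (Module.annihilator B M) (Algebra.lsmul A A M : B →ₐ[A] Module.End A M)
    (fun b hb => by
      ext m
      rw [Algebra.lsmul_coe, LinearMap.zero_apply]
      exact Module.mem_annihilator.mp hb m)

theorem actHom_mk (b : B) :
    actHom A B M (Ideal.Quotient.mk (Module.annihilator B M) b) =
      (Algebra.lsmul A A M : B →ₐ[A] Module.End A M) b := rfl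

theorem actHom_injective : Function.Injective (actHom A B M) := by
  rw [injective_iff_map_eq_zero]
  intro x hx
  obtain ⟨b, rfl⟩ := Ideal.Quotient.mk_surjective x
  rw [Ideal.Quotient.eq_zero_iff_mem, Module.mem_annihilator]
  intro m
  rw [actHom_mk] at hx
  have h1 := LinearMap.congr_fun hx m
  rw [Algebra.lsmul_coe, LinearMap.zero_apply] at h1
  exact h1

theorem isIntegral_quot [Module.Finite A M] :
    Algebra.IsIntegral A (B ⧸ Module.annihilator B M) :=
  ⟨fun x => (isIntegral_algHom_iff (actHom A B M) (actHom_injective A B M)).mp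
    (Algebra.IsIntegral.isIntegral _)⟩

theorem algebraMap_quot_eq :
    algebraMap A (B ⧸ Module.annihilator B M) =
      (Ideal.Quotient.mk (Module.annihilator B M)).comp (algebraMap A B) := rfl

/-- Lying over / going up for the support of a module finite over the base. -/
theorem exists_prime_over [Module.Finite A M] (I : Ideal B) (hI : Module.annihilator B M ≤ I)
    (P : Ideal A) [P.IsPrime] (h : I.comap (algebraMap A B) ≤ P) :
    ∃ Q : Ideal B, I ≤ Q ∧ Q.IsPrime ∧ Q.comap (algebraMap A B) = P := by
  haveI := isIntegral_quot A B M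
  have hπ : Function.Surjective (Ideal.Quotient.mk (Module.annihilator B M)) :=
    Ideal.Quotient.mk_surjective
  have hcm : (I.map (Ideal.Quotient.mk (Module.annihilator B M))).comap
      (Ideal.Quotient.mk (Module.annihilator B M)) = I := by
    rw [Ideal.comap_map_of_surjective _ hπ, ← RingHom.ker_eq_comap_bot, Ideal.mk_ker]
    exact sup_eq_left.mpr hI
  have h1 : (I.map (Ideal.Quotient.mk (Module.annihilator B M))).comap
      (algebraMap A (B ⧸ Module.annihilator B M)) ≤ P := by
    rw [algebraMap_quot_eq, ← Ideal.comap_comap, hcm]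
    exact h
  obtain ⟨Q', hQ'I, hQ'prime, hQ'P⟩ := Ideal.exists_ideal_over_prime_of_isIntegral P
    (I.map (Ideal.Quotient.mk (Module.annihilator B M))) h1
  refine ⟨Q'.comap (Ideal.Quotient.mk (Module.annihilator B M)), ?_,
    Ideal.comap_isPrime _ Q', ?_⟩
  · rw [← hcm]
    exact Ideal.comap_mono hQ'I
  · rw [Ideal.comap_comap, ← algebraMap_quot_eq]
    exact hQ'P

/-- Incomparability for the support of a module finite over the base. -/
theorem comap_lt_comap [Module.Finite A M] (Q Q' : Ideal B) [Q.IsPrime]
    (hQ : Module.annihilator B M ≤ Q) (hlt : Q < Q') :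
    Q.comap (algebraMap A B) < Q'.comap (algebraMap A B) := by
  haveI := isIntegral_quot A B M
  obtain ⟨x, hxQ', hxQ⟩ := SetLike.exists_of_lt hlt
  obtain ⟨f, hfmonic, hfx⟩ := Algebra.IsIntegral.isIntegral (R := A)
    (Ideal.Quotient.mk (Module.annihilator B M) x)
  refine Ideal.comap_lt_comap_of_root_mem_sdiff hlt.le ⟨hxQ', hxQ⟩ (p := f) ?_ ?_
  · exact (hfmonic.map _).ne_zero
  · apply hQ
    rw [← Ideal.Quotient.eq_zero_iff_mem, Polynomial.hom_eval₂]
    exact hfx

theorem comap_mem_support (Q : PrimeSpectrum B) (hQ : Q ∈ Module.support B M) :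
    PrimeSpectrum.comap (algebraMap A B) Q ∈ Module.support A M := by
  rw [Module.mem_support_iff'] at hQ ⊢
  obtain ⟨m, hm⟩ := hQ
  refine ⟨m, fun a ha h0 => hm (algebraMap A B a) ha ?_⟩
  rw [algebraMap_smul]
  exact h0

theorem comap_annihilator_le :
    (Module.annihilator B M).comap (algebraMap A B) ≤ Module.annihilator A M := by
  intro a ha
  rw [Ideal.mem_comap, Module.mem_annihilator] at ha
  rw [Module.mem_annihilator]
  intro m
  rw [← algebraMap_smul B a m]
  exact ha m

/-- The map on supports. -/
noncomputable def suppMap : Module.support B M → Module.support A M :=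
  fun Q => ⟨PrimeSpectrum.comap (algebraMap A B) Q.1, comap_mem_support A B M Q.1 Q.2⟩

theorem suppMap_strictMono [Module.Finite A M] : StrictMono (suppMap A B M) := by
  intro Q Q' hlt
  haveI := Q.1.isPrime
  have h1 : Q.1.asIdeal < Q'.1.asIdeal := hlt
  exact comap_lt_comap A B M Q.1.asIdeal Q'.1.asIdeal
    (Module.annihilator_le_of_mem_support Q.2) h1

/-- Chains in `Supp_A M` lift to chains in `Supp_B M`. -/
theorem exists_le_height [Module.Finite A M] :
    ∀ (n : ℕ) (P : Module.support A M), (n : ℕ∞) ≤ Order.height P →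
      ∃ Q : Module.support B M, PrimeSpectrum.comap (algebraMap A B) Q.1 = P.1 ∧
        (n : ℕ∞) ≤ Order.height Q := by
  haveI : Module.Finite B M := Module.Finite.of_restrictScalars_finite A B M
  intro n
  induction n with
  | zero =>
    intro P _
    haveI := P.1.isPrime
    have h1 : (Module.annihilator B M).comap (algebraMap A B) ≤ P.1.asIdeal :=
      le_trans (comap_annihilator_le A B M) (Module.annihilator_le_of_mem_support P.2)
    obtain ⟨Q, hQann, hQprime, hQP⟩ :=
      exists_prime_over A B M (Module.annihilator B M) le_rfl P.1.asIdeal h1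
    have hQsupp : (⟨Q, hQprime⟩ : PrimeSpectrum B) ∈ Module.support B M :=
      Module.mem_support_iff_of_finite.mpr hQann
    exact ⟨⟨⟨Q, hQprime⟩, hQsupp⟩, PrimeSpectrum.ext hQP, by simp⟩
  | succ n ih =>
    intro P h
    obtain ⟨P0, hP0lt, hP0⟩ : ∃ P0 < P, (n : ℕ∞) ≤ Order.height P0 := by
      by_contra hcon
      push Not at hcon
      have h1 : Order.height P ≤ (n : ℕ∞) := Order.height_le_coe_iff.mpr hcon
      have h2 : ((n + 1 : ℕ) : ℕ∞) ≤ (n : ℕ∞) := le_trans h h1
      have h3 : n + 1 ≤ n := by exact_mod_cast h2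
      omega
    obtain ⟨Q0, hQ0P0, hQ0⟩ := ih P0 hP0
    have hQ0ann : Module.annihilator B M ≤ Q0.1.asIdeal :=
      Module.annihilator_le_of_mem_support Q0.2
    have hle : Q0.1.asIdeal.comap (algebraMap A B) ≤ P.1.asIdeal := by
      have h1 : Q0.1.asIdeal.comap (algebraMap A B) = P0.1.asIdeal :=
        congrArg PrimeSpectrum.asIdeal hQ0P0
      rw [h1]
      exact hP0lt.le
    haveI := Q0.1.isPrime
    haveI := P.1.isPrime
    obtain ⟨Q, hQ0Q, hQprime, hQP⟩ :=
      exists_prime_over A B M Q0.1.asIdeal hQ0ann P.1.asIdeal hle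
    have hQ0Q' : Q0.1 ≤ (⟨Q, hQprime⟩ : PrimeSpectrum B) := hQ0Q
    have hQsupp : (⟨Q, hQprime⟩ : PrimeSpectrum B) ∈ Module.support B M :=
      Module.mem_support_mono hQ0Q' Q0.2
    refine ⟨⟨⟨Q, hQprime⟩, hQsupp⟩, PrimeSpectrum.ext hQP, ?_⟩
    have hlt : Q0 < ⟨⟨Q, hQprime⟩, hQsupp⟩ := by
      refine lt_of_le_of_ne hQ0Q' ?_
      intro heq
      have h1 : P0.1 = P.1 := by
        rw [← hQ0P0, heq]
        exact PrimeSpectrum.ext hQP
      exact hP0lt.ne (Subtype.ext h1)
    calc ((n + 1 : ℕ) : ℕ∞) = (n : ℕ∞) + 1 := by push_cast; rfl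
      _ ≤ Order.height Q0 + 1 := by gcongr
      _ ≤ _ := Order.height_add_one_le hlt

/-- **Dimension along a finite restriction of scalars.** -/
theorem supportDim_eq_iSup [Module.Finite A M] (p : Ideal A) [p.IsPrime] :
    Module.supportDim (Localization.AtPrime p) (LocalizedModule p.primeCompl M) =
      ⨆ q ∈ {q : PrimeSpectrum B | q.asIdeal.comap (algebraMap A B) = p ∧
          q ∈ Module.support B M},
        Module.supportDim (Localization.AtPrime q.asIdeal)
          (LocalizedModule q.asIdeal.primeCompl M) := by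
  obtain ⟨X, hX⟩ : ∃ X : WithBot ℕ∞, X = ⨆ q ∈ {q : PrimeSpectrum B |
      q.asIdeal.comap (algebraMap A B) = p ∧ q ∈ Module.support B M},
        Module.supportDim (Localization.AtPrime q.asIdeal)
          (LocalizedModule q.asIdeal.primeCompl M) := ⟨_, rfl⟩
  rw [← hX]
  have hXge : ∀ q : PrimeSpectrum B, q.asIdeal.comap (algebraMap A B) = p →
      q ∈ Module.support B M →
      Module.supportDim (Localization.AtPrime q.asIdeal)
        (LocalizedModule q.asIdeal.primeCompl M) ≤ X := by
    intro q hq1 hq2
    rw [hX]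
    exact le_iSup₂ (f := fun (q : PrimeSpectrum B) (_ : q ∈ {q : PrimeSpectrum B |
      q.asIdeal.comap (algebraMap A B) = p ∧ q ∈ Module.support B M}) =>
        Module.supportDim (Localization.AtPrime q.asIdeal)
          (LocalizedModule q.asIdeal.primeCompl M)) q ⟨hq1, hq2⟩
  have hXle : ∀ Y : WithBot ℕ∞, (∀ q : PrimeSpectrum B,
      q.asIdeal.comap (algebraMap A B) = p → q ∈ Module.support B M →
      Module.supportDim (Localization.AtPrime q.asIdeal)
        (LocalizedModule q.asIdeal.primeCompl M) ≤ Y) → X ≤ Y := by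
    intro Y hY
    rw [hX]
    exact iSup₂_le fun q hq => hY q hq.1 hq.2
  by_cases hp : (⟨p, inferInstance⟩ : PrimeSpectrum A) ∈ Module.support A M
  · have h1 := supportDim_localizedModule_eq_height (N := M) (⟨p, inferInstance⟩ : PrimeSpectrum A) hp
    refine h1.trans ?_
    apply le_antisymm
    · -- lift chains
      obtain ⟨Q0, hQ0P, -⟩ := exists_le_height A B M 0 ⟨⟨p, inferInstance⟩, hp⟩ (by simp)
      have hQ0 : Q0.1.asIdeal.comap (algebraMap A B) = p :=
        congrArg PrimeSpectrum.asIdeal hQ0P
      have hXbot : X ≠ ⊥ := by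
        intro hbot
        have h2 := hXge Q0.1 hQ0 Q0.2
        rw [hbot, le_bot_iff, Module.supportDim_eq_bot_iff_subsingleton] at h2
        exact (not_subsingleton_iff_nontrivial.mpr (Module.mem_support_iff.mp Q0.2)) h2
      obtain ⟨r, hr⟩ := WithBot.ne_bot_iff_exists.mp hXbot
      rw [← hr, WithBot.coe_le_coe]
      refine ENat.forall_natCast_le_iff_le.mp fun n hn => ?_
      obtain ⟨Q, hQP, hQn⟩ := exists_le_height A B M n ⟨⟨p, inferInstance⟩, hp⟩ hn
      have hQ : Q.1.asIdeal.comap (algebraMap A B) = p := congrArg PrimeSpectrum.asIdeal hQP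
      have h2 := hXge Q.1 hQ Q.2
      rw [supportDim_localizedModule_eq_height (N := M) Q.1 Q.2, ← hr, WithBot.coe_le_coe] at h2
      exact le_trans hQn h2
    · refine hXle _ fun q hq1 hq2 => ?_
      rw [supportDim_localizedModule_eq_height (N := M) q hq2, WithBot.coe_le_coe]
      have h2 := Order.height_le_height_apply_of_strictMono (suppMap A B M)
        (suppMap_strictMono A B M) ⟨q, hq2⟩
      have h3 : suppMap A B M ⟨q, hq2⟩ = ⟨⟨p, inferInstance⟩, hp⟩ :=
        Subtype.ext (PrimeSpectrum.ext hq1)
      rw [h3] at h2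
      exact h2
  · haveI : Subsingleton (LocalizedModule p.primeCompl M) := Module.notMem_support_iff.mp hp
    rw [Module.supportDim_eq_bot_of_subsingleton]
    symm
    rw [eq_bot_iff]
    refine hXle _ fun q hq1 hq2 => ?_
    exfalso
    apply hp
    have h2 := comap_mem_support A B M q hq2
    have h3 : PrimeSpectrum.comap (algebraMap A B) q = ⟨p, inferInstance⟩ :=
      PrimeSpectrum.ext hq1
    rw [h3] at h2
    exact h2

end Fin

end Groth.Agent.Lead.FinRes
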