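import Mathlib
import Groth.Prelude.Def_CAlg
import Groth.Agent.Lib.Lead.FinRes1
import Groth.Agent.Lib.Helper9.Depth

/-!
# Modules finite over a base ring: depth of localizations

For `A → B` Noetherian, `M` a `B`-module finite over `A` and `p` a prime of `A`:
`depth M_p = inf_q depth M_q`, `q` running over the primes of `B` over `p` in the support of `M`.
-/

set_option autoImplicit false
set_option linter.style.haveILetI false
set_option linter.unusedSectionVars false

universe u

open LocCoh RingTheory.Sequence IsLocalRing Pointwise
open Groth.Agent.Lead.Depth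

namespace Groth.Agent.Lead.FinRes

section OneRing

variable {R : Type u} [CommRing R] [IsNoetherianRing R]

theorem depth_zero_iff (M : Type u) [AddCommGroup M] [Module R M] [Module.Finite R M]
    (p : Ideal R) [p.IsPrime] :
    LocCoh.depth (Localization.AtPrime p) (LocalizedModule p.primeCompl M) = 0 ↔
      p ∈ associatedPrimes R M := by
  rw [Groth.Agent.Helper9.Depth.depth_eq_zero_iff_mem_associatedPrimes]
  rw [← Module.associatedPrimes.preimage_comap_associatedPrimes_eq_associatedPrimes_of_isLocalizedModule
    p.primeCompl (Localization.AtPrime p) (LocalizedModule.mkLinearMap p.primeCompl M)]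
  rw [Set.mem_preimage]
  have : Ideal.comap (algebraMap R (Localization.AtPrime p))
      (maximalIdeal (Localization.AtPrime p)) = p :=
    Localization.AtPrime.under_maximalIdeal
  rw [this]

/-- `depth (M/xM)_P + 1 = depth M_P` for `x ∈ P` regular on `M_P`. -/
theorem depth_localized_quotSMulTop_add_one (P : Ideal R) [P.IsPrime] (M : Type u)
    [AddCommGroup M] [Module R M] [Module.Finite R M]
    [Nontrivial (LocalizedModule P.primeCompl M)] (x : R) (hx : x ∈ P)
    (hreg : IsSMulRegular (LocalizedModule P.primeCompl M)
      (algebraMap R (Localization.AtPrime P) x)) :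
    LocCoh.depth (Localization.AtPrime P) (LocalizedModule P.primeCompl (QuotSMulTop x M)) + 1 =
      LocCoh.depth (Localization.AtPrime P) (LocalizedModule P.primeCompl M) := by
  have hx'mem : algebraMap R (Localization.AtPrime P) x ∈ maximalIdeal (Localization.AtPrime P) :=
    (IsLocalization.AtPrime.to_map_mem_maximal_iff _ P x).mpr hx
  rw [depth_congr (R := Localization.AtPrime P) (localizedQuotSMulTopEquiv P x M), depth_def,
    depth_def]
  exact idealDepth_quotSMulTop_add_one (maximalIdeal (Localization.AtPrime P))
    (LocalizedModule P.primeCompl M) (maximalIdeal_smul_top_ne_top _) _ hx'mem hreg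

/-- If `depth M_P ≥ 1` there is `a ∈ P` regular on `M_P`. -/
theorem exists_regular_of_one_le_depth (P : Ideal R) [P.IsPrime] (M : Type u)
    [AddCommGroup M] [Module R M] [Module.Finite R M]
    [Nontrivial (LocalizedModule P.primeCompl M)]
    (h : (1 : ℕ∞) ≤ LocCoh.depth (Localization.AtPrime P) (LocalizedModule P.primeCompl M)) :
    ∃ a ∈ P, IsSMulRegular (LocalizedModule P.primeCompl M)
      (algebraMap R (Localization.AtPrime P) a) := by
  obtain ⟨rs, hlen, hreg, hmem⟩ := exists_of_le_idealDepth (maximalIdeal (Localization.AtPrime P))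
    (LocalizedModule P.primeCompl M) (maximalIdeal_smul_top_ne_top _) 1 (by exact_mod_cast h)
  obtain ⟨x, rfl⟩ := List.length_eq_one_iff.mp hlen
  have hxm : x ∈ maximalIdeal (Localization.AtPrime P) := hmem x (by simp)
  have hxreg : IsSMulRegular (LocalizedModule P.primeCompl M) x :=
    ((isWeaklyRegular_cons_iff _ x []).mp hreg).1
  obtain ⟨a, s, rfl⟩ := IsLocalization.exists_mk'_eq P.primeCompl x
  refine ⟨a, (IsLocalization.AtPrime.mk'_mem_maximal_iff (Localization.AtPrime P) P a s).mp hxm, ?_⟩
  have h1 : algebraMap R (Localization.AtPrime P) a =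
      IsLocalization.mk' (Localization.AtPrime P) a s * algebraMap R (Localization.AtPrime P) s :=
    (IsLocalization.mk'_spec _ a s).symm
  rw [h1]
  exact hxreg.mul (IsUnit.isSMulRegular _ (IsLocalization.map_units _ s))

end OneRing

section TwoRings

variable {A B : Type u} [CommRing A] [CommRing B] [Algebra A B]

section Gen

variable (M : Type u) [AddCommGroup M] [Module B M] [Module A M] [IsScalarTower A B M]

theorem smul_top_eq (a : A) :
    (a • (⊤ : Submodule A M)) =
      ((algebraMap A B a) • (⊤ : Submodule B M)).restrictScalars A := by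
  ext m
  rw [Submodule.restrictScalars_mem, Submodule.mem_smul_pointwise_iff_exists,
    Submodule.mem_smul_pointwise_iff_exists]
  constructor
  · rintro ⟨m', -, rfl⟩
    exact ⟨m', Submodule.mem_top, algebraMap_smul B a m'⟩
  · rintro ⟨m', -, rfl⟩
    exact ⟨m', Submodule.mem_top, (algebraMap_smul B a m').symm⟩

/-- `M / aM ≅ M / (a·1_B) M` as `A`-modules. -/
noncomputable def bridge (a : A) : QuotSMulTop a M ≃ₗ[A] QuotSMulTop (algebraMap A B a) M :=
  (Submodule.quotEquivOfEq _ _ (smul_top_eq M a)).trans
    (Submodule.Quotient.restrictScalarsEquiv A ((algebraMap A B a) • (⊤ : Submodule B M)))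

theorem depthA_quot_add_one [IsNoetherianRing A] [Module.Finite A M] (p : Ideal A) [p.IsPrime]
    [Nontrivial (LocalizedModule p.primeCompl M)] (a : A) (ha : a ∈ p)
    (hreg : IsSMulRegular (LocalizedModule p.primeCompl M)
      (algebraMap A (Localization.AtPrime p) a)) :
    LocCoh.depth (Localization.AtPrime p)
        (LocalizedModule p.primeCompl (QuotSMulTop (algebraMap A B a) M)) + 1 =
      LocCoh.depth (Localization.AtPrime p) (LocalizedModule p.primeCompl M) := by
  rw [← depth_localized_quotSMulTop_add_one p M a ha hreg]
  congr 1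
  exact (depth_congr (R := Localization.AtPrime p)
    (IsLocalizedModule.mapEquiv p.primeCompl
      (LocalizedModule.mkLinearMap p.primeCompl (QuotSMulTop a M))
      (LocalizedModule.mkLinearMap p.primeCompl (QuotSMulTop (algebraMap A B a) M))
      (Localization.AtPrime p) (bridge M a))).symm

/-- Transfer of regularity of an element of `A` from `M_p` to `M_q`, `q` over `p`. -/
theorem isSMulRegular_transfer (p : Ideal A) [p.IsPrime] (q : Ideal B) [q.IsPrime]
    (hqp : q.comap (algebraMap A B) = p) (a : A)
    (h : IsSMulRegular (LocalizedModule p.primeCompl M)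
      (algebraMap A (Localization.AtPrime p) a)) :
    IsSMulRegular (LocalizedModule q.primeCompl M)
      (algebraMap B (Localization.AtPrime q) (algebraMap A B a)) := by
  rw [isSMulRegular_localizedModule_iff] at h ⊢
  rintro m ⟨u, hu, hum⟩
  obtain ⟨v, hv, hvm⟩ := h (u • m) ⟨1, Submonoid.one_mem _, by
    rw [one_smul, smul_comm, ← algebraMap_smul B a m]
    exact hum⟩
  refine ⟨algebraMap A B v * u, ?_, ?_⟩
  · intro hmem
    rcases (inferInstance : q.IsPrime).mem_or_mem hmem with h1 | h1
    · apply hv
      rw [← hqp]
      exact h1
    · exact hu h1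
  · rw [mul_smul, algebraMap_smul]
    exact hvm

theorem nontrivial_localized_of_comap (p : Ideal A) [p.IsPrime] (q : Ideal B) [q.IsPrime]
    (hqp : q.comap (algebraMap A B) = p)
    (hMq : Nontrivial (LocalizedModule q.primeCompl M)) :
    Nontrivial (LocalizedModule p.primeCompl M) := by
  have h1 : (⟨q, inferInstance⟩ : PrimeSpectrum B) ∈ Module.support B M :=
    Module.mem_support_iff.mpr hMq
  have h2 := comap_mem_support A B M _ h1
  have h3 : PrimeSpectrum.comap (algebraMap A B) (⟨q, inferInstance⟩ : PrimeSpectrum B) =
      ⟨p, inferInstance⟩ := PrimeSpectrum.ext hqp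
  rw [h3] at h2
  exact Module.mem_support_iff.mp h2

theorem finite_quotSMulTop [Module.Finite A M] (a : A) :
    Module.Finite A (QuotSMulTop (algebraMap A B a) M) :=
  Module.Finite.equiv (bridge M a)

/-- Associated primes over `A` lift to associated primes over `B`. -/
theorem exists_ass_over [IsNoetherianRing A] [IsNoetherianRing B] [Module.Finite B M]
    (p : Ideal A) (hp : p ∈ associatedPrimes A M) :
    ∃ q ∈ associatedPrimes B M, q.comap (algebraMap A B) = p := by
  obtain ⟨hprime, m, hm⟩ := (isAssociatedPrime_iff (M := M)).mp hp
  have key : ∀ a : A, a ∈ p ↔ a • m = 0 := fun a => by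
    rw [hm, Submodule.mem_colon_singleton, Submodule.mem_bot]
  obtain ⟨I, hI⟩ : ∃ I : Ideal B, I = LinearMap.ker (LinearMap.toSpanSingleton B M m) :=
    ⟨_, rfl⟩
  have hIcomap : I.comap (algebraMap A B) = p := by
    ext a
    rw [Ideal.mem_comap, hI, LinearMap.mem_ker, LinearMap.toSpanSingleton_apply, algebraMap_smul,
      key]
  haveI := hprime
  have hpmin : p ∈ (I.comap (algebraMap A B)).minimalPrimes := by
    rw [hIcomap, Ideal.minimalPrimes_eq_subsingleton_self]
    exact Set.mem_singleton p
  obtain ⟨q, hqmin, hqp⟩ := Ideal.exists_minimalPrimes_comap_eq (algebraMap A B) p hpmin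
  refine ⟨q, ?_, hqp⟩
  have hann : Module.annihilator B (Submodule.span B {m}) = I := by
    rw [hI]
    ext b
    rw [LinearMap.mem_ker, LinearMap.toSpanSingleton_apply]
    exact Submodule.mem_annihilator_span_singleton m b
  have h1 : q ∈ associatedPrimes B (Submodule.span B {m}) := by
    apply Module.associatedPrimes.minimalPrimes_annihilator_subset_associatedPrimes
    rw [hann]
    exact hqmin
  exact associatedPrimes.subset_of_injective (f := (Submodule.span B {m}).subtype)
    (Submodule.injective_subtype _) h1

end Gen

variable [IsNoetherianRing A] [IsNoetherianRing B]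

/-- `depth M_p ≤ depth M_q` for `q` over `p` in the support. -/
theorem le_depth_of_le_depth (p : Ideal A) [p.IsPrime] (q : Ideal B) [q.IsPrime]
    (hqp : q.comap (algebraMap A B) = p) :
    ∀ (n : ℕ) (M : Type u) [AddCommGroup M] [Module B M] [Module A M] [IsScalarTower A B M]
      [Module.Finite A M],
      Nontrivial (LocalizedModule q.primeCompl M) →
      (n : ℕ∞) ≤ LocCoh.depth (Localization.AtPrime p) (LocalizedModule p.primeCompl M) →
      (n : ℕ∞) ≤ LocCoh.depth (Localization.AtPrime q) (LocalizedModule q.primeCompl M) := by
  intro n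
  induction n with
  | zero =>
    intro M _ _ _ _ _ _ _
    simp
  | succ n ih =>
    intro M _ _ _ _ _ hMq h
    haveI := hMq
    haveI : Module.Finite B M := Module.Finite.of_restrictScalars_finite A B M
    haveI hMp : Nontrivial (LocalizedModule p.primeCompl M) :=
      nontrivial_localized_of_comap M p q hqp hMq
    have h1 : (1 : ℕ∞) ≤ LocCoh.depth (Localization.AtPrime p)
        (LocalizedModule p.primeCompl M) :=
      le_trans (by exact_mod_cast Nat.le_add_left 1 n) h
    obtain ⟨a, hap, hareg⟩ := exists_regular_of_one_le_depth p M h1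
    have hbq : algebraMap A B a ∈ q := by
      rw [← hqp] at hap
      exact hap
    have hbreg := isSMulRegular_transfer M p q hqp a hareg
    have hA := depthA_quot_add_one (B := B) M p a hap hareg
    have hB := depth_localized_quotSMulTop_add_one q M (algebraMap A B a) hbq hbreg
    haveI : Module.Finite A (QuotSMulTop (algebraMap A B a) M) :=
      finite_quotSMulTop M a
    have hNq : Nontrivial (LocalizedModule q.primeCompl (QuotSMulTop (algebraMap A B a) M)) := by
      haveI : Nontrivial (QuotSMulTop (algebraMap B (Localization.AtPrime q) (algebraMap A B a))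
          (LocalizedModule q.primeCompl M)) :=
        nontrivial_quotSMulTop_of_mem_maximalIdeal _
          ((IsLocalization.AtPrime.to_map_mem_maximal_iff _ q _).mpr hbq)
      exact (localizedQuotSMulTopEquiv q (algebraMap A B a) M).toEquiv.nontrivial
    have h2 : (n : ℕ∞) ≤ LocCoh.depth (Localization.AtPrime p)
        (LocalizedModule p.primeCompl (QuotSMulTop (algebraMap A B a) M)) := by
      rw [← hA] at h
      push_cast at h
      exact (ENat.add_le_add_iff_right (by simp)).mp h
    have h3 := ih (QuotSMulTop (algebraMap A B a) M) hNq h2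
    rw [← hB]
    push_cast
    exact add_le_add_left h3 1

/-- There is `q` over `p` in the support with `depth M_q ≤ depth M_p`. -/
theorem exists_depth_le (p : Ideal A) [p.IsPrime] :
    ∀ (n : ℕ) (M : Type u) [AddCommGroup M] [Module B M] [Module A M] [IsScalarTower A B M]
      [Module.Finite A M],
      Nontrivial (LocalizedModule p.primeCompl M) →
      LocCoh.depth (Localization.AtPrime p) (LocalizedModule p.primeCompl M) = n →
      ∃ q : PrimeSpectrum B, q.asIdeal.comap (algebraMap A B) = p ∧ q ∈ Module.support B M ∧
        LocCoh.depth (Localization.AtPrime q.asIdeal) (LocalizedModule q.asIdeal.primeCompl M)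
          ≤ n := by
  intro n
  induction n with
  | zero =>
    intro M _ _ _ _ _ hMp hd
    haveI : Module.Finite B M := Module.Finite.of_restrictScalars_finite A B M
    have hp : p ∈ associatedPrimes A M := (depth_zero_iff (R := A) M p).mp (by simpa using hd)
    obtain ⟨q, hq, hqp⟩ := exists_ass_over (B := B) M p hp
    haveI : q.IsPrime := hq.isPrime
    have hdq : LocCoh.depth (Localization.AtPrime q) (LocalizedModule q.primeCompl M) = 0 :=
      (depth_zero_iff (R := B) M q).mpr hq
    refine ⟨⟨q, inferInstance⟩, hqp, ?_, ?_⟩
    · rw [Module.mem_support_iff]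
      by_contra hns
      rw [not_nontrivial_iff_subsingleton] at hns
      have h1 : LocCoh.depth (Localization.AtPrime q) (LocalizedModule q.primeCompl M) = ⊤ :=
        depth_eq_top_of_subsingleton _
      rw [hdq] at h1
      exact absurd h1 (by simp)
    · show LocCoh.depth (Localization.AtPrime q) (LocalizedModule q.primeCompl M) ≤ _
      rw [hdq]
      exact zero_le
  | succ n ih =>
    intro M _ _ _ _ _ hMp hd
    haveI := hMp
    haveI : Module.Finite B M := Module.Finite.of_restrictScalars_finite A B M
    have h1 : (1 : ℕ∞) ≤ LocCoh.depth (Localization.AtPrime p)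
        (LocalizedModule p.primeCompl M) := by
      rw [hd]
      exact_mod_cast Nat.le_add_left 1 n
    obtain ⟨a, hap, hareg⟩ := exists_regular_of_one_le_depth p M h1
    have hA := depthA_quot_add_one (B := B) M p a hap hareg
    haveI : Module.Finite A (QuotSMulTop (algebraMap A B a) M) :=
      finite_quotSMulTop M a
    have hdq : LocCoh.depth (Localization.AtPrime p)
        (LocalizedModule p.primeCompl (QuotSMulTop (algebraMap A B a) M)) = n := by
      rw [hd] at hA
      have h2 : LocCoh.depth (Localization.AtPrime p)
          (LocalizedModule p.primeCompl (QuotSMulTop (algebraMap A B a) M)) + 1 =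
          (n : ℕ∞) + 1 := by
        rw [hA]; push_cast; rfl
      exact (ENat.add_left_injective_of_ne_top (by simp)) h2
    have hNp : Nontrivial (LocalizedModule p.primeCompl (QuotSMulTop (algebraMap A B a) M)) := by
      by_contra hns
      rw [not_nontrivial_iff_subsingleton] at hns
      have h2 : LocCoh.depth (Localization.AtPrime p)
          (LocalizedModule p.primeCompl (QuotSMulTop (algebraMap A B a) M)) = ⊤ :=
        depth_eq_top_of_subsingleton _
      rw [hdq] at h2
      exact absurd h2 (by simp)
    obtain ⟨q, hqp, hqsupp, hqd⟩ := ih (QuotSMulTop (algebraMap A B a) M) hNp hdq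
    have hqM : q ∈ Module.support B M :=
      Module.support_subset_of_surjective (Submodule.mkQ ((algebraMap A B a) • (⊤ : Submodule B M)))
        (Submodule.mkQ_surjective _) hqsupp
    refine ⟨q, hqp, hqM, ?_⟩
    haveI : Nontrivial (LocalizedModule q.asIdeal.primeCompl M) := Module.mem_support_iff.mp hqM
    have hbq : algebraMap A B a ∈ q.asIdeal := by
      rw [← hqp] at hap
      exact hap
    have hbreg := isSMulRegular_transfer M p q.asIdeal hqp a hareg
    have hB := depth_localized_quotSMulTop_add_one q.asIdeal M (algebraMap A B a) hbq hbreg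
    rw [← hB]
    push_cast
    exact add_le_add_left hqd 1

/-- **Depth along a finite restriction of scalars.** -/
theorem depth_eq_iInf (M : Type u) [AddCommGroup M] [Module B M] [Module A M]
    [IsScalarTower A B M] [Module.Finite A M] (p : Ideal A) [p.IsPrime] :
    LocCoh.depth (Localization.AtPrime p) (LocalizedModule p.primeCompl M) =
      ⨅ q ∈ {q : PrimeSpectrum B | q.asIdeal.comap (algebraMap A B) = p ∧
          q ∈ Module.support B M},
        LocCoh.depth (Localization.AtPrime q.asIdeal)
          (LocalizedModule q.asIdeal.primeCompl M) := by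
  apply le_antisymm
  · refine le_iInf₂ fun q hq => ?_
    have hMq : Nontrivial (LocalizedModule q.asIdeal.primeCompl M) :=
      Module.mem_support_iff.mp hq.2
    exact ENat.forall_natCast_le_iff_le.mp fun n hn =>
      le_depth_of_le_depth p q.asIdeal hq.1 n M hMq hn
  · by_cases hMp : Nontrivial (LocalizedModule p.primeCompl M)
    · have hne := depth_ne_top (R := Localization.AtPrime p) (LocalizedModule p.primeCompl M)
      obtain ⟨n, hn⟩ := ENat.ne_top_iff_exists.mp hne
      obtain ⟨q, hqp, hqs, hqd⟩ := exists_depth_le (B := B) p n M hMp hn.symm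
      rw [← hn]
      exact le_trans (iInf₂_le q ⟨hqp, hqs⟩) hqd
    · rw [not_nontrivial_iff_subsingleton] at hMp
      rw [depth_eq_top_of_subsingleton]
      exact le_top

end TwoRings

end Groth.Agent.Lead.FinRes
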