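import Mathlib
import Groth.Prelude.Def_CAlg
import Groth.Agent.Lib.Lead.FinRes2
import Groth.Agent.Lib.Lead.DimF3

/-!
# Localizing a local ring at its maximal ideal; order-theoretic cores for S4718/S4719
-/

set_option autoImplicit false
set_option linter.style.haveILetI false
set_option linter.unusedSectionVars false

universe u

open LocCoh IsLocalRing
open Groth.Agent.Lead.Depth

namespace Groth.Agent.Lead.FinRes

section Local

variable {A : Type u} [CommRing A] [IsLocalRing A]

theorem algebraMap_atMaximal_surjective :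
    Function.Surjective (algebraMap A (Localization.AtPrime (maximalIdeal A))) := by
  have hle : (maximalIdeal A).primeCompl ≤ IsUnit.submonoid A := by
    intro x hx
    exact IsLocalRing.notMem_maximalIdeal.mp hx
  intro y
  let e : A ≃ₐ[A] Localization.AtPrime (maximalIdeal A) := IsLocalization.atUnits A _ hle
  refine ⟨e.symm y, ?_⟩
  calc algebraMap A _ (e.symm y) = e (algebraMap A A (e.symm y)) := (e.commutes _).symm
    _ = y := by simp

theorem mkLinearMap_atMaximal_bijective (M : Type u) [AddCommGroup M] [Module A M] :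
    Function.Bijective (LocalizedModule.mkLinearMap (maximalIdeal A).primeCompl M) := by
  constructor
  · rw [← LinearMap.ker_eq_bot, LinearMap.ker_eq_bot']
    intro m hm
    rw [LocalizedModule.mkLinearMap_apply, localizedModule_mk_eq_zero_iff] at hm
    obtain ⟨u, hu, hum⟩ := hm
    have hunit : IsUnit u := IsLocalRing.notMem_maximalIdeal.mp hu
    exact hunit.smul_eq_zero.mp hum
  · intro z
    induction z using LocalizedModule.induction_on with
    | h m s =>
      have hunit : IsUnit (s : A) := IsLocalRing.notMem_maximalIdeal.mp s.2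
      obtain ⟨v, hv⟩ := hunit
      refine ⟨(↑v⁻¹ : A) • m, ?_⟩
      rw [LocalizedModule.mkLinearMap_apply, LocalizedModule.mk_eq]
      refine ⟨1, ?_⟩
      rw [one_smul, one_smul, one_smul, Submonoid.smul_def, ← hv, smul_smul, Units.mul_inv,
        one_smul]

theorem depth_atMaximal [IsNoetherianRing A] (M : Type u) [AddCommGroup M] [Module A M]
    [Module.Finite A M] :
    LocCoh.depth (Localization.AtPrime (maximalIdeal A))
      (LocalizedModule (maximalIdeal A).primeCompl M) = LocCoh.depth A M := by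
  rw [← depth_eq_of_surjective algebraMap_atMaximal_surjective
    (LocalizedModule (maximalIdeal A).primeCompl M)]
  exact (depth_congr (LinearEquiv.ofBijective _ (mkLinearMap_atMaximal_bijective M))).symm

theorem supportDim_atMaximal [IsNoetherianRing A] (M : Type u) [AddCommGroup M] [Module A M]
    [Module.Finite A M] :
    Module.supportDim (Localization.AtPrime (maximalIdeal A))
      (LocalizedModule (maximalIdeal A).primeCompl M) = Module.supportDim A M := by
  rw [← Groth.Agent.Lead.DimF.supportDim_eq_of_surjective algebraMap_atMaximal_surjective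
    (LocalizedModule (maximalIdeal A).primeCompl M)]
  exact (Module.supportDim_eq_of_equiv
    (LinearEquiv.ofBijective _ (mkLinearMap_atMaximal_bijective M))).symm

end Local

section Core

variable {ι : Type*}

theorem core_cm (S : Set ι) (dim : ι → WithBot ℕ∞) (dep : ι → ℕ∞) (D : WithBot ℕ∞) (d : ℕ∞)
    (hD : D = ⨆ q ∈ S, dim q) (hd : d = ⨅ q ∈ S, dep q)
    (hle : ∀ q ∈ S, ((dep q : ℕ∞) : WithBot ℕ∞) ≤ dim q) (hne : D ≠ ⊥) :
    D = ((d : ℕ∞) : WithBot ℕ∞) ↔
      (∀ q ∈ S, dim q = ((dep q : ℕ∞) : WithBot ℕ∞)) ∧ (∀ q ∈ S, ∀ q' ∈ S, dim q = dim q') := by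
  have hdimle : ∀ q ∈ S, dim q ≤ D := fun q hq => by
    rw [hD]; exact le_iSup₂ (f := fun q (_ : q ∈ S) => dim q) q hq
  have hdle : ∀ q ∈ S, d ≤ dep q := fun q hq => by
    rw [hd]; exact iInf₂_le (f := fun q (_ : q ∈ S) => dep q) q hq
  constructor
  · intro hCM
    have key : ∀ q ∈ S, dim q = ((dep q : ℕ∞) : WithBot ℕ∞) ∧ dim q = D := by
      intro q hq
      have h1 : ((d : ℕ∞) : WithBot ℕ∞) ≤ ((dep q : ℕ∞) : WithBot ℕ∞) :=
        WithBot.coe_le_coe.mpr (hdle q hq)
      have h2 : dim q ≤ ((d : ℕ∞) : WithBot ℕ∞) := hCM ▸ hdimle q hq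
      have h3 := hle q hq
      refine ⟨le_antisymm (h2.trans h1) h3, ?_⟩
      rw [hCM]
      exact le_antisymm h2 (h1.trans h3)
    exact ⟨fun q hq => (key q hq).1, fun q hq q' hq' => (key q hq).2.trans (key q' hq').2.symm⟩
  · rintro ⟨h1, h2⟩
    obtain ⟨q0, hq0⟩ : ∃ q0, q0 ∈ S := by
      by_contra hcon
      push Not at hcon
      apply hne
      rw [hD, eq_bot_iff]
      exact iSup₂_le fun q hq => absurd hq (hcon q)
    have hDq0 : D = dim q0 := by
      apply le_antisymm
      · rw [hD]
        exact iSup₂_le fun q hq => (h2 q hq q0 hq0).le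
      · exact hdimle q0 hq0
    have hdepeq : ∀ q ∈ S, dep q = dep q0 := by
      intro q hq
      have h3 : ((dep q : ℕ∞) : WithBot ℕ∞) = ((dep q0 : ℕ∞) : WithBot ℕ∞) := by
        rw [← h1 q hq, ← h1 q0 hq0]
        exact h2 q hq q0 hq0
      exact WithBot.coe_injective h3
    have hdq0 : d = dep q0 := by
      apply le_antisymm (hdle q0 hq0)
      rw [hd]
      exact le_iInf₂ fun q hq => (hdepeq q hq).ge
    rw [hDq0, hdq0]
    exact h1 q0 hq0

theorem core_le (S : Set ι) (dep : ι → ℕ∞) (x : WithBot ℕ∞)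
    (h : ∀ q ∈ S, x ≤ ((dep q : ℕ∞) : WithBot ℕ∞)) :
    x ≤ (((⨅ q ∈ S, dep q : ℕ∞)) : WithBot ℕ∞) := by
  rcases eq_or_ne x ⊥ with rfl | hx
  · exact bot_le
  · obtain ⟨y, rfl⟩ := WithBot.ne_bot_iff_exists.mp hx
    exact WithBot.coe_le_coe.mpr (le_iInf₂ fun q hq => WithBot.coe_le_coe.mp (h q hq))

end Core

end Groth.Agent.Lead.FinRes
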