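import Mathlib
import Groth.Agent.Lib.Lead.FibLoc1
import Groth.Agent.Lib.Lead.DimF3
import Groth.Agent.Lib.Lead.FinRes3

/-!
# Depth and dimension of `(F ⊗_A E)_q` via the fibre module

For `A → B` Noetherian, `q` a prime of `B`, `p = q ∩ A`, `E` a finite `A`-module, `F` a finite
`B`-module flat over `A`:
`depth (F ⊗_A E)_q = depth E_p + depth (F_q / p F_q)` and (for `E_p ≠ 0`) the same for dimensions.
-/

set_option autoImplicit false
set_option linter.style.haveILetI false
set_option linter.unusedSectionVars false

universe u

open TensorProduct LocCoh IsLocalRing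

namespace Groth.Agent.Lead.FibLoc

open Groth.Agent.Lead.Depth Groth.Agent.Lead.Fib Groth.Agent.Lead.FlatDepth Groth.Agent.Lead.DimF

variable (A B : Type u) [CommRing A] [CommRing B] [Algebra A B]

theorem depth_dim_tensor [IsNoetherianRing A] [IsNoetherianRing B] (q : Ideal B) [q.IsPrime]
    (E : Type u) [AddCommGroup E] [Module A E] [Module.Finite A E]
    (F : Type u) [AddCommGroup F] [Module B F] [Module A F] [IsScalarTower A B F]
    [Module.Finite B F] [Module.Flat A F] :
    LocCoh.depth (Localization.AtPrime q) (LocalizedModule q.primeCompl (F ⊗[A] E)) =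
      LocCoh.depth (Localization.AtPrime (q.comap (algebraMap A B)))
          (LocalizedModule (q.comap (algebraMap A B)).primeCompl E) +
        LocCoh.depth (Localization.AtPrime q) (EGA4.FibLocMod A B q F) ∧
    (Nontrivial (LocalizedModule (q.comap (algebraMap A B)).primeCompl E) →
      Module.supportDim (Localization.AtPrime q) (LocalizedModule q.primeCompl (F ⊗[A] E)) =
        Module.supportDim (Localization.AtPrime (q.comap (algebraMap A B)))
            (LocalizedModule (q.comap (algebraMap A B)).primeCompl E) +
          Module.supportDim (Localization.AtPrime q) (EGA4.FibLocMod A B q F)) := by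
  letI alg : Algebra (Localization.AtPrime (q.comap (algebraMap A B))) (Localization.AtPrime q) :=
    Localization.AtPrime.algebraOfLiesOver (q.comap (algebraMap A B)) q
  haveI : IsLocalHom (algebraMap (Localization.AtPrime (q.comap (algebraMap A B)))
      (Localization.AtPrime q)) :=
    Localization.isLocalHom_localRingHom _ _ _ _
  letI modAp : Module (Localization.AtPrime (q.comap (algebraMap A B)))
      (LocalizedModule q.primeCompl F) :=
    Module.compHom (LocalizedModule q.primeCompl F)
      (algebraMap (Localization.AtPrime (q.comap (algebraMap A B))) (Localization.AtPrime q))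
  haveI st1 : IsScalarTower (Localization.AtPrime (q.comap (algebraMap A B)))
      (Localization.AtPrime q) (LocalizedModule q.primeCompl F) :=
    IsScalarTower.of_algebraMap_smul fun r x => rfl
  haveI st2 : IsScalarTower A (Localization.AtPrime (q.comap (algebraMap A B)))
      (LocalizedModule q.primeCompl F) :=
    IsScalarTower.to₁₂₄ A (Localization.AtPrime (q.comap (algebraMap A B)))
      (Localization.AtPrime q) (LocalizedModule q.primeCompl F)
  haveI fl1 : Module.Flat A (LocalizedModule q.primeCompl F) :=
    Groth.Agent.S6918.flat_localizedModule q.primeCompl F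
  haveI fl2 : Module.Flat (Localization.AtPrime (q.comap (algebraMap A B)))
      (LocalizedModule q.primeCompl F) :=
    (Module.flat_iff_of_isLocalization (Localization.AtPrime (q.comap (algebraMap A B)))
      (q.comap (algebraMap A B)).primeCompl (LocalizedModule q.primeCompl F)).mpr fl1
  -- the localization isomorphism `F_q ⊗_{A_p} E_p ≃ (F ⊗_A E)_q`
  let e1 : Localization.AtPrime (q.comap (algebraMap A B)) ⊗[A] E ≃ₗ[Localization.AtPrime
      (q.comap (algebraMap A B))] LocalizedModule (q.comap (algebraMap A B)).primeCompl E :=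
    (IsLocalizedModule.isBaseChange (q.comap (algebraMap A B)).primeCompl
      (Localization.AtPrime (q.comap (algebraMap A B)))
      (LocalizedModule.mkLinearMap (q.comap (algebraMap A B)).primeCompl E)).equiv
  let e2 : (LocalizedModule q.primeCompl F ⊗[Localization.AtPrime (q.comap (algebraMap A B))]
        LocalizedModule (q.comap (algebraMap A B)).primeCompl E) ≃ₗ[Localization.AtPrime q]
      (LocalizedModule q.primeCompl F ⊗[Localization.AtPrime (q.comap (algebraMap A B))]
        (Localization.AtPrime (q.comap (algebraMap A B)) ⊗[A] E)) :=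
    TensorProduct.AlgebraTensorModule.congr
      (LinearEquiv.refl (Localization.AtPrime q) (LocalizedModule q.primeCompl F)) e1.symm
  let e3 : (LocalizedModule q.primeCompl F ⊗[Localization.AtPrime (q.comap (algebraMap A B))]
        (Localization.AtPrime (q.comap (algebraMap A B)) ⊗[A] E)) ≃ₗ[Localization.AtPrime q]
      (LocalizedModule q.primeCompl F ⊗[A] E) :=
    TensorProduct.AlgebraTensorModule.cancelBaseChange A
      (Localization.AtPrime (q.comap (algebraMap A B))) (Localization.AtPrime q)
      (LocalizedModule q.primeCompl F) E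
  let eF : Localization.AtPrime q ⊗[B] F ≃ₗ[Localization.AtPrime q]
      LocalizedModule q.primeCompl F :=
    (IsLocalizedModule.isBaseChange q.primeCompl (Localization.AtPrime q)
      (LocalizedModule.mkLinearMap q.primeCompl F)).equiv
  let e4 : (LocalizedModule q.primeCompl F ⊗[A] E) ≃ₗ[Localization.AtPrime q]
      ((Localization.AtPrime q ⊗[B] F) ⊗[A] E) :=
    TensorProduct.AlgebraTensorModule.congr eF.symm (LinearEquiv.refl A E)
  let e5 : ((Localization.AtPrime q ⊗[B] F) ⊗[A] E) ≃ₗ[Localization.AtPrime q]
      (Localization.AtPrime q ⊗[B] (F ⊗[A] E)) :=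
    TensorProduct.AlgebraTensorModule.assoc A B (Localization.AtPrime q)
      (Localization.AtPrime q) F E
  let e6 : (Localization.AtPrime q ⊗[B] (F ⊗[A] E)) ≃ₗ[Localization.AtPrime q]
      LocalizedModule q.primeCompl (F ⊗[A] E) :=
    (IsLocalizedModule.isBaseChange q.primeCompl (Localization.AtPrime q)
      (LocalizedModule.mkLinearMap q.primeCompl (F ⊗[A] E))).equiv
  have e : (LocalizedModule q.primeCompl F ⊗[Localization.AtPrime (q.comap (algebraMap A B))]
        LocalizedModule (q.comap (algebraMap A B)).primeCompl E) ≃ₗ[Localization.AtPrime q]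
      LocalizedModule q.primeCompl (F ⊗[A] E) := e2 ≪≫ₗ e3 ≪≫ₗ e4 ≪≫ₗ e5 ≪≫ₗ e6
  have hmap : (q.comap (algebraMap A B)).map (algebraMap A (Localization.AtPrime q)) =
      (maximalIdeal (Localization.AtPrime (q.comap (algebraMap A B)))).map
        (algebraMap (Localization.AtPrime (q.comap (algebraMap A B)))
          (Localization.AtPrime q)) := by
    rw [← Localization.AtPrime.map_eq_maximalIdeal, Ideal.map_map, ← IsScalarTower.algebraMap_eq]
  have eq : (LocalizedModule q.primeCompl F ⧸
        (maximalIdeal (Localization.AtPrime (q.comap (algebraMap A B)))).map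
          (algebraMap (Localization.AtPrime (q.comap (algebraMap A B)))
            (Localization.AtPrime q)) •
          (⊤ : Submodule (Localization.AtPrime q) (LocalizedModule q.primeCompl F)))
      ≃ₗ[Localization.AtPrime q] EGA4.FibLocMod A B q F :=
    Submodule.quotEquivOfEq _ _ (by rw [hmap])
  constructor
  · have h := depth_tensor_eq_add_fibre (R := Localization.AtPrime (q.comap (algebraMap A B)))
      (S := Localization.AtPrime q) (LocalizedModule (q.comap (algebraMap A B)).primeCompl E)
      (LocalizedModule q.primeCompl F)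
    rw [← depth_congr e, h, depth_congr eq]
  · intro hnt
    have h := supportDim_tensor_eq (R := Localization.AtPrime (q.comap (algebraMap A B)))
      (S := Localization.AtPrime q) (LocalizedModule q.primeCompl F)
      (LocalizedModule (q.comap (algebraMap A B)).primeCompl E)
    rw [← Module.supportDim_eq_of_equiv e, h, Module.supportDim_eq_of_equiv eq]

/-- `(S_k)` of the fibre module over the fibre local ring gives the inequality over `B_q`. -/
theorem fibre_sk [IsNoetherianRing B] (k : ℕ) (q : Ideal B) [q.IsPrime]
    (F : Type u) [AddCommGroup F] [Module B F] [Module.Finite B F]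
    (h : LocCoh.HasSk k (EGA4.FibLocRing A B q) (EGA4.FibLocMod A B q F)) :
    min (k : WithBot ℕ∞) (Module.supportDim (Localization.AtPrime q) (EGA4.FibLocMod A B q F)) ≤
      ((LocCoh.depth (Localization.AtPrime q) (EGA4.FibLocMod A B q F) : ℕ∞) : WithBot ℕ∞) := by
  haveI fin3 : Module.Finite (FL (q.comap (algebraMap A B)) q) (EGA4.FibLocMod A B q F) :=
    Module.Finite.of_restrictScalars_finite (Localization.AtPrime q) _ _
  have h1 := h (maximalIdeal (FL (q.comap (algebraMap A B)) q))
  rw [Groth.Agent.Lead.FinRes.depth_atMaximal, Groth.Agent.Lead.FinRes.supportDim_atMaximal] at h1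
  have h2 := depth_eq_of_surjective (R₁ := Localization.AtPrime q)
    (R₂ := FL (q.comap (algebraMap A B)) q) Ideal.Quotient.mk_surjective
    (EGA4.FibLocMod A B q F)
  have h3 := supportDim_eq_of_surjective (R₁ := Localization.AtPrime q)
    (R₂ := FL (q.comap (algebraMap A B)) q) Ideal.Quotient.mk_surjective
    (EGA4.FibLocMod A B q F)
  rw [h2, h3]
  exact h1

theorem min_add_le_withBot (k : ℕ) (α β : WithBot ℕ∞) (a b : ℕ∞)
    (h1 : min (k : WithBot ℕ∞) α ≤ ((a : ℕ∞) : WithBot ℕ∞))
    (h2 : min (k : WithBot ℕ∞) β ≤ ((b : ℕ∞) : WithBot ℕ∞)) :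
    min (k : WithBot ℕ∞) (α + β) ≤ ((a + b : ℕ∞) : WithBot ℕ∞) := by
  induction α using WithBot.recBotCoe with
  | bot => rw [WithBot.bot_add, min_bot_right]; exact bot_le
  | coe α =>
    induction β using WithBot.recBotCoe with
    | bot => rw [WithBot.add_bot, min_bot_right]; exact bot_le
    | coe β =>
      have e : (k : WithBot ℕ∞) = ((k : ℕ∞) : WithBot ℕ∞) := rfl
      rw [e, ← WithBot.coe_min, WithBot.coe_le_coe] at h1 h2
      rw [e, ← WithBot.coe_add, ← WithBot.coe_min, WithBot.coe_le_coe]
      exact (min_add_le' _ _ _).trans (add_le_add h1 h2)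

end Groth.Agent.Lead.FibLoc
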