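import Mathlib
import Groth.Agent.Lib.Helper23.DepthExt3
import Groth.Agent.Lib.Helper13.QCoh

/-!
# Hartogs for the structure sheaf of a locally Noetherian scheme, arbitrary opens (lead)
(gluing of helper23's affine statement)
-/

set_option autoImplicit false
set_option linter.style.haveILetI false

universe u

open CategoryTheory AlgebraicGeometry Opposite TopologicalSpace
open Groth.Agent.Helper13.QCoh

namespace Groth.Agent.Lead.Hartogs

variable {X : Scheme.{u}}

/-- **Hartogs for `O_X`.** If `depth O_{X,x} ≥ 2` at all points of `V` outside `W ≤ V`, then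
`Γ(V, O_X) → Γ(W, O_X)` is bijective. -/
theorem bijective_res_ring [IsLocallyNoetherian X] (V W : X.Opens) (hWV : W ≤ V)
    (hdepth : ∀ x : X, x ∈ V → x ∉ W →
      (2 : ℕ∞) ≤ LocCoh.depth (X.presheaf.stalk x) (X.presheaf.stalk x)) :
    Function.Bijective (X.presheaf.map (homOfLE hWV).op) := by
  -- the affine case
  have haff : ∀ A : X.Opens, IsAffineOpen A → A ≤ V →
      Function.Bijective (X.presheaf.map (homOfLE (inf_le_left : A ⊓ W ≤ A)).op) := by
    intro A hA hAV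
    haveI : IsNoetherianRing Γ(X, A) := IsLocallyNoetherian.component_noetherian ⟨A, hA⟩
    haveI : NoetherianSpace ↥A := noetherianSpace_of_isAffineOpen A hA
    have hcomp : IsCompact ((A ⊓ W : X.Opens) : Set X) := by
      have h1 : ((A ⊓ W : X.Opens) : Set X) =
          (Subtype.val : ↥A → X) '' ((Subtype.val : ↥A → X) ⁻¹' (W : Set X)) := by
        ext y
        simp only [Opens.coe_inf, Set.mem_inter_iff, SetLike.mem_coe, Set.mem_image,
          Set.mem_preimage, Subtype.exists, exists_and_left, exists_prop, exists_eq_right_right]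
        exact ⟨fun h => ⟨h.2, h.1⟩, fun h => ⟨h.2, h.1⟩⟩
      rw [h1]
      exact (NoetherianSpace.isCompact _).image continuous_subtype_val
    exact Groth.Agent.Helper23.DepthExt.bijective_res_of_hasRegPair A hA (A ⊓ W) inf_le_left hcomp
      (fun y hyA hyn => Groth.Agent.Helper23.DepthExt.hasRegPair_of_depth _
        (hdepth y (hAV hyA) (fun hy => hyn ⟨hyA, hy⟩)))
  -- affine opens inside `V'` cover `V'`
  have hcov : ∀ V' : X.Opens, V' ≤ ⨆ A : {A : X.Opens // IsAffineOpen A ∧ A ≤ V'}, A.1 := by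
    intro V' x hx
    obtain ⟨A, hA, hxA, hAV⟩ := exists_isAffineOpen_mem_and_subset (x := x) (U := V') hx
    exact Opens.mem_iSup.2 ⟨⟨A, hA, hAV⟩, hxA⟩
  have hcovW : ∀ V' : X.Opens,
      V' ⊓ W ≤ ⨆ A : {A : X.Opens // IsAffineOpen A ∧ A ≤ V'}, A.1 ⊓ W := by
    intro V' x hx
    have := hcov V' hx.1
    rw [Opens.mem_iSup] at this
    obtain ⟨A, hxA⟩ := this
    exact Opens.mem_iSup.2 ⟨A, ⟨hxA, hx.2⟩⟩
  -- injectivity on every open inside `V`
  have hinj : ∀ V' : X.Opens, V' ≤ V →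
      Function.Injective (X.presheaf.map (homOfLE (inf_le_left : V' ⊓ W ≤ V')).op) := by
    intro V' hV' s t hst
    refine TopCat.Sheaf.eq_of_locally_eq' X.sheaf
      (fun A : {A : X.Opens // IsAffineOpen A ∧ A ≤ V'} => A.1) V'
      (fun A => homOfLE A.2.2) (hcov V') _ _ (fun A => ?_)
    apply (haff A.1 A.2.1 (A.2.2.trans hV')).1
    change X.presheaf.map (homOfLE (inf_le_left : A.1 ⊓ W ≤ A.1)).op
        (X.presheaf.map (homOfLE A.2.2).op s) =
      X.presheaf.map (homOfLE (inf_le_left : A.1 ⊓ W ≤ A.1)).op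
        (X.presheaf.map (homOfLE A.2.2).op t)
    have hAW : A.1 ⊓ W ≤ V' ⊓ W := inf_le_inf_right W A.2.2
    rw [res_map_map_eq _ _ (homOfLE (hAW.trans inf_le_left)).op,
      res_map_map_eq _ _ (homOfLE (hAW.trans inf_le_left)).op,
      ← res_map_map_eq (homOfLE (inf_le_left : V' ⊓ W ≤ V')).op (homOfLE hAW).op
        (homOfLE (hAW.trans inf_le_left)).op s,
      ← res_map_map_eq (homOfLE (inf_le_left : V' ⊓ W ≤ V')).op (homOfLE hAW).op
        (homOfLE (hAW.trans inf_le_left)).op t, hst]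
  -- the statement for `V ⊓ W`
  have hmain : Function.Bijective (X.presheaf.map (homOfLE (inf_le_left : V ⊓ W ≤ V)).op) := by
    refine ⟨hinj V le_rfl, fun g => ?_⟩
    have hloc : ∀ A : {A : X.Opens // IsAffineOpen A ∧ A ≤ V}, ∃ s : Γ(X, A.1),
        X.presheaf.map (homOfLE (inf_le_left : A.1 ⊓ W ≤ A.1)).op s =
          X.presheaf.map (homOfLE (inf_le_inf_right W A.2.2 : A.1 ⊓ W ≤ V ⊓ W)).op g :=
      fun A => (haff A.1 A.2.1 A.2.2).2 _
    choose s hs using hloc
    have hcompat : TopCat.Presheaf.IsCompatible X.presheaf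
        (fun A : {A : X.Opens // IsAffineOpen A ∧ A ≤ V} => A.1) s := by
      intro A A'
      apply hinj (A.1 ⊓ A'.1) (inf_le_left.trans A.2.2)
      change X.presheaf.map (homOfLE (inf_le_left : (A.1 ⊓ A'.1) ⊓ W ≤ A.1 ⊓ A'.1)).op
          (X.presheaf.map (homOfLE (inf_le_left : A.1 ⊓ A'.1 ≤ A.1)).op (s A)) =
        X.presheaf.map (homOfLE (inf_le_left : (A.1 ⊓ A'.1) ⊓ W ≤ A.1 ⊓ A'.1)).op
          (X.presheaf.map (homOfLE (inf_le_right : A.1 ⊓ A'.1 ≤ A'.1)).op (s A'))
      have h1 : (A.1 ⊓ A'.1) ⊓ W ≤ A.1 ⊓ W := inf_le_inf_right W inf_le_left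
      have h2 : (A.1 ⊓ A'.1) ⊓ W ≤ A'.1 ⊓ W := inf_le_inf_right W inf_le_right
      rw [res_map_map_eq _ _ (homOfLE (h1.trans inf_le_left)).op,
        res_map_map_eq _ _ (homOfLE (h2.trans inf_le_left)).op,
        ← res_map_map_eq (homOfLE (inf_le_left : A.1 ⊓ W ≤ A.1)).op (homOfLE h1).op
          (homOfLE (h1.trans inf_le_left)).op (s A),
        ← res_map_map_eq (homOfLE (inf_le_left : A'.1 ⊓ W ≤ A'.1)).op (homOfLE h2).op
          (homOfLE (h2.trans inf_le_left)).op (s A'), hs A, hs A',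
        res_map_map_eq _ _ (homOfLE (h1.trans (inf_le_inf_right W A.2.2))).op,
        res_map_map_eq _ _ (homOfLE (h1.trans (inf_le_inf_right W A.2.2))).op]
    obtain ⟨s₀, hs₀, -⟩ := TopCat.Sheaf.existsUnique_gluing' X.sheaf
      (fun A : {A : X.Opens // IsAffineOpen A ∧ A ≤ V} => A.1) V (fun A => homOfLE A.2.2) (hcov V)
      s hcompat
    refine ⟨s₀, ?_⟩
    refine TopCat.Sheaf.eq_of_locally_eq' X.sheaf
      (fun A : {A : X.Opens // IsAffineOpen A ∧ A ≤ V} => A.1 ⊓ W) (V ⊓ W)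
      (fun A => homOfLE (inf_le_inf_right W A.2.2)) (hcovW V) _ _ (fun A => ?_)
    change X.presheaf.map (homOfLE (inf_le_inf_right W A.2.2 : A.1 ⊓ W ≤ V ⊓ W)).op
        (X.presheaf.map (homOfLE (inf_le_left : V ⊓ W ≤ V)).op s₀) =
      X.presheaf.map (homOfLE (inf_le_inf_right W A.2.2 : A.1 ⊓ W ≤ V ⊓ W)).op g
    rw [← hs A, ← hs₀ A]
    change _ = X.presheaf.map (homOfLE (inf_le_left : A.1 ⊓ W ≤ A.1)).op
      (X.presheaf.map (homOfLE A.2.2).op s₀)
    rw [res_map_map_eq _ _ (homOfLE ((inf_le_left : A.1 ⊓ W ≤ A.1).trans A.2.2)).op,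
      res_map_map_eq _ _ (homOfLE ((inf_le_left : A.1 ⊓ W ≤ A.1).trans A.2.2)).op]
  -- transport along `V ⊓ W = W`
  have hVW : V ⊓ W = W := inf_eq_right.2 hWV
  have hfac : ∀ s : Γ(X, V), X.presheaf.map (homOfLE hWV).op s =
      X.presheaf.map (eqToHom hVW.symm).op
        (X.presheaf.map (homOfLE (inf_le_left : V ⊓ W ≤ V)).op s) := by
    intro s
    rw [res_map_map_eq _ _ (homOfLE hWV).op]
  have hiso : Function.Bijective (X.presheaf.map (eqToHom hVW.symm).op) :=
    ConcreteCategory.bijective_of_isIso (X.presheaf.map (eqToHom hVW.symm).op)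
  have : (⇑(X.presheaf.map (homOfLE hWV).op) : Γ(X, V) → Γ(X, W)) =
      (⇑(X.presheaf.map (eqToHom hVW.symm).op)) ∘
        (⇑(X.presheaf.map (homOfLE (inf_le_left : V ⊓ W ≤ V)).op)) := funext hfac
  rw [this]
  exact hiso.comp hmain

end Groth.Agent.Lead.Hartogs
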