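import Mathlib
import Groth.Agent.Lib.Lead.Fib1
import Groth.Prelude.Def_EGA4b
import Groth.Agent.S0601

/-!
# Pointwise `(S_k)`; normality via `R_1 + S_2` for local rings; ascent of `(S_k)` at a point
-/

set_option autoImplicit false
set_option linter.style.haveILetI false
set_option linter.unusedSectionVars false

universe u

open TensorProduct LocCoh IsLocalRing

namespace Groth.Agent.Lead.Fib

open Groth.Agent.Lead.Depth Groth.Agent.Lead.FlatDepth

section Sk

variable {T : Type u} [CommRing T]

/-- `(S_k)` is invariant under linear equivalences. -/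
theorem hasSk_congr [IsNoetherianRing T] (k : ℕ) {M N : Type u} [AddCommGroup M] [Module T M] [AddCommGroup N]
    [Module T N] (e : M ≃ₗ[T] N) : LocCoh.HasSk k T M ↔ LocCoh.HasSk k T N := by
  unfold LocCoh.HasSk
  refine forall_congr' fun P => forall_congr' fun _ => ?_
  have e' := IsLocalizedModule.mapEquiv P.primeCompl (LocalizedModule.mkLinearMap P.primeCompl M)
    (LocalizedModule.mkLinearMap P.primeCompl N) (Localization.AtPrime P) e
  rw [Module.supportDim_eq_of_equiv e', depth_congr e']

/-- A local ring is its own localization at the maximal ideal. -/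
noncomputable def selfEquivLocalization (T : Type u) [CommRing T] [IsLocalRing T] :
    T ≃+* Localization.AtPrime (maximalIdeal T) :=
  (IsLocalization.atUnits T (maximalIdeal T).primeCompl (S := Localization.AtPrime (maximalIdeal T))
    (fun x hx => by
      have h1 : x ∉ maximalIdeal T := hx
      rw [IsLocalRing.mem_maximalIdeal, mem_nonunits_iff, not_not] at h1
      exact h1)).toRingEquiv

/-- `(S_k)` of a Noetherian local ring gives the inequality at the closed point. -/
theorem hasSk_self_local [IsLocalRing T] [IsNoetherianRing T] (k : ℕ)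
    (h : LocCoh.HasSk k T T) :
    min (k : ℕ∞) (maximalIdeal T).height ≤ LocCoh.depth T T := by
  rw [hasSk_self_iff] at h
  have h1 := h (maximalIdeal T)
  have e := selfEquivLocalization T
  rw [← ringKrullDim_eq_of_ringEquiv e, ← depth_self_eq_of_ringEquiv e,
    ← IsLocalRing.maximalIdeal_height_eq_ringKrullDim, sk_iff] at h1
  exact h1

/-- A Noetherian normal domain satisfies `R_1` and `S_2`. -/
theorem normal_RS (T : Type u) [CommRing T] [IsNoetherianRing T] [IsDomain T]
    [IsIntegrallyClosed T] : LocCoh.HasRk 1 T ∧ LocCoh.HasSk 2 T T := by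
  apply (Groth.Agent.S0601.result T).mp
  intro P _
  exact ⟨IsLocalization.isDomain_localization P.primeCompl_le_nonZeroDivisors,
    isIntegrallyClosed_of_isLocalization (Localization.AtPrime P) P.primeCompl
      P.primeCompl_le_nonZeroDivisors⟩

/-- A Noetherian local ring satisfying `R_1` and `S_2` is a normal domain. -/
theorem normal_of_RS_local (T : Type u) [CommRing T] [IsNoetherianRing T] [IsLocalRing T]
    (h1 : LocCoh.HasRk 1 T) (h2 : LocCoh.HasSk 2 T T) : IsDomain T ∧ IsIntegrallyClosed T := by
  have h := (Groth.Agent.S0601.result T).mpr ⟨h1, h2⟩ (maximalIdeal T)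
  have e := selfEquivLocalization T
  haveI := h.1
  haveI := h.2
  exact ⟨e.toMulEquiv.isDomain _, IsIntegrallyClosed.of_equiv e.symm⟩

end Sk

section Pointwise

variable {A : Type u} [CommRing A] [IsNoetherianRing A]

/-- `(S_k)` at `p` means the depth inequality at all primes `q ⊆ p`. -/
theorem hasSkAt_self_iff (k : ℕ) (p : Ideal A) [p.IsPrime] :
    EGA4.HasSkAt k A A p ↔ ∀ (q : Ideal A) [q.IsPrime], q ≤ p →
      min (k : ℕ∞) (maximalIdeal (Localization.AtPrime q)).height ≤
        LocCoh.depth (Localization.AtPrime q) (Localization.AtPrime q) := by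
  unfold EGA4.HasSkAt
  rw [hasSk_congr k ((IsLocalizedModule.linearEquiv p.primeCompl
      (LocalizedModule.mkLinearMap p.primeCompl A)
      (Algebra.linearMap A (Localization.AtPrime p))).extendScalarsOfIsLocalization p.primeCompl
      (Localization.AtPrime p)), hasSk_self_iff]
  have conv : ∀ (P : Ideal (Localization.AtPrime p)) [P.IsPrime],
      (min (k : WithBot ℕ∞) (ringKrullDim (Localization.AtPrime P)) ≤
        ((LocCoh.depth (Localization.AtPrime P) (Localization.AtPrime P) : ℕ∞) : WithBot ℕ∞)) ↔
      min (k : ℕ∞) (maximalIdeal (Localization.AtPrime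
        (P.comap (algebraMap A (Localization.AtPrime p))))).height ≤
        LocCoh.depth (Localization.AtPrime (P.comap (algebraMap A (Localization.AtPrime p))))
          (Localization.AtPrime (P.comap (algebraMap A (Localization.AtPrime p)))) := by
    intro P _
    have e := IsLocalization.localizationLocalizationAtPrimeIsoLocalization p.primeCompl P
    rw [← ringKrullDim_eq_of_ringEquiv e.toRingEquiv,
      ← depth_self_eq_of_ringEquiv e.toRingEquiv,
      ← IsLocalRing.maximalIdeal_height_eq_ringKrullDim]
    exact sk_iff k _ _
  constructor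
  · intro h q _ hqp
    have hdisj : Disjoint (p.primeCompl : Set A) (q : Set A) := by
      rw [Set.disjoint_left]
      intro x hx hxq
      exact hx (hqp hxq)
    haveI hP : (q.map (algebraMap A (Localization.AtPrime p))).IsPrime :=
      IsLocalization.isPrime_of_isPrime_disjoint p.primeCompl _ q ‹_› hdisj
    have hcomap : (q.map (algebraMap A (Localization.AtPrime p))).comap
        (algebraMap A (Localization.AtPrime p)) = q :=
      IsLocalization.under_map_of_isPrime_disjoint p.primeCompl _ ‹_› hdisj
    have key : ∀ (q' : Ideal A) [q'.IsPrime], q' = q →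
        min (k : ℕ∞) (maximalIdeal (Localization.AtPrime q')).height ≤
          LocCoh.depth (Localization.AtPrime q') (Localization.AtPrime q') →
        min (k : ℕ∞) (maximalIdeal (Localization.AtPrime q)).height ≤
          LocCoh.depth (Localization.AtPrime q) (Localization.AtPrime q) := by
      intro q' _ h
      subst h
      exact id
    exact key _ hcomap ((conv _).mp (h _))
  · intro h P _
    have hprime := (IsLocalization.isPrime_iff_isPrime_disjoint p.primeCompl
      (Localization.AtPrime p) P).1 ‹_›
    have hle : P.comap (algebraMap A (Localization.AtPrime p)) ≤ p := by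
      intro x hx
      by_contra hxp
      exact Set.disjoint_left.1 hprime.2 hxp hx
    exact (conv P).mpr (h _ hle)

variable {B : Type u} [CommRing B] [IsNoetherianRing B] [Algebra A B] [Module.Flat A B]

/-- `(S_k)` ascends at a point along a flat homomorphism whose fibre local rings satisfy the
depth inequality at their closed points. -/
theorem hasSkAt_of_flat_of_fibres (k : ℕ)
    (hfib : ∀ (q : Ideal B) [q.IsPrime],
      min (k : ℕ∞) (maximalIdeal (FL (q.under A) q)).height ≤
        LocCoh.depth (FL (q.under A) q) (FL (q.under A) q))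
    (q : Ideal B) [q.IsPrime] (hA : EGA4.HasSkAt k A A (q.under A)) :
    EGA4.HasSkAt k B B q := by
  rw [hasSkAt_self_iff] at hA ⊢
  intro q' _ hq'q
  have hp := hA (q'.under A) (Ideal.comap_mono hq'q)
  have hf := hfib q'
  obtain ⟨hd, hh⟩ := depth_dim_eq (q'.under A) q'
  rw [hd, hh]
  exact (min_add_le' _ _ _).trans (add_le_add hp hf)

/-- The linear equivalence `R_p ≃ LocalizedModule p.primeCompl R`, giving
`HasSkAt k R R p ↔ HasSk k R_p R_p`. -/
theorem hasSkAt_iff_hasSk_localization (k : ℕ) (p : Ideal A) [p.IsPrime] :
    EGA4.HasSkAt k A A p ↔ LocCoh.HasSk k (Localization.AtPrime p) (Localization.AtPrime p) := by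
  unfold EGA4.HasSkAt
  exact hasSk_congr k ((IsLocalizedModule.linearEquiv p.primeCompl
      (LocalizedModule.mkLinearMap p.primeCompl A)
      (Algebra.linearMap A (Localization.AtPrime p))).extendScalarsOfIsLocalization p.primeCompl
      (Localization.AtPrime p))

end Pointwise

end Groth.Agent.Lead.Fib
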