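import Mathlib
import Groth.Prelude.Def_Pic
import Groth.Agent.Lib.Helper13.InvGen
import Groth.Agent.Lib.Helper13.GenLocus
import Groth.Agent.Lib.Helper13.LocFree

/-!
# Morphisms of invertible modules and restriction to an open `U` with `O_X ≅ j_* O_U` (lead)
-/

set_option autoImplicit false
set_option linter.style.haveILetI false

universe u

open CategoryTheory AlgebraicGeometry Opposite TopologicalSpace
open Groth.Agent.Helper13.QCoh Groth.Agent.Helper13.FinType Groth.Agent.Helper13.Inv
  Groth.Agent.Helper13.LocFree Groth.Agent.Helper13.GenLoc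

namespace Groth.Agent.Lead.InvHom

variable {X : Scheme.{u}}

section Gen

variable (L : X.Modules)

/-- a section generating all stalks freely: `c ↦ c • g` is injective. -/
theorem smul_injective_of_isGen {W : X.Opens} (g : Γ(L, W))
    (hg : ∀ (y : X) (hy : y ∈ W), IsGen L g y hy) :
    Function.Injective (fun c : Γ(X, W) => c • g) := by
  intro c c' h
  have h' : c • g = c' • g := h
  refine TopCat.Presheaf.section_ext X.sheaf W c c' (fun y hy => ?_)
  apply (hg y hy).1
  change X.presheaf.germ W y hy c • L.presheaf.germ W y hy g =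
    X.presheaf.germ W y hy c' • L.presheaf.germ W y hy g
  rw [← germ_smul, ← germ_smul, h']

/-- a section generating all stalks freely: `c ↦ c • g` is surjective. -/
theorem smul_surjective_of_isGen {W : X.Opens} (g : Γ(L, W))
    (hg : ∀ (y : X) (hy : y ∈ W), IsGen L g y hy) :
    Function.Surjective (fun c : Γ(X, W) => c • g) := by
  intro t
  choose N hyN hNW hNW' a ha using
    fun y : W => exists_eq_smul_of_isGen L g y.1 y.2 (hg y.1 y.2) y.2 t
  have hcompat : TopCat.Presheaf.IsCompatible X.presheaf (fun y : W => N y) a := by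
    intro y y'
    have hle : N y ⊓ N y' ≤ W := inf_le_left.trans (hNW y)
    have hgen : ∀ (z : X) (hz : z ∈ N y ⊓ N y'),
        IsGen L (L.presheaf.map (homOfLE hle).op g) z hz :=
      fun z hz => (isGen_res L (homOfLE hle) g z hz).2 (hg z (hle hz))
    apply smul_injective_of_isGen L _ hgen
    change X.presheaf.map (Opens.infLELeft (N y) (N y')).op (a y) •
        L.presheaf.map (homOfLE hle).op g =
      X.presheaf.map (Opens.infLERight (N y) (N y')).op (a y') •
        L.presheaf.map (homOfLE hle).op g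
    have h1 := congrArg (L.presheaf.map (Opens.infLELeft (N y) (N y')).op) (ha y)
    have h2 := congrArg (L.presheaf.map (Opens.infLERight (N y) (N y')).op) (ha y')
    rw [Scheme.Modules.map_smul, map_map_eq L _ _ (homOfLE hle).op,
      map_map_eq L _ _ (homOfLE hle).op] at h1 h2
    rw [← h1, ← h2]
  have hcov : W ≤ ⨆ y : W, N y := fun z hz => Opens.mem_iSup.2 ⟨⟨z, hz⟩, hyN ⟨z, hz⟩⟩
  obtain ⟨c₀, hc, -⟩ := TopCat.Sheaf.existsUnique_gluing' X.sheaf (fun y : W => N y) W
    (fun y => homOfLE (hNW y)) hcov a hcompat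
  obtain ⟨c, hcc⟩ : ∃ c : Γ(X, W), c = c₀ := ⟨c₀, rfl⟩
  subst hcc
  refine ⟨c, ?_⟩
  refine TopCat.Sheaf.eq_of_locally_eq' (⟨L.presheaf, L.isSheaf⟩ : TopCat.Sheaf Ab X)
    (fun y : W => N y) W (fun y => homOfLE (hNW y)) hcov _ _ (fun y => ?_)
  change L.presheaf.map (homOfLE (hNW y)).op (c • g) = L.presheaf.map (homOfLE (hNW y)).op t
  have hcy : X.presheaf.map (homOfLE (hNW y)).op c = a y := hc y
  rw [Scheme.Modules.map_smul L (homOfLE (hNW y)), hcy]
  exact (ha y).symm

/-- restriction of sections of `L` between opens with a free generator follows that of `O_X`. -/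
theorem bijective_res_of_isGen {W W' : X.Opens} (hle : W' ≤ W) (g : Γ(L, W))
    (hg : ∀ (y : X) (hy : y ∈ W), IsGen L g y hy)
    (hO : Function.Bijective (X.presheaf.map (homOfLE hle).op)) :
    Function.Bijective (L.presheaf.map (homOfLE hle).op) := by
  have hg' : ∀ (z : X) (hz : z ∈ W'), IsGen L (L.presheaf.map (homOfLE hle).op g) z hz :=
    fun z hz => (isGen_res L (homOfLE hle) g z hz).2 (hg z (hle hz))
  have hsq : ∀ c : Γ(X, W), L.presheaf.map (homOfLE hle).op (c • g) =
      X.presheaf.map (homOfLE hle).op c • L.presheaf.map (homOfLE hle).op g :=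
    fun c => Scheme.Modules.map_smul L (homOfLE hle) c g
  constructor
  · intro s s' hss
    obtain ⟨c, rfl⟩ := smul_surjective_of_isGen L g hg s
    obtain ⟨c', rfl⟩ := smul_surjective_of_isGen L g hg s'
    simp only [hsq] at hss
    have h1 := smul_injective_of_isGen L _ hg' hss
    rw [hO.1 h1]
  · intro t
    obtain ⟨c', rfl⟩ := smul_surjective_of_isGen L _ hg' t
    obtain ⟨c, rfl⟩ := hO.2 c'
    exact ⟨c • g, hsq c⟩

end Gen

section Main

variable (X) (U : X.Opens)
  (h : ∀ V : X.Opens, Function.Bijective (X.presheaf.map (homOfLE (inf_le_left : V ⊓ U ≤ V)).op))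

include h in
theorem bijective_res_of_eq (W W' : X.Opens) (hW' : W' = W ⊓ U) (hle : W' ≤ W) :
    Function.Bijective (X.presheaf.map (homOfLE hle).op) := by
  subst hW'
  exact h W

include h in
/-- the unit `L → j_* j^* L` is an isomorphism for invertible `L`. -/
theorem isIso_unit (L : X.Modules) (hL : PicF.IsInvertible L) :
    IsIso ((Scheme.Modules.restrictAdjunction U.ι).unit.app L) := by
  let B : Set X.Opens := {W | ∃ g : Γ(L, W), ∀ (y : X) (hy : y ∈ W), IsGen L g y hy}
  have hB : Opens.IsBasis B := by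
    rw [Opens.isBasis_iff_nbhd]
    intro N x hx
    obtain ⟨U₀, hxU₀, g, hg⟩ := (isInvertible_iff_exists_isGen L).1 hL x
    exact ⟨U₀ ⊓ N, ⟨L.presheaf.map (homOfLE inf_le_left).op g, fun y hy =>
      (isGen_res L (homOfLE inf_le_left) g y hy).2 (hg y hy.1)⟩, ⟨hxU₀, hx⟩, inf_le_right⟩
  refine isIso_of_app_bijective_of_isBasis _ hB ?_
  rintro W ⟨g, hg⟩
  rw [Scheme.Modules.restrictAdjunction_unit_app_app]
  have hW' : U.ι ''ᵁ U.ι ⁻¹ᵁ W = W ⊓ U := by
    rw [Scheme.Hom.image_preimage_eq_opensRange_inf, Scheme.Opens.opensRange_ι, inf_comm]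
  exact bijective_res_of_isGen L (U.ι.image_preimage_le W) g hg
    (bijective_res_of_eq X U h W _ hW' _)

include h in
/-- **Restriction of morphisms into an invertible module.** -/
theorem restrict_hom_bijective (L L' : X.Modules) (hL' : PicF.IsInvertible L') :
    Function.Bijective
      (fun φ : L ⟶ L' => (Scheme.Modules.restrictFunctor U.ι).map φ) := by
  let adj := Scheme.Modules.restrictAdjunction U.ι
  haveI : IsIso (adj.unit.app L') := isIso_unit X U h L' hL'
  have key : ∀ φ : L ⟶ L',
      adj.homEquiv L ((Scheme.Modules.restrictFunctor U.ι).obj L')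
        ((Scheme.Modules.restrictFunctor U.ι).map φ) = φ ≫ adj.unit.app L' := by
    intro φ
    rw [Adjunction.homEquiv_unit]
    exact (adj.unit.naturality φ).symm
  constructor
  · intro φ ψ hφψ
    have hφψ' : (Scheme.Modules.restrictFunctor U.ι).map φ =
        (Scheme.Modules.restrictFunctor U.ι).map ψ := hφψ
    have h1 := congrArg (adj.homEquiv L ((Scheme.Modules.restrictFunctor U.ι).obj L')) hφψ'
    rw [key, key] at h1
    exact (cancel_mono (adj.unit.app L')).1 h1
  · intro ψ
    refine ⟨adj.homEquiv L _ ψ ≫ inv (adj.unit.app L'), ?_⟩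
    apply (adj.homEquiv L ((Scheme.Modules.restrictFunctor U.ι).obj L')).injective
    change adj.homEquiv L _ ((Scheme.Modules.restrictFunctor U.ι).map _) = _
    rw [key, Category.assoc, IsIso.inv_hom_id, Category.comp_id]

end Main

end Groth.Agent.Lead.InvHom
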