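import Mathlib
import Groth.Prelude.Def_Pic
import Groth.Agent.Lib.Lead.InvHom
import Groth.Agent.Lib.Helper13.InvTensor
import Groth.Agent.Lib.Helper13.FreeMod

/-!
# Restriction of invertible modules along a general open immersion (lead)
-/

set_option autoImplicit false
set_option linter.style.haveILetI false

universe u

open CategoryTheory AlgebraicGeometry Opposite TopologicalSpace
open Groth.Agent.Helper13.QCoh Groth.Agent.Helper13.FinType Groth.Agent.Helper13.Inv
  Groth.Agent.Helper13.LocFree Groth.Agent.Helper13.GenLoc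

namespace Groth.Agent.Lead.InvHom

theorem bijective_map_of_eq (X : Scheme.{u}) {A A' B B' : X.Opens} (hA : A' = A) (hB : B' = B)
    (hle : B ≤ A) (hle' : B' ≤ A')
    (h : Function.Bijective (X.presheaf.map (homOfLE hle).op)) :
    Function.Bijective (X.presheaf.map (homOfLE hle').op) := by
  subst hA hB
  exact h

section General

variable {U V : Scheme.{u}} (j : U ⟶ V) [IsOpenImmersion j]

section Unit

variable (h : ∀ W : V.Opens,
  Function.Bijective (V.presheaf.map (homOfLE (j.image_preimage_le W)).op))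

include h in
/-- the unit `L → j_* j^* L` is an isomorphism for invertible `L`. -/
theorem isIso_unit' (L : V.Modules) (hL : PicF.IsInvertible L) :
    IsIso ((Scheme.Modules.restrictAdjunction j).unit.app L) := by
  let B : Set V.Opens := {W | ∃ g : Γ(L, W), ∀ (y : V) (hy : y ∈ W), IsGen L g y hy}
  have hB : Opens.IsBasis B := by
    rw [Opens.isBasis_iff_nbhd]
    intro N x hx
    obtain ⟨U₀, hxU₀, g, hg⟩ := (isInvertible_iff_exists_isGen L).1 hL x
    exact ⟨U₀ ⊓ N, ⟨L.presheaf.map (homOfLE inf_le_left).op g, fun y hy =>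
      (isGen_res L (homOfLE inf_le_left) g y hy).2 (hg y hy.1)⟩, ⟨hxU₀, hx⟩, inf_le_right⟩
  refine isIso_of_app_bijective_of_isBasis _ hB ?_
  rintro W ⟨g, hg⟩
  rw [Scheme.Modules.restrictAdjunction_unit_app_app]
  exact bijective_res_of_isGen L (j.image_preimage_le W) g hg (h W)

include h in
/-- **Restriction of morphisms into an invertible module** along an open immersion. -/
theorem restrict_hom_bijective' (L L' : V.Modules) (hL' : PicF.IsInvertible L') :
    Function.Bijective
      (fun φ : L ⟶ L' => (Scheme.Modules.restrictFunctor j).map φ) := by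
  let adj := Scheme.Modules.restrictAdjunction j
  haveI : IsIso (adj.unit.app L') := isIso_unit' j h L' hL'
  have key : ∀ φ : L ⟶ L',
      adj.homEquiv L ((Scheme.Modules.restrictFunctor j).obj L')
        ((Scheme.Modules.restrictFunctor j).map φ) = φ ≫ adj.unit.app L' := by
    intro φ
    rw [Adjunction.homEquiv_unit]
    exact (adj.unit.naturality φ).symm
  constructor
  · intro φ ψ hφψ
    have hφψ' : (Scheme.Modules.restrictFunctor j).map φ =
        (Scheme.Modules.restrictFunctor j).map ψ := hφψ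
    have h1 := congrArg (adj.homEquiv L ((Scheme.Modules.restrictFunctor j).obj L')) hφψ'
    rw [key, key] at h1
    exact (cancel_mono (adj.unit.app L')).1 h1
  · intro ψ
    refine ⟨adj.homEquiv L _ ψ ≫ inv (adj.unit.app L'), ?_⟩
    apply (adj.homEquiv L ((Scheme.Modules.restrictFunctor j).obj L')).injective
    change adj.homEquiv L _ ((Scheme.Modules.restrictFunctor j).map _) = _
    rw [key, Category.assoc, IsIso.inv_hom_id, Category.comp_id]

include h in
/-- the direct image of the restriction of an invertible module is the module itself. -/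
theorem isInvertible_pushforward_of_iso (L : V.Modules) (hL : PicF.IsInvertible L)
    (L₀ : U.Modules) (e : L.restrict j ≅ L₀) :
    PicF.IsInvertible ((Scheme.Modules.pushforward j).obj L₀) := by
  haveI : IsIso ((Scheme.Modules.restrictAdjunction j).unit.app L) := isIso_unit' j h L hL
  exact isInvertible_of_iso
    (asIso ((Scheme.Modules.restrictAdjunction j).unit.app L) ≪≫
      (Scheme.Modules.pushforward j).mapIso e) hL

end Unit

/-- every module on `U` is the restriction of its direct image. -/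
noncomputable def restrictPushforwardIso (L₀ : U.Modules) :
    ((Scheme.Modules.pushforward j).obj L₀).restrict j ≅ L₀ :=
  asIso ((Scheme.Modules.restrictAdjunction j).counit.app L₀)

section Sections

/-- if restriction along `j` is bijective on endomorphisms of the structure sheaf, then
restriction of functions from `V` to the image of `j` is bijective. -/
theorem bijective_res_of_restrict_bijective
    (hb : Function.Bijective (fun φ : Coh.structureModule V ⟶ Coh.structureModule V =>
      (Scheme.Modules.restrictFunctor j).map φ)) :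
    Function.Bijective (V.presheaf.map (homOfLE (le_top : j ''ᵁ ⊤ ≤ ⊤)).op) := by
  have L1 : ∀ c c' : Γ(V, ⊤),
      V.presheaf.map (homOfLE (le_top : j ''ᵁ ⊤ ≤ ⊤)).op c =
        V.presheaf.map (homOfLE (le_top : j ''ᵁ ⊤ ≤ ⊤)).op c' →
      (Scheme.Modules.restrictFunctor j).map (homOfSec (Coh.structureModule V) (toO ⊤ c)) =
        (Scheme.Modules.restrictFunctor j).map (homOfSec (Coh.structureModule V) (toO ⊤ c')) := by
    intro c c' hcc
    have hcc' : (Coh.structureModule V).presheaf.map (homOfLE (le_top : j ''ᵁ ⊤ ≤ ⊤)).op (toO ⊤ c) =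
        (Coh.structureModule V).presheaf.map (homOfLE (le_top : j ''ᵁ ⊤ ≤ ⊤)).op (toO ⊤ c') := hcc
    apply Scheme.Modules.hom_ext
    intro W
    ext t
    change (homOfSec (Coh.structureModule V) (toO ⊤ c)).app (j ''ᵁ W) t =
      (homOfSec (Coh.structureModule V) (toO ⊤ c')).app (j ''ᵁ W) t
    refine ((homOfSec_app (Coh.structureModule V) (toO ⊤ c) (j ''ᵁ W) (ofO _ t)).trans ?_).trans
      (homOfSec_app (Coh.structureModule V) (toO ⊤ c') (j ''ᵁ W) (ofO _ t)).symm
    congr 1
    rw [← map_map_eq (Coh.structureModule V) (homOfLE (le_top : j ''ᵁ ⊤ ≤ ⊤)).op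
      (homOfLE (j.image_mono (le_top : W ≤ ⊤))).op (homOfLE (le_top : j ''ᵁ W ≤ ⊤)).op (toO ⊤ c),
      ← map_map_eq (Coh.structureModule V) (homOfLE (le_top : j ''ᵁ ⊤ ≤ ⊤)).op
      (homOfLE (j.image_mono (le_top : W ≤ ⊤))).op (homOfLE (le_top : j ''ᵁ W ≤ ⊤)).op (toO ⊤ c'),
      hcc']
  have L2 : ∀ {Z : Scheme.{u}} (c c' : Γ(Z, ⊤)),
      homOfSec (Coh.structureModule Z) (toO ⊤ c) = homOfSec (Coh.structureModule Z) (toO ⊤ c') →
        c = c' := by
    intro Z c c' hcc
    have h1 := congrArg (fun φ : Coh.structureModule Z ⟶ Coh.structureModule Z =>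
      φ.app ⊤ (toO ⊤ 1)) hcc
    simp only [] at h1
    rw [homOfSec_app_one, homOfSec_app_one, map_id_apply', map_id_apply'] at h1
    exact h1
  constructor
  · intro c c' hcc
    exact L2 c c' (hb.1 (L1 c c' hcc))
  · intro d
    let e := Scheme.Modules.restrictUnitIso j
    let d' : Γ(U, ⊤) := (j.appIso ⊤).hom d
    let ψ₀ : Coh.structureModule U ⟶ Coh.structureModule U :=
      homOfSec (Coh.structureModule U) (toO ⊤ d')
    obtain ⟨φ, hφ⟩ := hb.2 (e.hom ≫ ψ₀ ≫ e.inv)
    have hφ' : (Scheme.Modules.restrictFunctor j).map φ = e.hom ≫ ψ₀ ≫ e.inv := hφ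
    refine ⟨ofO ⊤ (φ.app ⊤ (toO ⊤ 1)), ?_⟩
    have hnat := congr($(φ.mapPresheaf.naturality (homOfLE (le_top : j ''ᵁ ⊤ ≤ ⊤)).op) (toO ⊤ 1))
    have h1 : (Coh.structureModule V).presheaf.map (homOfLE (le_top : j ''ᵁ ⊤ ≤ ⊤)).op
        (φ.app ⊤ (toO ⊤ 1)) =
        φ.app (j ''ᵁ ⊤) ((Coh.structureModule V).presheaf.map
          (homOfLE (le_top : j ''ᵁ ⊤ ≤ ⊤)).op (toO ⊤ 1)) := hnat.symm
    have h2 : (Coh.structureModule V).presheaf.map (homOfLE (le_top : j ''ᵁ ⊤ ≤ ⊤)).op (toO ⊤ 1) =
        toO (j ''ᵁ ⊤) 1 :=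
      map_one (V.presheaf.map (homOfLE (le_top : j ''ᵁ ⊤ ≤ ⊤)).op).hom
    have h3 : φ.app (j ''ᵁ ⊤) (toO (j ''ᵁ ⊤) 1) =
        e.inv.app ⊤ (ψ₀.app ⊤ (e.hom.app ⊤ (toO (j ''ᵁ ⊤) 1))) := by
      change ((Scheme.Modules.restrictFunctor j).map φ).app ⊤ (toO (j ''ᵁ ⊤) 1) = _
      rw [hφ']
      rfl
    have h4 : e.hom.app ⊤ (toO (j ''ᵁ ⊤) 1) = toO ⊤ 1 :=
      map_one (j.appIso ⊤).hom.hom
    have h5 : ψ₀.app ⊤ (toO ⊤ 1) = toO ⊤ d' := by
      rw [homOfSec_app_one]
      exact map_id_apply' _ _ _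
    have h6 : e.inv.app ⊤ (toO ⊤ d') = toO (j ''ᵁ ⊤) d := by
      change (j.appIso ⊤).inv ((j.appIso ⊤).hom d) = d
      exact Iso.hom_inv_id_apply (j.appIso ⊤) d
    change (Coh.structureModule V).presheaf.map (homOfLE (le_top : j ''ᵁ ⊤ ≤ ⊤)).op
        (φ.app ⊤ (toO ⊤ 1)) = toO (j ''ᵁ ⊤) d
    rw [h1, h2, h3, h4, h5, h6]

end Sections

end General

end Groth.Agent.Lead.InvHom
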