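import Mathlib
import Groth.Agent.Lib.Lead.Fib2
import Groth.Agent.Lib.Lead.Depth16
import Groth.Agent.Lib.Lead.Depth21
import Groth.Agent.Lib.Lead.DimF3
import Groth.Agent.Lib.Helper28.ReflDepth

/-!
# Localizing a localized module again

For a Noetherian ring `A`, a prime `p`, a prime `P` of `A_p` with contraction `q`, and a finite
`A`-module `M`: depth and support dimension of `(M_p)_P` over `(A_p)_P` agree with those of `M_q`
over `A_q`.  Consequently `(S_k)` of `M` at `p` is the depth inequality at all `q ⊆ p`.
-/

set_option autoImplicit false
set_option linter.style.haveILetI false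
set_option linter.unusedSectionVars false

universe u

open LocCoh IsLocalRing

namespace Groth.Agent.Lead.LocLoc

open Groth.Agent.Lead.Depth Groth.Agent.Lead.DimF

section Double

variable {A : Type u} [CommRing A] [IsNoetherianRing A] (p : Ideal A) [p.IsPrime]
  (P : Ideal (Localization.AtPrime p)) [P.IsPrime] (M : Type u) [AddCommGroup M] [Module A M]

/-- The composite localization map `M → M_p → (M_p)_P`. -/
noncomputable def f₁ : M →ₗ[A] LocalizedModule P.primeCompl (LocalizedModule p.primeCompl M) :=
  ((LocalizedModule.mkLinearMap P.primeCompl
    (LocalizedModule p.primeCompl M)).restrictScalars A).comp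
    (LocalizedModule.mkLinearMap p.primeCompl M)

theorem isBaseChange_f₁ : IsBaseChange (Localization.AtPrime P) (f₁ p P M) := by
  have h1 : IsBaseChange (Localization.AtPrime p) (LocalizedModule.mkLinearMap p.primeCompl M) :=
    IsLocalizedModule.isBaseChange p.primeCompl _ _
  have h2 : IsBaseChange (Localization.AtPrime P)
      (LocalizedModule.mkLinearMap P.primeCompl (LocalizedModule p.primeCompl M)) :=
    IsLocalizedModule.isBaseChange P.primeCompl _ _
  exact IsBaseChange.comp h1 h2

instance isLocalizedModule_f₁ :
    IsLocalizedModule (P.comap (algebraMap A (Localization.AtPrime p))).primeCompl (f₁ p P M) :=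
  (isLocalizedModule_iff_isBaseChange (S := (P.comap (algebraMap A
    (Localization.AtPrime p))).primeCompl) (A := Localization.AtPrime P) (f := f₁ p P M)).mpr
    (isBaseChange_f₁ p P M)

theorem depth_supportDim_eq [Module.Finite A M] :
    LocCoh.depth (Localization.AtPrime P)
        (LocalizedModule P.primeCompl (LocalizedModule p.primeCompl M)) =
      LocCoh.depth (Localization.AtPrime (P.comap (algebraMap A (Localization.AtPrime p))))
        (LocalizedModule (P.comap (algebraMap A (Localization.AtPrime p))).primeCompl M) ∧
    Module.supportDim (Localization.AtPrime P)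
        (LocalizedModule P.primeCompl (LocalizedModule p.primeCompl M)) =
      Module.supportDim (Localization.AtPrime (P.comap (algebraMap A (Localization.AtPrime p))))
        (LocalizedModule (P.comap (algebraMap A (Localization.AtPrime p))).primeCompl M) := by
  have e := IsLocalization.localizationLocalizationAtPrimeIsoLocalization p.primeCompl P
  letI alg : Algebra (Localization.AtPrime (P.comap (algebraMap A (Localization.AtPrime p))))
      (Localization.AtPrime P) := e.toAlgHom.toRingHom.toAlgebra
  letI mod : Module (Localization.AtPrime (P.comap (algebraMap A (Localization.AtPrime p))))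
      (LocalizedModule P.primeCompl (LocalizedModule p.primeCompl M)) :=
    Module.compHom _ e.toAlgHom.toRingHom
  haveI t1 : IsScalarTower
      (Localization.AtPrime (P.comap (algebraMap A (Localization.AtPrime p))))
      (Localization.AtPrime P)
      (LocalizedModule P.primeCompl (LocalizedModule p.primeCompl M)) :=
    ⟨fun x y n => by
      change (e x * y) • n = e x • (y • n)
      exact mul_smul _ _ _⟩
  haveI t2 : IsScalarTower A
      (Localization.AtPrime (P.comap (algebraMap A (Localization.AtPrime p))))
      (LocalizedModule P.primeCompl (LocalizedModule p.primeCompl M)) :=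
    ⟨fun a x n => by
      change e (a • x) • n = a • (e x • n)
      rw [map_smul, smul_assoc]⟩
  have hsurj : Function.Surjective (algebraMap
      (Localization.AtPrime (P.comap (algebraMap A (Localization.AtPrime p))))
      (Localization.AtPrime P)) := fun y => ⟨e.symm y, e.apply_symm_apply y⟩
  constructor
  · have h1 := depth_localizedModule_eq_of_isLocalizedModule
      (P.comap (algebraMap A (Localization.AtPrime p))) (f₁ p P M)
    have h2 := depth_eq_of_surjective hsurj
      (LocalizedModule P.primeCompl (LocalizedModule p.primeCompl M))
    exact (h1.trans h2).symm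
  · have h1 := Module.supportDim_eq_of_equiv
      ((IsLocalizedModule.linearEquiv
        (P.comap (algebraMap A (Localization.AtPrime p))).primeCompl
        (LocalizedModule.mkLinearMap
          (P.comap (algebraMap A (Localization.AtPrime p))).primeCompl M)
        (f₁ p P M)).extendScalarsOfIsLocalization
        (P.comap (algebraMap A (Localization.AtPrime p))).primeCompl
        (Localization.AtPrime (P.comap (algebraMap A (Localization.AtPrime p)))))
    have h2 := supportDim_eq_of_surjective hsurj
      (LocalizedModule P.primeCompl (LocalizedModule p.primeCompl M))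
    exact (h1.trans h2).symm

end Double

section Sk

variable {A : Type u} [CommRing A] [IsNoetherianRing A] (M : Type u) [AddCommGroup M] [Module A M]
  [Module.Finite A M]

/-- `(S_k)` of a finite module at `p` means the depth inequality at all primes `q ⊆ p`. -/
theorem hasSkAt_iff (k : ℕ) (p : Ideal A) [p.IsPrime] :
    EGA4.HasSkAt k A M p ↔ ∀ (q : Ideal A) [q.IsPrime], q ≤ p →
      min (k : WithBot ℕ∞) (Module.supportDim (Localization.AtPrime q)
          (LocalizedModule q.primeCompl M)) ≤
        ((LocCoh.depth (Localization.AtPrime q) (LocalizedModule q.primeCompl M) : ℕ∞) :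
          WithBot ℕ∞) := by
  unfold EGA4.HasSkAt LocCoh.HasSk
  constructor
  · intro h q _ hqp
    have hdisj : Disjoint (p.primeCompl : Set A) (q : Set A) := by
      rw [Set.disjoint_left]
      intro x hx hxq
      exact hx (hqp hxq)
    haveI hP : (q.map (algebraMap A (Localization.AtPrime p))).IsPrime :=
      IsLocalization.isPrime_of_isPrime_disjoint p.primeCompl _ q ‹_› hdisj
    have hcomap : (q.map (algebraMap A (Localization.AtPrime p))).comap
        (algebraMap A (Localization.AtPrime p)) = q :=
      IsLocalization.under_map_of_isPrime_disjoint p.primeCompl _ ‹_› hdisj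
    have key : ∀ (q' : Ideal A) [q'.IsPrime], q' = q →
        (min (k : WithBot ℕ∞) (Module.supportDim (Localization.AtPrime q')
            (LocalizedModule q'.primeCompl M)) ≤
          ((LocCoh.depth (Localization.AtPrime q') (LocalizedModule q'.primeCompl M) : ℕ∞) :
            WithBot ℕ∞)) →
        (min (k : WithBot ℕ∞) (Module.supportDim (Localization.AtPrime q)
            (LocalizedModule q.primeCompl M)) ≤
          ((LocCoh.depth (Localization.AtPrime q) (LocalizedModule q.primeCompl M) : ℕ∞) :
            WithBot ℕ∞)) := by
      intro q' _ h
      subst h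
      exact id
    have h1 := h (q.map (algebraMap A (Localization.AtPrime p)))
    obtain ⟨hd, hs⟩ := depth_supportDim_eq p (q.map (algebraMap A (Localization.AtPrime p))) M
    rw [hd, hs] at h1
    exact key _ hcomap h1
  · intro h P _
    have hprime := (IsLocalization.isPrime_iff_isPrime_disjoint p.primeCompl
      (Localization.AtPrime p) P).1 ‹_›
    have hle : P.comap (algebraMap A (Localization.AtPrime p)) ≤ p := by
      intro x hx
      by_contra hxp
      exact Set.disjoint_left.1 hprime.2 hxp hx
    obtain ⟨hd, hs⟩ := depth_supportDim_eq p P M
    rw [hd, hs]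
    exact h _ hle

end Sk

section Mono

variable {A : Type u} [CommRing A] (M : Type u) [AddCommGroup M] [Module A M]

/-- The support dimension of the localization grows with the prime. -/
theorem supportDim_localizedModule_le_of_le (q₀ q : Ideal A) [hq₀ : q₀.IsPrime] [hq : q.IsPrime]
    (h : q₀ ≤ q) :
    Module.supportDim (Localization.AtPrime q₀) (LocalizedModule q₀.primeCompl M) ≤
      Module.supportDim (Localization.AtPrime q) (LocalizedModule q.primeCompl M) := by
  have hle : (⟨q₀, hq₀⟩ : PrimeSpectrum A) ≤ ⟨q, hq⟩ := h
  refine Order.krullDim_le_of_strictMono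
    (fun Q' : Module.support (Localization.AtPrime q₀) (LocalizedModule q₀.primeCompl M) =>
      (⟨(IsLocalization.AtPrime.primeSpectrumOrderIso (Localization.AtPrime q) q).symm
        ⟨((IsLocalization.AtPrime.primeSpectrumOrderIso (Localization.AtPrime q₀) q₀) Q'.1).1,
          le_trans ((IsLocalization.AtPrime.primeSpectrumOrderIso
            (Localization.AtPrime q₀) q₀) Q'.1).2 hle⟩, ?_⟩ :
        Module.support (Localization.AtPrime q) (LocalizedModule q.primeCompl M))) ?_
  · rw [Groth.Agent.Helper28.ReflDepth.mem_support_localizedModule_iff]
    have h1 := (Groth.Agent.Helper28.ReflDepth.mem_support_localizedModule_iff q₀ M Q'.1).1 Q'.2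
    have h2 : ∀ x : Set.Iic (⟨q, hq⟩ : PrimeSpectrum A),
        PrimeSpectrum.comap (algebraMap A (Localization.AtPrime q))
          ((IsLocalization.AtPrime.primeSpectrumOrderIso (Localization.AtPrime q) q).symm x) =
          x.1 := fun x => congrArg Subtype.val
        ((IsLocalization.AtPrime.primeSpectrumOrderIso
          (Localization.AtPrime q) q).apply_symm_apply x)
    rw [h2]
    exact h1
  · intro Q' Q'' hlt
    have h1 : (IsLocalization.AtPrime.primeSpectrumOrderIso (Localization.AtPrime q₀) q₀) Q'.1 <
        (IsLocalization.AtPrime.primeSpectrumOrderIso (Localization.AtPrime q₀) q₀) Q''.1 :=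
      (OrderIso.strictMono _) hlt
    exact (OrderIso.strictMono
      (IsLocalization.AtPrime.primeSpectrumOrderIso (Localization.AtPrime q) q).symm) h1

end Mono

end Groth.Agent.Lead.LocLoc
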