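import Mathlib
import Groth.Agent.Lib.Lead.Fib2
import Groth.Agent.Lib.Lead.Depth16
import Groth.Agent.Lib.Lead.Depth21
import Groth.Agent.Lib.Lead.DimF3
import Groth.Agent.Lib.Helper28.ReflDepth

/-!
# Localizing a localized module at a prime: general multiplicative set

For a Noetherian ring `A`, a submonoid `S`, a prime `P` of `S⁻¹A` with contraction `q`, and a finite
`A`-module `M`: depth and support dimension of `(S⁻¹M)_P` over `(S⁻¹A)_P` agree with those of `M_q`
over `A_q`.
-/

set_option autoImplicit false
set_option linter.style.haveILetI false
set_option linter.unusedSectionVars false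

universe u

open LocCoh IsLocalRing

namespace Groth.Agent.Lead.LocLocGen

open Groth.Agent.Lead.Depth Groth.Agent.Lead.DimF

section Double

variable {A : Type u} [CommRing A] [IsNoetherianRing A] (S : Submonoid A)
  (P : Ideal (Localization S)) [P.IsPrime] (M : Type u) [AddCommGroup M] [Module A M]

/-- The composite localization map `M → S⁻¹M → (S⁻¹M)_P`. -/
noncomputable def f₁ : M →ₗ[A] LocalizedModule P.primeCompl (LocalizedModule S M) :=
  ((LocalizedModule.mkLinearMap P.primeCompl
    (LocalizedModule S M)).restrictScalars A).comp
    (LocalizedModule.mkLinearMap S M)

theorem isBaseChange_f₁ : IsBaseChange (Localization.AtPrime P) (f₁ S P M) := by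
  have h1 : IsBaseChange (Localization S) (LocalizedModule.mkLinearMap S M) :=
    IsLocalizedModule.isBaseChange S _ _
  have h2 : IsBaseChange (Localization.AtPrime P)
      (LocalizedModule.mkLinearMap P.primeCompl (LocalizedModule S M)) :=
    IsLocalizedModule.isBaseChange P.primeCompl _ _
  exact IsBaseChange.comp h1 h2

instance isLocalization_comap :
    IsLocalization.AtPrime (Localization.AtPrime P) (P.comap (algebraMap A (Localization S))) :=
  IsLocalization.isLocalization_isLocalization_atPrime_isLocalization S (Localization.AtPrime P) P

instance isLocalizedModule_f₁ :
    IsLocalizedModule (P.comap (algebraMap A (Localization S))).primeCompl (f₁ S P M) :=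
  (isLocalizedModule_iff_isBaseChange (S := (P.comap (algebraMap A
    (Localization S))).primeCompl) (A := Localization.AtPrime P) (f := f₁ S P M)).mpr
    (isBaseChange_f₁ S P M)

theorem depth_supportDim_eq [Module.Finite A M] :
    LocCoh.depth (Localization.AtPrime P)
        (LocalizedModule P.primeCompl (LocalizedModule S M)) =
      LocCoh.depth (Localization.AtPrime (P.comap (algebraMap A (Localization S))))
        (LocalizedModule (P.comap (algebraMap A (Localization S))).primeCompl M) ∧
    Module.supportDim (Localization.AtPrime P)
        (LocalizedModule P.primeCompl (LocalizedModule S M)) =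
      Module.supportDim (Localization.AtPrime (P.comap (algebraMap A (Localization S))))
        (LocalizedModule (P.comap (algebraMap A (Localization S))).primeCompl M) := by
  have e := IsLocalization.localizationLocalizationAtPrimeIsoLocalization S P
  letI alg : Algebra (Localization.AtPrime (P.comap (algebraMap A (Localization S))))
      (Localization.AtPrime P) := e.toAlgHom.toRingHom.toAlgebra
  letI mod : Module (Localization.AtPrime (P.comap (algebraMap A (Localization S))))
      (LocalizedModule P.primeCompl (LocalizedModule S M)) :=
    Module.compHom _ e.toAlgHom.toRingHom
  haveI t1 : IsScalarTower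
      (Localization.AtPrime (P.comap (algebraMap A (Localization S))))
      (Localization.AtPrime P)
      (LocalizedModule P.primeCompl (LocalizedModule S M)) :=
    ⟨fun x y n => by
      change (e x * y) • n = e x • (y • n)
      exact mul_smul _ _ _⟩
  haveI t2 : IsScalarTower A
      (Localization.AtPrime (P.comap (algebraMap A (Localization S))))
      (LocalizedModule P.primeCompl (LocalizedModule S M)) :=
    ⟨fun a x n => by
      change e (a • x) • n = a • (e x • n)
      rw [map_smul, smul_assoc]⟩
  have hsurj : Function.Surjective (algebraMap
      (Localization.AtPrime (P.comap (algebraMap A (Localization S))))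
      (Localization.AtPrime P)) := fun y => ⟨e.symm y, e.apply_symm_apply y⟩
  constructor
  · have h1 := depth_localizedModule_eq_of_isLocalizedModule
      (P.comap (algebraMap A (Localization S))) (f₁ S P M)
    have h2 := depth_eq_of_surjective hsurj
      (LocalizedModule P.primeCompl (LocalizedModule S M))
    exact (h1.trans h2).symm
  · have h1 := Module.supportDim_eq_of_equiv
      ((IsLocalizedModule.linearEquiv
        (P.comap (algebraMap A (Localization S))).primeCompl
        (LocalizedModule.mkLinearMap
          (P.comap (algebraMap A (Localization S))).primeCompl M)
        (f₁ S P M)).extendScalarsOfIsLocalization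
        (P.comap (algebraMap A (Localization S))).primeCompl
        (Localization.AtPrime (P.comap (algebraMap A (Localization S)))))
    have h2 := supportDim_eq_of_surjective hsurj
      (LocalizedModule P.primeCompl (LocalizedModule S M))
    exact (h1.trans h2).symm

end Double

section Sk

variable {A : Type u} [CommRing A] [IsNoetherianRing A] (S : Submonoid A)
  (M : Type u) [AddCommGroup M] [Module A M] [Module.Finite A M]

/-- `(S_k)` passes to localizations. -/
theorem hasSk_localized (k : ℕ) (h : LocCoh.HasSk k A M) :
    LocCoh.HasSk k (Localization S) (LocalizedModule S M) := by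
  intro P _
  obtain ⟨hd, hs⟩ := depth_supportDim_eq S P M
  rw [hd, hs]
  exact h _

end Sk

end Groth.Agent.Lead.LocLocGen
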