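import Mathlib
import Groth.Agent.Lib.Lead.Hom10

/-!
# The locus where the projective dimension of a finite module is `≤ n` is open;
bounded projective dimension over regular rings
-/

set_option autoImplicit false
set_option linter.style.haveILetI false

universe u

open CategoryTheory

namespace Groth.Agent.Lead.PD

variable {A : Type u} [CommRing A]

/-- The set of primes `p` at which `N_p` has projective dimension `≤ n` over `A_p`. -/
def pdLocus (n : ℕ) (N : ModuleCat.{u} A) : Set (PrimeSpectrum A) :=
  {p | HasProjectiveDimensionLE (N.localizedModule p.asIdeal.primeCompl) n}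

theorem pdLocus_mono (N : ModuleCat.{u} A) {n m : ℕ} (h : n ≤ m) : pdLocus n N ⊆ pdLocus m N := by
  intro p hp
  haveI : HasProjectiveDimensionLT (N.localizedModule p.asIdeal.primeCompl) (n + 1) := hp
  exact hasProjectiveDimensionLT_of_ge _ (n + 1) (m + 1) (by omega)

section Noeth

variable [IsNoetherianRing A]

set_option backward.isDefEq.respectTransparency false in
theorem pdLocus_zero (N : Type u) [AddCommGroup N] [Module A N] [Module.Finite A N] :
    pdLocus 0 (ModuleCat.of A N) = Module.freeLocus A N := by
  ext p
  haveI := ModuleCat.localizedModule_isLocalizedModule (ModuleCat.of A N) p.asIdeal.primeCompl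
  rw [Module.mem_freeLocus_of_isLocalization p (Localization.AtPrime p.asIdeal)
    ((ModuleCat.of A N).localizedModule p.asIdeal.primeCompl)
    ((ModuleCat.of A N).localizedModuleMkLinearMap p.asIdeal.primeCompl)]
  change HasProjectiveDimensionLE _ 0 ↔ _
  rw [← projective_iff_hasProjectiveDimensionLE_zero, ← IsProjective.iff_projective]
  constructor
  · intro h
    haveI : Module.Finite (Localization.AtPrime p.asIdeal)
        ((ModuleCat.of A N).localizedModule p.asIdeal.primeCompl) :=
      Module.Finite.of_isLocalizedModule p.asIdeal.primeCompl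
        ((ModuleCat.of A N).localizedModuleMkLinearMap p.asIdeal.primeCompl)
    exact Module.free_of_flat_of_isLocalRing
  · intro h
    exact Module.Projective.of_free

theorem isOpen_pdLocus : ∀ (n : ℕ) (N : Type u) [AddCommGroup N] [Module A N]
    [Module.Finite A N], IsOpen (pdLocus n (ModuleCat.of A N)) := by
  intro n
  induction n with
  | zero =>
    intro N _ _ _
    rw [pdLocus_zero]
    haveI : Module.FinitePresentation A N := Module.finitePresentation_of_finite A N
    exact Module.isOpen_freeLocus
  | succ n ih =>
    intro N _ _ _
    rcases Module.exists_finite_presentation A N with ⟨P, _, _, _, _, f, surjf⟩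
    have S_exact := LinearMap.shortExact_shortComplexKer surjf
    have proj : Projective f.shortComplexKer.X₂ :=
      ModuleCat.projective_of_categoryTheory_projective f.shortComplexKer.X₂
    have key : pdLocus (n + 1) (ModuleCat.of A N) =
        pdLocus n (ModuleCat.of A (LinearMap.ker f)) := by
      ext p
      have Sp_exact :=
        S_exact.map_of_exact (ModuleCat.localizedModuleFunctor.{u} p.asIdeal.primeCompl)
      have projp : Projective (f.shortComplexKer.map
          (ModuleCat.localizedModuleFunctor.{u} p.asIdeal.primeCompl)).X₂ :=
        (ModuleCat.localizedModuleFunctor.{u} p.asIdeal.primeCompl).projective_obj_of_projective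
          proj
      exact Sp_exact.hasProjectiveDimensionLT_X₃_iff n projp
    rw [key]
    exact ih (LinearMap.ker f)

end Noeth

theorem exists_mem_pdLocus [IsRegularRing A] (N : ModuleCat.{u} A) (p : PrimeSpectrum A) :
    ∃ n, p ∈ pdLocus n N := by
  haveI : IsRegularLocalRing (Localization.AtPrime p.asIdeal) :=
    IsRegularRing.isRegularLocalRing_localization p.asIdeal
  have hdim : ringKrullDim (Localization.AtPrime p.asIdeal) = p.asIdeal.height :=
    IsLocalization.AtPrime.ringKrullDim_eq_height p.asIdeal (Localization.AtPrime p.asIdeal)
  obtain ⟨e, he⟩ : ∃ e : ℕ, p.asIdeal.height = e := by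
    have : p.asIdeal.height ≠ ⊤ := Ideal.height_ne_top_of_isPrime
    exact ⟨p.asIdeal.height.toNat, (ENat.coe_toNat this).symm⟩
  exact ⟨e, Groth.Agent.Lead.Hom.hasProjectiveDimensionLT_of_isRegularLocalRing (d := e)
    (by rw [hdim, he]; rfl) _⟩

/-- Over a regular ring, every finite module has finite projective dimension. -/
theorem exists_hasProjectiveDimensionLE_of_isRegularRing [IsRegularRing A]
    (M : Type u) [AddCommGroup M] [Module A M] [Module.Finite A M] :
    ∃ d : ℕ, HasProjectiveDimensionLE (ModuleCat.of A M) d := by
  obtain ⟨d, hd⟩ := (isCompact_univ (X := PrimeSpectrum A)).elim_directed_cover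
    (fun n => pdLocus n (ModuleCat.of A M)) (fun n => isOpen_pdLocus n M)
    (fun p _ => Set.mem_iUnion.mpr (exists_mem_pdLocus (ModuleCat.of A M) p))
    (fun i j => ⟨max i j, pdLocus_mono _ (le_max_left i j), pdLocus_mono _ (le_max_right i j)⟩)
  refine ⟨d, ?_⟩
  rw [ModuleCat.hasProjectiveDimensionLE_iff_forall_primeSpectrum]
  intro p
  exact hd (Set.mem_univ p)

end Groth.Agent.Lead.PD
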