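import Mathlib
import Groth.Agent.Lib.Lead.PD2

/-!
# Projective dimension of `M_s` over `A_s` versus the loci `pdLocus`
-/

set_option autoImplicit false
set_option linter.style.haveILetI false
set_option linter.unusedSectionVars false

universe u

open CategoryTheory

namespace Groth.Agent.Lead.PD

variable {A : Type u} [CommRing A]

/-- Plain localized module versus `ModuleCat.localizedModule`. -/
noncomputable def localizedModuleEquiv (S : Submonoid A) (M : Type u) [AddCommGroup M]
    [Module A M] :
    LocalizedModule S M ≃ₗ[Localization S] ((ModuleCat.of A M).localizedModule S) :=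
  (Shrink.linearEquiv (Localization S) (LocalizedModule S M)).symm

theorem pd_plain_iff (S : Submonoid A) (M : Type u) [AddCommGroup M] [Module A M] (n : ℕ) :
    HasProjectiveDimensionLE (ModuleCat.of (Localization S) (LocalizedModule S M)) n ↔
      HasProjectiveDimensionLE ((ModuleCat.of A M).localizedModule S) n := by
  constructor
  · intro h
    exact ModuleCat.hasProjectiveDimensionLE_of_linearEquiv
      (M := ModuleCat.of (Localization S) (LocalizedModule S M))
      (N := (ModuleCat.of A M).localizedModule S) (localizedModuleEquiv S M) n
  · intro h
    exact ModuleCat.hasProjectiveDimensionLE_of_linearEquiv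
      (M := (ModuleCat.of A M).localizedModule S)
      (N := ModuleCat.of (Localization S) (LocalizedModule S M)) (localizedModuleEquiv S M).symm n

theorem pd_localized_succ_iff (T : Submonoid A) {P N : Type u} [AddCommGroup P] [Module A P]
    [Module.Projective A P] [AddCommGroup N] [Module A N] (f : P →ₗ[A] N)
    (hf : Function.Surjective f) (n : ℕ) :
    HasProjectiveDimensionLE ((ModuleCat.of A N).localizedModule T) (n + 1) ↔
      HasProjectiveDimensionLE ((ModuleCat.of A (LinearMap.ker f)).localizedModule T) n := by
  have S_exact := LinearMap.shortExact_shortComplexKer hf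
  have proj : Projective f.shortComplexKer.X₂ :=
    ModuleCat.projective_of_categoryTheory_projective f.shortComplexKer.X₂
  have Sp_exact := S_exact.map_of_exact (ModuleCat.localizedModuleFunctor.{u} T)
  have projp : Projective (f.shortComplexKer.map (ModuleCat.localizedModuleFunctor.{u} T)).X₂ :=
    (ModuleCat.localizedModuleFunctor.{u} T).projective_obj_of_projective proj
  exact Sp_exact.hasProjectiveDimensionLT_X₃_iff n projp

variable [IsNoetherianRing A]

theorem hasProjectiveDimensionLE_away_iff : ∀ (n : ℕ) (M : Type u) [AddCommGroup M] [Module A M]
    [Module.Finite A M] (s : A),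
    HasProjectiveDimensionLE
        (ModuleCat.of (Localization.Away s) (LocalizedModule (Submonoid.powers s) M)) n ↔
      (PrimeSpectrum.basicOpen s : Set (PrimeSpectrum A)) ⊆ pdLocus n (ModuleCat.of A M) := by
  intro n
  induction n with
  | zero =>
    intro M _ _ _ s
    haveI : Module.FinitePresentation A M := Module.finitePresentation_of_finite A M
    rw [pdLocus_zero, Module.basicOpen_subset_freeLocus_iff]
    change HasProjectiveDimensionLE _ 0 ↔ _
    rw [← projective_iff_hasProjectiveDimensionLE_zero, ← IsProjective.iff_projective]
  | succ n ih =>
    intro M _ _ _ s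
    rcases Module.exists_finite_presentation A M with ⟨P, _, _, _, _, f, surjf⟩
    have key : pdLocus (n + 1) (ModuleCat.of A M) =
        pdLocus n (ModuleCat.of A (LinearMap.ker f)) := by
      ext p
      exact pd_localized_succ_iff p.asIdeal.primeCompl f surjf n
    rw [key, ← ih (LinearMap.ker f) s, pd_plain_iff, pd_plain_iff]
    exact pd_localized_succ_iff (Submonoid.powers s) f surjf n

/-- **Spreading out projective dimension**: `pd M_s = pd M_p` for a suitable `s ∉ p`. -/
theorem exists_away_projectiveDimension_eq (M : Type u) [AddCommGroup M] [Module A M]
    [Module.Finite A M] (p : Ideal A) [p.IsPrime]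
    (hfin : projectiveDimension (ModuleCat.of (Localization.AtPrime p)
      (LocalizedModule p.primeCompl M)) ≠ ⊤) :
    ∃ s : A, s ∉ p ∧
      projectiveDimension (ModuleCat.of (Localization.Away s)
        (LocalizedModule (Submonoid.powers s) M)) =
      projectiveDimension (ModuleCat.of (Localization.AtPrime p)
        (LocalizedModule p.primeCompl M)) := by
  generalize hd : projectiveDimension (ModuleCat.of (Localization.AtPrime p)
      (LocalizedModule p.primeCompl M)) = D at hfin
  induction D with
  | bot =>
    rw [projectiveDimension_eq_bot_iff, ModuleCat.isZero_of_iff_subsingleton] at hd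
    haveI := hd
    obtain ⟨s, hs, hsub⟩ := LocalizedModule.exists_subsingleton_away (M := M) p
    refine ⟨s, hs, ?_⟩
    rw [projectiveDimension_eq_bot_iff, ModuleCat.isZero_of_iff_subsingleton]
    exact hsub
  | coe D =>
    induction D with
    | top => exact absurd rfl hfin
    | coe h =>
      set p' : PrimeSpectrum A := ⟨p, inferInstance⟩ with hp'
      have hmem : ∀ k : ℕ, p' ∈ pdLocus k (ModuleCat.of A M) ↔
          HasProjectiveDimensionLE (ModuleCat.of (Localization.AtPrime p)
            (LocalizedModule p.primeCompl M)) k := fun k =>
        (pd_plain_iff p.primeCompl M k).symm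
      have hph : p' ∈ pdLocus h (ModuleCat.of A M) := by
        rw [hmem, ← projectiveDimension_le_iff, hd]
        rfl
      obtain ⟨v, ⟨s, rfl⟩, hpv, hvsub⟩ :=
        PrimeSpectrum.isTopologicalBasis_basic_opens.exists_subset_of_mem_open hph (isOpen_pdLocus h M)
      have hs : s ∉ p := hpv
      refine ⟨s, hs, le_antisymm ?_ ?_⟩
      · have : HasProjectiveDimensionLE (ModuleCat.of (Localization.Away s)
            (LocalizedModule (Submonoid.powers s) M)) h :=
          (hasProjectiveDimensionLE_away_iff h M s).mpr hvsub
        rw [← projectiveDimension_le_iff] at this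
        exact this
      · change ((h : ℕ) : WithBot ℕ∞) ≤ _
        rw [projectiveDimension_ge_iff]
        intro hlt
        cases h with
        | zero =>
          have hz : Limits.IsZero (ModuleCat.of (Localization.Away s)
              (LocalizedModule (Submonoid.powers s) M)) :=
            (hasProjectiveDimensionLT_zero_iff_isZero _).mp hlt
          rw [ModuleCat.isZero_of_iff_subsingleton, LocalizedModule.subsingleton_iff] at hz
          have hsub : Subsingleton (LocalizedModule p.primeCompl M) := by
            rw [LocalizedModule.subsingleton_iff]
            intro m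
            obtain ⟨r, ⟨k, rfl⟩, hr⟩ := hz m
            exact ⟨s ^ k, fun hmem => hs (Ideal.IsPrime.mem_of_pow_mem inferInstance k hmem), hr⟩
          have : projectiveDimension (ModuleCat.of (Localization.AtPrime p)
              (LocalizedModule p.primeCompl M)) = ⊥ := by
            rw [projectiveDimension_eq_bot_iff, ModuleCat.isZero_of_iff_subsingleton]
            exact hsub
          rw [hd] at this
          exact absurd this (by simp)
        | succ h' =>
          have h1 : (PrimeSpectrum.basicOpen s : Set (PrimeSpectrum A)) ⊆
              pdLocus h' (ModuleCat.of A M) :=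
            (hasProjectiveDimensionLE_away_iff h' M s).mp hlt
          have h2 := (hmem h').mp (h1 hpv)
          rw [← projectiveDimension_le_iff, hd] at h2
          have h3 : ((h' + 1 : ℕ) : WithBot ℕ∞) ≤ ((h' : ℕ) : WithBot ℕ∞) := h2
          have h4 : h' + 1 ≤ h' := by exact_mod_cast h3
          omega

end Groth.Agent.Lead.PD
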