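import Mathlib
import Groth.Prelude
import Groth.Agent.Lib.Lead.IsoDepth
import Groth.Agent.Lib.Lead.Depth22

/-!
# No embedded associated points ⟺ (S₁) (lead)
-/

set_option autoImplicit false
set_option linter.style.haveILetI false

universe u

open IsLocalRing LocCoh Groth.Agent.Lead.Depth

namespace Groth.Agent.Lead.EmbPts

/-- local algebra: `(S₁)` at a Noetherian local ring ⟺ if `𝔪` is associated then it is the only
associated prime. -/
theorem s1_iff_local (A : Type u) [CommRing A] [IsLocalRing A] [IsNoetherianRing A] (N : Type u)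
    [AddCommGroup N] [Module A N] [Module.Finite A N] :
    min (1 : WithBot ℕ∞) (Module.supportDim A N) ≤ ((LocCoh.depth A N : ℕ∞) : WithBot ℕ∞) ↔
      (maximalIdeal A ∈ associatedPrimes A N →
        ∀ Q ∈ associatedPrimes A N, Q = maximalIdeal A) := by
  have hsupp : ∀ Q ∈ associatedPrimes A N, ∀ hQ : Q.IsPrime,
      (⟨Q, hQ⟩ : PrimeSpectrum A) ∈ Module.support A N := by
    intro Q hQ hQp
    rw [Module.mem_support_iff_of_finite, ← Submodule.annihilator_top]
    exact IsAssociatedPrime.annihilator_le hQ
  constructor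
  · intro h hm Q hQ
    haveI : Nontrivial N := by
      by_contra hcon
      rw [not_nontrivial_iff_subsingleton] at hcon
      have h2 : (associatedPrimes A N).Nonempty := ⟨_, hm⟩
      rw [associatedPrimes.eq_empty_of_subsingleton] at h2
      exact Set.not_nonempty_empty h2
    have hd : LocCoh.depth A N = 0 :=
      idealDepth_eq_zero_of_mem_associatedPrimes N (maximalIdeal A) hm
        (maximalIdeal_smul_top_ne_top N)
    rw [hd] at h
    have hsd : Module.supportDim A N ≤ 0 := by
      rcases min_le_iff.1 h with h1 | h1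
      · exact absurd h1 (by rw [WithBot.coe_zero]; exact not_le.2 zero_lt_one)
      · rw [WithBot.coe_zero] at h1
        exact h1
    by_contra hne
    have hQp : Q.IsPrime := hQ.isPrime
    have hlt : (⟨⟨Q, hQp⟩, hsupp Q hQ hQp⟩ : Module.support A N) <
        ⟨⟨maximalIdeal A, inferInstance⟩, hsupp _ hm inferInstance⟩ := by
      rw [Subtype.mk_lt_mk]
      show Q < maximalIdeal A
      exact lt_of_le_of_ne (le_maximalIdeal hQp.ne_top) hne
    have hpos : 0 < Module.supportDim A N := Order.krullDim_pos_iff.2 ⟨_, _, hlt⟩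
    exact absurd hsd (not_le.2 hpos)
  · intro h
    by_cases hsub : Subsingleton N
    · rw [Module.supportDim_eq_bot_of_subsingleton]
      simp
    rw [not_subsingleton_iff_nontrivial] at hsub
    by_cases h1 : (1 : ℕ∞) ≤ LocCoh.depth A N
    · exact (min_le_left _ _).trans (by exact_mod_cast h1)
    · have hnr : ∀ x ∈ maximalIdeal A, ¬ IsSMulRegular N x := by
        intro x hx hreg
        apply h1
        have := le_idealDepth_of_isWeaklyRegular (maximalIdeal A) N [x]
          ((RingTheory.Sequence.isWeaklyRegular_cons_iff N x []).mpr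
            ⟨hreg, RingTheory.Sequence.IsWeaklyRegular.nil _ _⟩)
          (by intro r hr; rw [List.mem_singleton] at hr; rw [hr]; exact hx)
        rw [depth_def]
        simpa using this
      obtain ⟨Q, hQ, hmQ⟩ :=
        exists_le_associatedPrime_of_forall_not_regular' N (maximalIdeal A) hnr
      have hQeq : Q = maximalIdeal A := le_antisymm (le_maximalIdeal hQ.isPrime.ne_top) hmQ
      have hm : maximalIdeal A ∈ associatedPrimes A N := hQeq ▸ hQ
      have hall := h hm
      have key : ∀ P ∈ Module.support A N, P.asIdeal = maximalIdeal A := by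
        intro P hP
        rw [Module.mem_support_iff_of_finite] at hP
        obtain ⟨Q', hQ'min, hQ'le⟩ := Ideal.exists_minimalPrimes_le hP
        have hQ'ass : Q' ∈ associatedPrimes A N :=
          Module.associatedPrimes.minimalPrimes_annihilator_subset_associatedPrimes A N hQ'min
        have h3 := hall Q' hQ'ass
        exact le_antisymm (le_maximalIdeal P.2.ne_top) (h3 ▸ hQ'le)
      have hss : (Module.support A N).Subsingleton := by
        intro P hP P' hP'
        exact PrimeSpectrum.ext ((key P hP).trans (key P' hP').symm)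
      haveI : Subsingleton (Module.support A N) := (Set.subsingleton_coe _).2 hss
      have h4 : Module.supportDim A N ≤ 0 := by
        show Order.krullDim (Module.support A N) ≤ 0
        exact Order.krullDim_nonpos_of_subsingleton
      refine (min_le_right _ _).trans (h4.trans ?_)
      rw [← WithBot.coe_zero]
      exact WithBot.coe_le_coe.2 zero_le

section Geometric

open CategoryTheory AlgebraicGeometry Opposite TopologicalSpace
open Groth.Agent.Helper13.QCoh Groth.Agent.Helper13.FinType Groth.Agent.Helper13.QCohLoc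
  Groth.Agent.Helper13.LocFree Groth.Agent.Helper13.FlatOver

variable {X : Scheme.{u}} (F : X.Modules) [F.IsQuasicoherent]

/-- associated primes of the stalk pull back to associated primes of the sections. -/
theorem comap_mem_associatedPrimes_sections {V : X.Opens} (hV : IsAffineOpen V)
    [IsNoetherianRing Γ(X, V)] (x : V) (Q : Ideal (X.presheaf.stalk (x : X)))
    (hQ : Q ∈ associatedPrimes (X.presheaf.stalk (x : X)) (F.presheaf.stalk (x : X))) :
    Q.comap (algebraMap Γ(X, V) (X.presheaf.stalk (x : X))) ∈
      associatedPrimes Γ(X, V) Γ(F, V) := by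
  haveI hloc : IsLocalization.AtPrime (X.presheaf.stalk (x : X)) (hV.primeIdealOf x).asIdeal :=
    hV.isLocalization_stalk x
  letI := modStalk F x
  haveI := isScalarTower_stalk F x
  haveI hlm : IsLocalizedModule (hV.primeIdealOf x).asIdeal.primeCompl (germLin F x) :=
    isLocalizedModule_germ F hV x
  exact Module.associatedPrimes.comap_mem_associatedPrimes_of_mem_associatedPrimes_of_isLocalizedModule_of_fg
    (hV.primeIdealOf x).asIdeal.primeCompl (germLin F x) Q hQ (IsNoetherian.noetherian _)

/-- an associated prime of the sections below `p_x` extends to an associated prime of the stalk. -/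
theorem map_mem_associatedPrimes_stalk {V : X.Opens} (hV : IsAffineOpen V) (x : V)
    (q : Ideal Γ(X, V)) (hq : q ∈ associatedPrimes Γ(X, V) Γ(F, V))
    (hle : q ≤ (hV.primeIdealOf x).asIdeal) :
    q.map (algebraMap Γ(X, V) (X.presheaf.stalk (x : X))) ∈
        associatedPrimes (X.presheaf.stalk (x : X)) (F.presheaf.stalk (x : X)) ∧
      (q.map (algebraMap Γ(X, V) (X.presheaf.stalk (x : X)))).comap
        (algebraMap Γ(X, V) (X.presheaf.stalk (x : X))) = q := by
  haveI hloc : IsLocalization.AtPrime (X.presheaf.stalk (x : X)) (hV.primeIdealOf x).asIdeal :=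
    hV.isLocalization_stalk x
  letI := modStalk F x
  haveI := isScalarTower_stalk F x
  haveI hlm : IsLocalizedModule (hV.primeIdealOf x).asIdeal.primeCompl (germLin F x) :=
    isLocalizedModule_germ F hV x
  have hqp : q.IsPrime := hq.isPrime
  have hdisj : Disjoint ((hV.primeIdealOf x).asIdeal.primeCompl : Set Γ(X, V))
      (q : Set Γ(X, V)) := by
    rw [Set.disjoint_left]
    intro a ha haq
    exact ha (hle haq)
  have hcomap : (q.map (algebraMap Γ(X, V) (X.presheaf.stalk (x : X)))).comap
      (algebraMap Γ(X, V) (X.presheaf.stalk (x : X))) = q :=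
    IsLocalization.under_map_of_isPrime_disjoint (hV.primeIdealOf x).asIdeal.primeCompl
      (X.presheaf.stalk (x : X)) hqp hdisj
  refine ⟨?_, hcomap⟩
  apply Module.associatedPrimes.mem_associatedPrimes_of_comap_mem_associatedPrimes_of_isLocalizedModule
    (hV.primeIdealOf x).asIdeal.primeCompl (germLin F x)
  rw [hcomap]
  exact hq

omit [F.IsQuasicoherent] in
/-- specialization inside an affine open in terms of primes. -/
theorem specializes_iff_primeIdealOf_le {V : X.Opens} (hV : IsAffineOpen V) (y x : V) :
    (y : X) ⤳ (x : X) ↔ (hV.primeIdealOf y).asIdeal ≤ (hV.primeIdealOf x).asIdeal := by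
  have h1 := hV.fromSpec.isOpenEmbedding.isInducing.specializes_iff
    (x := hV.primeIdealOf y) (y := hV.primeIdealOf x)
  rw [hV.fromSpec_primeIdealOf, hV.fromSpec_primeIdealOf] at h1
  exact h1.trans (PrimeSpectrum.le_iff_specializes (hV.primeIdealOf y) (hV.primeIdealOf x)).symm

/-- the prime of a point of an affine open is the contraction of the maximal ideal. -/
theorem comap_maximalIdeal_stalk {V : X.Opens} (hV : IsAffineOpen V) (x : V) :
    Ideal.comap (algebraMap Γ(X, V) (X.presheaf.stalk (x : X)))
      (maximalIdeal (X.presheaf.stalk (x : X))) = (hV.primeIdealOf x).asIdeal := by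
  haveI hlocx : IsLocalization.AtPrime (X.presheaf.stalk (x : X)) (hV.primeIdealOf x).asIdeal :=
    hV.isLocalization_stalk x
  exact IsLocalization.AtPrime.under_maximalIdeal (X.presheaf.stalk (x : X))
    (hV.primeIdealOf x).asIdeal

/-- affine-local version of `forall_ass_eq_iff`. -/
theorem forall_ass_eq_iff_aux {V : X.Opens} (hV : IsAffineOpen V) [IsNoetherianRing Γ(X, V)]
    (x : V) :
    (∀ Q ∈ associatedPrimes (X.presheaf.stalk (x : X)) (F.presheaf.stalk (x : X)),
        Q = maximalIdeal (X.presheaf.stalk (x : X))) ↔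
      (∀ y : X, Curv2.IsAssPoint F y → y ⤳ (x : X) → y = (x : X)) := by
  haveI hlocx : IsLocalization.AtPrime (X.presheaf.stalk (x : X)) (hV.primeIdealOf x).asIdeal :=
    hV.isLocalization_stalk x
  have hcm := comap_maximalIdeal_stalk hV x
  constructor
  · intro hQ y hy hyx
    have hyV : y ∈ V := hyx.mem_open V.isOpen x.2
    obtain ⟨y', rfl⟩ : ∃ y' : V, (y' : X) = y := ⟨⟨y, hyV⟩, rfl⟩
    have h1 : (hV.primeIdealOf y').asIdeal ∈ associatedPrimes Γ(X, V) Γ(F, V) := by
      have h0 := comap_mem_associatedPrimes_sections F hV y' _ hy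
      rw [comap_maximalIdeal_stalk hV y'] at h0
      exact h0
    have hle := (specializes_iff_primeIdealOf_le hV y' x).1 hyx
    obtain ⟨h2, h3⟩ := map_mem_associatedPrimes_stalk F hV x _ h1 hle
    have h4 := hQ _ h2
    rw [h4, hcm] at h3
    have h5 : hV.primeIdealOf y' = hV.primeIdealOf x := PrimeSpectrum.ext h3.symm
    have h6 := congrArg (fun z => hV.fromSpec z) h5
    simp only [hV.fromSpec_primeIdealOf] at h6
    exact h6
  · intro hy Q hQ
    have hQp : Q.IsPrime := hQ.isPrime
    have h1 := comap_mem_associatedPrimes_sections F hV x Q hQ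
    obtain ⟨q, hq⟩ : ∃ q : Ideal Γ(X, V),
        q = Q.comap (algebraMap Γ(X, V) (X.presheaf.stalk (x : X))) := ⟨_, rfl⟩
    rw [← hq] at h1
    have hqp : q.IsPrime := h1.isPrime
    have hqle : q ≤ (hV.primeIdealOf x).asIdeal := by
      rw [← hcm, hq]
      exact Ideal.comap_mono (le_maximalIdeal hQp.ne_top)
    have hyV0 : hV.fromSpec (⟨q, hqp⟩ : PrimeSpectrum Γ(X, V)) ∈ V := by
      have : hV.fromSpec (⟨q, hqp⟩ : PrimeSpectrum Γ(X, V)) ∈ hV.fromSpec.opensRange := ⟨_, rfl⟩
      rwa [hV.opensRange_fromSpec] at this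
    have hprime : hV.primeIdealOf ⟨_, hyV0⟩ = ⟨q, hqp⟩ := primeIdealOf_fromSpec' hV _ _
    have hass : Curv2.IsAssPoint F (hV.fromSpec (⟨q, hqp⟩ : PrimeSpectrum Γ(X, V))) :=
      Groth.Agent.Lead.IsoDepth.isAssPoint_of_isAssociatedPrime F hV ⟨_, hyV0⟩
        (by rw [hprime]; exact h1)
    have hspec : hV.fromSpec (⟨q, hqp⟩ : PrimeSpectrum Γ(X, V)) ⤳ (x : X) :=
      (specializes_iff_primeIdealOf_le hV ⟨_, hyV0⟩ x).2 (by rw [hprime]; exact hqle)
    have heq := hy _ hass hspec
    have h2 : q = (hV.primeIdealOf x).asIdeal := by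
      have h3 : hV.primeIdealOf ⟨_, hyV0⟩ = hV.primeIdealOf x := by
        congr 1
        exact Subtype.ext heq
      rw [hprime] at h3
      exact congrArg PrimeSpectrum.asIdeal h3
    calc Q = Ideal.map (algebraMap Γ(X, V) (X.presheaf.stalk (x : X))) q := by
          rw [hq]
          exact (IsLocalization.map_under (hV.primeIdealOf x).asIdeal.primeCompl _ Q).symm
      _ = Ideal.map (algebraMap Γ(X, V) (X.presheaf.stalk (x : X)))
            (Ideal.comap (algebraMap Γ(X, V) (X.presheaf.stalk (x : X)))
              (maximalIdeal (X.presheaf.stalk (x : X)))) := by rw [h2, hcm]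
      _ = maximalIdeal (X.presheaf.stalk (x : X)) :=
          IsLocalization.map_under (hV.primeIdealOf x).asIdeal.primeCompl _ _

/-- all associated primes of the stalk are maximal ⟺ no associated point properly generizes. -/
theorem forall_ass_eq_iff [IsLocallyNoetherian X] (x : X) :
    (∀ Q ∈ associatedPrimes (X.presheaf.stalk x) (F.presheaf.stalk x),
        Q = maximalIdeal (X.presheaf.stalk x)) ↔
      (∀ y : X, Curv2.IsAssPoint F y → y ⤳ x → y = x) := by
  obtain ⟨_, ⟨V, hV, rfl⟩, hxV, -⟩ :=
    X.isBasis_affineOpens.exists_subset_of_mem_open (Set.mem_univ x) isOpen_univ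
  haveI : IsNoetherianRing Γ(X, V) := IsLocallyNoetherian.component_noetherian ⟨V, hV⟩
  exact forall_ass_eq_iff_aux F hV ⟨x, hxV⟩

/-- **No embedded points ⟺ (S₁).** -/
theorem noEmbedded_iff_S1 [IsLocallyNoetherian X]
    [SheafOfModules.IsFiniteType (R := X.ringCatSheaf) F] :
    (∀ x : X, Curv2.IsAssPoint F x → ∀ y : X, Curv2.IsAssPoint F y → y ⤳ x → y = x) ↔
      ∀ x : X, min (1 : WithBot ℕ∞)
          (Module.supportDim (X.presheaf.stalk x) (F.presheaf.stalk x)) ≤
        ((LocCoh.depth (X.presheaf.stalk x) (F.presheaf.stalk x) : ℕ∞) : WithBot ℕ∞) := by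
  refine forall_congr' fun x => ?_
  haveI : Module.Finite (X.presheaf.stalk x) (F.presheaf.stalk x) :=
    finite_stalk_of_isFiniteType F x
  rw [s1_iff_local]
  exact imp_congr Iff.rfl (forall_ass_eq_iff F x).symm

end Geometric

end Groth.Agent.Lead.EmbPts
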