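import Mathlib
import Groth.Agent.Lib.Lead.Miracle
import Groth.Agent.Lib.Lead.Flat1
import Groth.Agent.Lib.Lead.Depth12
import Groth.Agent.Lib.Helper7.IntDim
import Groth.Agent.Lib.Helper6.QRegGen2

/-!
# Consequences of miracle flatness

* `free_iff`: a finite local algebra over a regular local ring is free iff it is Cohen–Macaulay and
  the structure map is injective.
* `regular_ideal_iff`: an ideal of a regular local ring is generated by a regular sequence iff
  `μ(I/I²) + dim R/I ≤ dim R`.
-/

set_option autoImplicit false
set_option linter.style.haveILetI false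
universe u

open TensorProduct RingTheory.Sequence IsLocalRing LocCoh Pointwise

namespace Groth.Agent.Lead.Miracle

open Groth.Agent.Lead.Depth

section Fibre

theorem ringKrullDim_fibre_eq_zero (A B : Type u) [CommRing A] [CommRing B] [IsLocalRing A]
    [IsLocalRing B] [Algebra A B] [IsLocalHom (algebraMap A B)] [Module.Finite A B] :
    ringKrullDim (B ⧸ (maximalIdeal A).map (algebraMap A B)) = 0 := by
  have hne : (maximalIdeal A).map (algebraMap A B) ≠ ⊤ := by
    intro h
    have h1 := IsLocalRing.map_maximalIdeal_le (algebraMap A B)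
    rw [h] at h1
    exact (maximalIdeal.isMaximal B).ne_top (top_le_iff.mp h1)
  haveI : Nontrivial (B ⧸ (maximalIdeal A).map (algebraMap A B)) :=
    Ideal.Quotient.nontrivial_iff.mpr hne
  rw [← ringKrullDimZero_iff_ringKrullDim_eq_zero,
    Ideal.krullDimLE_zero_quotient_iff_forall_minimalPrimes_isMaximal]
  intro J hJ
  haveI := hJ.1.1
  have hcomap : J.comap (algebraMap A B) = maximalIdeal A := by
    symm
    apply (maximalIdeal.isMaximal A).eq_of_le
    · exact Ideal.comap_ne_top _ hJ.1.1.ne_top
    · exact Ideal.map_le_iff_le_comap.mp hJ.1.2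
  exact Ideal.isMaximal_of_isIntegral_of_isMaximal_comap J
    (by rw [hcomap]; exact maximalIdeal.isMaximal A)

theorem free_iff (A B : Type u) [CommRing A] [CommRing B]
    [IsRegularLocalRing A] [IsLocalRing B] [Algebra A B] [IsLocalHom (algebraMap A B)]
    [Module.Finite A B] :
    Module.Free A B ↔
      LocCoh.IsCohenMacaulayLocalRing B ∧ Function.Injective (algebraMap A B) := by
  haveI : IsNoetherianRing B := Algebra.FiniteType.isNoetherianRing A B
  have hmin := maximalIdeal_mem_minimalPrimes_of_finite (A := A) (B := B)
  constructor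
  · intro hfree
    haveI : Module.Flat A B := inferInstance
    refine ⟨(isCohenMacaulayLocalRing_of_flat_of_minimal (A := A) (B := B) hmin).mp
      isCohenMacaulayLocalRing_of_isRegularLocalRing, ?_⟩
    exact FaithfulSMul.algebraMap_injective A B
  · rintro ⟨hCM, hinj⟩
    have h1 : ringKrullDim B = ringKrullDim A :=
      Groth.Agent.Helper7.IntDim.ringKrullDim_eq_of_isIntegral_of_injective hinj
    have h2 := ringKrullDim_fibre_eq_zero A B
    have hflat : Module.Flat A B := by
      have hCM' : LocCoh.IsCohenMacaulayModule B B := hCM.supportDim_eq_depth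
      refine flat_of_isCohenMacaulayModule A B B hCM' ?_
      rw [Module.supportDim_self_eq_ringKrullDim, h1]
      have h0 : ((maximalIdeal A).map (algebraMap A B)) • (⊤ : Submodule B B) =
          (maximalIdeal A).map (algebraMap A B) := by
        rw [Ideal.smul_eq_mul, Ideal.mul_top]
      rw [Module.supportDim_eq_of_equiv (Submodule.quotEquivOfEq _ _ h0),
        Module.supportDim_quotient_eq_ringKrullDim, h2, add_zero]
    exact Module.free_of_flat_of_isLocalRing

end Fibre

section RegIdeal

variable {R : Type u} [CommRing R]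

theorem spanFinrank_cotangent_le (I : Ideal R) [IsNoetherianRing R] :
    (⊤ : Submodule (R ⧸ I) I.Cotangent).spanFinrank ≤ I.spanFinrank := by
  have hsurj : Function.Surjective (algebraMap R (R ⧸ I)) := Ideal.Quotient.mk_surjective
  have e1 := Submodule.spanRank_restrictScalars_eq (R := R) (S := R ⧸ I) (M := I.Cotangent) hsurj ⊤
  have e1' : ((⊤ : Submodule (R ⧸ I) I.Cotangent).restrictScalars R).spanFinrank =
      (⊤ : Submodule (R ⧸ I) I.Cotangent).spanFinrank := congrArg Cardinal.toNat e1
  have e2 : ((⊤ : Submodule (R ⧸ I) I.Cotangent).restrictScalars R) =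
      (⊤ : Submodule R I).map I.toCotangent := by
    rw [Submodule.restrictScalars_top, Submodule.map_top, Ideal.toCotangent_range]
  have e3 := Submodule.spanFinrank_map_le_of_fg I.toCotangent (p := (⊤ : Submodule R I))
    Module.Finite.fg_top
  rw [Submodule.spanFinrank_top] at e3
  rw [← e1', e2]
  exact e3

theorem spanFinrank_ofList_le (rs : List R) : (Ideal.ofList rs).spanFinrank ≤ rs.length := by
  classical
  have hfin : {r | r ∈ rs}.Finite := List.finite_toSet rs
  refine (Submodule.spanFinrank_span_le_ncard_of_finite hfin).trans ?_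
  have h1 : {r | r ∈ rs} = (rs.toFinset : Set R) := by
    ext z
    simp
  rw [h1, Set.ncard_coe_finset]
  exact List.toFinset_card_le rs

theorem regular_ideal_iff [IsRegularLocalRing R] (I : Ideal R) (hI : I ≠ ⊤) :
    (∃ rs : List R, Ideal.ofList rs = I ∧ RingTheory.Sequence.IsRegular R rs) ↔
      (((⊤ : Submodule (R ⧸ I) I.Cotangent).spanFinrank : WithBot ℕ∞) + ringKrullDim (R ⧸ I)
        ≤ ringKrullDim R) := by
  have hIm : I ≤ maximalIdeal R := IsLocalRing.le_maximalIdeal hI
  constructor
  · rintro ⟨rs, hrs, hreg⟩
    have hd := ringKrullDim_add_length_eq_ringKrullDim_of_isRegular rs hreg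
    rw [hrs] at hd
    have h1 : (⊤ : Submodule (R ⧸ I) I.Cotangent).spanFinrank ≤ rs.length := by
      refine (spanFinrank_cotangent_le I).trans ?_
      rw [← hrs]
      exact spanFinrank_ofList_le rs
    rw [← hd, add_comm]
    exact add_le_add le_rfl (by exact_mod_cast h1)
  · intro h
    haveI : Module.Finite R I.Cotangent :=
      Module.Finite.of_surjective I.toCotangent (Ideal.toCotangent_surjective I)
    haveI : Module.Finite (R ⧸ I) I.Cotangent :=
      Module.Finite.of_restrictScalars_finite R (R ⧸ I) I.Cotangent
    have hfg : (⊤ : Submodule (R ⧸ I) I.Cotangent).FG := Module.Finite.fg_top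
    obtain ⟨s, hs1, hs2⟩ := Submodule.FG.exists_span_finset_card_eq_spanFinrank hfg
    have hsurj := Ideal.toCotangent_surjective I
    choose g hg using hsurj
    obtain ⟨f, hf⟩ : ∃ f : Fin s.card → I,
        f = fun i => g ((s.equivFin.symm i : s) : I.Cotangent) := ⟨_, rfl⟩
    have hrange : (Set.range fun i => I.toCotangent (f i)) = (s : Set I.Cotangent) := by
      ext z
      constructor
      · rintro ⟨i, rfl⟩
        rw [hf]
        show I.toCotangent (g _) ∈ _
        rw [hg]
        exact (s.equivFin.symm i).2
      · intro hz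
        refine ⟨s.equivFin ⟨z, hz⟩, ?_⟩
        rw [hf]
        show I.toCotangent (g _) = z
        rw [hg, Equiv.symm_apply_apply]
    have hsp : Submodule.span (R ⧸ I) (Set.range fun i => I.toCotangent (f i)) = ⊤ := by
      rw [hrange]; exact hs2
    have hgen : Ideal.span (Set.range fun i => (f i : R)) = I := by
      apply le_antisymm
      · rw [Ideal.span_le]
        rintro _ ⟨i, rfl⟩
        exact (f i).2
      · apply Submodule.le_of_le_smul_of_le_jacobson_bot (Ideal.fg_of_isNoetherianRing I) (I := I)
          (by rw [IsLocalRing.jacobson_eq_maximalIdeal ⊥ bot_ne_top]; exact hIm)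
        intro x hx
        have h0 : I.toCotangent ⟨x, hx⟩ ∈
            Submodule.span (R ⧸ I) (Set.range fun i => I.toCotangent (f i)) := by
          rw [hsp]; trivial
        rw [Submodule.mem_span_range_iff_exists_fun] at h0
        obtain ⟨c, hc⟩ := h0
        choose c' hc' using fun i => Ideal.Quotient.mk_surjective (c i)
        have h1 : I.toCotangent (∑ i, c' i • f i) = I.toCotangent ⟨x, hx⟩ := by
          rw [← Groth.Agent.Helper6.QRegGen.toCotangent_sum, ← hc]
          simp only [hc']
        rw [Ideal.toCotangent_eq] at h1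
        refine Submodule.mem_sup.2 ⟨((∑ i, c' i • f i : I) : R), ?_,
          x - ((∑ i, c' i • f i : I) : R), ?_, by ring⟩
        · rw [AddSubmonoidClass.coe_finsetSum]
          refine Ideal.sum_mem _ (fun i _ => ?_)
          exact Ideal.mul_mem_left _ _ (Ideal.subset_span ⟨i, rfl⟩)
        · rw [smul_eq_mul, ← pow_two, ← neg_sub]
          exact neg_mem h1
    obtain ⟨rs, hrs⟩ : ∃ rs : List R, rs = List.ofFn (fun i => (f i : R)) := ⟨_, rfl⟩
    have hofList : Ideal.ofList rs = I := by
      rw [hrs]
      refine Eq.trans ?_ hgen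
      unfold Ideal.ofList
      congr 1
      ext z
      simp only [Set.mem_ofPred_eq, List.mem_ofFn, Set.mem_range]
    have hlen : rs.length = (⊤ : Submodule (R ⧸ I) I.Cotangent).spanFinrank := by
      rw [hrs, List.length_ofFn, hs1]
    have hmem : ∀ r ∈ rs, r ∈ maximalIdeal R := by
      intro r hr
      apply hIm
      rw [← hofList]
      exact Ideal.subset_span hr
    have hCM : LocCoh.IsCohenMacaulayModule R R :=
      (isCohenMacaulayLocalRing_of_isRegularLocalRing (R := R)).supportDim_eq_depth
    have h0 : Ideal.ofList rs • (⊤ : Submodule R R) = I := by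
      rw [Ideal.smul_eq_mul, Ideal.mul_top, hofList]
    have hq : Module.supportDim R (R ⧸ Ideal.ofList rs • (⊤ : Submodule R R)) =
        ringKrullDim (R ⧸ I) := by
      rw [Module.supportDim_eq_of_equiv (Submodule.quotEquivOfEq _ _ h0),
        Module.supportDim_quotient_eq_ringKrullDim]
    have hA := supportDim_le_add_length rs R hmem
    have hdim : Module.supportDim R (R ⧸ Ideal.ofList rs • (⊤ : Submodule R R)) +
        (rs.length : WithBot ℕ∞) = Module.supportDim R R := by
      apply le_antisymm _ hA
      rw [hq, Module.supportDim_self_eq_ringKrullDim, hlen, add_comm]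
      exact h
    have hweak := isWeaklyRegular_of_supportDim_drop rs R hCM hmem hdim
    refine ⟨rs, hofList, hweak, ?_⟩
    rw [h0]
    exact fun h => hI h.symm

end RegIdeal

end Groth.Agent.Lead.Miracle
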