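import Mathlib
import Groth.Agent.Lib.Helper13.LocFree4
import Groth.Agent.Lib.Helper28.ReflDepth
import Groth.Agent.Lib.Lead.Hartogs4

/-!
# The free locus of a coherent module; transfer of reflexivity between stalks and localizations (lead)
-/

set_option autoImplicit false
set_option linter.style.haveILetI false

universe u

open CategoryTheory AlgebraicGeometry Opposite TopologicalSpace LocCoh IsLocalRing
open Groth.Agent.Helper13.QCoh Groth.Agent.Helper13.FinType Groth.Agent.Helper13.QCohLoc
  Groth.Agent.Helper13.LocFree Groth.Agent.Helper13.QCohLocal Groth.Agent.Helper13.LocTransfer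

namespace Groth.Agent.Lead.FreeLoc

/-- A Noetherian integrally closed local domain of dimension at most one is a PID. -/
theorem isPrincipalIdealRing_of_dim_le_one (A : Type u) [CommRing A] [IsNoetherianRing A]
    [IsLocalRing A] [IsDomain A] [IsIntegrallyClosed A] (h : ringKrullDim A ≤ 1) :
    IsPrincipalIdealRing A := by
  haveI hk : Ring.KrullDimLE 1 A := Ring.krullDimLE_iff.2 (by exact_mod_cast h)
  have h4 : IsIntegrallyClosed A ∧ ∀ P : Ideal A, P ≠ ⊥ → P.IsPrime → P = maximalIdeal A :=
    ⟨inferInstance, fun P hP hP' => IsLocalRing.eq_maximalIdeal (hP'.isMaximal_of_ne_bot hP)⟩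
  exact ((tfae_of_isNoetherianRing_of_isLocalRing_of_isDomain A).out 3 0).1 h4

theorem two_le_of_not_le_one {d : WithBot ℕ∞} (h : ¬ d ≤ 1) : 2 ≤ d := by
  rw [not_le] at h
  induction d using WithBot.recBotCoe with
  | bot => exact absurd h (by simp)
  | coe n =>
    have h' : (1 : ℕ∞) < n := by exact_mod_cast h
    have h2 : (2 : ℕ∞) ≤ n := by
      have := Order.add_one_le_of_lt h'
      rwa [one_add_one_eq_two] at this
    exact WithBot.coe_le_coe.2 h2

section Free

variable {X : Scheme.{u}} [IsLocallyNoetherian X] (F : X.Modules) [F.IsQuasicoherent]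
  [SheafOfModules.IsFiniteType (R := X.ringCatSheaf) F]

/-- the free locus of a coherent module. -/
noncomputable def freeLocus : X.Opens :=
  sSup {W : X.Opens | IsAffineOpen W ∧ ∃ n : ℕ, Nonempty (Module.Basis (Fin n) Γ(X, W) Γ(F, W))}

theorem mem_freeLocus_iff (x : X) :
    x ∈ freeLocus F ↔ Module.Free (X.presheaf.stalk x) (F.presheaf.stalk x) := by
  constructor
  · intro hx
    obtain ⟨W, ⟨hW, n, ⟨b⟩⟩, hxW⟩ := TopologicalSpace.Opens.mem_sSup.1 hx
    haveI : Module.Free Γ(X, W) Γ(F, W) := Module.Free.of_basis b
    exact free_stalk_of_free_sections F hW ⟨x, hxW⟩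
  · intro hfree
    obtain ⟨_, ⟨V, hV, rfl⟩, hxV, -⟩ :=
      X.isBasis_affineOpens.exists_subset_of_mem_open (Set.mem_univ x) isOpen_univ
    haveI : IsNoetherianRing Γ(X, V) := IsLocallyNoetherian.component_noetherian ⟨V, hV⟩
    haveI : Module.Finite Γ(X, V) Γ(F, V) := finite_sections_of_isFiniteType F hV
    haveI : Module.FinitePresentation Γ(X, V) Γ(F, V) := Module.finitePresentation_of_finite _ _
    obtain ⟨r, hxr, n, hb⟩ := exists_basicOpen_basis F hV ⟨x, hxV⟩
    exact TopologicalSpace.Opens.mem_sSup.2 ⟨X.basicOpen r, ⟨hV.basicOpen r, n, hb⟩, hxr⟩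

theorem isFinLocFree_restrict_freeLocus : FlatMod.IsFinLocFree (F.restrict (freeLocus F).ι) := by
  haveI : (F.restrict (freeLocus F).ι).IsQuasicoherent := inferInstance
  rw [isFinLocFree_iff_of_isQuasicoherent]
  intro x
  obtain ⟨W, ⟨hW, n, hb⟩, hxW⟩ := TopologicalSpace.Opens.mem_sSup.1 x.2
  have hWU : W ≤ freeLocus F := le_sSup ⟨hW, n, hb⟩
  have hr : W ≤ (freeLocus F).ι.opensRange := by rwa [Scheme.Opens.opensRange_ι]
  have e1 : (freeLocus F).ι ''ᵁ ((freeLocus F).ι ⁻¹ᵁ W) = W := by
    rw [Scheme.Hom.image_preimage_eq_opensRange_inf, Scheme.Opens.opensRange_ι]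
    exact inf_eq_right.2 hWU
  refine ⟨(freeLocus F).ι ⁻¹ᵁ W, n, hW.preimage_of_isOpenImmersion _ hr, hxW, ?_⟩
  obtain ⟨b⟩ := nonempty_basis_congr F e1.symm hb
  exact ⟨basisRestrict (freeLocus F).ι F _ b⟩

end Free

section Transfer

/-- reflexivity is invariant under change of rings along an isomorphism. -/
theorem isReflexive_of_ringEquiv {A A' : Type u} [CommRing A] [CommRing A'] (σ : A ≃+* A')
    {M : Type u} [AddCommGroup M] [Module A M] [Module A' M]
    (h : ∀ (a : A) (m : M), σ a • m = a • m) [Module.IsReflexive A M] :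
    Module.IsReflexive A' M := by
  have h' : ∀ (a' : A') (m : M), a' • m = σ.symm a' • m := fun a' m => by
    rw [← h, σ.apply_symm_apply]
  -- the two translations of functionals
  let toA' : Module.Dual A M → Module.Dual A' M := fun f =>
    { toFun := fun m => σ (f m)
      map_add' := fun x y => by simp
      map_smul' := fun a' m => by
        rw [h', map_smul, smul_eq_mul, map_mul, σ.apply_symm_apply]
        rfl }
  let toA : Module.Dual A' M → Module.Dual A M := fun g =>
    { toFun := fun m => σ.symm (g m)
      map_add' := fun x y => by simp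
      map_smul' := fun a m => by
        rw [← h, map_smul, smul_eq_mul, map_mul, σ.symm_apply_apply]
        rfl }
  have hA'A : ∀ g, toA' (toA g) = g := fun g => by
    ext m
    change σ (σ.symm (g m)) = g m
    exact σ.apply_symm_apply _
  refine ⟨⟨?_, ?_⟩⟩
  · rw [injective_iff_map_eq_zero]
    intro x hx
    apply (Module.bijective_dual_eval A M).injective
    rw [map_zero]
    ext f
    have h1 := LinearMap.congr_fun hx (toA' f)
    change σ (f x) = 0 at h1
    change f x = 0
    exact (map_eq_zero_iff σ σ.injective).1 h1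
  · intro φ'
    let φ : Module.Dual A (Module.Dual A M) :=
      { toFun := fun f => σ.symm (φ' (toA' f))
        map_add' := fun f g => by
          have : toA' (f + g) = toA' f + toA' g := by
            ext m
            change σ ((f + g) m) = σ (f m) + σ (g m)
            simp
          rw [this, map_add, map_add]
        map_smul' := fun a f => by
          have : toA' (a • f) = σ a • toA' f := by
            ext m
            change σ ((a • f) m) = σ a * σ (f m)
            simp
          rw [this, map_smul, smul_eq_mul, map_mul, σ.symm_apply_apply]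
          rfl }
    obtain ⟨x, hx⟩ := (Module.bijective_dual_eval A M).surjective φ
    refine ⟨x, ?_⟩
    ext g
    have h1 := LinearMap.congr_fun hx (toA g)
    change σ.symm (g x) = σ.symm (φ' (toA' (toA g))) at h1
    rw [hA'A] at h1
    change g x = φ' g
    exact σ.symm.injective h1

variable {X : Scheme.{u}} (F : X.Modules) [F.IsQuasicoherent]

/-- reflexivity of the stalk = reflexivity of the localization of the module of sections over an
affine open. -/
theorem isReflexive_stalk_iff {V : X.Opens} (hV : IsAffineOpen V) (x : V) :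
    Module.IsReflexive (X.presheaf.stalk (x : X)) (F.presheaf.stalk (x : X)) ↔
      Module.IsReflexive (Localization.AtPrime (hV.primeIdealOf x).asIdeal)
        (LocalizedModule (hV.primeIdealOf x).asIdeal.primeCompl Γ(F, V)) := by
  haveI hloc : IsLocalization.AtPrime (X.presheaf.stalk (x : X)) (hV.primeIdealOf x).asIdeal :=
    hV.isLocalization_stalk x
  letI := modStalk F x
  haveI := isScalarTower_stalk F x
  haveI hlm : IsLocalizedModule (hV.primeIdealOf x).asIdeal.primeCompl (germLin F x) :=
    isLocalizedModule_germ F hV x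
  let σ : Localization.AtPrime (hV.primeIdealOf x).asIdeal ≃ₐ[Γ(X, V)] X.presheaf.stalk (x : X) :=
    IsLocalization.algEquiv (hV.primeIdealOf x).asIdeal.primeCompl _ _
  letI : Algebra (Localization.AtPrime (hV.primeIdealOf x).asIdeal) (X.presheaf.stalk (x : X)) :=
    σ.toRingHom.toAlgebra
  letI : Module (Localization.AtPrime (hV.primeIdealOf x).asIdeal) (F.presheaf.stalk (x : X)) :=
    Module.compHom _ σ.toRingHom
  haveI : IsScalarTower (Localization.AtPrime (hV.primeIdealOf x).asIdeal)
      (X.presheaf.stalk (x : X)) (F.presheaf.stalk (x : X)) :=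
    IsScalarTower.of_algebraMap_smul (fun _ _ => rfl)
  haveI : IsScalarTower Γ(X, V) (Localization.AtPrime (hV.primeIdealOf x).asIdeal)
      (F.presheaf.stalk (x : X)) := by
    refine IsScalarTower.of_algebraMap_smul (fun r m => ?_)
    change σ (algebraMap _ _ r) • m = r • m
    rw [σ.commutes]
    rfl
  let e : LocalizedModule (hV.primeIdealOf x).asIdeal.primeCompl Γ(F, V) ≃ₗ[
      Localization.AtPrime (hV.primeIdealOf x).asIdeal] F.presheaf.stalk (x : X) :=
    LinearEquiv.extendScalarsOfIsLocalization (hV.primeIdealOf x).asIdeal.primeCompl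
      (Localization.AtPrime (hV.primeIdealOf x).asIdeal)
      (IsLocalizedModule.iso (hV.primeIdealOf x).asIdeal.primeCompl (germLin F x))
  constructor
  · intro hr
    haveI : Module.IsReflexive (Localization.AtPrime (hV.primeIdealOf x).asIdeal)
        (F.presheaf.stalk (x : X)) :=
      isReflexive_of_ringEquiv σ.symm.toRingEquiv (fun a m => by
        change σ (σ.symm a) • m = a • m
        rw [σ.apply_symm_apply])
    exact Module.equiv e.symm
  · intro hr
    haveI : Module.IsReflexive (Localization.AtPrime (hV.primeIdealOf x).asIdeal)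
        (F.presheaf.stalk (x : X)) := Module.equiv e
    exact isReflexive_of_ringEquiv σ.toRingEquiv (fun a m => rfl)

/-- variant with an explicit prime. -/
theorem isReflexive_stalk_iff' {V : X.Opens} (hV : IsAffineOpen V) (x : V)
    (y : PrimeSpectrum Γ(X, V)) (hy : hV.primeIdealOf x = y) :
    Module.IsReflexive (X.presheaf.stalk (x : X)) (F.presheaf.stalk (x : X)) ↔
      Module.IsReflexive (Localization.AtPrime y.asIdeal)
        (LocalizedModule y.asIdeal.primeCompl Γ(F, V)) := by
  subst hy
  exact isReflexive_stalk_iff F hV x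

end Transfer

end Groth.Agent.Lead.FreeLoc
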