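import Groth.Agent.Lib.Lead.HomSh4
import Groth.Agent.Lib.Lead.FreeLoc
import Groth.Agent.Lib.Helper13.WeakAss
import Groth.Agent.S4713
import Groth.Agent.S16484
import Groth.Agent.Lib.Helper13.GlobGen
import Groth.Agent.Lib.Helper13.InvQCoh
import Groth.Agent.Lib.Helper13.InvTensor

/-!
# Reflexive modules: sheaf reflexivity versus reflexivity of the stalks (lead)
-/

set_option autoImplicit false
universe u
open CategoryTheory CategoryTheory.Limits AlgebraicGeometry Opposite TopologicalSpace
open RefHull
open Groth.Agent.Helper13.QCoh Groth.Agent.Helper13.QCohLoc Groth.Agent.Helper13.LocFree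
open Groth.Agent.Helper13.FinType Groth.Agent.Helper28.ReflDepth

namespace Groth.Agent.Lead.HomSh

section Alg

/-- reflexivity of a localization from elementwise conditions on the evaluation map. -/
theorem isReflexive_localizedModule_of_forall {R : Type u} [CommRing R] [IsNoetherianRing R]
    (T : Submonoid R) (M : Type u) [AddCommGroup M] [Module R M] [Module.Finite R M]
    (h1 : ∀ x : M, Module.Dual.eval R M x = 0 → ∃ t : T, t • x = 0)
    (h2 : ∀ φ : Module.Dual R (Module.Dual R M),
      ∃ t : T, (t : R) • φ ∈ LinearMap.range (Module.Dual.eval R M)) :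
    Module.IsReflexive (Localization T) (LocalizedModule T M) := by
  constructor
  constructor
  · rw [injective_iff_map_eq_zero]
    intro z hz
    obtain ⟨⟨x, t⟩, hxt⟩ := IsLocalizedModule.surj T (LocalizedModule.mkLinearMap T M) z
    simp only at hxt
    have h3 : DD T M (Module.Dual.eval R M x) = 0 := by
      rw [DD_eval, ← hxt, Submonoid.smul_def, ← algebraMap_smul (Localization T) (t : R) z,
        map_smul, hz, smul_zero]
    obtain ⟨t', ht'⟩ := (IsLocalizedModule.eq_zero_iff T (DD T M)).1 h3
    have h4 : Module.Dual.eval R M ((t' : R) • x) = 0 := by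
      rw [map_smul]
      exact ht'
    obtain ⟨t'', ht''⟩ := h1 _ h4
    have h5 : LocalizedModule.mkLinearMap T M x = 0 :=
      (IsLocalizedModule.eq_zero_iff T _).2 ⟨t'' * t', by
        rw [Submonoid.smul_def, Submonoid.coe_mul, mul_smul]
        exact ht''⟩
    rw [h5] at hxt
    apply IsLocalizedModule.smul_injective (LocalizedModule.mkLinearMap T M) t
    dsimp only
    rw [hxt, smul_zero]
  · intro ω
    obtain ⟨⟨φ, t⟩, hφt⟩ := IsLocalizedModule.surj T (DD T M) ω
    simp only at hφt
    obtain ⟨t', x, hx⟩ := h2 φ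
    refine ⟨IsLocalizedModule.mk' (LocalizedModule.mkLinearMap T M) x (t' * t), ?_⟩
    apply IsLocalizedModule.smul_injective (DD T M) (t' * t)
    dsimp only
    have h6 : (t' * t) • Module.Dual.eval (Localization T) (LocalizedModule T M)
        (IsLocalizedModule.mk' (LocalizedModule.mkLinearMap T M) x (t' * t)) =
        Module.Dual.eval (Localization T) (LocalizedModule T M)
          ((t' * t) • IsLocalizedModule.mk' (LocalizedModule.mkLinearMap T M) x (t' * t)) := by
      rw [Submonoid.smul_def, Submonoid.smul_def,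
        ← algebraMap_smul (Localization T) ((t' * t : T) : R)
          (IsLocalizedModule.mk' (LocalizedModule.mkLinearMap T M) x (t' * t)),
        map_smul, algebraMap_smul]
    rw [h6, IsLocalizedModule.mk'_cancel', ← DD_eval, hx, map_smul, ← hφt, Submonoid.smul_def,
      Submonoid.smul_def, Submonoid.coe_mul, mul_smul]

/-- reflexivity passes to further localizations. -/
theorem isReflexive_localizedModule_mono {R : Type u} [CommRing R] [IsNoetherianRing R]
    (S T : Submonoid R) (hST : S ≤ T) (M : Type u) [AddCommGroup M] [Module R M]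
    [Module.Finite R M] [Module.IsReflexive (Localization S) (LocalizedModule S M)] :
    Module.IsReflexive (Localization T) (LocalizedModule T M) := by
  have hb := Module.bijective_dual_eval (Localization S) (LocalizedModule S M)
  apply isReflexive_localizedModule_of_forall
  · intro x hx
    obtain ⟨s, hs⟩ := exists_smul_eq_zero_of_eval_eq_zero S M hb.1 x hx
    exact ⟨⟨s, hST s.2⟩, hs⟩
  · intro φ
    obtain ⟨s, hs⟩ := exists_smul_mem_range_eval S M hb.2 φ
    exact ⟨⟨s, hST s.2⟩, hs⟩

/-- the algebraic comparison between the "sheafy" biduality map and `Module.Dual.eval`. -/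
theorem bijective_eval_iff {O : Type u} [CommRing O] {Fx Dx Ox : Type u}
    [AddCommGroup Fx] [Module O Fx] [AddCommGroup Dx] [Module O Dx] [AddCommGroup Ox] [Module O Ox]
    (u : Ox ≃ₗ[O] O) (E : Dx →ₗ[O] (Fx →ₗ[O] Ox)) (hE : Function.Bijective E)
    (B : Fx →ₗ[O] (Dx →ₗ[O] Ox)) (hB : ∀ v θ, B v θ = E θ v) :
    Function.Bijective B ↔ Function.Bijective (Module.Dual.eval O Fx) := by
  let Λ : Dx ≃ₗ[O] Module.Dual O Fx :=
    (LinearEquiv.ofBijective E hE).trans (LinearEquiv.congrRight u)
  let T : (Dx →ₗ[O] Ox) ≃ₗ[O] Module.Dual O (Module.Dual O Fx) := LinearEquiv.arrowCongr Λ u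
  have hT : ∀ v, T (B v) = Module.Dual.eval O Fx v := by
    intro v
    apply LinearMap.ext
    intro ξ
    obtain ⟨θ, rfl⟩ := Λ.surjective ξ
    rw [LinearEquiv.arrowCongr_apply, LinearEquiv.symm_apply_apply, hB, Module.Dual.eval_apply]
    rfl
  have hcomp : ⇑(Module.Dual.eval O Fx) = ⇑T ∘ ⇑B := by
    funext v
    exact (hT v).symm
  rw [hcomp]
  exact (Function.Bijective.of_comp_iff' T.bijective _).symm

end Alg

variable {X : Scheme.{u}}

/-- the stalk map of the biduality map, followed by evaluation, is `bidualAt`. -/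
theorem evalStalk_stalkMap_bidualMap (F : X.Modules) (x : X) (v : F.presheaf.stalk x) :
    evalStalk (dual F) (Coh.structureModule X) x (stalkMapₗ (bidualMap F) x v) =
      bidualAt F x v := by
  obtain ⟨U, hxU, s, rfl⟩ := TopCat.Presheaf.exists_germ_eq F.presheaf v
  rw [stalkMapₗ_germ, evalStalk_germ]
  rfl

/-- for `F` and its dual finitely presented: the stalk of `F` at `x` is reflexive iff the
biduality map is bijective on stalks at `x`. -/
theorem isReflexiveAt_iff_bijective (F : X.Modules)
    [SheafOfModules.IsFinitePresentation (R := X.ringCatSheaf) F]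
    [SheafOfModules.IsFinitePresentation (R := X.ringCatSheaf) (dual F)] (x : X) :
    IsReflexiveAt F x ↔ Function.Bijective (stalkMapₗ (bidualMap F) x) := by
  have hE : Function.Bijective (evalStalk F (Coh.structureModule X) x) := by
    refine ⟨Groth.Agent.S16484.result X F _ inferInstance x, fun φ => ?_⟩
    obtain ⟨W, hxW, g, hg⟩ := exists_sec_eq (G := Coh.structureModule X) x φ
    exact ⟨(homSh F _).presheaf.germ W x hxW g, by rw [evalStalk_germ]; exact hg⟩
  have hE' : Function.Bijective (evalStalk (dual F) (Coh.structureModule X) x) := by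
    refine ⟨Groth.Agent.S16484.result X (dual F) _ inferInstance x, fun φ => ?_⟩
    obtain ⟨W, hxW, g, hg⟩ := exists_sec_eq (G := Coh.structureModule X) x φ
    exact ⟨(homSh (dual F) _).presheaf.germ W x hxW g, by rw [evalStalk_germ]; exact hg⟩
  have h1 := bijective_eval_iff (Groth.Agent.Helper13.WeakAss.unitStalkEquiv x)
    (evalStalk F (Coh.structureModule X) x) hE (bidualAt F x) (fun v θ => rfl)
  have h2 : ⇑(bidualAt F x) = ⇑(evalStalk (dual F) (Coh.structureModule X) x) ∘
      ⇑(stalkMapₗ (bidualMap F) x) := by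
    funext v
    exact (evalStalk_stalkMap_bidualMap F x v).symm
  constructor
  · intro hr
    have hb : Function.Bijective (bidualAt F x) := h1.2 hr.bijective_dual_eval'
    rw [h2] at hb
    exact (Function.Bijective.of_comp_iff' hE' _).1 hb
  · intro hb
    refine ⟨h1.1 ?_⟩
    rw [h2]
    exact hE'.comp hb

theorem isIso_iff_stalkMapₗ_bijective {F G : X.Modules} (φ : F ⟶ G) :
    IsIso φ ↔ ∀ x : X, Function.Bijective (stalkMapₗ φ x) := by
  constructor
  · intro h x
    haveI : IsIso φ.mapPresheaf := by
      change IsIso ((Scheme.Modules.toPresheaf X).map φ)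
      infer_instance
    exact ConcreteCategory.bijective_of_isIso
      ((TopCat.Presheaf.stalkFunctor Ab.{u} x).map φ.mapPresheaf)
  · intro h
    exact isIso_of_stalk_bijective φ h

theorem isCoh_structureModule : Coh.IsCoh (Coh.structureModule X) :=
  ⟨Groth.Agent.Helper13.Inv.isQuasicoherent_of_isInvertible _
      Groth.Agent.Helper13.Inv.isInvertible_structureModule,
    Groth.Agent.Helper13.GlobGen.isFiniteType_of_isInvertible _
      Groth.Agent.Helper13.Inv.isInvertible_structureModule⟩

/-- **Sheaf reflexivity is stalkwise reflexivity** (coherent modules on a locally Noetherian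
scheme). -/
theorem isReflexive_iff_forall_isReflexiveAt [IsLocallyNoetherian X] (F : X.Modules)
    (hF : Coh.IsCoh F) : IsReflexive F ↔ ∀ x : X, IsReflexiveAt F x := by
  haveI := isFinitePresentation_of_isCoh hF
  have hO : Coh.IsCoh (Coh.structureModule X) := isCoh_structureModule
  haveI := isFinitePresentation_of_isCoh (isCoh_homSh hF hO)
  unfold IsReflexive
  rw [isIso_iff_stalkMapₗ_bijective]
  exact forall_congr' fun x => (isReflexiveAt_iff_bijective F x).symm

theorem mem_basicOpen_iff' {U : X.Opens} (hU : IsAffineOpen U) (x : X) (hxU : x ∈ U)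
    (c : Γ(X, U)) : x ∈ X.basicOpen c ↔ c ∉ (hU.primeIdealOf ⟨x, hxU⟩).asIdeal := by
  have h1 : hU.fromSpec (hU.primeIdealOf ⟨x, hxU⟩) = x := hU.fromSpec_primeIdealOf ⟨x, hxU⟩
  have h2 : (hU.primeIdealOf ⟨x, hxU⟩ ∈ hU.fromSpec ⁻¹ᵁ X.basicOpen c) ↔ x ∈ X.basicOpen c := by
    change hU.fromSpec (hU.primeIdealOf ⟨x, hxU⟩) ∈ X.basicOpen c ↔ _
    rw [h1]
  rw [← h2, hU.fromSpec_preimage_basicOpen]
  rfl

/-- reflexivity of stalks is stable under generization. -/
theorem isReflexiveAt_of_specializes [IsLocallyNoetherian X] (F : X.Modules) (hF : Coh.IsCoh F)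
    {x z : X} (h : x ⤳ z) (hz : IsReflexiveAt F z) : IsReflexiveAt F x := by
  haveI : F.IsQuasicoherent := hF.1
  haveI : SheafOfModules.IsFiniteType (R := X.ringCatSheaf) F := hF.2
  obtain ⟨_, ⟨V, hV, rfl⟩, hzV, -⟩ := X.isBasis_affineOpens.exists_subset_of_mem_open
    (Set.mem_univ z) isOpen_univ
  have hxV : x ∈ V := h.mem_open V.isOpen hzV
  haveI : IsNoetherianRing Γ(X, V) := IsLocallyNoetherian.component_noetherian ⟨V, hV⟩
  haveI : Module.Finite Γ(X, V) Γ(F, V) := finite_sections_of_isFiniteType F hV
  unfold IsReflexiveAt at hz ⊢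
  have hz' := (Groth.Agent.Lead.FreeLoc.isReflexive_stalk_iff F hV ⟨z, hzV⟩).1 hz
  refine (Groth.Agent.Lead.FreeLoc.isReflexive_stalk_iff F hV ⟨x, hxV⟩).2 ?_
  haveI := hz'
  apply isReflexive_localizedModule_mono (hV.primeIdealOf ⟨z, hzV⟩).asIdeal.primeCompl
    (hV.primeIdealOf ⟨x, hxV⟩).asIdeal.primeCompl
  intro c hc
  have hzc : z ∈ X.basicOpen c := (mem_basicOpen_iff' hV z hzV c).2 hc
  have hxc : x ∈ X.basicOpen c := h.mem_open (X.basicOpen c).isOpen hzc
  exact (mem_basicOpen_iff' hV x hxV c).1 hxc

/-- the three-fold equivalence. -/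
theorem isReflexive_tfae [IsLocallyNoetherian X] (F : X.Modules) (hF : Coh.IsCoh F) :
    [IsReflexive F, ∀ x : X, IsReflexiveAt F x,
      ∀ x : X, IsClosed ({x} : Set X) → IsReflexiveAt F x].TFAE := by
  tfae_have 1 ↔ 2 := isReflexive_iff_forall_isReflexiveAt F hF
  tfae_have 2 → 3 := fun h x _ => h x
  tfae_have 3 → 2 := by
    intro h x
    obtain ⟨z, hzx, hz⟩ := Groth.Agent.S4713.result X (closure {x}) isClosed_closure
      ⟨x, subset_closure rfl⟩
    exact isReflexiveAt_of_specializes F hF (specializes_iff_mem_closure.2 hzx) (h z hz)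
  tfae_finish

end Groth.Agent.Lead.HomSh
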