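import Mathlib

/-!
# Spreading out weakly regular sequences from `R_p` to `R_g`
-/

set_option autoImplicit false
set_option linter.style.haveILetI false
universe u
open RingTheory.Sequence Pointwise

namespace Groth.Agent.Lead.Vasc

variable {R : Type u} [CommRing R]

/-- Elementwise characterisation of weak regularity of (the image of) a sequence of `R` in a
localization of `R`. -/
theorem isWeaklyRegular_map_iff (T : Submonoid R) (B : Type u) [CommRing B] [Algebra R B]
    [IsLocalization T B] (as : List R) :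
    IsWeaklyRegular B (as.map (algebraMap R B)) ↔
      ∀ i (h : i < as.length), ∀ c : R,
        (∃ t ∈ T, t * (as[i] * c) ∈ Ideal.ofList (as.take i)) →
          ∃ t ∈ T, t * c ∈ Ideal.ofList (as.take i) := by
  rw [isWeaklyRegular_iff]
  have hJ : ∀ i : ℕ, (Ideal.ofList ((as.map (algebraMap R B)).take i) • (⊤ : Submodule B B)) =
      (Ideal.ofList (as.take i)).map (algebraMap R B) := by
    intro i
    rw [smul_eq_mul, Ideal.mul_top, ← List.map_take, Ideal.map_ofList]
  constructor
  · intro H i h c hc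
    have h' : i < (as.map (algebraMap R B)).length := by
      rw [List.length_map]
      exact h
    have H1 := H i h'
    rw [isSMulRegular_quotient_iff_mem_of_smul_mem, hJ] at H1
    have H2 := H1 (algebraMap R B c) (by
      rw [List.getElem_map, smul_eq_mul, ← map_mul]
      exact (IsLocalization.algebraMap_mem_map_algebraMap_iff T B _ _).mpr hc)
    exact (IsLocalization.algebraMap_mem_map_algebraMap_iff T B _ c).mp H2
  · intro H i h'
    have h : i < as.length := by
      have h2 := h'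
      rw [List.length_map] at h2
      exact h2
    rw [isSMulRegular_quotient_iff_mem_of_smul_mem, hJ]
    intro y hy
    obtain ⟨⟨c, t⟩, rfl⟩ := IsLocalization.mk'_surjective T y
    rw [List.getElem_map, smul_eq_mul, IsLocalization.mul_mk'_eq_mk'_of_mul,
      IsLocalization.mk'_mem_map_algebraMap_iff] at hy
    rw [IsLocalization.mk'_mem_map_algebraMap_iff]
    exact H i h c hy

theorem exists_mul_mem_of_fg (S : Submonoid R) (K J : Ideal R) (hK : K.FG)
    (h : ∀ c ∈ K, ∃ s ∈ S, s * c ∈ J) : ∃ g₀ ∈ S, ∀ c ∈ K, g₀ * c ∈ J := by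
  classical
  obtain ⟨T₀, hT₀⟩ := hK
  have h' : ∀ c ∈ T₀, ∃ s ∈ S, s * c ∈ J := fun c hc => h c (hT₀ ▸ Ideal.subset_span hc)
  choose! s hsS hsJ using h'
  refine ⟨∏ c ∈ T₀, s c, Submonoid.prod_mem S (fun c hc => hsS c hc), ?_⟩
  intro c hc
  rw [← hT₀] at hc
  induction hc using Submodule.span_induction with
  | mem c hc =>
    obtain ⟨t, ht⟩ := Finset.dvd_prod_of_mem s hc
    have h1 : (∏ c ∈ T₀, s c) * c = t * (s c * c) := by
      rw [ht]
      ring
    rw [h1]
    exact J.mul_mem_left _ (hsJ c hc)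
  | zero =>
    rw [mul_zero]
    exact J.zero_mem
  | add x y _ _ hx hy =>
    rw [mul_add]
    exact J.add_mem hx hy
  | smul a x _ hx =>
    have h1 : (∏ c ∈ T₀, s c) * (a • x) = a * ((∏ c ∈ T₀, s c) * x) := by
      rw [smul_eq_mul]
      ring
    rw [h1]
    exact J.mul_mem_left _ hx

/-- One step of spreading out. -/
theorem exists_spread [IsNoetherianRing R] (S : Submonoid R) (J : Ideal R) (b : R)
    (h : ∀ c : R, (∃ s ∈ S, s * (b * c) ∈ J) → ∃ s ∈ S, s * c ∈ J) :
    ∃ g₀ ∈ S, ∀ g : R, g₀ ∣ g → ∀ c : R,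
      (∃ t ∈ Submonoid.powers g, t * (b * c) ∈ J) → ∃ t ∈ Submonoid.powers g, t * c ∈ J := by
  have hC : ∀ c : R, c ∈ (J : Submodule R R).colon {b} ↔ c * b ∈ J := fun c => by
    rw [Submodule.mem_colon_singleton, smul_eq_mul]
  obtain ⟨g₀, hg₀S, hg₀⟩ := exists_mul_mem_of_fg S ((J : Submodule R R).colon {b}) J
    (IsNoetherian.noetherian _) (fun c hc => h c ⟨1, S.one_mem, by
      rw [one_mul, mul_comm]
      exact (hC c).mp hc⟩)
  refine ⟨g₀, hg₀S, ?_⟩
  rintro g ⟨h', rfl⟩ c ⟨t, htmem, ht⟩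
  obtain ⟨l, rfl⟩ := (Submonoid.mem_powers_iff _ _).mp htmem
  have h1 : (g₀ * h') ^ l * c ∈ (J : Submodule R R).colon {b} := by
    rw [hC]
    have h2 : (g₀ * h') ^ l * c * b = (g₀ * h') ^ l * (b * c) := by ring
    rw [h2]
    exact ht
  have h2 := hg₀ _ h1
  refine ⟨(g₀ * h') ^ (l + 1), (Submonoid.mem_powers_iff _ _).mpr ⟨l + 1, rfl⟩, ?_⟩
  have h3 : (g₀ * h') ^ (l + 1) * c = h' * (g₀ * ((g₀ * h') ^ l * c)) := by ring
  rw [h3]
  exact J.mul_mem_left _ h2

/-- Spreading out a weakly regular sequence. -/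
theorem exists_spread_list [IsNoetherianRing R] (p : Ideal R) [p.IsPrime] (as : List R)
    (h : IsWeaklyRegular (Localization.AtPrime p) (as.map (algebraMap R (Localization.AtPrime p)))) :
    ∃ g₀ ∈ p.primeCompl, ∀ g : R, g₀ ∣ g →
      IsWeaklyRegular (Localization.Away g) (as.map (algebraMap R (Localization.Away g))) := by
  classical
  rw [isWeaklyRegular_map_iff p.primeCompl] at h
  have key : ∀ i : ℕ, ∃ gi ∈ p.primeCompl, ∀ (hi : i < as.length), ∀ g : R, gi ∣ g →
      ∀ c : R, (∃ t ∈ Submonoid.powers g, t * (as[i] * c) ∈ Ideal.ofList (as.take i)) →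
        ∃ t ∈ Submonoid.powers g, t * c ∈ Ideal.ofList (as.take i) := by
    intro i
    by_cases hi : i < as.length
    · obtain ⟨gi, hgiS, hgi⟩ := exists_spread p.primeCompl (Ideal.ofList (as.take i)) as[i]
        (h i hi)
      exact ⟨gi, hgiS, fun _ => hgi⟩
    · exact ⟨1, p.primeCompl.one_mem, fun hi' => absurd hi' hi⟩
  choose gi hgiS hgi using key
  refine ⟨∏ i ∈ Finset.range as.length, gi i,
    Submonoid.prod_mem _ (fun i _ => hgiS i), ?_⟩
  intro g hdvd
  rw [isWeaklyRegular_map_iff (Submonoid.powers g)]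
  intro i hi c hc
  exact hgi i hi g
    (dvd_trans (Finset.dvd_prod_of_mem gi (Finset.mem_range.mpr hi)) hdvd) c hc

/-- Spreading out an equality of ideals. -/
theorem exists_spread_ideal [IsNoetherianRing R] (p : Ideal R) [p.IsPrime] (I Jr : Ideal R)
    (hle : Jr ≤ I)
    (h : I.map (algebraMap R (Localization.AtPrime p)) ≤
      Jr.map (algebraMap R (Localization.AtPrime p))) :
    ∃ g₁ ∈ p.primeCompl, ∀ g : R, g₁ ∣ g →
      I.map (algebraMap R (Localization.Away g)) = Jr.map (algebraMap R (Localization.Away g)) := by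
  obtain ⟨g₁, hg₁S, hg₁⟩ := exists_mul_mem_of_fg p.primeCompl I Jr (IsNoetherian.noetherian _)
    (fun c hc => (IsLocalization.algebraMap_mem_map_algebraMap_iff p.primeCompl
      (Localization.AtPrime p) Jr c).mp (h (Ideal.mem_map_of_mem _ hc)))
  refine ⟨g₁, hg₁S, ?_⟩
  rintro g ⟨h', rfl⟩
  apply le_antisymm
  · rw [Ideal.map_le_iff_le_comap]
    intro c hc
    rw [Ideal.mem_comap,
      IsLocalization.algebraMap_mem_map_algebraMap_iff (Submonoid.powers (g₁ * h'))]
    refine ⟨g₁ * h', Submonoid.mem_powers _, ?_⟩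
    have h1 : g₁ * h' * c = h' * (g₁ * c) := by ring
    rw [h1]
    exact Jr.mul_mem_left _ (hg₁ c hc)
  · exact Ideal.map_mono hle

/-- Multiplying the members of a weakly regular sequence by units. -/
theorem isWeaklyRegular_unit_mul {A : Type u} [CommRing A] :
    ∀ (r : ℕ) (M : Type u) [AddCommGroup M] [Module A M] (x w : Fin r → A),
      (∀ i, IsUnit (w i)) → IsWeaklyRegular M (List.ofFn x) →
        IsWeaklyRegular M (List.ofFn fun i => w i * x i) := by
  intro r
  induction r with
  | zero =>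
    intro M _ _ x w _ _
    rw [List.ofFn_zero]
    exact IsWeaklyRegular.nil A M
  | succ r ih =>
    intro M _ _ x w hw h
    rw [List.ofFn_succ] at h ⊢
    rw [isWeaklyRegular_cons_iff] at h ⊢
    obtain ⟨h1, h2⟩ := h
    refine ⟨(IsUnit.isSMulRegular M (hw 0)).mul h1, ?_⟩
    have h3 := ih (QuotSMulTop (x 0) M) (fun i => x i.succ) (fun i => w i.succ)
      (fun i => hw i.succ) h2
    have heq : (x 0) • (⊤ : Submodule A M) = (w 0 * x 0) • (⊤ : Submodule A M) := by
      rw [← Submodule.ideal_span_singleton_smul, ← Submodule.ideal_span_singleton_smul,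
        Ideal.span_singleton_mul_left_unit (hw 0)]
    exact ((Submodule.quotEquivOfEq _ _ heq).isWeaklyRegular_congr _).mp h3

end Groth.Agent.Lead.Vasc
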