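import Mathlib
import Groth.Agent.Lib.Lead.Hom19

/-!
# Rank constancy of modules of finite projective dimension at associated primes

A nonzero ideal of finite projective dimension (over a Noetherian local ring), or with a finite
free resolution (over a Noetherian ring), contains a non-zero-divisor.
-/

set_option autoImplicit false
set_option linter.style.haveILetI false
universe u
open CategoryTheory IsLocalRing

namespace Groth.Agent.Lead.Vasc

variable {R : Type u} [CommRing R]

section AssLoc

variable [IsNoetherianRing R]

theorem exists_ann_of_isAssociatedPrime (P : Ideal R) (hP : IsAssociatedPrime P R) :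
    ∃ z : R, ∀ x : R, x ∈ P ↔ x * z = 0 := by
  obtain ⟨-, z, hz⟩ := isAssociatedPrime_iff.mp hP
  refine ⟨z, fun x => ?_⟩
  rw [hz, Submodule.mem_colon_singleton, Submodule.mem_bot, smul_eq_mul]

/-- The localization at an associated prime has depth zero. -/
theorem depthZero_of_isAssociatedPrime (P : Ideal R) [P.IsPrime] (hP : IsAssociatedPrime P R) :
    ∃ a : Localization.AtPrime P, a ≠ 0 ∧
      ∀ r ∈ maximalIdeal (Localization.AtPrime P), r * a = 0 := by
  obtain ⟨z, hmem⟩ := exists_ann_of_isAssociatedPrime P hP
  refine ⟨algebraMap R (Localization.AtPrime P) z, ?_, ?_⟩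
  · intro h0
    obtain ⟨m, hm⟩ :=
      (IsLocalization.map_eq_zero_iff P.primeCompl (Localization.AtPrime P) z).mp h0
    exact m.2 ((hmem _).mpr hm)
  · intro r hr
    obtain ⟨⟨x, s⟩, rfl⟩ := IsLocalization.mk'_surjective P.primeCompl r
    rw [IsLocalization.AtPrime.mk'_mem_maximal_iff (Localization.AtPrime P) P] at hr
    rw [mul_comm, IsLocalization.mul_mk'_eq_mk'_of_mul, mul_comm, (hmem x).mp hr,
      IsLocalization.mk'_zero]

/-- A finite module of finite projective dimension is free at every associated prime of the
ring. -/
theorem free_localized (P : Ideal R) [P.IsPrime] (hP : IsAssociatedPrime P R) (n : ℕ)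
    (M : Type u) [AddCommGroup M] [Module R M] [Module.Finite R M]
    (h : HasProjectiveDimensionLT (ModuleCat.of R M) (n + 1)) :
    Module.Free (Localization.AtPrime P) (LocalizedModule P.primeCompl M) := by
  obtain ⟨a, ha, ham⟩ := depthZero_of_isAssociatedPrime P hP
  exact Hom.free_of_hasProjectiveDimensionLT_of_depth_zero ha ham n _
    (Hom.hasProjectiveDimensionLT_localizedModule P.primeCompl M n h)

/-- Additivity of the rank at an associated prime along `0 → K → Rᵏ → M → 0`. -/
theorem finrank_localized_add (P : Ideal R) [P.IsPrime] (hP : IsAssociatedPrime P R)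
    {K M : Type u} [AddCommGroup K] [Module R K] [Module.Finite R K] [AddCommGroup M]
    [Module R M] [Module.Finite R M] (k : ℕ) (i : K →ₗ[R] (Fin k → R))
    (f : (Fin k → R) →ₗ[R] M) (hi : Function.Injective i) (hex : Function.Exact i f)
    (hf : Function.Surjective f) (a b : ℕ)
    (hK : HasProjectiveDimensionLT (ModuleCat.of R K) (a + 1))
    (hM : HasProjectiveDimensionLT (ModuleCat.of R M) (b + 1)) :
    Module.finrank (Localization.AtPrime P) (LocalizedModule P.primeCompl K) +
      Module.finrank (Localization.AtPrime P) (LocalizedModule P.primeCompl M) = k := by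
  haveI : Nontrivial R := (algebraMap R (Localization.AtPrime P)).domain_nontrivial
  haveI : Module.Free (Localization.AtPrime P) (LocalizedModule P.primeCompl K) :=
    free_localized P hP a K hK
  haveI : Module.Free (Localization.AtPrime P) (LocalizedModule P.primeCompl M) :=
    free_localized P hP b M hM
  have hex' := IsLocalizedModule.map_exact P.primeCompl
    (LocalizedModule.mkLinearMap P.primeCompl K)
    (LocalizedModule.mkLinearMap P.primeCompl (Fin k → R))
    (LocalizedModule.mkLinearMap P.primeCompl M) i f hex
  have hi' := IsLocalizedModule.map_injective P.primeCompl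
    (LocalizedModule.mkLinearMap P.primeCompl K)
    (LocalizedModule.mkLinearMap P.primeCompl (Fin k → R)) i hi
  have hf' := IsLocalizedModule.map_surjective P.primeCompl
    (LocalizedModule.mkLinearMap P.primeCompl (Fin k → R))
    (LocalizedModule.mkLinearMap P.primeCompl M) f hf
  obtain ⟨i', hi'e⟩ : ∃ i' : LocalizedModule P.primeCompl K →ₗ[Localization.AtPrime P]
      LocalizedModule P.primeCompl (Fin k → R), ⇑i' = ⇑(IsLocalizedModule.map P.primeCompl
        (LocalizedModule.mkLinearMap P.primeCompl K)
        (LocalizedModule.mkLinearMap P.primeCompl (Fin k → R)) i) :=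
    ⟨LinearMap.extendScalarsOfIsLocalization P.primeCompl (Localization.AtPrime P)
      (IsLocalizedModule.map P.primeCompl
        (LocalizedModule.mkLinearMap P.primeCompl K)
        (LocalizedModule.mkLinearMap P.primeCompl (Fin k → R)) i), rfl⟩
  obtain ⟨f', hf'e⟩ : ∃ f' : LocalizedModule P.primeCompl (Fin k → R) →ₗ[Localization.AtPrime P]
      LocalizedModule P.primeCompl M, ⇑f' = ⇑(IsLocalizedModule.map P.primeCompl
        (LocalizedModule.mkLinearMap P.primeCompl (Fin k → R))
        (LocalizedModule.mkLinearMap P.primeCompl M) f) :=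
    ⟨LinearMap.extendScalarsOfIsLocalization P.primeCompl (Localization.AtPrime P)
      (IsLocalizedModule.map P.primeCompl
        (LocalizedModule.mkLinearMap P.primeCompl (Fin k → R))
        (LocalizedModule.mkLinearMap P.primeCompl M) f), rfl⟩
  rw [← hi'e] at hi'
  rw [← hf'e] at hf'
  rw [← hi'e, ← hf'e] at hex'
  obtain ⟨l, hl⟩ := Module.projective_lifting_property f' LinearMap.id hf'
  have e := (hex'.splitSurjectiveEquiv hi' ⟨l, hl⟩).1
  have h1 : Module.finrank (Localization.AtPrime P)
      (LocalizedModule P.primeCompl (Fin k → R)) = k := by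
    rw [Module.finrank_of_isLocalizedModule_of_free (Localization.AtPrime P) P.primeCompl
      (LocalizedModule.mkLinearMap P.primeCompl (Fin k → R))]
    simp
  have h2 := e.finrank_eq
  rw [Module.finrank_prod, h1] at h2
  exact h2.symm

end AssLoc

/-- Over a Noetherian local ring, a finite module of finite projective dimension has the same
rank at all associated primes of the ring. -/
theorem finrank_localized_const [IsLocalRing R] [IsNoetherianRing R] :
    ∀ (n : ℕ) (M : Type u) [AddCommGroup M] [Module R M] [Module.Finite R M],
      HasProjectiveDimensionLT (ModuleCat.of R M) (n + 1) →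
      ∃ r : ℕ, ∀ (P : Ideal R) [P.IsPrime], IsAssociatedPrime P R →
        Module.finrank (Localization.AtPrime P) (LocalizedModule P.primeCompl M) = r := by
  intro n
  induction n with
  | zero =>
    intro M _ _ _ h
    rw [zero_add, ← projective_iff_hasProjectiveDimensionLT_one, ← IsProjective.iff_projective] at h
    haveI := h
    haveI : Module.Free R M := Module.free_of_flat_of_isLocalRing
    refine ⟨Module.finrank R M, fun P _ _ => ?_⟩
    exact Module.finrank_of_isLocalizedModule_of_free (Localization.AtPrime P) P.primeCompl
      (LocalizedModule.mkLinearMap P.primeCompl M)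
  | succ n ih =>
    intro M _ _ _ h
    obtain ⟨k, f, surjf, -⟩ := Hom.exists_minimal_cover (R := R) M
    let S := f.shortComplexKer
    have hS : S.ShortExact := LinearMap.shortExact_shortComplexKer surjf
    have hPpd : HasProjectiveDimensionLT S.X₂ (n + 1) := by
      haveI : Module.Projective R (Fin k → R) := Module.Projective.of_free
      haveI : Projective S.X₂ := (IsProjective.iff_projective _).mp inferInstance
      exact hasProjectiveDimensionLT_of_ge S.X₂ 1 (n + 1) (by omega)
    have hKpd : HasProjectiveDimensionLT (ModuleCat.of R (LinearMap.ker f)) (n + 1) :=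
      hS.hasProjectiveDimensionLT_X₁ (n + 1) hPpd h
    obtain ⟨rK, hrK⟩ := ih (LinearMap.ker f) hKpd
    refine ⟨k - rK, fun P _ hP => ?_⟩
    have hadd := finrank_localized_add P hP k (LinearMap.ker f).subtype f
      (Submodule.injective_subtype _) f.exact_subtype_ker_map surjf n (n + 1) hKpd h
    rw [hrK P hP] at hadd
    omega

/-! ### Finite free resolutions -/

/-- `HasFFR R e M χ`: `M` has a finite free resolution of length `≤ e` by finite free modules, with
Euler characteristic `χ`. -/
def HasFFR (R : Type u) [CommRing R] : ℕ → ∀ (M : Type u) [AddCommGroup M] [Module R M], ℤ → Prop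
  | 0 => fun M _ _ χ => ∃ k : ℕ, (k : ℤ) = χ ∧ Nonempty (M ≃ₗ[R] (Fin k → R))
  | e + 1 => fun M _ _ χ => ∃ (k : ℕ) (K : Type u) (_ : AddCommGroup K) (_ : Module R K)
      (i : K →ₗ[R] (Fin k → R)) (f : (Fin k → R) →ₗ[R] M),
      Function.Injective i ∧ Function.Exact i f ∧ Function.Surjective f ∧
        HasFFR R e K ((k : ℤ) - χ)

theorem HasFFR.finite_pd : ∀ (e : ℕ) (M : Type u) [AddCommGroup M] [Module R M] (χ : ℤ),
    HasFFR R e M χ →
      Module.Finite R M ∧ HasProjectiveDimensionLT (ModuleCat.of R M) (e + 1) := by
  intro e
  induction e with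
  | zero =>
    intro M _ _ χ h
    obtain ⟨k, -, ⟨eq⟩⟩ := h
    haveI : Module.Free R M := Module.Free.of_equiv eq.symm
    refine ⟨Module.Finite.equiv eq.symm, ?_⟩
    rw [zero_add, ← projective_iff_hasProjectiveDimensionLT_one, ← IsProjective.iff_projective]
    exact Module.Projective.of_free
  | succ e ih =>
    intro M _ _ χ h
    obtain ⟨k, K, _, _, i, f, hi, hex, hf, hK⟩ := h
    obtain ⟨finK, pdK⟩ := ih K _ hK
    refine ⟨Module.Finite.of_surjective f hf, ?_⟩
    let S : ShortComplex (ModuleCat.{u} R) :=
      ModuleCat.shortComplexOfCompEqZero i f hex.linearMap_comp_eq_zero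
    have hS : S.ShortExact := ModuleCat.shortComplex_shortExact S hex hi hf
    have hX2 : HasProjectiveDimensionLT S.X₂ (e + 1 + 1) := by
      haveI : Module.Projective R (Fin k → R) := Module.Projective.of_free
      haveI : Projective S.X₂ := (IsProjective.iff_projective _).mp inferInstance
      exact hasProjectiveDimensionLT_of_ge S.X₂ 1 (e + 1 + 1) (by omega)
    exact hS.hasProjectiveDimensionLT_X₃ (e + 1) pdK hX2

theorem HasFFR.finrank_localized [IsNoetherianRing R] (P : Ideal R) [P.IsPrime]
    (hP : IsAssociatedPrime P R) :
    ∀ (e : ℕ) (M : Type u) [AddCommGroup M] [Module R M] (χ : ℤ), HasFFR R e M χ →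
      (Module.finrank (Localization.AtPrime P) (LocalizedModule P.primeCompl M) : ℤ) = χ := by
  haveI : Nontrivial R := (algebraMap R (Localization.AtPrime P)).domain_nontrivial
  intro e
  induction e with
  | zero =>
    intro M _ _ χ h
    obtain ⟨k, hk, ⟨eq⟩⟩ := h
    haveI : Module.Free R M := Module.Free.of_equiv eq.symm
    rw [Module.finrank_of_isLocalizedModule_of_free (Localization.AtPrime P) P.primeCompl
      (LocalizedModule.mkLinearMap P.primeCompl M), eq.finrank_eq, Module.finrank_fin_fun, hk]
  | succ e ih =>
    intro M _ _ χ h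
    have hfin := HasFFR.finite_pd (e + 1) M χ h
    obtain ⟨k, K, _, _, i, f, hi, hex, hf, hK⟩ := h
    have hfinK := HasFFR.finite_pd e K _ hK
    haveI := hfin.1
    haveI := hfinK.1
    have hadd := finrank_localized_add P hP k i f hi hex hf e (e + 1) hfinK.2 hfin.2
    have hKr := ih K _ hK
    have hadd' : (Module.finrank (Localization.AtPrime P) (LocalizedModule P.primeCompl K) : ℤ) +
        (Module.finrank (Localization.AtPrime P) (LocalizedModule P.primeCompl M) : ℤ) = k := by
      exact_mod_cast hadd
    rw [hKr] at hadd'
    linarith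

/-! ### Existence of non-zero-divisors -/

/-- A nonzero ideal of finite projective dimension having constant rank at the associated primes
of a Noetherian ring contains a non-zero-divisor. -/
theorem exists_nonZeroDivisor_mem_of_const_finrank [IsNoetherianRing R] (I : Ideal R)
    (hI : I ≠ ⊥) (n : ℕ) (hpd : HasProjectiveDimensionLT (ModuleCat.of R I) (n + 1)) (c : ℤ)
    (hc : ∀ (P : Ideal R) [P.IsPrime], IsAssociatedPrime P R →
      (Module.finrank (Localization.AtPrime P) (LocalizedModule P.primeCompl I) : ℤ) = c) :
    ∃ x ∈ I, x ∈ nonZeroDivisors R := by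
  by_contra hcon
  push Not at hcon
  have hdisj : Disjoint (I : Set R) (nonZeroDivisors R : Set R) := by
    rw [Set.disjoint_left]
    exact fun x hx => hcon x hx
  obtain ⟨P, hPass, hIP⟩ : ∃ P ∈ associatedPrimes R R, I ≤ P :=
    (I.subset_union_prime_finite (associatedPrimes.finite ..) (f := id) 0 0
      fun _ h _ _ ↦ h.1).1 <|
    biUnion_associatedPrimes_eq_compl_nonZeroDivisors R ▸ hdisj.subset_compl_right
  haveI : P.IsPrime := hPass.isPrime
  -- Step A: the common rank is zero
  have hc0 : c = 0 := by
    by_contra hne
    obtain ⟨z, hz⟩ := exists_ann_of_isAssociatedPrime P hPass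
    haveI hfree : Module.Free (Localization.AtPrime P) (LocalizedModule P.primeCompl I) :=
      free_localized P hPass n I hpd
    have hpos : Module.finrank (Localization.AtPrime P)
        (LocalizedModule P.primeCompl I) ≠ 0 := by
      intro h0
      apply hne
      rw [← hc P hPass, h0]
      rfl
    have hz0 : algebraMap R (Localization.AtPrime P) z ≠ 0 := by
      intro h0
      obtain ⟨m, hm⟩ :=
        (IsLocalization.map_eq_zero_iff P.primeCompl (Localization.AtPrime P) z).mp h0
      exact m.2 ((hz _).mpr hm)
    obtain ⟨j, hj⟩ : ∃ j : LocalizedModule P.primeCompl I →ₗ[R] Localization.AtPrime P,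
        j = IsLocalizedModule.map P.primeCompl (LocalizedModule.mkLinearMap P.primeCompl I)
          (Algebra.linearMap R (Localization.AtPrime P)) I.subtype := ⟨_, rfl⟩
    have hjinj : Function.Injective j := by
      rw [hj]
      exact IsLocalizedModule.map_injective P.primeCompl _ _ I.subtype
        (Submodule.injective_subtype I)
    have hjmk : ∀ m : I, j (LocalizedModule.mkLinearMap P.primeCompl I m) =
        algebraMap R (Localization.AtPrime P) (m : R) := by
      intro m
      rw [hj, IsLocalizedModule.map_apply]
      rfl
    have hkill : ∀ y : LocalizedModule P.primeCompl I,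
        j y * algebraMap R (Localization.AtPrime P) z = 0 := by
      intro y
      obtain ⟨⟨m, s⟩, hms⟩ :=
        IsLocalizedModule.surj P.primeCompl (LocalizedModule.mkLinearMap P.primeCompl I) y
      have h1 : j (s • y) = algebraMap R (Localization.AtPrime P) (m : R) := by
        rw [hms, hjmk]
      have h2 : j (s • y) = algebraMap R (Localization.AtPrime P) (s : R) * j y := by
        rw [Submonoid.smul_def, map_smul, Algebra.smul_def]
      have hu : IsUnit (algebraMap R (Localization.AtPrime P) (s : R)) :=
        IsLocalization.map_units (Localization.AtPrime P) s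
      have h3 : algebraMap R (Localization.AtPrime P) (s : R) *
          (j y * algebraMap R (Localization.AtPrime P) z) = 0 := by
        rw [← mul_assoc, ← h2, h1, ← map_mul, (hz _).mp (hIP m.2), map_zero]
      exact (hu.mul_right_eq_zero).mp h3
    obtain ⟨j', hj'⟩ : ∃ j' : LocalizedModule P.primeCompl I →ₗ[Localization.AtPrime P]
        Localization.AtPrime P, ∀ y, j' y = j y :=
      ⟨LinearMap.extendScalarsOfIsLocalization P.primeCompl (Localization.AtPrime P) j,
        fun y => rfl⟩
    let b := Module.Free.chooseBasis (Localization.AtPrime P) (LocalizedModule P.primeCompl I)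
    rw [Module.finrank_eq_card_chooseBasisIndex] at hpos
    obtain ⟨i0⟩ : Nonempty (Module.Free.ChooseBasisIndex (Localization.AtPrime P)
        (LocalizedModule P.primeCompl I)) := Fintype.card_pos_iff.mp (Nat.pos_of_ne_zero hpos)
    have h4 : j' ((algebraMap R (Localization.AtPrime P) z) • b i0) = 0 := by
      rw [map_smul, smul_eq_mul, hj', mul_comm]
      exact hkill _
    have h5 : (algebraMap R (Localization.AtPrime P) z) • b i0 = 0 := by
      apply hjinj
      rw [map_zero, ← hj', h4]
    have h6 : b.repr ((algebraMap R (Localization.AtPrime P) z) • b i0) = 0 := by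
      rw [h5, map_zero]
    rw [map_smul, b.repr_self, Finsupp.smul_single, smul_eq_mul, mul_one,
      Finsupp.single_eq_zero] at h6
    exact hz0 h6
  -- Step B: a nonzero element survives at some associated prime
  obtain ⟨x, hxI, hx0⟩ := Submodule.exists_mem_ne_zero_of_ne_bot hI
  obtain ⟨Q, hQass, hQ⟩ := exists_le_isAssociatedPrime_of_isNoetherianRing R x hx0
  haveI : Q.IsPrime := hQass.isPrime
  haveI hfreeQ : Module.Free (Localization.AtPrime Q) (LocalizedModule Q.primeCompl I) :=
    free_localized Q hQass n I hpd
  have h0 : Module.finrank (Localization.AtPrime Q) (LocalizedModule Q.primeCompl I) = 0 := by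
    have := hc Q hQass
    rw [hc0] at this
    exact_mod_cast this
  haveI : Subsingleton (LocalizedModule Q.primeCompl I) :=
    (Module.finrank_eq_zero_iff_of_free (Localization.AtPrime Q) _).mp h0
  have hzero : LocalizedModule.mkLinearMap Q.primeCompl I ⟨x, hxI⟩ = 0 := Subsingleton.elim _ _
  obtain ⟨s, hs⟩ := (IsLocalizedModule.eq_zero_iff Q.primeCompl
    (LocalizedModule.mkLinearMap Q.primeCompl I)).mp hzero
  have hsx : (s : R) * x = 0 := by
    have := congrArg Subtype.val hs
    simpa [Submonoid.smul_def] using this
  exact s.2 (hQ (by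
    rw [Submodule.mem_colon_singleton, Submodule.mem_bot, smul_eq_mul]
    exact hsx))

/-- A nonzero ideal of finite projective dimension in a Noetherian local ring contains a
non-zero-divisor. -/
theorem exists_nonZeroDivisor_mem [IsLocalRing R] [IsNoetherianRing R] (I : Ideal R)
    (hI : I ≠ ⊥) (n : ℕ) (hpd : HasProjectiveDimensionLT (ModuleCat.of R I) n) :
    ∃ x ∈ I, x ∈ nonZeroDivisors R := by
  have hpd' : HasProjectiveDimensionLT (ModuleCat.of R I) (n + 1) :=
    hasProjectiveDimensionLT_of_ge _ n (n + 1) (by omega)
  obtain ⟨r, hr⟩ := finrank_localized_const n I hpd'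
  exact exists_nonZeroDivisor_mem_of_const_finrank I hI n hpd' r
    (fun P _ hP => by rw [hr P hP])

/-- A nonzero ideal with a finite free resolution in a Noetherian ring contains a
non-zero-divisor. -/
theorem exists_nonZeroDivisor_mem_of_hasFFR [IsNoetherianRing R] (I : Ideal R) (hI : I ≠ ⊥)
    (e : ℕ) (χ : ℤ) (h : HasFFR R e I χ) : ∃ x ∈ I, x ∈ nonZeroDivisors R := by
  obtain ⟨-, hpd⟩ := HasFFR.finite_pd e I χ h
  exact exists_nonZeroDivisor_mem_of_const_finrank I hI e hpd χ
    (fun P _ hP => HasFFR.finrank_localized P hP e I χ h)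

end Groth.Agent.Lead.Vasc
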