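import Mathlib
import Groth.Agent.Lib.Lead.Vasc1

/-!
# Coset prime avoidance and non-zero-divisors in cosets `f + I ^ 2`
(The coset prime avoidance lemma is copied from `Groth.Agent.Helper23.exists_add_notMem_of_primes`.)
-/

set_option autoImplicit false
set_option linter.style.haveILetI false
universe u
open CategoryTheory IsLocalRing

namespace Groth.Agent.Lead.Vasc

/-- Prime avoidance for a coset: if no prime of the finite family contains `(x) + I`,
some element of `x + I` lies in none of them. -/
theorem exists_add_notMem_of_primes {R : Type*} [CommRing R] (I : Ideal R) (x : R)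
    (s : Finset (Ideal R))
    (hs : ∀ p ∈ s, p.IsPrime ∧ ¬ (Ideal.span {x} ⊔ I ≤ p)) :
    ∃ i ∈ I, ∀ p ∈ s, x + i ∉ p := by
  classical
  induction hn : s.card generalizing s with
  | zero =>
    refine ⟨0, I.zero_mem, ?_⟩
    rw [Finset.card_eq_zero.mp hn]
    simp
  | succ n ih =>
    have hne : s.Nonempty := by rw [← Finset.card_pos]; omega
    obtain ⟨q, hq⟩ := s.exists_minimal hne
    have hqs : q ∈ s := hq.1
    obtain ⟨i₀, hi₀I, hi₀⟩ := ih (s.erase q) (fun p hp => hs p (Finset.mem_of_mem_erase hp))
      (by rw [Finset.card_erase_of_mem hqs, hn]; rfl)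
    by_cases hxq : x + i₀ ∈ q
    · have hqprime := (hs q hqs).1
      have hIq : ¬ I ≤ q := by
        intro hIq
        apply (hs q hqs).2
        rw [sup_le_iff, Ideal.span_singleton_le_iff_mem]
        refine ⟨?_, hIq⟩
        have : x = (x + i₀) - i₀ := by ring
        rw [this]; exact q.sub_mem hxq (hIq hi₀I)
      obtain ⟨t, htI, htq⟩ := SetLike.not_le_iff_exists.mp hIq
      have hr : ∀ p ∈ s.erase q, ∃ r ∈ p, r ∉ q := by
        intro p hp
        have hpq : ¬ p ≤ q := by
          intro hle
          have := hq.2 (Finset.mem_of_mem_erase hp) hle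
          exact (Finset.ne_of_mem_erase hp) (le_antisymm hle this)
        exact SetLike.not_le_iff_exists.mp hpq
      choose! r hrp hrq using hr
      refine ⟨i₀ + t * ∏ p ∈ s.erase q, r p, I.add_mem hi₀I (I.mul_mem_right _ htI), ?_⟩
      intro p hp
      by_cases hpq : p = q
      · subst hpq
        intro hmem
        have h1 : t * ∏ p' ∈ s.erase p, r p' ∈ p := by
          have : t * ∏ p' ∈ s.erase p, r p' =
              (x + (i₀ + t * ∏ p' ∈ s.erase p, r p')) - (x + i₀) := by ring
          rw [this]; exact p.sub_mem hmem hxq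
        rcases hqprime.mem_or_mem h1 with h | h
        · exact htq h
        · rw [Ideal.IsPrime.prod_mem_iff (hp := hqprime)] at h
          obtain ⟨p', hp', h'⟩ := h
          exact hrq p' hp' h'
      · have hpe : p ∈ s.erase q := Finset.mem_erase.mpr ⟨hpq, hp⟩
        intro hmem
        apply hi₀ p hpe
        have h2 : t * ∏ p' ∈ s.erase q, r p' ∈ p :=
          p.mul_mem_left _ (Ideal.mem_of_dvd p (Finset.dvd_prod_of_mem r hpe) (hrp p hpe))
        have : x + i₀ = (x + (i₀ + t * ∏ p' ∈ s.erase q, r p')) - t * ∏ p' ∈ s.erase q, r p' := by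
          ring
        rw [this]; exact p.sub_mem hmem h2
    · refine ⟨i₀, hi₀I, fun p hp => ?_⟩
      by_cases h : p = q
      · rw [h]; exact hxq
      · exact hi₀ p (Finset.mem_erase.mpr ⟨h, hp⟩)


variable {R : Type u} [CommRing R]

/-- In a Noetherian local ring, if the nonzero ideal `I` has finite projective dimension then every
coset `f + I ^ 2` contains a non-zero-divisor. -/
theorem exists_nonZeroDivisor_coset [IsLocalRing R] [IsNoetherianRing R] (I : Ideal R) (n : ℕ)
    (hpd : HasProjectiveDimensionLT (ModuleCat.of R I) n) (hI : I ≠ ⊥) (f : R) :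
    ∃ j ∈ I ^ 2, f + j ∈ nonZeroDivisors R := by
  classical
  obtain ⟨y, hyI, hy⟩ := exists_nonZeroDivisor_mem I hI n hpd
  have hfin : (associatedPrimes R R).Finite := associatedPrimes.finite R R
  have hunion := biUnion_associatedPrimes_eq_compl_nonZeroDivisors R
  have hcond : ∀ p ∈ hfin.toFinset, p.IsPrime ∧ ¬ (Ideal.span {f} ⊔ I ^ 2 ≤ p) := by
    intro p hp
    rw [Set.Finite.mem_toFinset] at hp
    haveI : p.IsPrime := hp.isPrime
    refine ⟨hp.isPrime, fun hle => ?_⟩
    have hIp : I ≤ p := Ideal.IsPrime.le_of_pow_le (le_sup_right.trans hle)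
    have hmem : y ∈ ⋃ q ∈ associatedPrimes R R, (q : Set R) := Set.mem_biUnion hp (hIp hyI)
    rw [hunion] at hmem
    exact hmem hy
  obtain ⟨j, hj, hjp⟩ := exists_add_notMem_of_primes (I ^ 2) f hfin.toFinset hcond
  refine ⟨j, hj, ?_⟩
  by_contra hnz
  have hmem : f + j ∈ ((nonZeroDivisors R : Set R))ᶜ := hnz
  rw [← hunion] at hmem
  obtain ⟨q, hq, hfq⟩ := Set.mem_iUnion₂.mp hmem
  exact hjp q (hfin.mem_toFinset.mpr hq) hfq

end Groth.Agent.Lead.Vasc
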