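import Mathlib
import Groth.Agent.Lib.Lead.Vasc2
import Groth.Agent.Lib.Lead.PD1

/-!
# Change of rings `R → R ⧸ (x₀)` in Vasconcelos' theorem

If `x₀ ∈ I` generates a free direct summand of `I / I²` (witnessed by a linear map
`φ : I → (R ⧸ I)^{r+1}` with `φ x₀ = e₀`), then `I / x₀ R` is a direct summand of `I / x₀ I` as a
module over `R ⧸ (x₀)`, and the remaining coordinates of `φ` descend.
-/

set_option autoImplicit false
set_option linter.style.haveILetI false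
universe u
open CategoryTheory IsLocalRing Pointwise

namespace Groth.Agent.Lead.Vasc

variable {R : Type u} [CommRing R]

theorem ring_change_aux (I J : Ideal R) (x0 : R) (hx0 : x0 ∈ I) (hx0J : x0 ∈ J)
    (hJgen : ∀ a ∈ J, ∃ t, t * x0 = a) (n : ℕ)
    (hQ : HasProjectiveDimensionLT
      (ModuleCat.of (R ⧸ J) (↥I ⧸ (J • (⊤ : Submodule R I)))) n)
    (r : ℕ) (φ : I →ₗ[R] (Fin (r + 1) → R ⧸ I)) (hφ0 : φ ⟨x0, hx0⟩ = Pi.single 0 1)
    (g : Fin r → R) (hg : ∀ i, g i ∈ I)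
    (hφ : ∀ i : Fin r, φ ⟨g i, hg i⟩ = Pi.single i.succ 1) :
    HasProjectiveDimensionLT (ModuleCat.of (R ⧸ J) (I.map (Ideal.Quotient.mk J))) n ∧
    ∃ φ' : (I.map (Ideal.Quotient.mk J)) →ₗ[R ⧸ J]
        (Fin r → (R ⧸ J) ⧸ (I.map (Ideal.Quotient.mk J))),
      ∀ i : Fin r, φ' ⟨Ideal.Quotient.mk J (g i), Ideal.mem_map_of_mem _ (hg i)⟩ =
        Pi.single i 1 := by
  classical
  have hmk0 : Ideal.Quotient.mk J x0 = 0 := Ideal.Quotient.eq_zero_iff_mem.mpr hx0J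
  have hkill : ∀ {N : Type u} [AddCommGroup N] [Module R N] (ψ : I →ₗ[R] N),
      (∀ t : N, x0 • t = 0) → J • (⊤ : Submodule R I) ≤ LinearMap.ker ψ := by
    intro N _ _ ψ hN
    rw [Submodule.smul_le]
    intro c hc m _
    obtain ⟨t, rfl⟩ := hJgen c hc
    rw [LinearMap.mem_ker, map_smul, mul_smul, hN, smul_zero]
  have hεker : ∀ a : R, a ∈ I →
      (Algebra.ofId R ((R ⧸ J) ⧸ (I.map (Ideal.Quotient.mk J)))) a = 0 := by
    intro a ha
    show algebraMap R ((R ⧸ J) ⧸ (I.map (Ideal.Quotient.mk J))) a = 0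
    rw [IsScalarTower.algebraMap_apply R (R ⧸ J) ((R ⧸ J) ⧸ (I.map (Ideal.Quotient.mk J)))]
    exact Ideal.Quotient.eq_zero_iff_mem.mpr (Ideal.mem_map_of_mem _ ha)
  obtain ⟨ε, hε⟩ : ∃ ε : (R ⧸ I) →ₗ[R] ((R ⧸ J) ⧸ (I.map (Ideal.Quotient.mk J))),
      ∀ a : R, ε (Ideal.Quotient.mk I a) =
        algebraMap R ((R ⧸ J) ⧸ (I.map (Ideal.Quotient.mk J))) a :=
    ⟨(Ideal.Quotient.liftₐ I (Algebra.ofId R _) hεker).toLinearMap, fun a => rfl⟩
  have hε1 : ε 1 = 1 := by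
    have h := hε 1
    rw [map_one (Ideal.Quotient.mk I),
      map_one (algebraMap R ((R ⧸ J) ⧸ (I.map (Ideal.Quotient.mk J))))] at h
    exact h
  have hx0T : ∀ t : (R ⧸ J) ⧸ (I.map (Ideal.Quotient.mk J)), x0 • t = 0 := by
    intro t
    rw [Algebra.smul_def, IsScalarTower.algebraMap_apply R (R ⧸ J) _]
    have h : algebraMap R (R ⧸ J) x0 = 0 := hmk0
    rw [h, map_zero, zero_mul]
  obtain ⟨Ψ, hΨ⟩ : ∃ Ψ : (↥I ⧸ (J • (⊤ : Submodule R I))) →ₗ[R ⧸ J]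
      (Fin (r + 1) → (R ⧸ J) ⧸ (I.map (Ideal.Quotient.mk J))),
      ∀ a : I, Ψ (Submodule.Quotient.mk a) = fun i => ε (φ a i) :=
    ⟨LinearMap.extendScalarsOfSurjective Ideal.Quotient.mk_surjective
      (Submodule.liftQ _ ((ε.compLeft (Fin (r + 1))) ∘ₗ φ)
        (hkill _ (fun t => by funext i; exact hx0T (t i)))), fun a => rfl⟩
  obtain ⟨q0, hq0⟩ : ∃ q0 : (↥I ⧸ (J • (⊤ : Submodule R I))),
      q0 = Submodule.Quotient.mk ⟨x0, hx0⟩ := ⟨_, rfl⟩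
  have hsmulmk : ∀ (c : R) (a : I), (Ideal.Quotient.mk J c) •
      (Submodule.Quotient.mk a : ↥I ⧸ (J • (⊤ : Submodule R I))) =
      Submodule.Quotient.mk (c • a) := by
    intro c a
    have h1 : (Ideal.Quotient.mk J c) •
        (Submodule.Quotient.mk a : ↥I ⧸ (J • (⊤ : Submodule R I))) =
        c • (Submodule.Quotient.mk a : ↥I ⧸ (J • (⊤ : Submodule R I))) :=
      algebraMap_smul (R ⧸ J) c _
    rw [h1, Submodule.Quotient.mk_smul]
  have hI'kill : I.map (Ideal.Quotient.mk J) ≤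
      LinearMap.ker (LinearMap.toSpanSingleton (R ⧸ J) (↥I ⧸ (J • (⊤ : Submodule R I))) q0) := by
    intro c' hc'
    obtain ⟨c, hc, rfl⟩ := (Ideal.mem_map_iff_of_surjective _ Ideal.Quotient.mk_surjective).mp hc'
    rw [LinearMap.mem_ker, LinearMap.toSpanSingleton_apply, hq0, hsmulmk,
      Submodule.Quotient.mk_eq_zero]
    have h2 : c • (⟨x0, hx0⟩ : I) = x0 • (⟨c, hc⟩ : I) := Subtype.ext (by simp [mul_comm])
    rw [h2]
    exact Submodule.smul_mem_smul hx0J Submodule.mem_top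
  obtain ⟨μ, hμ⟩ : ∃ μ : ((R ⧸ J) ⧸ (I.map (Ideal.Quotient.mk J))) →ₗ[R ⧸ J]
      (↥I ⧸ (J • (⊤ : Submodule R I))),
      ∀ c' : R ⧸ J, μ (Ideal.Quotient.mk _ c') = c' • q0 :=
    ⟨Submodule.liftQ _ (LinearMap.toSpanSingleton (R ⧸ J) _ q0) hI'kill, fun c' => rfl⟩
  have hx0I' : ∀ t : (I.map (Ideal.Quotient.mk J)), x0 • t = 0 := by
    intro t
    apply Subtype.ext
    show x0 • (t : R ⧸ J) = 0
    rw [Algebra.smul_def]
    have h : algebraMap R (R ⧸ J) x0 = 0 := hmk0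
    rw [h, zero_mul]
  obtain ⟨p, hp⟩ : ∃ p : (↥I ⧸ (J • (⊤ : Submodule R I))) →ₗ[R ⧸ J]
      (I.map (Ideal.Quotient.mk J)),
      ∀ a : I, ((p (Submodule.Quotient.mk a) : I.map (Ideal.Quotient.mk J)) : R ⧸ J) =
        Ideal.Quotient.mk J (a : R) :=
    ⟨LinearMap.extendScalarsOfSurjective Ideal.Quotient.mk_surjective
      (Submodule.liftQ _ (Algebra.idealMap (R ⧸ J) I) (hkill _ hx0I')), fun a => rfl⟩
  have hpsurj : Function.Surjective p := by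
    intro y
    obtain ⟨a, ha, hay⟩ :=
      (Ideal.mem_map_iff_of_surjective _ Ideal.Quotient.mk_surjective).mp y.2
    exact ⟨Submodule.Quotient.mk ⟨a, ha⟩, Subtype.ext (by rw [hp]; exact hay)⟩
  have hμq0 : ∀ t : R, μ (Ideal.Quotient.mk _ (Ideal.Quotient.mk J t)) =
      Submodule.Quotient.mk (t • (⟨x0, hx0⟩ : I)) := by
    intro t
    rw [hμ, hq0, hsmulmk]
  have hex : Function.Exact μ p := by
    intro q
    constructor
    · intro hq
      obtain ⟨a, rfl⟩ := Submodule.Quotient.mk_surjective _ q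
      have h1 : Ideal.Quotient.mk J (a : R) = 0 := by
        rw [← hp a, hq]
        rfl
      obtain ⟨t, ht⟩ := hJgen _ (Ideal.Quotient.eq_zero_iff_mem.mp h1)
      refine ⟨Ideal.Quotient.mk _ (Ideal.Quotient.mk J t), ?_⟩
      rw [hμq0]
      congr 1
      exact Subtype.ext (by simpa using ht)
    · rintro ⟨t, rfl⟩
      obtain ⟨c', rfl⟩ := Ideal.Quotient.mk_surjective t
      obtain ⟨c, rfl⟩ := Ideal.Quotient.mk_surjective c'
      rw [hμq0]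
      apply Subtype.ext
      rw [hp]
      show Ideal.Quotient.mk J ((c • (⟨x0, hx0⟩ : I) : I) : R) = 0
      rw [Ideal.Quotient.eq_zero_iff_mem]
      exact J.mul_mem_left c hx0J
  have hΨq0 : Ψ q0 = Pi.single 0 1 := by
    rw [hq0, hΨ, hφ0]
    funext i
    rw [Pi.single_apply, Pi.single_apply]
    split_ifs
    · exact hε1
    · exact map_zero ε
  obtain ⟨ψ, hψ⟩ : ∃ ψ : (↥I ⧸ (J • (⊤ : Submodule R I))) →ₗ[R ⧸ J]
      ((R ⧸ J) ⧸ (I.map (Ideal.Quotient.mk J))), ∀ q, ψ q = Ψ q 0 :=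
    ⟨(LinearMap.proj 0) ∘ₗ Ψ, fun q => rfl⟩
  have hψμ : ψ ∘ₗ μ = LinearMap.id := by
    apply LinearMap.ext
    intro t
    obtain ⟨c', rfl⟩ := Ideal.Quotient.mk_surjective t
    rw [LinearMap.comp_apply, hμ, map_smul, hψ, hΨq0, LinearMap.id_apply, Pi.single_eq_same,
      Algebra.smul_def, mul_one]
    rfl
  have E := (hex.splitInjectiveEquiv hpsurj ⟨ψ, hψμ⟩).1
  have hprod : HasProjectiveDimensionLT (ModuleCat.of (R ⧸ J)
      (((R ⧸ J) ⧸ (I.map (Ideal.Quotient.mk J))) × (I.map (Ideal.Quotient.mk J)))) n :=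
    PD.pd_of_linearEquiv E n hQ
  have hret : Retract (ModuleCat.of (R ⧸ J) (I.map (Ideal.Quotient.mk J)))
      (ModuleCat.of (R ⧸ J)
        (((R ⧸ J) ⧸ (I.map (Ideal.Quotient.mk J))) × (I.map (Ideal.Quotient.mk J)))) :=
    { i := ModuleCat.ofHom (LinearMap.inr _ _ _)
      r := ModuleCat.ofHom (LinearMap.snd _ _ _)
      retract := by
        rw [← ModuleCat.ofHom_comp, LinearMap.snd_comp_inr]
        rfl }
  refine ⟨?_, ?_⟩
  · haveI := hprod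
    exact hret.hasProjectiveDimensionLT n
  obtain ⟨Φ, hΦ⟩ : ∃ Φ : (↥I ⧸ (J • (⊤ : Submodule R I))) →ₗ[R ⧸ J]
      (Fin r → (R ⧸ J) ⧸ (I.map (Ideal.Quotient.mk J))), ∀ q, Φ q = fun k => Ψ q k.succ :=
    ⟨(LinearMap.funLeft (R ⧸ J) _ Fin.succ) ∘ₗ Ψ, fun q => rfl⟩
  have hΦμ : ∀ t, Φ (μ t) = 0 := by
    intro t
    obtain ⟨c', rfl⟩ := Ideal.Quotient.mk_surjective t
    rw [hμ, map_smul, hΦ, hΨq0]
    have h : (fun k : Fin r => (Pi.single 0 1 :
        Fin (r + 1) → (R ⧸ J) ⧸ (I.map (Ideal.Quotient.mk J))) k.succ) = 0 := by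
      funext k
      exact Pi.single_eq_of_ne (Fin.succ_ne_zero k) 1
    rw [h, smul_zero]
  have hker : LinearMap.ker p ≤ LinearMap.ker Φ := by
    intro q hq
    obtain ⟨t, rfl⟩ := (hex q).mp (LinearMap.mem_ker.mp hq)
    exact LinearMap.mem_ker.mpr (hΦμ t)
  refine ⟨(Submodule.liftQ _ Φ hker) ∘ₗ (p.quotKerEquivOfSurjective hpsurj).symm.toLinearMap,
    fun i => ?_⟩
  have h1 : (⟨Ideal.Quotient.mk J (g i), Ideal.mem_map_of_mem _ (hg i)⟩ :
      I.map (Ideal.Quotient.mk J)) = p (Submodule.Quotient.mk ⟨g i, hg i⟩) :=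
    Subtype.ext (hp ⟨g i, hg i⟩).symm
  rw [h1, LinearMap.comp_apply, LinearEquiv.coe_coe,
    LinearMap.quotKerEquivOfSurjective_symm_apply, Submodule.liftQ_apply, hΦ, hΨ, hφ i]
  funext k
  show ε ((Pi.single i.succ 1 : Fin (r + 1) → R ⧸ I) k.succ) =
    (Pi.single i 1 : Fin r → (R ⧸ J) ⧸ (I.map (Ideal.Quotient.mk J))) k
  rw [Pi.single_apply, Pi.single_apply]
  by_cases hk : k = i
  · rw [if_pos hk, if_pos (by rw [hk])]
    exact hε1
  · rw [if_neg hk, if_neg (fun h => hk (Fin.succ_injective _ h))]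
    exact map_zero ε

/-- Ring change in Vasconcelos' theorem. -/
theorem ring_change [IsLocalRing R] [IsNoetherianRing R] (I : Ideal R) (n : ℕ)
    (hpd : HasProjectiveDimensionLT (ModuleCat.of R I) n) (r : ℕ)
    (φ : I →ₗ[R] (Fin (r + 1) → R ⧸ I)) (x0 : R) (hx0 : x0 ∈ I)
    (hx0r : x0 ∈ nonZeroDivisors R) (hφ0 : φ ⟨x0, hx0⟩ = Pi.single 0 1)
    (g : Fin r → R) (hg : ∀ i, g i ∈ I)
    (hφ : ∀ i : Fin r, φ ⟨g i, hg i⟩ = Pi.single i.succ 1) :
    HasProjectiveDimensionLT (ModuleCat.of (R ⧸ Ideal.span {x0})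
      (I.map (Ideal.Quotient.mk (Ideal.span {x0})))) n ∧
    ∃ φ' : (I.map (Ideal.Quotient.mk (Ideal.span {x0}))) →ₗ[R ⧸ Ideal.span {x0}]
        (Fin r → (R ⧸ Ideal.span {x0}) ⧸ (I.map (Ideal.Quotient.mk (Ideal.span {x0})))),
      ∀ i : Fin r, φ' ⟨Ideal.Quotient.mk (Ideal.span {x0}) (g i),
        Ideal.mem_map_of_mem _ (hg i)⟩ = Pi.single i 1 := by
  have hA : IsSMulRegular R x0 := Module.Flat.isSMulRegular_of_nonZeroDivisors hx0r
  have hE : IsSMulRegular I x0 := hA.submodule I x0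
  have hQ := Hom.hasProjectiveDimensionLT_quotSpan I x0 hA hE n hpd
  exact ring_change_aux I (Ideal.span {x0}) x0 hx0 (Ideal.mem_span_singleton_self x0)
    (fun a ha => Ideal.mem_span_singleton'.mp ha) n hQ r φ hφ0 g hg hφ

end Groth.Agent.Lead.Vasc
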