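import Mathlib
import Groth.Agent.Lib.Lead.Vasc3

/-!
# Vasconcelos' theorem: regular sequences from free summands of the conormal module
-/

set_option autoImplicit false
set_option linter.style.haveILetI false
universe u
open CategoryTheory IsLocalRing Pointwise

namespace Groth.Agent.Lead.Vasc

/-- A linear map `I → (R ⧸ I)^r` factors through `I / I²`. -/
theorem phi_eq_of_sub_mem_sq {R : Type u} [CommRing R] (I : Ideal R) {r : ℕ}
    (φ : I →ₗ[R] (Fin r → R ⧸ I)) {a b : R} (ha : a ∈ I) (hb : b ∈ I) (hab : a - b ∈ I ^ 2) :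
    φ ⟨a, ha⟩ = φ ⟨b, hb⟩ := by
  have hle : I • (⊤ : Submodule R I) ≤ LinearMap.ker φ := by
    rw [Submodule.smul_le]
    intro c hc m _
    rw [LinearMap.mem_ker, map_smul]
    funext i
    show c • (φ m i) = 0
    rw [Algebra.smul_def, Ideal.Quotient.algebraMap_eq, Ideal.Quotient.eq_zero_iff_mem.mpr hc,
      zero_mul]
  have h1 : I.toCotangent ⟨a, ha⟩ = I.toCotangent ⟨b, hb⟩ := (Ideal.toCotangent_eq I).mpr hab
  have h2 : ∀ m : I, φ m = (Submodule.liftQ _ φ hle) (I.toCotangent m) := fun m => rfl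
  rw [h2, h2, h1]

theorem core : ∀ (r : ℕ) (R : Type u) [CommRing R] [IsNoetherianRing R] [IsLocalRing R]
    (I : Ideal R) (_ : I ≠ ⊤) (n : ℕ) (_ : HasProjectiveDimensionLT (ModuleCat.of R I) n)
    (f : Fin r → R) (hf : ∀ i, f i ∈ I) (φ : I →ₗ[R] (Fin r → R ⧸ I))
    (_ : ∀ i, φ ⟨f i, hf i⟩ = Pi.single i 1),
    ∃ x : Fin r → R, (∀ i, x i - f i ∈ I ^ 2) ∧
      RingTheory.Sequence.IsWeaklyRegular R (List.ofFn x) := by
  intro r
  induction r with
  | zero =>
    intro R _ _ _ I _ n _ f hf φ _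
    refine ⟨f, fun i => i.elim0, ?_⟩
    rw [List.ofFn_zero]
    exact RingTheory.Sequence.IsWeaklyRegular.nil R R
  | succ r ih =>
    intro R _ _ _ I hI n hpd f hf φ hφ
    haveI : Nontrivial (R ⧸ I) := Ideal.Quotient.nontrivial_iff.mpr hI
    have hIbot : I ≠ ⊥ := by
      intro hbot
      have hf' : f 0 ∈ (⊥ : Ideal R) := hbot ▸ hf 0
      have hf0 : f 0 = 0 := (Submodule.mem_bot R).mp hf'
      have h4 : (⟨f 0, hf 0⟩ : I) = 0 := Subtype.ext hf0
      have h5 := hφ 0
      rw [h4, map_zero] at h5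
      have h6 := congrFun h5 0
      rw [Pi.single_eq_same] at h6
      exact one_ne_zero h6.symm
    obtain ⟨j, hj, hnz⟩ := exists_nonZeroDivisor_coset I n hpd hIbot (f 0)
    have hjI : j ∈ I := Ideal.pow_le_self two_ne_zero hj
    have hx0 : f 0 + j ∈ I := I.add_mem (hf 0) hjI
    have hφx0 : φ ⟨f 0 + j, hx0⟩ = Pi.single 0 1 := by
      rw [phi_eq_of_sub_mem_sq I φ hx0 (hf 0) (by simpa using hj)]
      exact hφ 0
    obtain ⟨hpd', φ', hφ'⟩ := ring_change I n hpd r φ (f 0 + j) hx0 hnz hφx0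
      (fun i => f i.succ) (fun i => hf i.succ) (fun i => hφ i.succ)
    have hx0m : f 0 + j ∈ maximalIdeal R := IsLocalRing.le_maximalIdeal hI hx0
    haveI : IsLocalRing (R ⧸ Ideal.span {f 0 + j}) :=
      RLR.isLocalRing_quotient (RLR.span_singleton_ne_top hx0m)
    have hJI : Ideal.span {f 0 + j} ≤ I := (Ideal.span_singleton_le_iff_mem I).mpr hx0
    have hI' : I.map (Ideal.Quotient.mk (Ideal.span {f 0 + j})) ≠ ⊤ := by
      intro h
      apply hI
      have h1 := Ideal.comap_map_of_surjective (Ideal.Quotient.mk (Ideal.span {f 0 + j}))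
        Ideal.Quotient.mk_surjective I
      rw [h, Ideal.comap_top, ← RingHom.ker_eq_comap_bot, Ideal.mk_ker, sup_eq_left.mpr hJI] at h1
      exact h1.symm
    obtain ⟨x', hx'sq, hx'reg⟩ := ih (R ⧸ Ideal.span {f 0 + j})
      (I.map (Ideal.Quotient.mk (Ideal.span {f 0 + j}))) hI' n hpd'
      (fun i => Ideal.Quotient.mk (Ideal.span {f 0 + j}) (f i.succ))
      (fun i => Ideal.mem_map_of_mem _ (hf i.succ)) φ' hφ'
    have hlift : ∀ i, ∃ ji ∈ I ^ 2, Ideal.Quotient.mk (Ideal.span {f 0 + j}) ji =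
        x' i - Ideal.Quotient.mk (Ideal.span {f 0 + j}) (f i.succ) := by
      intro i
      have h := hx'sq i
      rw [← Ideal.map_pow] at h
      exact (Ideal.mem_map_iff_of_surjective _ Ideal.Quotient.mk_surjective).mp h
    choose jj hjj hjjeq using hlift
    refine ⟨Fin.cons (f 0 + j) (fun i => f i.succ + jj i), ?_, ?_⟩
    · intro i
      refine Fin.cases ?_ (fun i => ?_) i
      · rw [Fin.cons_zero]
        simpa using hj
      · rw [Fin.cons_succ]
        simpa using hjj i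
    · rw [List.ofFn_cons, RingTheory.Sequence.isWeaklyRegular_cons_iff]
      refine ⟨Module.Flat.isSMulRegular_of_nonZeroDivisors hnz, ?_⟩
      have hmap : List.ofFn x' = (List.ofFn fun i => f i.succ + jj i).map
          (algebraMap R (R ⧸ Ideal.span {f 0 + j})) := by
        rw [List.map_ofFn]
        congr 1
        funext i
        show x' i = Ideal.Quotient.mk (Ideal.span {f 0 + j}) (f i.succ + jj i)
        rw [map_add, hjjeq i]
        ring
      rw [hmap] at hx'reg
      have h2 := (RingTheory.Sequence.isWeaklyRegular_map_algebraMap_iff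
        (R ⧸ Ideal.span {f 0 + j}) (R ⧸ Ideal.span {f 0 + j}) _).mp hx'reg
      have heq : ((f 0 + j) • (⊤ : Submodule R R)) = Ideal.span {f 0 + j} := by
        rw [← Submodule.ideal_span_singleton_smul (f 0 + j) ⊤, smul_eq_mul, Ideal.mul_top]
      exact ((Submodule.quotEquivOfEq _ _ heq).isWeaklyRegular_congr _).mpr h2

/-- **Vasconcelos.** If `f₁, …, f_r ∈ I` are part of a basis of a free direct summand of `I / I²`
(witnessed by `φ`) and `I` has finite projective dimension over the Noetherian local ring `R`, then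
there is a regular sequence `x₁, …, x_r` with `xᵢ ≡ fᵢ mod I²`. -/
theorem exists_regular_sequence {R : Type u} [CommRing R] [IsNoetherianRing R] [IsLocalRing R]
    (I : Ideal R) (hI : I ≠ ⊤) (n : ℕ) (hpd : HasProjectiveDimensionLT (ModuleCat.of R I) n)
    (r : ℕ) (f : Fin r → R) (hf : ∀ i, f i ∈ I) (φ : I →ₗ[R] (Fin r → R ⧸ I))
    (hφ : ∀ i, φ ⟨f i, hf i⟩ = Pi.single i 1) :
    ∃ x : Fin r → R, (∀ i, x i - f i ∈ I ^ 2) ∧ (∀ i, x i ∈ I) ∧
      RingTheory.Sequence.IsRegular R (List.ofFn x) := by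
  obtain ⟨x, hx, hreg⟩ := core r R I hI n hpd f hf φ hφ
  have hxI : ∀ i, x i ∈ I := by
    intro i
    have h1 : x i = (x i - f i) + f i := by ring
    rw [h1]
    exact I.add_mem (Ideal.pow_le_self two_ne_zero (hx i)) (hf i)
  refine ⟨x, hx, hxI, hreg, ?_⟩
  intro htop
  apply hI
  have hle : Ideal.ofList (List.ofFn x) ≤ I := by
    rw [Ideal.ofList, Ideal.span_le]
    intro a ha
    obtain ⟨i, rfl⟩ := (List.mem_ofFn' x a).mp ha
    exact hxI i
  rw [smul_eq_mul, Ideal.mul_top] at htop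
  exact top_le_iff.mp (htop.le.trans hle)

end Groth.Agent.Lead.Vasc
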