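import Mathlib
import Groth.Agent.Lib.Lead.Vasc4

/-!
# Vasconcelos' theorem at a prime: the localized ideal is generated by a regular sequence
-/

set_option autoImplicit false
set_option linter.style.haveILetI false
universe u
open CategoryTheory IsLocalRing Pointwise RingTheory.Sequence

namespace Groth.Agent.Lead.Vasc

variable {R : Type u} [CommRing R]

/-- The conormal module of the localized ideal is projective when `I / I²` is. -/
theorem projective_cotangent_localization [IsNoetherianRing R] (I : Ideal R)
    [Module.Projective (R ⧸ I) I.Cotangent] (p : Ideal R) [p.IsPrime] :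
    Module.Projective
      (Localization.AtPrime p ⧸ I.map (algebraMap R (Localization.AtPrime p)))
      (I.map (algebraMap R (Localization.AtPrime p))).Cotangent := by
  classical
  haveI : Module.Finite R I.Cotangent :=
    Module.Finite.of_surjective I.toCotangent (Ideal.toCotangent_surjective I)
  haveI : Module.Finite (R ⧸ I) I.Cotangent :=
    Module.Finite.of_restrictScalars_finite R (R ⧸ I) I.Cotangent
  obtain ⟨m, π, hπ⟩ := Module.Finite.exists_fin' (R ⧸ I) I.Cotangent
  obtain ⟨σ, hσ⟩ := Module.projective_lifting_property π LinearMap.id hπ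
  have hgen : ∀ j : Fin m, ∃ a : I, I.toCotangent a = π (Pi.single j 1) :=
    fun j => Ideal.toCotangent_surjective I _
  choose a ha using hgen
  -- the ring map `R ⧸ I → A ⧸ IA`
  have hεker : ∀ c : R, c ∈ I → (Algebra.ofId R
      (Localization.AtPrime p ⧸ I.map (algebraMap R (Localization.AtPrime p)))) c = 0 := by
    intro c hc
    show algebraMap R
      (Localization.AtPrime p ⧸ I.map (algebraMap R (Localization.AtPrime p))) c = 0
    rw [IsScalarTower.algebraMap_apply R (Localization.AtPrime p)
      (Localization.AtPrime p ⧸ I.map (algebraMap R (Localization.AtPrime p)))]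
    exact Ideal.Quotient.eq_zero_iff_mem.mpr (Ideal.mem_map_of_mem _ hc)
  obtain ⟨ε, hε⟩ : ∃ ε : (R ⧸ I) →ₐ[R]
      (Localization.AtPrime p ⧸ I.map (algebraMap R (Localization.AtPrime p))),
      ∀ c : R, ε (Ideal.Quotient.mk I c) = algebraMap R
        (Localization.AtPrime p ⧸ I.map (algebraMap R (Localization.AtPrime p))) c :=
    ⟨Ideal.Quotient.liftₐ I (Algebra.ofId R _) hεker, fun c => rfl⟩
  -- the localized splitting `Λ : IA → B^m`
  obtain ⟨ρ, hρ⟩ : ∃ ρ : I →ₗ[R] (Fin m →
      (Localization.AtPrime p ⧸ I.map (algebraMap R (Localization.AtPrime p)))),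
      ∀ c : I, ρ c = fun j => ε (σ (I.toCotangent c) j) :=
    ⟨(ε.toLinearMap.compLeft (Fin m)) ∘ₗ (σ.restrictScalars R) ∘ₗ I.toCotangent, fun c => rfl⟩
  have hunits : ∀ s : p.primeCompl, IsUnit (algebraMap R (Module.End R (Fin m →
      (Localization.AtPrime p ⧸ I.map (algebraMap R (Localization.AtPrime p))))) s) :=
    fun s => (isLocalizedModule_id p.primeCompl (Fin m →
      (Localization.AtPrime p ⧸ I.map (algebraMap R (Localization.AtPrime p))))
      (Localization.AtPrime p)).map_units s
  obtain ⟨Λ, hΛ⟩ : ∃ Λ : (I.map (algebraMap R (Localization.AtPrime p))) →ₗ[Localization.AtPrime p]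
      (Fin m → (Localization.AtPrime p ⧸ I.map (algebraMap R (Localization.AtPrime p)))),
      ∀ c : I, Λ (Algebra.idealMap (Localization.AtPrime p) I c) = ρ c :=
    ⟨(IsLocalizedModule.lift p.primeCompl (Algebra.idealMap (Localization.AtPrime p) I) ρ
      hunits).extendScalarsOfIsLocalization p.primeCompl (Localization.AtPrime p),
      fun c => IsLocalizedModule.lift_apply p.primeCompl _ ρ hunits c⟩
  have hkillB : ∀ (y : Localization.AtPrime p),
      y ∈ I.map (algebraMap R (Localization.AtPrime p)) → ∀ t : Fin m →
      (Localization.AtPrime p ⧸ I.map (algebraMap R (Localization.AtPrime p))), y • t = 0 := by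
    intro y hy t
    funext j
    show y • t j = 0
    obtain ⟨b, hb⟩ := Ideal.Quotient.mk_surjective (t j)
    rw [← hb]
    show Ideal.Quotient.mk _ (y * b) = 0
    exact Ideal.Quotient.eq_zero_iff_mem.mpr (Ideal.mul_mem_right b _ hy)
  have hΛmul : ∀ x y : (I.map (algebraMap R (Localization.AtPrime p))), Λ (x * y) = 0 := by
    intro x y
    have h1 : x * y = (x : Localization.AtPrime p) • y := Subtype.ext rfl
    rw [h1, map_smul]
    exact hkillB _ x.2 _
  obtain ⟨σA, hσA⟩ : ∃ σA : (I.map (algebraMap R (Localization.AtPrime p))).Cotangent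
      →ₗ[Localization.AtPrime p]
      (Fin m → (Localization.AtPrime p ⧸ I.map (algebraMap R (Localization.AtPrime p)))),
      ∀ y, σA ((I.map (algebraMap R (Localization.AtPrime p))).toCotangent y) = Λ y :=
    ⟨Ideal.Cotangent.lift Λ hΛmul, fun y => rfl⟩
  -- the generators upstairs
  obtain ⟨v, hv⟩ : ∃ v : Fin m → (I.map (algebraMap R (Localization.AtPrime p))).Cotangent,
      ∀ j, v j = (I.map (algebraMap R (Localization.AtPrime p))).toCotangent
        (Algebra.idealMap (Localization.AtPrime p) I (a j)) := ⟨_, fun j => rfl⟩
  -- the comparison map of conormal modules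
  have hcomap : I ≤ (I.map (algebraMap R (Localization.AtPrime p))).comap
      (Algebra.ofId R (Localization.AtPrime p)) := fun c hc => Ideal.mem_map_of_mem _ hc
  obtain ⟨θ, hθ⟩ : ∃ θ : I.Cotangent →ₗ[R]
      (I.map (algebraMap R (Localization.AtPrime p))).Cotangent,
      ∀ c : I, θ (I.toCotangent c) = (I.map (algebraMap R (Localization.AtPrime p))).toCotangent
        (Algebra.idealMap (Localization.AtPrime p) I c) :=
    ⟨Ideal.mapCotangent I _ (Algebra.ofId R (Localization.AtPrime p)) hcomap, fun c => rfl⟩
  have hθsmul : ∀ (c : R ⧸ I) (ν : I.Cotangent), θ (c • ν) = ε c • θ ν := by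
    intro c ν
    obtain ⟨c, rfl⟩ := Ideal.Quotient.mk_surjective c
    have h1 : (Ideal.Quotient.mk I c) • ν = c • ν := algebraMap_smul (R ⧸ I) c ν
    rw [h1, map_smul, hε, IsScalarTower.algebraMap_apply R (Localization.AtPrime p)
      (Localization.AtPrime p ⧸ I.map (algebraMap R (Localization.AtPrime p)))]
    have h2 : (algebraMap (Localization.AtPrime p)
        (Localization.AtPrime p ⧸ I.map (algebraMap R (Localization.AtPrime p)))
        (algebraMap R (Localization.AtPrime p) c)) • θ ν =
        (algebraMap R (Localization.AtPrime p) c) • θ ν := algebraMap_smul _ _ _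
    rw [h2, algebraMap_smul]
  -- key identity
  have hkey : ∀ ν, (Fintype.linearCombination
      (Localization.AtPrime p ⧸ I.map (algebraMap R (Localization.AtPrime p))) v) (σA ν) = ν := by
    intro ν
    obtain ⟨y, rfl⟩ := Ideal.toCotangent_surjective _ ν
    obtain ⟨⟨a0, s⟩, hys⟩ := IsLocalizedModule.surj p.primeCompl
      (Algebra.idealMap (Localization.AtPrime p) I) y
    have hu : IsUnit (algebraMap R (Localization.AtPrime p) (s : R)) :=
      IsLocalization.map_units (Localization.AtPrime p) s
    have hys' : (algebraMap R (Localization.AtPrime p) (s : R)) • y =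
        Algebra.idealMap (Localization.AtPrime p) I a0 := by
      rw [← hys, Submonoid.smul_def, algebraMap_smul]
    apply (hu.smul_left_cancel).mp
    have hlin : (algebraMap R (Localization.AtPrime p) (s : R)) •
        (Fintype.linearCombination
          (Localization.AtPrime p ⧸ I.map (algebraMap R (Localization.AtPrime p))) v)
          (σA ((I.map (algebraMap R (Localization.AtPrime p))).toCotangent y)) =
        (Fintype.linearCombination
          (Localization.AtPrime p ⧸ I.map (algebraMap R (Localization.AtPrime p))) v)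
          (σA ((I.map (algebraMap R (Localization.AtPrime p))).toCotangent
            ((algebraMap R (Localization.AtPrime p) (s : R)) • y))) := by
      rw [map_smul, map_smul]
      rw [← algebraMap_smul (Localization.AtPrime p ⧸ I.map (algebraMap R (Localization.AtPrime p)))
        (algebraMap R (Localization.AtPrime p) (s : R)) (σA _), map_smul]
      exact (algebraMap_smul _ _ _).symm
    rw [hlin, hys', hσA, hΛ, hρ, ← map_smul, hys', ← hθ]
    -- downstairs identity
    have hdown : I.toCotangent a0 = ∑ j, (σ (I.toCotangent a0) j) • I.toCotangent (a j) := by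
      have h1 := LinearMap.congr_fun hσ (I.toCotangent a0)
      rw [LinearMap.comp_apply, LinearMap.id_apply] at h1
      have h2 := (Pi.basisFun (R ⧸ I) (Fin m)).sum_repr (σ (I.toCotangent a0))
      simp only [Pi.basisFun_repr, Pi.basisFun_apply] at h2
      conv_lhs => rw [← h1, ← h2]
      rw [map_sum]
      refine Finset.sum_congr rfl (fun j _ => ?_)
      rw [map_smul, ha]
    conv_rhs => rw [hdown]
    rw [map_sum, Fintype.linearCombination_apply]
    refine Finset.sum_congr rfl (fun j _ => ?_)
    rw [hθsmul, hθ, hv]
  -- B-linear versions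
  obtain ⟨σB, hσB⟩ : ∃ σB : (I.map (algebraMap R (Localization.AtPrime p))).Cotangent
      →ₗ[Localization.AtPrime p ⧸ I.map (algebraMap R (Localization.AtPrime p))]
      (Fin m → (Localization.AtPrime p ⧸ I.map (algebraMap R (Localization.AtPrime p)))),
      ∀ ν, σB ν = σA ν :=
    ⟨LinearMap.extendScalarsOfSurjective Ideal.Quotient.mk_surjective σA, fun ν => rfl⟩
  exact Module.Projective.of_split σB (Fintype.linearCombination
    (Localization.AtPrime p ⧸ I.map (algebraMap R (Localization.AtPrime p))) v)
    (LinearMap.ext fun ν => by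
      rw [LinearMap.comp_apply, hσB, LinearMap.id_apply]
      exact hkey ν)

end Groth.Agent.Lead.Vasc
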