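import Mathlib
import Groth.Agent.Lib.Lead.Vasc5
import Groth.Agent.Lib.Lead.Vasc6

/-!
# Vasconcelos' theorem: an ideal of finite projective dimension with projective conormal module is
locally generated by a regular sequence
-/

set_option autoImplicit false
set_option linter.style.haveILetI false
universe u
open CategoryTheory IsLocalRing Pointwise RingTheory.Sequence

namespace Groth.Agent.Lead.Vasc

variable {R : Type u} [CommRing R]

theorem exists_local_regular_sequence [IsNoetherianRing R] (I : Ideal R) (n : ℕ)
    (hpd : HasProjectiveDimensionLT (ModuleCat.of R I) n)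
    [Module.Projective (R ⧸ I) I.Cotangent] (p : Ideal R) [p.IsPrime] (hIp : I ≤ p) :
    ∃ (r : ℕ) (x : Fin r → (Localization.AtPrime p)),
      IsWeaklyRegular (Localization.AtPrime p) (List.ofFn x) ∧ (∀ i, x i ∈ (I.map (algebraMap R (Localization.AtPrime p)))) ∧
      (I.map (algebraMap R (Localization.AtPrime p))) ≤ Ideal.span (Set.range x) := by
  classical
  have hIA : (I.map (algebraMap R (Localization.AtPrime p))) ≠ ⊤ := by
    rw [IsLocalization.map_algebraMap_ne_top_iff_disjoint p.primeCompl, Set.disjoint_left]
    intro s hs hsI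
    exact hs (hIp hsI)
  have hpd1 : HasProjectiveDimensionLT (ModuleCat.of R I) (n + 1) :=
    hasProjectiveDimensionLT_of_ge _ n (n + 1) (by omega)
  have hpdA : HasProjectiveDimensionLT (ModuleCat.of (Localization.AtPrime p) (I.map (algebraMap R (Localization.AtPrime p)))) (n + 1) :=
    PD.pd_of_linearEquiv ((IsLocalizedModule.iso p.primeCompl
      (Algebra.idealMap (Localization.AtPrime p) I)).extendScalarsOfIsLocalization p.primeCompl (Localization.AtPrime p)) (n + 1)
      (Hom.hasProjectiveDimensionLT_localizedModule p.primeCompl I n hpd1)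
  haveI := projective_cotangent_localization I p
  haveI : IsLocalRing (Localization.AtPrime p ⧸ I.map (algebraMap R (Localization.AtPrime p))) := RLR.isLocalRing_quotient hIA
  haveI : Module.Finite (Localization.AtPrime p) (I.map (algebraMap R (Localization.AtPrime p))).Cotangent :=
    Module.Finite.of_surjective (I.map (algebraMap R (Localization.AtPrime p))).toCotangent (Ideal.toCotangent_surjective _)
  haveI : Module.Finite (Localization.AtPrime p ⧸ I.map (algebraMap R (Localization.AtPrime p))) (I.map (algebraMap R (Localization.AtPrime p))).Cotangent := Module.Finite.of_restrictScalars_finite (Localization.AtPrime p) _ _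
  haveI : Module.Free (Localization.AtPrime p ⧸ I.map (algebraMap R (Localization.AtPrime p))) (I.map (algebraMap R (Localization.AtPrime p))).Cotangent := Module.free_of_flat_of_isLocalRing
  obtain ⟨r, ⟨b⟩⟩ : ∃ r : ℕ, Nonempty (Module.Basis (Fin r) (Localization.AtPrime p ⧸ I.map (algebraMap R (Localization.AtPrime p))) (I.map (algebraMap R (Localization.AtPrime p))).Cotangent) :=
    ⟨_, ⟨(Module.Free.chooseBasis (Localization.AtPrime p ⧸ I.map (algebraMap R (Localization.AtPrime p))) (I.map (algebraMap R (Localization.AtPrime p))).Cotangent).reindex (Fintype.equivFin _)⟩⟩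
  have hlift : ∀ i, ∃ f : (I.map (algebraMap R (Localization.AtPrime p))), (I.map (algebraMap R (Localization.AtPrime p))).toCotangent f = b i :=
    fun i => Ideal.toCotangent_surjective _ _
  choose f hf using hlift
  obtain ⟨φ, hφ⟩ : ∃ φ : (I.map (algebraMap R (Localization.AtPrime p))) →ₗ[(Localization.AtPrime p)] (Fin r → (Localization.AtPrime p ⧸ I.map (algebraMap R (Localization.AtPrime p)))),
      ∀ y, φ y = b.equivFun ((I.map (algebraMap R (Localization.AtPrime p))).toCotangent y) :=
    ⟨(b.equivFun.toLinearMap.restrictScalars (Localization.AtPrime p)) ∘ₗ (I.map (algebraMap R (Localization.AtPrime p))).toCotangent, fun y => rfl⟩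
  have hφf : ∀ i, φ ⟨(f i : (Localization.AtPrime p)), (f i).2⟩ = Pi.single i 1 := by
    intro i
    rw [hφ]
    have h1 : (⟨(f i : (Localization.AtPrime p)), (f i).2⟩ : (I.map (algebraMap R (Localization.AtPrime p)))) = f i := rfl
    rw [h1, hf]
    funext j
    rw [Module.Basis.equivFun_apply, b.repr_self, Finsupp.single_apply, Pi.single_apply]
    by_cases hij : i = j
    · rw [if_pos hij, if_pos hij.symm]
    · rw [if_neg hij, if_neg (Ne.symm hij)]
  obtain ⟨x, hxsq, hxI, hreg⟩ := exists_regular_sequence (I.map (algebraMap R (Localization.AtPrime p))) hIA (n + 1) hpdA r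
    (fun i => (f i : (Localization.AtPrime p))) (fun i => (f i).2) φ hφf
  refine ⟨r, x, hreg.toIsWeaklyRegular, hxI, ?_⟩
  have hxcot : ∀ i, (I.map (algebraMap R (Localization.AtPrime p))).toCotangent ⟨x i, hxI i⟩ = b i := by
    intro i
    rw [← hf i, Ideal.toCotangent_eq]
    exact hxsq i
  have hNN : (I.map (algebraMap R (Localization.AtPrime p))) ≤ Ideal.span (Set.range x) ⊔ (I.map (algebraMap R (Localization.AtPrime p))) • (I.map (algebraMap R (Localization.AtPrime p))) := by
    intro y hy
    have hc : ∀ i, ∃ c : (Localization.AtPrime p), Ideal.Quotient.mk (I.map (algebraMap R (Localization.AtPrime p))) c =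
        b.repr ((I.map (algebraMap R (Localization.AtPrime p))).toCotangent ⟨y, hy⟩) i := fun i => Ideal.Quotient.mk_surjective _
    choose c hc using hc
    have hsum : (I.map (algebraMap R (Localization.AtPrime p))).toCotangent ⟨y, hy⟩ =
        (I.map (algebraMap R (Localization.AtPrime p))).toCotangent (∑ i, c i • (⟨x i, hxI i⟩ : (I.map (algebraMap R (Localization.AtPrime p))))) := by
      rw [map_sum]
      conv_lhs => rw [← b.sum_repr ((I.map (algebraMap R (Localization.AtPrime p))).toCotangent ⟨y, hy⟩)]
      refine Finset.sum_congr rfl (fun i _ => ?_)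
      rw [map_smul, hxcot, ← hc i]
      exact algebraMap_smul (Localization.AtPrime p ⧸ I.map (algebraMap R (Localization.AtPrime p))) (c i) (b i)
    have hmem := (Ideal.toCotangent_eq (I.map (algebraMap R (Localization.AtPrime p)))).mp hsum
    have hzK : ((∑ i, c i • (⟨x i, hxI i⟩ : (I.map (algebraMap R (Localization.AtPrime p)))) : (I.map (algebraMap R (Localization.AtPrime p)))) : (Localization.AtPrime p)) ∈
        Ideal.span (Set.range x) := by
      rw [Submodule.coe_sum]
      refine Ideal.sum_mem _ (fun i _ => ?_)
      exact Ideal.mul_mem_left _ _ (Ideal.subset_span ⟨i, rfl⟩)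
    have hy2 : y = ((∑ i, c i • (⟨x i, hxI i⟩ : (I.map (algebraMap R (Localization.AtPrime p)))) : (I.map (algebraMap R (Localization.AtPrime p)))) : (Localization.AtPrime p)) +
        (y - ((∑ i, c i • (⟨x i, hxI i⟩ : (I.map (algebraMap R (Localization.AtPrime p)))) : (I.map (algebraMap R (Localization.AtPrime p)))) : (Localization.AtPrime p))) := by ring
    rw [hy2]
    refine Submodule.add_mem_sup hzK ?_
    rw [smul_eq_mul, ← pow_two]
    exact hmem
  exact Submodule.le_of_le_smul_of_le_jacobson_bot (IsNoetherian.noetherian _)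
    (by
      rw [IsLocalRing.jacobson_eq_maximalIdeal ⊥ bot_ne_top]
      exact IsLocalRing.le_maximalIdeal hIA) hNN

/-- **Vasconcelos.** An ideal of finite projective dimension whose conormal module is projective
is, locally around each prime containing it, generated by a regular sequence. -/
theorem exists_away_regular_sequence [IsNoetherianRing R] (I : Ideal R) (n : ℕ)
    (hpd : HasProjectiveDimensionLT (ModuleCat.of R I) n)
    [Module.Projective (R ⧸ I) I.Cotangent] (p : Ideal R) [p.IsPrime] (hIp : I ≤ p) :
    ∃ g : R, g ∉ p ∧ ∃ rs : List (Localization.Away g),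
      IsRegular (Localization.Away g) rs ∧
        Ideal.ofList rs = I.map (algebraMap R (Localization.Away g)) := by
  classical
  obtain ⟨r, x, hreg, hxI, hgen⟩ := exists_local_regular_sequence I n hpd p hIp
  have hnum : ∀ i, ∃ (a : I) (s : p.primeCompl),
      x i * algebraMap R (Localization.AtPrime p) (s : R) = algebraMap R (Localization.AtPrime p) (a : R) := by
    intro i
    obtain ⟨⟨a, s⟩, h⟩ := (IsLocalization.mem_map_algebraMap_iff p.primeCompl (Localization.AtPrime p)).mp (hxI i)
    exact ⟨a, s, h⟩
  choose a s has using hnum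
  have hU : IsWeaklyRegular (Localization.AtPrime p) (List.ofFn fun i => algebraMap R (Localization.AtPrime p) (s i : R) * x i) :=
    isWeaklyRegular_unit_mul r (Localization.AtPrime p) x (fun i => algebraMap R (Localization.AtPrime p) (s i : R))
      (fun i => IsLocalization.map_units (Localization.AtPrime p) (s i)) hreg
  have hfun : (fun i => algebraMap R (Localization.AtPrime p) (s i : R) * x i) =
      fun i => algebraMap R (Localization.AtPrime p) (a i : R) := by
    funext i
    rw [mul_comm]
    exact has i
  rw [hfun] at hU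
  have hlist : (List.ofFn fun i => algebraMap R (Localization.AtPrime p) (a i : R)) =
      (List.ofFn fun i => (a i : R)).map (algebraMap R (Localization.AtPrime p)) := by
    rw [List.map_ofFn]
    rfl
  rw [hlist] at hU
  obtain ⟨g₀, hg₀S, hg₀⟩ := exists_spread_list p (List.ofFn fun i => (a i : R)) hU
  have hJrI : Ideal.ofList (List.ofFn fun i => (a i : R)) ≤ I := by
    rw [Ideal.span_le]
    intro c hc
    obtain ⟨i, rfl⟩ := (List.mem_ofFn' _ c).mp hc
    exact (a i).2
  have hIAle : (I.map (algebraMap R (Localization.AtPrime p))) ≤ (Ideal.ofList (List.ofFn fun i => (a i : R))).map (algebraMap R (Localization.AtPrime p)) := by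
    refine hgen.trans ?_
    rw [Ideal.span_le]
    rintro _ ⟨i, rfl⟩
    have h1 : algebraMap R (Localization.AtPrime p) (a i : R) ∈
        (Ideal.ofList (List.ofFn fun i => (a i : R))).map (algebraMap R (Localization.AtPrime p)) :=
      Ideal.mem_map_of_mem _ (Ideal.subset_span ((List.mem_ofFn' _ _).mpr ⟨i, rfl⟩))
    rw [← has i] at h1
    exact (Ideal.mul_unit_mem_iff_mem _ (IsLocalization.map_units (Localization.AtPrime p) (s i))).mp h1
  obtain ⟨g₁, hg₁S, hg₁⟩ := exists_spread_ideal p I _ hJrI hIAle
  have hgS : g₀ * g₁ ∈ p.primeCompl := p.primeCompl.mul_mem hg₀S hg₁S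
  refine ⟨g₀ * g₁, hgS, (List.ofFn fun i => (a i : R)).map
    (algebraMap R (Localization.Away (g₀ * g₁))), ⟨hg₀ _ (dvd_mul_right g₀ g₁), ?_⟩, ?_⟩
  · have hdisj : Disjoint ((Submonoid.powers (g₀ * g₁) : Submonoid R) : Set R) (I : Set R) := by
      rw [Set.disjoint_left]
      intro t ht htI
      obtain ⟨k, rfl⟩ := (Submonoid.mem_powers_iff _ _).mp ht
      exact hgS (Ideal.IsPrime.mem_of_pow_mem inferInstance k (hIp htI))
    have hne := (IsLocalization.map_algebraMap_ne_top_iff_disjoint
      (Submonoid.powers (g₀ * g₁)) (Localization.Away (g₀ * g₁)) I).mpr hdisj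
    intro htop
    rw [smul_eq_mul, Ideal.mul_top, ← Ideal.map_ofList, ← hg₁ _ (dvd_mul_left g₁ g₀)] at htop
    exact hne htop.symm
  · rw [← Ideal.map_ofList, hg₁ _ (dvd_mul_left g₁ g₀)]

end Groth.Agent.Lead.Vasc
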