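import Mathlib

/-!
# Reflexive modules of rank one over a factorial domain are free (lead)
-/

set_option autoImplicit false
universe u

namespace Groth.Agent.Lead.RankOneUFD

/-- A nonzero finite reflexive module over a factorial domain, of "rank at most one" in the sense
that any two linear forms are proportional on any two elements, is free of rank one. -/
theorem exists_generator_of_rank_one {R : Type u} [CommRing R] [IsDomain R]
    [UniqueFactorizationMonoid R]
    (M : Type u) [AddCommGroup M] [Module R M] [Module.Finite R M] [Module.IsReflexive R M]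
    [Nontrivial M]
    (hR1 : ∀ (φ ψ : Module.Dual R M) (m m' : M), φ m * ψ m' = φ m' * ψ m) :
    ∃ v : M, Function.Bijective (fun r : R => r • v) := by
  classical
  letI : StrongNormalizationMonoid R := UniqueFactorizationMonoid.strongNormalizationMonoid
  letI : StrongNormalizedGCDMonoid R := UniqueFactorizationMonoid.toStrongNormalizedGCDMonoid R
  have hev := Module.bijective_dual_eval R M
  obtain ⟨m₀, hm₀⟩ := exists_ne (0 : M)
  have hex : ∃ f : Module.Dual R M, f m₀ ≠ 0 := by
    by_contra hcon
    push Not at hcon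
    apply hm₀
    apply hev.1
    rw [map_zero]
    apply LinearMap.ext
    intro f
    rw [Module.Dual.eval_apply, LinearMap.zero_apply]
    exact hcon f
  obtain ⟨f, hf⟩ := hex
  obtain ⟨n, mg, hmg⟩ := Module.Finite.exists_fin (R := R) (M := M)
  set a : Fin n → R := fun i => f (mg i) with ha
  have hne : ∃ i, a i ≠ 0 := by
    by_contra hcon
    push Not at hcon
    have h0 : f = 0 := by
      apply LinearMap.ext_on_range hmg
      intro i
      exact hcon i
    exact hf (by rw [h0]; rfl)
  have hnonempty : (Finset.univ : Finset (Fin n)).Nonempty := by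
    obtain ⟨i, _⟩ := hne
    exact ⟨i, Finset.mem_univ i⟩
  obtain ⟨b, hb, hb1⟩ := Finset.extract_gcd a hnonempty
  set d := Finset.univ.gcd a with hd
  have hd0 : d ≠ 0 := by
    intro h0
    rw [hd, Finset.gcd_eq_zero_iff] at h0
    obtain ⟨i, hi⟩ := hne
    exact hi (h0 i (Finset.mem_univ i))
  have hdvd : ∀ m : M, d ∣ f m := by
    intro m
    have hm : m ∈ Submodule.span R (Set.range mg) := by rw [hmg]; trivial
    induction hm using Submodule.span_induction with
    | mem x hx =>
      obtain ⟨i, rfl⟩ := hx
      exact Finset.gcd_dvd (Finset.mem_univ i)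
    | zero => rw [map_zero]; exact dvd_zero _
    | add x y _ _ hx hy => rw [map_add]; exact dvd_add hx hy
    | smul r x _ hx => rw [map_smul, smul_eq_mul]; exact Dvd.dvd.mul_left hx r
  choose gf hgf using hdvd
  let g : Module.Dual R M :=
    { toFun := gf
      map_add' := fun x y => by
        apply mul_left_cancel₀ hd0
        rw [mul_add, ← hgf, ← hgf, ← hgf, map_add]
      map_smul' := fun r x => by
        apply mul_left_cancel₀ hd0
        rw [RingHom.id_apply, smul_eq_mul, mul_left_comm, ← hgf, ← hgf, map_smul, smul_eq_mul] }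
  have hgapp : ∀ m, f m = d * g m := hgf
  have hgb : ∀ i, g (mg i) = b i := by
    intro i
    apply mul_left_cancel₀ hd0
    rw [← hgapp, ← hb i (Finset.mem_univ i)]
  have hbne : ∃ j, b j ≠ 0 := by
    by_contra hcon
    push Not at hcon
    have h0 : Finset.univ.gcd b = 0 := Finset.gcd_eq_zero_iff.2 (fun x _ => hcon x)
    rw [hb1] at h0
    exact one_ne_zero h0
  obtain ⟨j₀, hj₀⟩ := hbne
  have hmult : ∀ φ : Module.Dual R M, ∃ c : R, φ = c • g := by
    intro φ
    have hdiv : ∀ j, b j ∣ φ (mg j) := by
      intro j
      have h1 : b j ∣ Finset.univ.gcd (fun i => b i * φ (mg j)) := by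
        apply Finset.dvd_gcd
        intro i _
        have h2 := hR1 g φ (mg i) (mg j)
        rw [hgb, hgb] at h2
        rw [h2]
        exact dvd_mul_right _ _
      rw [Finset.gcd_mul_right, hb1, one_mul] at h1
      exact dvd_normalize_iff.1 h1
    choose c hc using hdiv
    refine ⟨c j₀, ?_⟩
    apply LinearMap.ext
    intro m
    apply mul_left_cancel₀ hj₀
    have h2 := hR1 g φ (mg j₀) m
    rw [hgb, hc j₀] at h2
    rw [h2, LinearMap.smul_apply, smul_eq_mul]
    ring
  have hg0 : ∃ m, g m ≠ 0 := by
    refine ⟨m₀, fun h0 => hf ?_⟩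
    rw [hgapp, h0, mul_zero]
  obtain ⟨m₁, hm₁⟩ := hg0
  have huniq : ∀ c c' : R, c • g = c' • g → c = c' := by
    intro c c' h
    have h3 := LinearMap.congr_fun h m₁
    rw [LinearMap.smul_apply, LinearMap.smul_apply, smul_eq_mul, smul_eq_mul] at h3
    exact mul_right_cancel₀ hm₁ h3
  choose coef hcoef using hmult
  let Λ : Module.Dual R (Module.Dual R M) :=
    { toFun := coef
      map_add' := fun φ ψ => huniq _ _ (by rw [← hcoef, add_smul, ← hcoef, ← hcoef])
      map_smul' := fun r φ => huniq _ _ (by
        rw [← hcoef, RingHom.id_apply, smul_eq_mul, mul_smul, ← hcoef]) }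
  obtain ⟨v, hv⟩ := hev.2 Λ
  have hφv : ∀ φ : Module.Dual R M, φ v = coef φ := fun φ => by
    have h4 := LinearMap.congr_fun hv φ
    rw [Module.Dual.eval_apply] at h4
    exact h4
  have hgv : g v = 1 := by
    rw [hφv]
    exact huniq _ _ (by rw [← hcoef, one_smul])
  refine ⟨v, ?_, ?_⟩
  · intro r r' h
    have h5 := congrArg g h
    simp only [map_smul, hgv, smul_eq_mul, mul_one] at h5
    exact h5
  · intro m
    refine ⟨g m, ?_⟩
    apply hev.1
    apply LinearMap.ext
    intro φ
    rw [Module.Dual.eval_apply, Module.Dual.eval_apply, map_smul, smul_eq_mul, hφv]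
    conv_rhs => rw [hcoef φ]
    rw [LinearMap.smul_apply, smul_eq_mul, mul_comm]

end Groth.Agent.Lead.RankOneUFD
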