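import Groth.Agent.Lib.Lead.HomSh7
import Groth.Agent.Lib.Lead.RankOneUFD
import Groth.Agent.Lib.Helper13.InvGen

/-!
# Rank one reflexive modules with factorial local rings are invertible (lead)
-/

set_option autoImplicit false
universe u
open CategoryTheory CategoryTheory.Limits AlgebraicGeometry Opposite TopologicalSpace
open RefHull IsLocalRing
open Groth.Agent.Helper13.QCoh Groth.Agent.Helper13.QCohLoc Groth.Agent.Helper13.LocFree
open Groth.Agent.Helper13.FinType Groth.Agent.Helper13.Inv Groth.Agent.Helper13.WeakAss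

namespace Groth.Agent.Lead.HomSh

variable {X : Scheme.{u}}

/-- if the germ of `s` generates the stalk at `x`, it generates the stalks near `x`. -/
theorem surjective_smul_germ_near (F : X.Modules)
    [SheafOfModules.IsFiniteType (R := X.ringCatSheaf) F]
    {U : X.Opens} (s : Γ(F, U)) (x : X) (hxU : x ∈ U)
    (hs : Function.Surjective (fun r : X.presheaf.stalk x => r • F.presheaf.germ U x hxU s)) :
    ∃ (U' : X.Opens) (_ : x ∈ U') (hU' : U' ≤ U), ∀ (y : X) (hy : y ∈ U'),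
      Function.Surjective (fun r : X.presheaf.stalk y =>
        r • F.presheaf.germ U y (hU' hy) s) := by
  obtain ⟨U₀, hxU₀, I, hI, m, hm⟩ := exists_genOn_of_isFiniteType F x
  have key : ∀ i : I, ∃ (W : X.Opens) (_ : x ∈ W) (hWU : W ≤ U) (hWU₀ : W ≤ U₀) (a : Γ(X, W)),
      F.presheaf.map (homOfLE hWU₀).op (m i) = a • F.presheaf.map (homOfLE hWU).op s := by
    intro i
    obtain ⟨r, hr⟩ := hs (F.presheaf.germ U₀ x hxU₀ (m i))
    obtain ⟨Wa, hxWa, a, rfl⟩ := TopCat.Presheaf.exists_germ_eq X.presheaf r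
    obtain ⟨N, hN⟩ : ∃ N : X.Opens, N = Wa ⊓ U ⊓ U₀ := ⟨_, rfl⟩
    have hxN : x ∈ N := hN ▸ ⟨⟨hxWa, hxU⟩, hxU₀⟩
    have hNWa : N ≤ Wa := hN ▸ inf_le_left.trans inf_le_left
    have hNU : N ≤ U := hN ▸ inf_le_left.trans inf_le_right
    have hNU₀ : N ≤ U₀ := hN ▸ inf_le_right
    have e : F.presheaf.germ N x hxN (F.presheaf.map (homOfLE hNU₀).op (m i)) =
        F.presheaf.germ N x hxN (X.presheaf.map (homOfLE hNWa).op a •
          F.presheaf.map (homOfLE hNU).op s) := by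
      rw [TopCat.Presheaf.germ_res_apply, Mero.germ_smul, TopCat.Presheaf.germ_res_apply,
        TopCat.Presheaf.germ_res_apply]
      exact hr.symm
    obtain ⟨W, hxW, i₁, i₂, hW⟩ := TopCat.Presheaf.germ_eq F.presheaf x hxN hxN _ _ e
    refine ⟨W, hxW, i₁.le.trans hNU, i₁.le.trans hNU₀,
      X.presheaf.map (homOfLE (i₁.le.trans hNWa)).op a, ?_⟩
    have hii : i₂ = i₁ := Subsingleton.elim _ _
    rw [hii, res_smul, map_map_eq F _ _ (homOfLE (i₁.le.trans hNU₀)).op,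
      map_map_eq F _ _ (homOfLE (i₁.le.trans hNU)).op,
      res_map_map_eq _ _ (homOfLE (i₁.le.trans hNWa)).op] at hW
    exact hW
  choose W hxW hWU hWU₀ a ha using key
  have hle : (⨅ i, W i) ⊓ U ⊓ U₀ ≤ U := inf_le_left.trans inf_le_right
  refine ⟨(⨅ i, W i) ⊓ U ⊓ U₀, ⟨⟨(mem_iInf_opens' W x).2 hxW, hxU⟩, hxU₀⟩, hle, fun y hy => ?_⟩
  intro v
  have hyW : ∀ i, y ∈ W i := (mem_iInf_opens' W y).1 hy.1.1
  have hyU₀ : y ∈ U₀ := hy.2
  have hspan := hm y hyU₀
  have hv : v ∈ Submodule.span (X.presheaf.stalk y)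
      (Set.range fun i => F.presheaf.germ U₀ y hyU₀ (m i)) := by rw [hspan]; trivial
  have hsub : Submodule.span (X.presheaf.stalk y)
      (Set.range fun i => F.presheaf.germ U₀ y hyU₀ (m i)) ≤
      Submodule.span (X.presheaf.stalk y) {F.presheaf.germ U y (hle hy) s} := by
    rw [Submodule.span_le]
    rintro _ ⟨i, rfl⟩
    have h1 := congrArg (F.presheaf.germ (W i) y (hyW i)) (ha i)
    rw [TopCat.Presheaf.germ_res_apply, Mero.germ_smul, TopCat.Presheaf.germ_res_apply] at h1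
    show F.presheaf.germ U₀ y hyU₀ (m i) ∈ _
    rw [h1]
    exact Submodule.smul_mem _ _ (Submodule.subset_span rfl)
  obtain ⟨r, hr⟩ := Submodule.mem_span_singleton.1 (hsub hv)
  exact ⟨r, hr⟩

/-- on an integral scheme, a section of a torsion-free quasi-coherent module with a nonzero germ
has all its germs nonzero. -/
theorem germ_ne_zero_of_germ_ne_zero [IsIntegral X] (F : X.Modules) [F.IsQuasicoherent]
    (hTF : TorSh.IsTorsionFree F) {U : X.Opens} (s : Γ(F, U)) (x y : X) (hxU : x ∈ U)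
    (hyU : y ∈ U) (hx : F.presheaf.germ U x hxU s ≠ 0) : F.presheaf.germ U y hyU s ≠ 0 := by
  intro hy0
  have h0 : F.presheaf.germ U y hyU s = F.presheaf.germ U y hyU 0 := by rw [hy0, map_zero]
  obtain ⟨W, hyW, i₁, i₂, hW⟩ := TopCat.Presheaf.germ_eq F.presheaf y hyU hyU _ _ h0
  rw [map_zero] at hW
  obtain ⟨V, hV, hxV, hVU0⟩ := exists_isAffineOpen_mem_and_subset (x := x) (U := U) hxU
  have hVU : V ≤ U := hVU0
  have hηW : genericPoint X ∈ W :=
    ((genericPoint_spec X).mem_open_set_iff W.isOpen).2 ⟨y, trivial, hyW⟩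
  have hηV : genericPoint X ∈ V :=
    ((genericPoint_spec X).mem_open_set_iff V.isOpen).2 ⟨x, trivial, hxV⟩
  have hgermη : F.presheaf.germ V (genericPoint X) hηV (F.presheaf.map (homOfLE hVU).op s) = 0 := by
    rw [TopCat.Presheaf.germ_res_apply,
      ← TopCat.Presheaf.germ_res_apply F.presheaf i₁ (genericPoint X) hηW, hW, map_zero]
  obtain ⟨g, hηg, hg0⟩ := exists_smul_eq_zero_of_germ_eq_zero F hV (genericPoint X) hηV _ hgermη
  have hgne : g ≠ 0 := by
    rintro rfl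
    rw [Scheme.basicOpen_zero] at hηg
    exact hηg
  have hgx : X.presheaf.germ V x hxV g ≠ 0 := fun h =>
    hgne (germ_injective_of_isIntegral X x hxV (by rw [h, map_zero]))
  have h1 := congrArg (F.presheaf.germ V x hxV) hg0
  rw [Mero.germ_smul, map_zero, TopCat.Presheaf.germ_res_apply] at h1
  rcases (Module.isTorsionFree_iff_smul_eq_zero.1 (hTF x)) _ _ h1 with h | h
  · exact hgx h
  · exact hx h

/-- a generically invertible module has a free generator at the generic point. -/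
theorem exists_isGen_genericPoint [IsIntegral X] (F : X.Modules) (hrk : GenInvertible F) :
    ∃ (W : X.Opens) (hη : genericPoint X ∈ W) (s₀ : Γ(F, W)),
      IsGen F s₀ (genericPoint X) hη := by
  obtain ⟨U₀, hdense, hinv⟩ := hrk
  haveI : Nonempty X := ⟨genericPoint X⟩
  obtain ⟨z, hz⟩ := hdense.nonempty
  have hηU₀ : genericPoint X ∈ U₀ :=
    ((genericPoint_spec X).mem_open_set_iff U₀.isOpen).2 ⟨z, trivial, hz⟩
  obtain ⟨U', hU', s', hs'⟩ :=
    (isInvertible_iff_exists_isGen (F.restrict U₀.ι)).1 hinv ⟨genericPoint X, hηU₀⟩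
  let s₀ : Γ(F, U₀.ι ''ᵁ U') := s'
  refine ⟨U₀.ι ''ᵁ U', ⟨⟨genericPoint X, hηU₀⟩, hU', rfl⟩, s₀, ?_⟩
  exact (isGen_restrict_iff U₀.ι F (U := U') s₀ ⟨genericPoint X, hηU₀⟩ hU').1 (hs' _ hU')

/-- view a section of the structure module as a function. -/
def ofO {N : X.Opens} (m : Γ(Coh.structureModule X, N)) : Γ(X, N) := m

theorem germ_ofO {N : X.Opens} (m : Γ(Coh.structureModule X, N)) (y : X) (hy : y ∈ N) :
    X.presheaf.germ N y hy (ofO m) =
      unitStalkEquiv y ((Coh.structureModule X).presheaf.germ N y hy m) :=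
  (unitStalkEquiv_germ y N hy m).symm

/-- the stalks of a finitely presented generically invertible module on an integral scheme have
rank at most one: any two linear forms are proportional. -/
theorem rank_one_stalk [IsIntegral X] (F : X.Modules)
    [SheafOfModules.IsFinitePresentation (R := X.ringCatSheaf) F] (hrk : GenInvertible F) (x : X)
    (φ ψ : Module.Dual (X.presheaf.stalk x) (F.presheaf.stalk x)) (m m' : F.presheaf.stalk x) :
    φ m * ψ m' = φ m' * ψ m := by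
  obtain ⟨W₀, hηW₀, s₀, hgen⟩ := exists_isGen_genericPoint F hrk
  obtain ⟨W₁, hxW₁, g₁, hg₁⟩ := exists_sec_eq (G := Coh.structureModule X) x
    ((unitStalkEquiv x).symm.toLinearMap.comp φ)
  obtain ⟨W₂, hxW₂, g₂, hg₂⟩ := exists_sec_eq (G := Coh.structureModule X) x
    ((unitStalkEquiv x).symm.toLinearMap.comp ψ)
  obtain ⟨U₁, hxU₁, t, rfl⟩ := TopCat.Presheaf.exists_germ_eq F.presheaf m
  obtain ⟨U₂, hxU₂, t', rfl⟩ := TopCat.Presheaf.exists_germ_eq F.presheaf m'
  obtain ⟨N, hN⟩ : ∃ N : X.Opens, N = W₁ ⊓ W₂ ⊓ U₁ ⊓ U₂ := ⟨_, rfl⟩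
  have hxN : x ∈ N := hN ▸ ⟨⟨⟨hxW₁, hxW₂⟩, hxU₁⟩, hxU₂⟩
  have i1 : N ≤ W₁ := hN ▸ (inf_le_left.trans inf_le_left).trans inf_le_left
  have i2 : N ≤ W₂ := hN ▸ (inf_le_left.trans inf_le_left).trans inf_le_right
  have i3 : N ≤ U₁ := hN ▸ inf_le_left.trans inf_le_right
  have i4 : N ≤ U₂ := hN ▸ inf_le_right
  obtain ⟨G₁, hG₁⟩ : ∃ G₁ : Γ(homSh F (Coh.structureModule X), N),
      G₁ = (homSh F (Coh.structureModule X)).presheaf.map (homOfLE i1).op g₁ := ⟨_, rfl⟩
  obtain ⟨G₂, hG₂⟩ : ∃ G₂ : Γ(homSh F (Coh.structureModule X), N),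
      G₂ = (homSh F (Coh.structureModule X)).presheaf.map (homOfLE i2).op g₂ := ⟨_, rfl⟩
  obtain ⟨T, hT⟩ : ∃ T : Γ(F, N), T = F.presheaf.map (homOfLE i3).op t := ⟨_, rfl⟩
  obtain ⟨T', hT'⟩ : ∃ T' : Γ(F, N), T' = F.presheaf.map (homOfLE i4).op t' := ⟨_, rfl⟩
  -- the determinant-like function
  obtain ⟨Δ, hΔ⟩ : ∃ Δ : Γ(X, N), Δ = ofO (evalSec G₁ T) * ofO (evalSec G₂ T') -
      ofO (evalSec G₁ T') * ofO (evalSec G₂ T) := ⟨_, rfl⟩
  have hgermΔ : ∀ (y : X) (hy : y ∈ N), X.presheaf.germ N y hy Δ =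
      unitStalkEquiv y (G₁.1 ⟨y, hy⟩ (F.presheaf.germ N y hy T)) *
        unitStalkEquiv y (G₂.1 ⟨y, hy⟩ (F.presheaf.germ N y hy T')) -
      unitStalkEquiv y (G₁.1 ⟨y, hy⟩ (F.presheaf.germ N y hy T')) *
        unitStalkEquiv y (G₂.1 ⟨y, hy⟩ (F.presheaf.germ N y hy T)) := by
    intro y hy
    rw [hΔ, map_sub, map_mul, map_mul, germ_ofO, germ_ofO, germ_ofO, germ_ofO, germ_evalSec,
      germ_evalSec, germ_evalSec, germ_evalSec]
  -- vanishing at the generic point
  have hηN : genericPoint X ∈ N :=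
    ((genericPoint_spec X).mem_open_set_iff N.isOpen).2 ⟨x, trivial, hxN⟩
  have hΔ0 : Δ = 0 := by
    apply germ_injective_of_isIntegral X (genericPoint X) hηN
    rw [map_zero, hgermΔ]
    obtain ⟨c, hc⟩ := hgen.2 (F.presheaf.germ N (genericPoint X) hηN T)
    obtain ⟨c', hc'⟩ := hgen.2 (F.presheaf.germ N (genericPoint X) hηN T')
    dsimp only at hc hc'
    rw [← hc, ← hc']
    simp only [map_smul, smul_eq_mul]
    ring
  -- conclusion at `x`
  have hx0 := hgermΔ x hxN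
  rw [hΔ0, map_zero] at hx0
  have e1 : G₁.1 ⟨x, hxN⟩ = (unitStalkEquiv x).symm.toLinearMap.comp φ := by
    rw [hG₁]
    exact hg₁
  have e2 : G₂.1 ⟨x, hxN⟩ = (unitStalkEquiv x).symm.toLinearMap.comp ψ := by
    rw [hG₂]
    exact hg₂
  have e3 : F.presheaf.germ N x hxN T = F.presheaf.germ U₁ x hxU₁ t := by
    rw [hT, TopCat.Presheaf.germ_res_apply]
  have e4 : F.presheaf.germ N x hxN T' = F.presheaf.germ U₂ x hxU₂ t' := by
    rw [hT', TopCat.Presheaf.germ_res_apply]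
  rw [e1, e2, e3, e4] at hx0
  simp only [LinearMap.comp_apply, LinearEquiv.coe_coe, LinearEquiv.apply_symm_apply] at hx0
  exact (sub_eq_zero.1 hx0.symm)

end Groth.Agent.Lead.HomSh
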