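import Mathlib
import Groth.Prelude.Def_ZClos
import Groth.Agent.Lib.Helper13.ColimSec
import Groth.Agent.Lib.Helper13.ToAbExact
import Groth.Agent.Lib.Helper13.LocFree
import Groth.Agent.Lib.Helper13.KerSec

/-!
# The Z-closure `H⁰_{X/Z}`: sections over quasi-compact opens of a locally Noetherian scheme (lead)

On a compact open `V` of a locally Noetherian scheme, sections of the filtered colimit
`H⁰_{X/Z}(F)` are the filtered colimit of the sections `F(V ∩ (X ∖ T))`.
-/

set_option autoImplicit false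
set_option linter.style.haveILetI false
set_option linter.unusedSectionVars false

universe u

open CategoryTheory CategoryTheory.Limits AlgebraicGeometry TopologicalSpace Opposite
open Groth.Agent.Helper13.QCoh

namespace Groth.Agent.Lead.ZClos1

variable {X : Scheme.{u}}

section Sec

/-- sections over `V` as a functor to abelian groups. -/
noncomputable def secF (V : X.Opens) : X.Modules ⥤ Ab.{u} :=
  SheafOfModules.toSheaf X.ringCatSheaf ⋙
    (sheafToPresheaf (Opens.grothendieckTopology X) AddCommGrpCat.{u} ⋙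
      (evaluation _ _).obj (op V))

lemma secF_obj (V : X.Opens) (M : X.Modules) : (secF V).obj M = Γ(M, V) := rfl

lemma secF_map (V : X.Opens) {M N : X.Modules} (φ : M ⟶ N) : (secF V).map φ = φ.app V := rfl

theorem preservesColimit_secF {J : Type u} [SmallCategory J] [IsFiltered J] (D : J ⥤ X.Modules)
    (V : X.Opens) (hV : IsCompact (V : Set X))
    (hqs : Groth.Agent.Helper13.ColimSec.QSep (X := X.toTopCat) V) :
    PreservesColimit D (secF V) := by
  haveI : PrespectralSpace X.toTopCat := inferInstanceAs (PrespectralSpace X)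
  have h2 := Groth.Agent.Helper13.ColimSec.preservesColimit_sections (X := X.toTopCat)
    (D ⋙ SheafOfModules.toSheaf X.ringCatSheaf) V hV hqs
  have h0 : PreservesColimitsOfSize.{u, u} (SheafOfModules.toSheaf.{u} X.ringCatSheaf) :=
    Groth.Agent.Helper13.ToAbExact.preservesColimits_toSheaf X.ringCatSheaf
  have h1 : PreservesColimit D (SheafOfModules.toSheaf.{u} X.ringCatSheaf) :=
    (h0.preservesColimitsOfShape).preservesColimit
  exact ⟨fun hc => ⟨@isColimitOfPreserves _ _ _ _ _ _
    (D ⋙ SheafOfModules.toSheaf.{u} X.ringCatSheaf)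
    (sheafToPresheaf (Opens.grothendieckTopology X) AddCommGrpCat.{u} ⋙
      (evaluation _ _).obj (op V)) _
    (@isColimitOfPreserves _ _ _ _ _ _ D (SheafOfModules.toSheaf.{u} X.ringCatSheaf) _ hc h1) h2⟩⟩

end Sec

section Basis

/-- compact opens form a basis. -/
theorem isBasis_compact : Opens.IsBasis {V : X.Opens | IsCompact (V : Set X)} := by
  rw [Opens.isBasis_iff_nbhd]
  intro U x hx
  obtain ⟨_, ⟨V, hV, rfl⟩, hxV, hVU⟩ := X.isBasis_affineOpens.exists_subset_of_mem_open hx U.2
  exact ⟨V, hV.isCompact, hxV, hVU⟩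

theorem exists_compact_nhd (U : X.Opens) (x : X) (hx : x ∈ U) :
    ∃ V : X.Opens, IsCompact (V : Set X) ∧ x ∈ V ∧ V ≤ U := by
  obtain ⟨_, ⟨V, hV, rfl⟩, hxV, hVU⟩ := X.isBasis_affineOpens.exists_subset_of_mem_open hx U.2
  exact ⟨V, hV.isCompact, hxV, hVU⟩

/-- a morphism of modules injective on sections over compact opens is injective on all sections. -/
theorem injective_app_of_compact {M N : X.Modules} (φ : M ⟶ N)
    (h : ∀ V : X.Opens, IsCompact (V : Set X) → Function.Injective (φ.app V)) (U : X.Opens) :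
    Function.Injective (φ.app U) := by
  intro a b hab
  choose V hVc hyV hVU using fun y : U => exists_compact_nhd U y.1 y.2
  have hcov : U ≤ ⨆ y : U, V y := fun z hz => Opens.mem_iSup.2 ⟨⟨z, hz⟩, hyV ⟨z, hz⟩⟩
  refine TopCat.Sheaf.eq_of_locally_eq' (⟨M.presheaf, M.isSheaf⟩ : TopCat.Sheaf Ab X)
    (fun y : U => V y) U (fun y => homOfLE (hVU y)) hcov a b (fun y => ?_)
  apply h (V y) (hVc y)
  have h1 := congr($(φ.mapPresheaf.naturality (homOfLE (hVU y)).op) a)
  have h2 := congr($(φ.mapPresheaf.naturality (homOfLE (hVU y)).op) b)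
  change φ.app (V y) (M.presheaf.map (homOfLE (hVU y)).op a) =
    N.presheaf.map (homOfLE (hVU y)).op (φ.app U a) at h1
  change φ.app (V y) (M.presheaf.map (homOfLE (hVU y)).op b) =
    N.presheaf.map (homOfLE (hVU y)).op (φ.app U b) at h2
  change φ.app (V y) (M.presheaf.map (homOfLE (hVU y)).op a) =
    φ.app (V y) (M.presheaf.map (homOfLE (hVU y)).op b)
  rw [h1, h2, hab]

theorem mono_of_injective_app {M N : X.Modules} (φ : M ⟶ N)
    (h : ∀ U : X.Opens, Function.Injective (φ.app U)) : Mono φ := by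
  constructor
  intro P g g' hgg
  apply Scheme.Modules.hom_ext
  intro U
  ext t
  apply h U
  exact congrArg (fun ψ : P ⟶ N => ψ.app U t) hgg

theorem injective_app_of_mono {M N : X.Modules} (φ : M ⟶ N) [Mono φ] (U : X.Opens) :
    Function.Injective (φ.app U) := by
  have hk : ∀ a : Γ(M, U), φ.app U a = 0 → a = 0 := by
    intro a ha
    obtain ⟨k, hk⟩ := Groth.Agent.Helper13.KerSec.exists_kernel_section φ U a ha
    rw [← hk, kernel.ι_of_mono φ]
    rfl
  intro a b hab
  have h0 : φ.app U (a - b) = 0 := by rw [map_sub, hab, sub_self]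
  exact sub_eq_zero.1 (hk _ h0)

theorem mono_iff_injective_compact {M N : X.Modules} (φ : M ⟶ N) :
    Mono φ ↔ ∀ V : X.Opens, IsCompact (V : Set X) → Function.Injective (φ.app V) :=
  ⟨fun _ V _ => injective_app_of_mono φ V,
    fun h => mono_of_injective_app φ (injective_app_of_compact φ h)⟩

theorem isIso_iff_bijective_compact {M N : X.Modules} (φ : M ⟶ N) :
    IsIso φ ↔ ∀ V : X.Opens, IsCompact (V : Set X) → Function.Bijective (φ.app V) := by
  constructor
  · intro _ V _
    exact (ConcreteCategory.isIso_iff_bijective (φ.app V)).1 inferInstance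
  · intro h
    exact Groth.Agent.Helper13.LocFree.isIso_of_app_bijective_of_isBasis φ isBasis_compact
      (fun V hV => h V hV)

end Basis

section Noeth

variable [IsLocallyNoetherian X]

theorem qSep (V : X.Opens) : Groth.Agent.Helper13.ColimSec.QSep (X := X.toTopCat) V := by
  haveI : QuasiSeparatedSpace X.toTopCat := inferInstanceAs (QuasiSeparatedSpace X)
  exact Groth.Agent.Helper13.ColimSec.qSep_of_quasiSeparatedSpace V

/-- opens inside a compact open of a locally Noetherian scheme are compact. -/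
theorem isCompact_of_le {V W : X.Opens} (hV : IsCompact (V : Set X)) (hWV : W ≤ V) :
    IsCompact (W : Set X) := by
  haveI : CompactSpace ↥(V : Scheme.{u}) := isCompact_iff_compactSpace.1 hV
  haveI : IsNoetherian (V : Scheme.{u}) := { }
  haveI : NoetherianSpace ↥(V : Scheme.{u}) := inferInstance
  have h1 : (W : Set X) =
      (Subtype.val : ↥V → X) '' ((Subtype.val : ↥V → X) ⁻¹' (W : Set X)) := by
    ext y
    constructor
    · intro hy
      exact ⟨⟨y, hWV hy⟩, hy, rfl⟩
    · rintro ⟨z, hz, rfl⟩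
      exact hz
  rw [h1]
  exact (NoetherianSpace.isCompact (α := ↥(V : Scheme.{u})) _).image continuous_subtype_val

end Noeth

section Sigma

variable (Z : Set X) (F : X.Modules)

theorem img_eq (T : ZClos.Cl Z) (V : X.Opens) : T.U.ι ''ᵁ T.U.ι ⁻¹ᵁ V = V ⊓ T.U := by
  rw [ZClos.ι_image_preimage, inf_comm]

/-- the colimit injection on sections over `V`. -/
noncomputable def injV (T : ZClos.Cl Z) (V : X.Opens) :
    Γ(F, T.U.ι ''ᵁ T.U.ι ⁻¹ᵁ V) →+ Γ((ZClos.H0 Z).obj F, V) :=
  ((colimit.ι ((ZClos.diagram Z).obj F) T).app V).hom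

/-- the colimit injection on sections over `V`, from sections of `F` over `V ∩ (X ∖ T)`. -/
noncomputable def σ (T : ZClos.Cl Z) (V : X.Opens) :
    Γ(F, V ⊓ T.U) →+ Γ((ZClos.H0 Z).obj F, V) :=
  (injV Z F T V).comp (F.presheaf.map (homOfLE (le_of_eq (img_eq Z T V))).op).hom

lemma σ_apply (T : ZClos.Cl Z) (V : X.Opens) (t : Γ(F, V ⊓ T.U)) :
    σ Z F T V t = injV Z F T V (F.presheaf.map (homOfLE (le_of_eq (img_eq Z T V))).op t) := rfl

/-- `ρ` on sections is the restriction followed by the colimit injection. -/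
theorem rho_eq (T : ZClos.Cl Z) (V : X.Opens) (s : Γ(F, V)) :
    (ZClos.rhoApp Z F).app V s =
      σ Z F T V (F.presheaf.map (homOfLE (inf_le_left : V ⊓ T.U ≤ V)).op s) := by
  rw [σ_apply, map_map_eq F _ _ (homOfLE (T.U.ι.image_preimage_le V)).op s]
  have h := ZClos.rhoApp_eq Z F T
  have h2 := congrArg (fun ψ : F ⟶ (ZClos.H0 Z).obj F => ψ.app V s) h
  exact h2

/-- compatibility of the colimit injections with the transition maps. -/
theorem σ_index {T T' : ZClos.Cl Z} (h : T ≤ T') (V : X.Opens) (t : Γ(F, V ⊓ T.U)) :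
    σ Z F T' V (F.presheaf.map (homOfLE (inf_le_inf_left V (ZClos.Cl.U_anti h))).op t) =
      σ Z F T V t := by
  have hle : T'.U.ι ''ᵁ T'.U.ι ⁻¹ᵁ V ≤ V ⊓ T.U := by
    rw [img_eq]
    exact inf_le_inf_left V (ZClos.Cl.U_anti h)
  have e1 := map_map_eq F (homOfLE (inf_le_inf_left V (ZClos.Cl.U_anti h))).op
    (homOfLE (le_of_eq (img_eq Z T' V))).op (homOfLE hle).op t
  have e2 := map_map_eq F (homOfLE (le_of_eq (img_eq Z T V))).op
    (ZClos.trIncl (ZClos.Cl.U_anti h) V).op (homOfLE hle).op t
  rw [σ_apply, σ_apply, e1]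
  have hw := colimit.w ((ZClos.diagram Z).obj F) (homOfLE h : T ⟶ T')
  have h2 := congrArg (fun ψ : (ZClos.resPush T.U).obj F ⟶ (ZClos.H0 Z).obj F =>
    ψ.app V (F.presheaf.map (homOfLE (le_of_eq (img_eq Z T V))).op t)) hw
  have h3 : (ZClos.resPushMapApp (ZClos.Cl.U_anti h) F).app V
      (F.presheaf.map (homOfLE (le_of_eq (img_eq Z T V))).op t) =
      F.presheaf.map (ZClos.trIncl (ZClos.Cl.U_anti h) V).op
        (F.presheaf.map (homOfLE (le_of_eq (img_eq Z T V))).op t) := by
    rw [ZClos.resPushMapApp_app]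
    rfl
  refine Eq.trans ?_ h2
  change injV Z F T' V _ = injV Z F T' V ((ZClos.resPushMapApp (ZClos.Cl.U_anti h) F).app V _)
  rw [h3, e2]

end Sigma

end Groth.Agent.Lead.ZClos1
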