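import Mathlib
import Groth.Prelude.Def_ZClos
import Groth.Agent.Lib.Lead.ZClos1

/-!
# Z-pure and Z-closed modules via sections over compact opens (lead)
-/

set_option autoImplicit false
set_option linter.style.haveILetI false
set_option linter.unusedSectionVars false

universe u

open CategoryTheory CategoryTheory.Limits AlgebraicGeometry TopologicalSpace Opposite
open Groth.Agent.Helper13.QCoh

namespace Groth.Agent.Lead.ZClos1

variable {X : Scheme.{u}} (Z : Set X) (F : X.Modules)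

/-- compatibility of the colimit injections with restriction of opens. -/
theorem σ_res (T : ZClos.Cl Z) {V W : X.Opens} (hWV : W ≤ V) (t : Γ(F, V ⊓ T.U)) :
    ((ZClos.H0 Z).obj F).presheaf.map (homOfLE hWV).op (σ Z F T V t) =
      σ Z F T W (F.presheaf.map (homOfLE (inf_le_inf_right T.U hWV)).op t) := by
  have hle : T.U.ι ''ᵁ T.U.ι ⁻¹ᵁ W ≤ V ⊓ T.U := by
    rw [img_eq]
    exact inf_le_inf_right T.U hWV
  have e1 := map_map_eq F (homOfLE (inf_le_inf_right T.U hWV)).op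
    (homOfLE (le_of_eq (img_eq Z T W))).op (homOfLE hle).op t
  have e2 := map_map_eq F (homOfLE (le_of_eq (img_eq Z T V))).op
    (T.U.ι.opensFunctor.map ((Opens.map T.U.ι.base).map (homOfLE hWV))).op (homOfLE hle).op t
  have hnat := congr($((colimit.ι ((ZClos.diagram Z).obj F) T).mapPresheaf.naturality
    (homOfLE hWV).op) (F.presheaf.map (homOfLE (le_of_eq (img_eq Z T V))).op t))
  rw [σ_apply, σ_apply, e1, ← e2]
  exact hnat.symm

section Noeth

variable [IsLocallyNoetherian X]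

/-- every section of `H⁰_{X/Z}(F)` over a compact open comes from some `F(V ∩ (X ∖ T))`. -/
theorem exists_rep (V : X.Opens) (hV : IsCompact (V : Set X)) (s : Γ((ZClos.H0 Z).obj F, V)) :
    ∃ (T : ZClos.Cl Z) (t : Γ(F, V ⊓ T.U)), σ Z F T V t = s := by
  let D := (ZClos.diagram Z).obj F
  haveI := preservesColimit_secF D V hV (qSep V)
  have hc := isColimitOfPreserves (secF V) (colimit.isColimit D)
  obtain ⟨T, t₀', ht⟩ := Concrete.isColimit_exists_rep (D ⋙ secF V) hc s
  have key : ∀ t₀ : Γ(F, T.U.ι ''ᵁ T.U.ι ⁻¹ᵁ V), injV Z F T V t₀ = s →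
      ∃ (T : ZClos.Cl Z) (t : Γ(F, V ⊓ T.U)), σ Z F T V t = s := by
    intro t₀ ht'
    refine ⟨T, F.presheaf.map (homOfLE (le_of_eq (img_eq Z T V).symm)).op t₀, ?_⟩
    rw [σ_apply, map_map_eq F _ _ (𝟙 _) t₀, map_id_apply' F _ t₀]
    exact ht'
  exact key t₀' ht

/-- a section killed by the colimit injection is killed by some transition map. -/
theorem exists_of_σ_eq_zero (V : X.Opens) (hV : IsCompact (V : Set X)) (T : ZClos.Cl Z)
    (t : Γ(F, V ⊓ T.U)) (h : σ Z F T V t = 0) :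
    ∃ (T' : ZClos.Cl Z) (hTT' : T ≤ T'),
      F.presheaf.map (homOfLE (inf_le_inf_left V (ZClos.Cl.U_anti hTT'))).op t = 0 := by
  let D := (ZClos.diagram Z).obj F
  haveI := preservesColimit_secF D V hV (qSep V)
  have hc := isColimitOfPreserves (secF V) (colimit.isColimit D)
  let t₀ : Γ(F, T.U.ι ''ᵁ T.U.ι ⁻¹ᵁ V) := F.presheaf.map (homOfLE (le_of_eq (img_eq Z T V))).op t
  have h0 : ((secF V).mapCocone (colimit.cocone D)).ι.app T t₀ =
      ((secF V).mapCocone (colimit.cocone D)).ι.app T (0 : Γ(F, T.U.ι ''ᵁ T.U.ι ⁻¹ᵁ V)) := by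
    have h1 : ((secF V).mapCocone (colimit.cocone D)).ι.app T t₀ = σ Z F T V t := rfl
    rw [h1, h]
    exact (map_zero (injV Z F T V)).symm
  obtain ⟨T', f, g, hfg⟩ := Concrete.isColimit_exists_of_rep_eq (D ⋙ secF V) hc t₀
    (0 : Γ(F, T.U.ι ''ᵁ T.U.ι ⁻¹ᵁ V)) h0
  have hTT' : T ≤ T' := leOfHom f
  refine ⟨T', hTT', ?_⟩
  have h2 : (ZClos.resPushMapApp (ZClos.Cl.U_anti hTT') F).app V t₀ = 0 := by
    have h3 : (D ⋙ secF V).map g (0 : Γ(F, T.U.ι ''ᵁ T.U.ι ⁻¹ᵁ V)) = 0 :=
      map_zero ((D ⋙ secF V).map g).hom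
    rw [h3] at hfg
    exact hfg
  rw [ZClos.resPushMapApp_app] at h2
  have hle : T'.U.ι ''ᵁ T'.U.ι ⁻¹ᵁ V ≤ V ⊓ T.U := by
    rw [img_eq]
    exact inf_le_inf_left V (ZClos.Cl.U_anti hTT')
  have h4 : F.presheaf.map (homOfLE hle).op t = 0 := by
    rw [← map_map_eq F (homOfLE (le_of_eq (img_eq Z T V))).op
      (ZClos.trIncl (ZClos.Cl.U_anti hTT') V).op (homOfLE hle).op t]
    exact h2
  rw [← map_map_eq F (homOfLE hle).op (homOfLE (le_of_eq (img_eq Z T' V).symm)).op
    (homOfLE (inf_le_inf_left V (ZClos.Cl.U_anti hTT'))).op t, h4, map_zero]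

/-- the kernel of `ρ` on sections over a compact open. -/
theorem exists_of_rho_eq_zero (V : X.Opens) (hV : IsCompact (V : Set X)) (s : Γ(F, V))
    (h : (ZClos.rhoApp Z F).app V s = 0) :
    ∃ T : ZClos.Cl Z, F.presheaf.map (homOfLE (inf_le_left : V ⊓ T.U ≤ V)).op s = 0 := by
  rw [rho_eq Z F ⊥ V s] at h
  obtain ⟨T', hTT', h1⟩ := exists_of_σ_eq_zero Z F V hV ⊥ _ h
  refine ⟨T', ?_⟩
  rw [← map_map_eq F (homOfLE (inf_le_left : V ⊓ (⊥ : ZClos.Cl Z).U ≤ V)).op
    (homOfLE (inf_le_inf_left V (ZClos.Cl.U_anti hTT'))).op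
    (homOfLE (inf_le_left : V ⊓ T'.U ≤ V)).op s]
  exact h1

/-- **Z-purity via sections** (EGA IV 5.9.9 a ⇔ b', injective case). -/
theorem isZPure_iff :
    ZClos.IsZPure Z F ↔ ∀ (T : ZClos.Cl Z) (V : X.Opens), IsCompact (V : Set X) →
      Function.Injective (F.presheaf.map (homOfLE (inf_le_left : V ⊓ T.U ≤ V)).op) := by
  unfold ZClos.IsZPure
  rw [mono_iff_injective_compact]
  constructor
  · intro h T V hV a b hab
    apply h V hV
    rw [rho_eq Z F T V a, rho_eq Z F T V b, hab]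
  · intro h V hV a b hab
    have h0 : (ZClos.rhoApp Z F).app V (a - b) = 0 := by rw [map_sub, hab, sub_self]
    obtain ⟨T, hT⟩ := exists_of_rho_eq_zero Z F V hV _ h0
    have h1 := h T V hV (hT.trans (map_zero _).symm)
    exact sub_eq_zero.1 h1

/-- for a Z-pure module the transition maps on sections over compact opens are injective. -/
theorem injective_transition (hF : ZClos.IsZPure Z F) {T T' : ZClos.Cl Z} (hTT' : T ≤ T')
    (V : X.Opens) (hV : IsCompact (V : Set X)) :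
    Function.Injective
      (F.presheaf.map (homOfLE (inf_le_inf_left V (ZClos.Cl.U_anti hTT'))).op) := by
  intro a b hab
  have hc : IsCompact ((V ⊓ T.U : X.Opens) : Set X) := isCompact_of_le hV inf_le_left
  apply (isZPure_iff Z F).1 hF T' (V ⊓ T.U) hc
  have hle : V ⊓ T.U ⊓ T'.U ≤ V ⊓ T'.U := inf_le_inf_right _ inf_le_left
  rw [← map_map_eq F (homOfLE (inf_le_inf_left V (ZClos.Cl.U_anti hTT'))).op (homOfLE hle).op
    (homOfLE (inf_le_left : V ⊓ T.U ⊓ T'.U ≤ V ⊓ T.U)).op a,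
    ← map_map_eq F (homOfLE (inf_le_inf_left V (ZClos.Cl.U_anti hTT'))).op (homOfLE hle).op
    (homOfLE (inf_le_left : V ⊓ T.U ⊓ T'.U ≤ V ⊓ T.U)).op b, hab]

/-- **Z-closedness via sections** (EGA IV 5.9.9 a ⇔ b', bijective case). -/
theorem isZClosed_iff :
    ZClos.IsZClosed Z F ↔ ∀ (T : ZClos.Cl Z) (V : X.Opens), IsCompact (V : Set X) →
      Function.Bijective (F.presheaf.map (homOfLE (inf_le_left : V ⊓ T.U ≤ V)).op) := by
  constructor
  · intro hcl
    have hiso : IsIso (ZClos.rhoApp Z F) := hcl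
    have hpure : ZClos.IsZPure Z F := by
      unfold ZClos.IsZPure
      infer_instance
    have hbij := (isIso_iff_bijective_compact (ZClos.rhoApp Z F)).1 hiso
    intro T V hV
    refine ⟨(isZPure_iff Z F).1 hpure T V hV, ?_⟩
    intro t
    obtain ⟨s, hs⟩ := (hbij V hV).2 (σ Z F T V t)
    refine ⟨s, ?_⟩
    rw [rho_eq Z F T V s] at hs
    have h0 : σ Z F T V (F.presheaf.map (homOfLE (inf_le_left : V ⊓ T.U ≤ V)).op s - t) = 0 := by
      rw [map_sub, hs, sub_self]
    obtain ⟨T', hTT', h1⟩ := exists_of_σ_eq_zero Z F V hV T _ h0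
    have h2 := injective_transition Z F hpure hTT' V hV (h1.trans (map_zero _).symm)
    exact sub_eq_zero.1 h2
  · intro h
    have hpure : ZClos.IsZPure Z F := (isZPure_iff Z F).2 (fun T V hV => (h T V hV).1)
    have hmono : Mono (ZClos.rhoApp Z F) := hpure
    change IsIso (ZClos.rhoApp Z F)
    rw [isIso_iff_bijective_compact]
    intro V hV
    refine ⟨(mono_iff_injective_compact _).1 hmono V hV, ?_⟩
    intro s'
    obtain ⟨T, t, rfl⟩ := exists_rep Z F V hV s'
    obtain ⟨s, rfl⟩ := (h T V hV).2 t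
    exact ⟨s, rho_eq Z F T V s⟩

end Noeth

end Groth.Agent.Lead.ZClos1
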