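import Mathlib
import Groth.Prelude.Def_ZClos
import Groth.Agent.Lib.Lead.ZClos2

/-!
# Z-pure and Z-closed modules: the maps `F ⟶ (i_T)_*(F|_{X ∖ T})` (lead)
-/

set_option autoImplicit false
set_option linter.style.haveILetI false
set_option linter.unusedSectionVars false

universe u

open CategoryTheory CategoryTheory.Limits AlgebraicGeometry TopologicalSpace Opposite
open Groth.Agent.Helper13.QCoh

namespace Groth.Agent.Lead.ZClos1

variable {X : Scheme.{u}}

theorem injective_map_congr (F : X.Modules) {A B B' : X.Opens} (hB : B' = B) (hle : B ≤ A)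
    (hle' : B' ≤ A) :
    Function.Injective (F.presheaf.map (homOfLE hle').op) ↔
      Function.Injective (F.presheaf.map (homOfLE hle).op) := by
  subst hB
  exact Iff.rfl

theorem bijective_map_congr (F : X.Modules) {A B B' : X.Opens} (hB : B' = B) (hle : B ≤ A)
    (hle' : B' ≤ A) :
    Function.Bijective (F.presheaf.map (homOfLE hle').op) ↔
      Function.Bijective (F.presheaf.map (homOfLE hle).op) := by
  subst hB
  exact Iff.rfl

variable (Z : Set X) (F : X.Modules)

theorem toDiagram_injective_iff (T : ZClos.Cl Z) (V : X.Opens) :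
    Function.Injective ((ZClos.toDiagram Z F T).app V) ↔
      Function.Injective (F.presheaf.map (homOfLE (inf_le_left : V ⊓ T.U ≤ V)).op) :=
  injective_map_congr F (img_eq Z T V) inf_le_left (T.U.ι.image_preimage_le V)

theorem toDiagram_bijective_iff (T : ZClos.Cl Z) (V : X.Opens) :
    Function.Bijective ((ZClos.toDiagram Z F T).app V) ↔
      Function.Bijective (F.presheaf.map (homOfLE (inf_le_left : V ⊓ T.U ≤ V)).op) :=
  bijective_map_congr F (img_eq Z T V) inf_le_left (T.U.ι.image_preimage_le V)

/-- morphisms of modules agreeing on sections over compact opens are equal. -/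
theorem hom_ext_compact {M N : X.Modules} (g g' : M ⟶ N)
    (h : ∀ V : X.Opens, IsCompact (V : Set X) → ∀ t : Γ(M, V), g.app V t = g'.app V t) :
    g = g' := by
  apply Scheme.Modules.hom_ext
  intro U
  ext t
  choose V hVc hyV hVU using fun y : U => exists_compact_nhd U y.1 y.2
  have hcov : U ≤ ⨆ y : U, V y := fun z hz => Opens.mem_iSup.2 ⟨⟨z, hz⟩, hyV ⟨z, hz⟩⟩
  refine TopCat.Sheaf.eq_of_locally_eq' (⟨N.presheaf, N.isSheaf⟩ : TopCat.Sheaf Ab X)
    (fun y : U => V y) U (fun y => homOfLE (hVU y)) hcov _ _ (fun y => ?_)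
  have h1 := congr($(g.mapPresheaf.naturality (homOfLE (hVU y)).op) t)
  have h2 := congr($(g'.mapPresheaf.naturality (homOfLE (hVU y)).op) t)
  change g.app (V y) (M.presheaf.map (homOfLE (hVU y)).op t) =
    N.presheaf.map (homOfLE (hVU y)).op (g.app U t) at h1
  change g'.app (V y) (M.presheaf.map (homOfLE (hVU y)).op t) =
    N.presheaf.map (homOfLE (hVU y)).op (g'.app U t) at h2
  change N.presheaf.map (homOfLE (hVU y)).op (g.app U t) =
    N.presheaf.map (homOfLE (hVU y)).op (g'.app U t)
  rw [← h1, ← h2]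
  exact h (V y) (hVc y) _

section Noeth

variable [IsLocallyNoetherian X]

theorem isZPure_iff_toDiagram :
    ZClos.IsZPure Z F ↔ ∀ T : ZClos.Cl Z, Mono (ZClos.toDiagram Z F T) := by
  rw [isZPure_iff Z F]
  constructor
  · intro h T
    rw [mono_iff_injective_compact]
    intro V hV
    exact (toDiagram_injective_iff Z F T V).2 (h T V hV)
  · intro h T V hV
    exact (toDiagram_injective_iff Z F T V).1 ((mono_iff_injective_compact _).1 (h T) V hV)

theorem isZClosed_iff_toDiagram :
    ZClos.IsZClosed Z F ↔ ∀ T : ZClos.Cl Z, IsIso (ZClos.toDiagram Z F T) := by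
  rw [isZClosed_iff Z F]
  constructor
  · intro h T
    rw [isIso_iff_bijective_compact]
    intro V hV
    exact (toDiagram_bijective_iff Z F T V).2 (h T V hV)
  · intro h T V hV
    exact (toDiagram_bijective_iff Z F T V).1 ((isIso_iff_bijective_compact _).1 (h T) V hV)

/-- monotonicity in `Z`. -/
theorem mono_set (Z' : Set X) (h : Z' ⊆ Z) :
    (ZClos.IsZPure Z F → ZClos.IsZPure Z' F) ∧ (ZClos.IsZClosed Z F → ZClos.IsZClosed Z' F) := by
  constructor
  · intro hF
    rw [isZPure_iff] at hF ⊢
    intro T V hV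
    exact hF ⟨T.1, T.2.trans h⟩ V hV
  · intro hF
    rw [isZClosed_iff] at hF ⊢
    intro T V hV
    exact hF ⟨T.1, T.2.trans h⟩ V hV

end Noeth

end Groth.Agent.Lead.ZClos1
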