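import Mathlib
import Groth.Prelude.Def_ZClos
import Groth.Agent.Lib.Lead.ZClos3

/-!
# The Z-closure is Z-closed; universal property; stalks outside `Z` (lead)
-/

set_option autoImplicit false
set_option linter.style.haveILetI false
set_option linter.unusedSectionVars false

universe u

open CategoryTheory CategoryTheory.Limits AlgebraicGeometry TopologicalSpace Opposite
open Groth.Agent.Helper13.QCoh

namespace Groth.Agent.Lead.ZClos1

variable {X : Scheme.{u}} [IsLocallyNoetherian X] (Z : Set X) (F : X.Modules)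

/-- `ρ` is bijective on stalks outside `Z`. -/
theorem isZClosedAt_of_not_mem (x : X) (hx : x ∉ Z) : ZClos.IsZClosedAt Z F x := by
  have hxT : ∀ T : ZClos.Cl Z, x ∈ T.U := fun T hxT => hx (T.2 hxT)
  constructor
  · refine (injective_iff_map_eq_zero (ZClos.rhoStalk Z F x).hom).2 ?_
    intro m hm
    obtain ⟨V, hxV, hVc, s, rfl⟩ :=
      TopCat.Presheaf.exists_mem_germ_eq_of_isBasis isBasis_compact F.presheaf x m
    have hm' : ((ZClos.H0 Z).obj F).presheaf.germ V x hxV ((ZClos.rhoApp Z F).app V s) =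
        ((ZClos.H0 Z).obj F).presheaf.germ V x hxV 0 := by
      rw [map_zero]
      exact (TopCat.Presheaf.stalkFunctor_map_germ_apply V x hxV
        (ZClos.rhoApp Z F).mapPresheaf s).symm.trans hm
    obtain ⟨W, hxW, iU, iV, hW⟩ := TopCat.Presheaf.germ_eq _ x hxV hxV _ _ hm'
    obtain ⟨W', hW'c, hxW', hW'W⟩ := exists_compact_nhd W x hxW
    have hW'V : W' ≤ V := hW'W.trans iU.le
    have hnat := congr($((ZClos.rhoApp Z F).mapPresheaf.naturality (homOfLE hW'V).op) s)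
    have h1 : (ZClos.rhoApp Z F).app W' (F.presheaf.map (homOfLE hW'V).op s) = 0 := by
      refine hnat.trans ?_
      change ((ZClos.H0 Z).obj F).presheaf.map (homOfLE hW'V).op
        ((ZClos.rhoApp Z F).app V s) = 0
      rw [← map_map_eq ((ZClos.H0 Z).obj F) iU.op (homOfLE hW'W).op (homOfLE hW'V).op, hW,
        map_zero, map_zero]
    obtain ⟨T, hT⟩ := exists_of_rho_eq_zero Z F W' hW'c _ h1
    have hxWT : x ∈ W' ⊓ T.U := ⟨hxW', hxT T⟩
    have hle : W' ⊓ T.U ≤ V := inf_le_left.trans hW'V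
    rw [map_map_eq F _ _ (homOfLE hle).op s] at hT
    rw [← TopCat.Presheaf.germ_res_apply F.presheaf (homOfLE hle) x hxWT s, hT, map_zero]
  · intro m'
    obtain ⟨V, hxV, hVc, s', rfl⟩ := TopCat.Presheaf.exists_mem_germ_eq_of_isBasis
      isBasis_compact ((ZClos.H0 Z).obj F).presheaf x m'
    obtain ⟨T, t, rfl⟩ := exists_rep Z F V hVc s'
    have hxV' : x ∈ V ⊓ T.U := ⟨hxV, hxT T⟩
    refine ⟨F.presheaf.germ (V ⊓ T.U) x hxV' t, ?_⟩
    refine (TopCat.Presheaf.stalkFunctor_map_germ_apply (V ⊓ T.U) x hxV'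
      (ZClos.rhoApp Z F).mapPresheaf t).trans ?_
    change ((ZClos.H0 Z).obj F).presheaf.germ (V ⊓ T.U) x hxV'
      ((ZClos.rhoApp Z F).app (V ⊓ T.U) t) = _
    rw [rho_eq Z F T (V ⊓ T.U) t,
      ← TopCat.Presheaf.germ_res_apply ((ZClos.H0 Z).obj F).presheaf
        (homOfLE (inf_le_left : V ⊓ T.U ≤ V)) x hxV' (σ Z F T V t), σ_res]

/-- **The Z-closure is Z-closed.** -/
theorem isZClosed_H0 : ZClos.IsZClosed Z ((ZClos.H0 Z).obj F) := by
  rw [isZClosed_iff]
  intro T V hV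
  have hc : IsCompact ((V ⊓ T.U : X.Opens) : Set X) := isCompact_of_le hV inf_le_left
  have hle3 : ∀ T₂ : ZClos.Cl Z, V ⊓ (T ⊔ T₂).U ≤ V ⊓ T.U ⊓ T₂.U := fun T₂ =>
    le_inf (le_inf inf_le_left (inf_le_right.trans (ZClos.Cl.U_anti le_sup_left)))
      (inf_le_right.trans (ZClos.Cl.U_anti le_sup_right))
  constructor
  · refine (injective_iff_map_eq_zero
      (((ZClos.H0 Z).obj F).presheaf.map (homOfLE (inf_le_left : V ⊓ T.U ≤ V)).op).hom).2 ?_
    intro s' hs'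
    obtain ⟨T₁, t, rfl⟩ := exists_rep Z F V hV s'
    have hs'' : ((ZClos.H0 Z).obj F).presheaf.map (homOfLE (inf_le_left : V ⊓ T.U ≤ V)).op
        (σ Z F T₁ V t) = 0 := hs'
    rw [σ_res] at hs''
    obtain ⟨T₂, h12, h1⟩ := exists_of_σ_eq_zero Z F (V ⊓ T.U) hc T₁ _ hs''
    have h13 : T₁ ≤ T ⊔ T₂ := h12.trans le_sup_right
    rw [← σ_index Z F h13 V t]
    have h2 : F.presheaf.map (homOfLE (inf_le_inf_left V (ZClos.Cl.U_anti h13))).op t = 0 := by
      rw [map_map_eq F _ _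
        (homOfLE ((inf_le_inf_left (V ⊓ T.U) (ZClos.Cl.U_anti h12)).trans
          (inf_le_inf_right T₁.U inf_le_left))).op t] at h1
      rw [← map_map_eq F (homOfLE ((inf_le_inf_left (V ⊓ T.U) (ZClos.Cl.U_anti h12)).trans
          (inf_le_inf_right T₁.U inf_le_left))).op (homOfLE (hle3 T₂)).op
        (homOfLE (inf_le_inf_left V (ZClos.Cl.U_anti h13))).op t, h1, map_zero]
    rw [h2, map_zero]
  · intro s''
    obtain ⟨T₁, t, rfl⟩ := exists_rep Z F (V ⊓ T.U) hc s''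
    refine ⟨σ Z F (T ⊔ T₁) V (F.presheaf.map (homOfLE (hle3 T₁)).op t), ?_⟩
    rw [σ_res, ← σ_index Z F (le_sup_right : T₁ ≤ T ⊔ T₁) (V ⊓ T.U) t]
    congr 1
    exact map_map_eq F _ _ _ t

/-- `ρ` is an epimorphism with respect to Z-pure targets. -/
theorem eq_of_rho_comp_eq {F' : X.Modules} (hF' : ZClos.IsZPure Z F')
    (v v' : (ZClos.H0 Z).obj F ⟶ F')
    (h : ZClos.rhoApp Z F ≫ v = ZClos.rhoApp Z F ≫ v') : v = v' := by
  apply hom_ext_compact
  intro V hV s'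
  obtain ⟨T, t, rfl⟩ := exists_rep Z F V hV s'
  apply (isZPure_iff Z F').1 hF' T V hV
  have h1 := congr($(v.mapPresheaf.naturality (homOfLE (inf_le_left : V ⊓ T.U ≤ V)).op)
    (σ Z F T V t))
  have h2 := congr($(v'.mapPresheaf.naturality (homOfLE (inf_le_left : V ⊓ T.U ≤ V)).op)
    (σ Z F T V t))
  change v.app (V ⊓ T.U) (((ZClos.H0 Z).obj F).presheaf.map
      (homOfLE (inf_le_left : V ⊓ T.U ≤ V)).op (σ Z F T V t)) =
    F'.presheaf.map (homOfLE (inf_le_left : V ⊓ T.U ≤ V)).op (v.app V (σ Z F T V t)) at h1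
  change v'.app (V ⊓ T.U) (((ZClos.H0 Z).obj F).presheaf.map
      (homOfLE (inf_le_left : V ⊓ T.U ≤ V)).op (σ Z F T V t)) =
    F'.presheaf.map (homOfLE (inf_le_left : V ⊓ T.U ≤ V)).op (v'.app V (σ Z F T V t)) at h2
  rw [← h1, ← h2, σ_res]
  have h3 : σ Z F T (V ⊓ T.U) (F.presheaf.map
      (homOfLE (inf_le_inf_right T.U (inf_le_left : V ⊓ T.U ≤ V))).op t) =
      (ZClos.rhoApp Z F).app (V ⊓ T.U) t := (rho_eq Z F T (V ⊓ T.U) t).symm
  rw [h3]
  exact congrArg (fun ψ : F ⟶ F' => ψ.app (V ⊓ T.U) t) h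

/-- **Universal property of the Z-closure.** -/
theorem existsUnique_fac {F' : X.Modules} (hF' : ZClos.IsZClosed Z F') (u : F ⟶ F') :
    ∃! v : (ZClos.H0 Z).obj F ⟶ F', ZClos.rhoApp Z F ≫ v = u := by
  haveI : IsIso (ZClos.rhoApp Z F') := hF'
  have hpure : ZClos.IsZPure Z F' := by
    unfold ZClos.IsZPure
    infer_instance
  have hnat : ZClos.rhoApp Z F ≫ (ZClos.H0 Z).map u = u ≫ ZClos.rhoApp Z F' :=
    ((ZClos.rho Z).naturality u).symm
  refine ⟨(ZClos.H0 Z).map u ≫ inv (ZClos.rhoApp Z F'), ?_, ?_⟩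
  · change ZClos.rhoApp Z F ≫ (ZClos.H0 Z).map u ≫ inv (ZClos.rhoApp Z F') = u
    rw [← Category.assoc, hnat, Category.assoc, IsIso.hom_inv_id, Category.comp_id]
  · intro v hv
    apply eq_of_rho_comp_eq Z F hpure
    rw [hv, ← Category.assoc, hnat, Category.assoc, IsIso.hom_inv_id, Category.comp_id]

end Groth.Agent.Lead.ZClos1
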