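import Mathlib
import Groth.Prelude.Def_ZClos
import Groth.Agent.Lib.Lead.ZClos4

/-!
# The Z-closure: supports, vanishing and the isomorphism criterion (lead)

`X` locally Noetherian, `Z` stable under specialization.
* a closed subset of a quasi-compact open contained in `Z` lies in a closed subset of `X` inside `Z`;
* a section over a quasi-compact open whose germs vanish outside `Z` dies on the complement of some
  closed `T ⊆ Z`;
* `H⁰_{X/Z}(F) = 0` iff `Supp F ⊆ Z`;
* if `u : F ⟶ F'` is bijective on stalks outside `Z` and `F'` is Z-closed, then the induced map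
  `H⁰_{X/Z}(F) ⟶ F'` is an isomorphism.
-/

set_option autoImplicit false
set_option linter.style.haveILetI false
set_option linter.unusedSectionVars false

universe u

open CategoryTheory CategoryTheory.Limits AlgebraicGeometry TopologicalSpace Opposite
open Groth.Agent.Helper13.QCoh

namespace Groth.Agent.Lead.ZClos1

variable {X : Scheme.{u}}

section General

/-- naturality of a morphism of modules with respect to restriction. -/
theorem app_map' {M N : X.Modules} (φ : M ⟶ N) {A B : X.Opens} (i : op A ⟶ op B) (t : Γ(M, A)) :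
    φ.app B (M.presheaf.map i t) = N.presheaf.map i (φ.app A t) := by
  have h1 := congr($(φ.mapPresheaf.naturality i) t)
  exact h1

theorem app_map {M N : X.Modules} (φ : M ⟶ N) {A B : X.Opens} (h : B ≤ A) (t : Γ(M, A)) :
    φ.app B (M.presheaf.map (homOfLE h).op t) = N.presheaf.map (homOfLE h).op (φ.app A t) :=
  app_map' φ (homOfLE h).op t

/-- gluing two sections agreeing on the intersection. -/
theorem glue₂ (F : X.Modules) {A B : X.Opens} (a : Γ(F, A)) (b : Γ(F, B))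
    (hab : F.presheaf.map (homOfLE (inf_le_left : A ⊓ B ≤ A)).op a =
      F.presheaf.map (homOfLE (inf_le_right : A ⊓ B ≤ B)).op b) :
    ∃ t : Γ(F, A ⊔ B), F.presheaf.map (homOfLE (le_sup_left : A ≤ A ⊔ B)).op t = a ∧
      F.presheaf.map (homOfLE (le_sup_right : B ≤ A ⊔ B)).op t = b :=
  Groth.Agent.Helper13.ColimSec.exists_glue₂ (⟨F.presheaf, F.isSheaf⟩ : CohTop.Ab X.toTopCat)
    (le_sup_left : A ≤ A ⊔ B) (le_sup_right : B ≤ A ⊔ B) le_rfl a b hab

theorem eq_of_res₂ (F : X.Modules) {A B : X.Opens} (s s' : Γ(F, A ⊔ B))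
    (hA : F.presheaf.map (homOfLE (le_sup_left : A ≤ A ⊔ B)).op s =
      F.presheaf.map (homOfLE (le_sup_left : A ≤ A ⊔ B)).op s')
    (hB : F.presheaf.map (homOfLE (le_sup_right : B ≤ A ⊔ B)).op s =
      F.presheaf.map (homOfLE (le_sup_right : B ≤ A ⊔ B)).op s') : s = s' :=
  TopCat.Sheaf.eq_of_locally_eq₂ (⟨F.presheaf, F.isSheaf⟩ : TopCat.Sheaf Ab X)
    (homOfLE (le_sup_left : A ≤ A ⊔ B)) (homOfLE (le_sup_right : B ≤ A ⊔ B)) le_rfl s s' hA hB

theorem eq_of_le_bot (F : X.Modules) (s s' : Γ(F, (⊥ : X.Opens))) : s = s' := by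
  have h := Groth.Agent.Helper13.ProfiniteAcyc.subsingleton_of_le_bot
    (⟨F.presheaf, F.isSheaf⟩ : CohTop.Ab X.toTopCat) (W := (⊥ : X.Opens)) le_rfl
  exact @Subsingleton.elim _ h s s'

/-- a section killed by a stalkwise injective map has vanishing germ. -/
theorem germ_eq_zero_of_app_eq_zero {F F' : X.Modules} (φ : F ⟶ F') (y : X)
    (hinj : Function.Injective
      ((TopCat.Presheaf.stalkFunctor (C := Ab.{u}) y).map φ.mapPresheaf))
    (A : X.Opens) (hy : y ∈ A) (d : Γ(F, A)) (hd : φ.app A d = 0) :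
    F.presheaf.germ A y hy d = 0 := by
  apply hinj
  refine Eq.trans ?_ (map_zero _).symm
  refine (TopCat.Presheaf.stalkFunctor_map_germ_apply A y hy φ.mapPresheaf d).trans ?_
  change F'.presheaf.germ A y hy (φ.app A d) = 0
  rw [hd, map_zero]

/-- local lifting of a section through a stalkwise surjective map. -/
theorem exists_local_lift {F F' : X.Modules} (φ : F ⟶ F') (y : X)
    (hsurj : Function.Surjective
      ((TopCat.Presheaf.stalkFunctor (C := Ab.{u}) y).map φ.mapPresheaf))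
    (V : X.Opens) (hy : y ∈ V) (a : Γ(F', V)) :
    ∃ (N : X.Opens) (hNV : N ≤ V) (_ : y ∈ N) (t : Γ(F, N)),
      φ.app N t = F'.presheaf.map (homOfLE hNV).op a := by
  obtain ⟨m, hm⟩ := hsurj (F'.presheaf.germ V y hy a)
  obtain ⟨N₀, hyN₀, -, t₀, rfl⟩ :=
    TopCat.Presheaf.exists_mem_germ_eq_of_isBasis isBasis_compact F.presheaf y m
  have h1 : F'.presheaf.germ N₀ y hyN₀ (φ.app N₀ t₀) = F'.presheaf.germ V y hy a :=
    (TopCat.Presheaf.stalkFunctor_map_germ_apply N₀ y hyN₀ φ.mapPresheaf t₀).symm.trans hm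
  obtain ⟨N, hyN, iU, iV, hN⟩ := TopCat.Presheaf.germ_eq F'.presheaf y hyN₀ hy _ _ h1
  refine ⟨N, iV.le, hyN, F.presheaf.map iU.op t₀, ?_⟩
  refine (app_map' φ iU.op t₀).trans ?_
  exact hN

/-- the locus where a section lifts locally. -/
def liftLocus {F F' : X.Modules} (φ : F ⟶ F') (V : X.Opens) (a : Γ(F', V)) : Set X :=
  {y | ∃ (N : X.Opens) (hNV : N ≤ V) (_ : y ∈ N) (t : Γ(F, N)),
    φ.app N t = F'.presheaf.map (homOfLE hNV).op a}

theorem mem_liftLocus_iff {F F' : X.Modules} (φ : F ⟶ F') (V : X.Opens) (a : Γ(F', V)) (y : X) :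
    y ∈ liftLocus φ V a ↔ ∃ (N : X.Opens) (hNV : N ≤ V) (_ : y ∈ N) (t : Γ(F, N)),
      φ.app N t = F'.presheaf.map (homOfLE hNV).op a := Iff.rfl

theorem isOpen_liftLocus {F F' : X.Modules} (φ : F ⟶ F') (V : X.Opens) (a : Γ(F', V)) :
    IsOpen (liftLocus φ V a) := by
  rw [isOpen_iff_forall_mem_open]
  intro y hy
  obtain ⟨N, hNV, hyN, t, ht⟩ := (mem_liftLocus_iff φ V a y).1 hy
  refine ⟨(N : Set X), ?_, N.isOpen, hyN⟩
  intro z hz
  exact (mem_liftLocus_iff φ V a z).2 ⟨N, hNV, hz, t, ht⟩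

end General

section Noeth

variable [IsLocallyNoetherian X] (Z : Set X)

/-- a subset of `Z`, closed in a quasi-compact open, is contained in a closed subset of `X`
contained in `Z`. -/
theorem exists_cl_of_closed_in_compact (hZ : StableUnderSpecialization Z) (W : X.Opens)
    (hW : IsCompact (W : Set X)) (S : Set X) (hSW : S ⊆ (W : Set X)) (hSZ : S ⊆ Z)
    (hS : IsClosed ((Subtype.val : ↥W → X) ⁻¹' S)) :
    ∃ T : ZClos.Cl Z, S ⊆ (T.1 : Set X) := by
  haveI : CompactSpace ↥(W : Scheme.{u}) := isCompact_iff_compactSpace.1 hW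
  haveI : IsNoetherian (W : Scheme.{u}) := { }
  have hN : NoetherianSpace ↥W := (inferInstance : NoetherianSpace ↥(W : Scheme.{u}))
  have hQ : QuasiSober ↥W := (inferInstance : QuasiSober ↥(W : Scheme.{u}))
  obtain ⟨𝒮, hfin, hcl, hirr, hUn⟩ :=
    @NoetherianSpace.exists_finite_set_isClosed_irreducible ↥W _ hN _ hS
  have hT₀cl : IsClosed (⋃ C ∈ 𝒮, closure ((Subtype.val : ↥W → X) '' C)) :=
    hfin.isClosed_biUnion (fun C _ => isClosed_closure)
  have hT₀Z : (⋃ C ∈ 𝒮, closure ((Subtype.val : ↥W → X) '' C)) ⊆ Z := by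
    intro y hy
    obtain ⟨C, hC, hy⟩ := Set.mem_iUnion₂.1 hy
    obtain ⟨η, hη⟩ : ∃ η : ↥W, IsGenericPoint η C := hQ.sober (hirr C hC) (hcl C hC)
    have h2 : closure {η} = C := hη.def
    have h1 : η ∈ C := by
      rw [← h2]
      exact subset_closure rfl
    have hηS : (Subtype.val : ↥W → X) η ∈ S := by
      have h3 : η ∈ (Subtype.val : ↥W → X) ⁻¹' S := by
        rw [hUn]
        exact ⟨C, hC, h1⟩
      exact h3
    have h4 : (Subtype.val : ↥W → X) '' closure {η} ⊆
        closure ((Subtype.val : ↥W → X) '' {η}) :=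
      image_closure_subset_closure_image continuous_subtype_val
    rw [Set.image_singleton, h2] at h4
    have h5 : closure ((Subtype.val : ↥W → X) '' C) ⊆ closure {(Subtype.val : ↥W → X) η} :=
      closure_minimal h4 isClosed_closure
    exact hZ (specializes_iff_mem_closure.2 (h5 hy)) (hSZ hηS)
  refine ⟨⟨⟨⋃ C ∈ 𝒮, closure ((Subtype.val : ↥W → X) '' C), hT₀cl⟩, hT₀Z⟩, ?_⟩
  intro y hy
  have hy' : (⟨y, hSW hy⟩ : ↥W) ∈ (Subtype.val : ↥W → X) ⁻¹' S := hy
  rw [hUn] at hy'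
  obtain ⟨C, hC, hyC⟩ := hy'
  refine Set.mem_iUnion₂.2 ⟨C, hC, ?_⟩
  exact subset_closure ⟨_, hyC, rfl⟩

variable (F : X.Modules)

/-- a section over a quasi-compact open with vanishing germs outside `Z` is killed by restriction to
the complement of a closed subset of `Z`. -/
theorem exists_res_eq_zero_of_germ (hZ : StableUnderSpecialization Z) (W : X.Opens)
    (hW : IsCompact (W : Set X)) (t : Γ(F, W))
    (h : ∀ (y : X) (hy : y ∈ W), y ∉ Z → F.presheaf.germ W y hy t = 0) :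
    ∃ T : ZClos.Cl Z, F.presheaf.map (homOfLE (inf_le_left : W ⊓ T.U ≤ W)).op t = 0 := by
  have hSW : {y : X | ∃ hy : y ∈ W, F.presheaf.germ W y hy t ≠ 0} ⊆ (W : Set X) :=
    fun y hy => hy.1
  have hSZ : {y : X | ∃ hy : y ∈ W, F.presheaf.germ W y hy t ≠ 0} ⊆ Z := by
    rintro y ⟨hy, hne⟩
    by_contra hyZ
    exact hne (h y hy hyZ)
  have hS : IsClosed ((Subtype.val : ↥W → X) ⁻¹'
      {y : X | ∃ hy : y ∈ W, F.presheaf.germ W y hy t ≠ 0}) := by
    rw [← isOpen_compl_iff, isOpen_iff_forall_mem_open]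
    intro y hy
    have hy0 : F.presheaf.germ W y.1 y.2 t = 0 := by
      by_contra hne
      exact hy ⟨y.2, hne⟩
    have hy1 : F.presheaf.germ W y.1 y.2 t = F.presheaf.germ W y.1 y.2 0 := by
      rw [hy0, map_zero]
    obtain ⟨W', hyW', iU, iV, hW'⟩ :=
      TopCat.Presheaf.germ_eq F.presheaf y.1 y.2 y.2 t 0 hy1
    refine ⟨(Subtype.val : ↥W → X) ⁻¹' (W' : Set X), ?_,
      W'.isOpen.preimage continuous_subtype_val, hyW'⟩
    intro z hz hzS
    obtain ⟨hzW, hne⟩ := hzS
    apply hne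
    have hz' : z.1 ∈ W' := hz
    rw [← TopCat.Presheaf.germ_res_apply F.presheaf iU z.1 hz' t, hW', map_zero, map_zero]
  obtain ⟨T, hT⟩ := exists_cl_of_closed_in_compact Z hZ W hW _ hSW hSZ hS
  refine ⟨T, ?_⟩
  refine TopCat.Presheaf.section_ext (⟨F.presheaf, F.isSheaf⟩ : TopCat.Sheaf Ab X) (W ⊓ T.U)
    _ 0 ?_
  intro y hy
  have h1 := TopCat.Presheaf.germ_res_apply F.presheaf
    (homOfLE (inf_le_left : W ⊓ T.U ≤ W)) y hy t
  refine h1.trans ?_
  refine Eq.trans ?_ (map_zero _).symm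
  by_contra hne
  exact hy.2 (hT ⟨hy.1, hne⟩)

/-- a class in the Z-closure represented by a section with vanishing germs outside `Z` is zero. -/
theorem σ_eq_zero_of_germ (hZ : StableUnderSpecialization Z) (V : X.Opens)
    (hV : IsCompact (V : Set X)) (T : ZClos.Cl Z) (t : Γ(F, V ⊓ T.U))
    (h : ∀ (y : X) (hy : y ∈ V ⊓ T.U), y ∉ Z → F.presheaf.germ (V ⊓ T.U) y hy t = 0) :
    σ Z F T V t = 0 := by
  have hc : IsCompact ((V ⊓ T.U : X.Opens) : Set X) := isCompact_of_le hV inf_le_left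
  obtain ⟨T', hT'⟩ := exists_res_eq_zero_of_germ Z F hZ (V ⊓ T.U) hc t h
  have hle : V ⊓ (T ⊔ T').U ≤ V ⊓ T.U ⊓ T'.U :=
    le_inf (le_inf inf_le_left (inf_le_right.trans (ZClos.Cl.U_anti le_sup_left)))
      (inf_le_right.trans (ZClos.Cl.U_anti le_sup_right))
  have h2 : F.presheaf.map
      (homOfLE (inf_le_inf_left V (ZClos.Cl.U_anti (le_sup_left : T ≤ T ⊔ T')))).op t = 0 := by
    refine (map_map_eq F (homOfLE (inf_le_left : V ⊓ T.U ⊓ T'.U ≤ V ⊓ T.U)).op (homOfLE hle).op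
      (homOfLE (inf_le_inf_left V (ZClos.Cl.U_anti (le_sup_left : T ≤ T ⊔ T')))).op t).symm.trans ?_
    rw [hT', map_zero]
  rw [← σ_index Z F (le_sup_left : T ≤ T ⊔ T') V t, h2, map_zero]

/-- **`H⁰_{X/Z}(F) = 0` iff `Supp F ⊆ Z`.** -/
theorem isZero_H0_iff (hZ : StableUnderSpecialization Z) :
    IsZero ((ZClos.H0 Z).obj F) ↔ ∀ x : X, x ∉ Z → Subsingleton (F.presheaf.stalk x) := by
  constructor
  · intro h0 x hx
    have hid : 𝟙 ((ZClos.H0 Z).obj F) = 0 := h0.eq_of_src _ _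
    have hsec : ∀ (V : X.Opens) (s' : Γ((ZClos.H0 Z).obj F, V)), s' = 0 := by
      intro V s'
      have h1 := congrArg
        (fun ψ : (ZClos.H0 Z).obj F ⟶ (ZClos.H0 Z).obj F => ψ.app V s') hid
      exact h1
    have hst : ∀ m' : ((ZClos.H0 Z).obj F).presheaf.stalk x, m' = 0 := by
      intro m'
      obtain ⟨V, hxV, hVc, s', rfl⟩ := TopCat.Presheaf.exists_mem_germ_eq_of_isBasis
        isBasis_compact ((ZClos.H0 Z).obj F).presheaf x m'
      rw [hsec V s', map_zero]
    have hinj := (isZClosedAt_of_not_mem Z F x hx).1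
    refine ⟨fun a b => hinj ?_⟩
    exact (hst (ZClos.rhoStalk Z F x a)).trans (hst (ZClos.rhoStalk Z F x b)).symm
  · intro h
    rw [IsZero.iff_id_eq_zero]
    apply hom_ext_compact
    intro V hV s'
    obtain ⟨T, t, rfl⟩ := exists_rep Z F V hV s'
    have h0 : σ Z F T V t = 0 := by
      apply σ_eq_zero_of_germ Z F hZ V hV T t
      intro y hy hyZ
      exact @Subsingleton.elim _ (h y hyZ) _ _
    rw [h0, map_zero, map_zero]

end Noeth

end Groth.Agent.Lead.ZClos1
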