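import Groth.Agent.Lib.Lead.SecOrd23
import Groth.Agent.Lib.Helper14.LocQuotLemmas

/-!
# The length formula along an ideal with one-dimensional quotient

Tools for the flat pullback of a principal divisor of an integral closed subscheme.
-/

set_option autoImplicit false
universe u v
open CategoryTheory CategoryTheory.Limits AlgebraicGeometry Opposite TopologicalSpace
open scoped Pointwise

namespace Groth.Agent.Lead.SecOrd

theorem length_quot_comap {R S : Type*} [CommRing R] [CommRing S] (π : R →+* S)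
    (hπ : Function.Surjective π) (J : Ideal S) :
    Module.length R (R ⧸ J.comap π) = Module.length S (S ⧸ J) := by
  rw [Module.length_quotient, Module.length_quotient]
  exact Ideal.coheight_comap_of_surjective π hπ J

theorem length_localized_quot {B C : Type u} [CommRing B] [CommRing C] [Algebra B C] (q : Ideal B)
    [q.IsPrime] [IsLocalization.AtPrime C q] (I : Ideal B) :
    Module.length (Localization.AtPrime q) (LocalizedModule q.primeCompl (B ⧸ I)) =
      Module.length C (C ⧸ I.map (algebraMap B C)) := by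
  have e1 : LocalizedModule q.primeCompl (B ⧸ I) ≃ₗ[B]
      (Localization.AtPrime q ⧸ Submodule.localized' (Localization.AtPrime q) q.primeCompl
        (Algebra.linearMap B (Localization.AtPrime q)) I) :=
    IsLocalizedModule.iso q.primeCompl
      (Submodule.toLocalizedQuotient' (Localization.AtPrime q) q.primeCompl
        (Algebra.linearMap B (Localization.AtPrime q)) I)
  have e2 := e1.extendScalarsOfIsLocalization q.primeCompl (Localization.AtPrime q)
  rw [e2.length_eq]
  have hI' : Submodule.localized' (Localization.AtPrime q) q.primeCompl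
      (Algebra.linearMap B (Localization.AtPrime q)) I =
      I.map (algebraMap B (Localization.AtPrime q)) :=
    Ideal.localized'_eq_map (Localization.AtPrime q) q.primeCompl I
  rw [hI']
  obtain ⟨ρ, hρ⟩ : ∃ ρ : Localization.AtPrime q ≃+* C,
      ∀ b : B, ρ (algebraMap B (Localization.AtPrime q) b) = algebraMap B C b :=
    ⟨(IsLocalization.algEquiv q.primeCompl (Localization.AtPrime q) C).toRingEquiv,
      fun b => AlgEquiv.commutes _ b⟩
  have hmap : I.map (algebraMap B C) =
      (I.map (algebraMap B (Localization.AtPrime q))).map (ρ : Localization.AtPrime q →+* C) := by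
    rw [Ideal.map_map]
    congr 1
    ext b
    exact (hρ b).symm
  have hcomap : (I.map (algebraMap B C)).comap (ρ : Localization.AtPrime q →+* C) =
      I.map (algebraMap B (Localization.AtPrime q)) := by
    rw [hmap]
    exact Ideal.comap_map_of_bijective (ρ : Localization.AtPrime q →+* C) ρ.bijective
  rw [← hcomap]
  exact length_quot_comap (ρ : Localization.AtPrime q →+* C) ρ.surjective _

theorem length_localized_quot' {B C : Type u} [CommRing B] [CommRing C] [Algebra B C]
    (q q' : Ideal B) [q.IsPrime] [q'.IsPrime] (hqq : q = q') [IsLocalization.AtPrime C q']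
    (I : Ideal B) :
    Module.length (Localization.AtPrime q) (LocalizedModule q.primeCompl (B ⧸ I)) =
      Module.length C (C ⧸ I.map (algebraMap B C)) := by
  subst hqq
  exact length_localized_quot q I

variable {X : Scheme.{u}}

theorem specializes_of_ker_specMap_le {x ξ z : X} (h : ξ ⤳ x) (hz : z ⤳ x)
    (hle : RingHom.ker (Cyc.specMap x z hz) ≤ RingHom.ker (Cyc.specMap x ξ h)) : z ⤳ ξ := by
  have h1 : (⟨RingHom.ker (Cyc.specMap x z hz), inferInstance⟩ :
      PrimeSpectrum (X.presheaf.stalk x)) ⤳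
      ⟨RingHom.ker (Cyc.specMap x ξ h), inferInstance⟩ :=
    (PrimeSpectrum.le_iff_specializes _ _).mp hle
  have h2 := h1.map (X.fromSpecStalk x).continuous
  have e1 := fromSpecStalk_ker hz
  have e2 := fromSpecStalk_ker h
  rw [← e1, ← e2]
  exact h2

theorem ker_specMap_congr {x ξ ξ' : X} (e : ξ = ξ') (h : ξ ⤳ x) (h' : ξ' ⤳ x) :
    RingHom.ker (Cyc.specMap x ξ h) = RingHom.ker (Cyc.specMap x ξ' h') := by
  subst e
  rfl

theorem stalkMap_mem_ker_iff {X Y : Scheme.{u}} (f : X ⟶ Y) {ξ x : X} (h : ξ ⤳ x)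
    (h' : f ξ ⤳ f x) (a : Y.presheaf.stalk (f x)) :
    (f.stalkMap x).hom a ∈ RingHom.ker (Cyc.specMap x ξ h) ↔
      a ∈ RingHom.ker (Cyc.specMap (f x) (f ξ) h') := by
  rw [RingHom.mem_ker, RingHom.mem_ker, ← residueFieldMap_specMap f h h' a]
  constructor
  · intro h0
    exact (f.residueFieldMap ξ).hom.injective (h0.trans (map_zero _).symm)
  · intro h0
    rw [h0, map_zero]

section Defs
open Classical

/-- `length(O_ξ/I O_ξ) · ord_{O_x/𝔭_ξ}(u)` for a generization `ξ` of `x`. -/
noncomputable def genTermE (x : X) (I : Ideal (X.presheaf.stalk x)) (u : X.presheaf.stalk x)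
    (ξ : X) : ℕ∞ :=
  if h : ξ ⤳ x then
    Module.length (X.presheaf.stalk ξ)
        (X.presheaf.stalk ξ ⧸ I.map (X.presheaf.stalkSpecializes h).hom) *
      Ring.ord (Cyc.LocQuot x ξ h) (Ideal.Quotient.mk (RingHom.ker (Cyc.specMap x ξ h)) u)
  else 0

end Defs

theorem genTermE_eq {x ξ : X} (h : ξ ⤳ x) (I : Ideal (X.presheaf.stalk x))
    (u : X.presheaf.stalk x) :
    genTermE x I u ξ = Module.length (X.presheaf.stalk ξ)
        (X.presheaf.stalk ξ ⧸ I.map (X.presheaf.stalkSpecializes h).hom) *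
      Ring.ord (Cyc.LocQuot x ξ h) (Ideal.Quotient.mk (RingHom.ker (Cyc.specMap x ξ h)) u) :=
  dif_pos h

/-- The length formula along an ideal `I` of `O_{X,x}` with one-dimensional quotient. -/
theorem length_gen_decomp [IsLocallyNoetherian X] (x : X) (I : Ideal (X.presheaf.stalk x))
    (u : X.presheaf.stalk x)
    (h1 : ∀ p p' : PrimeSpectrum (X.presheaf.stalk x), I ≤ p.asIdeal → p < p' →
      p'.asIdeal = IsLocalRing.maximalIdeal (X.presheaf.stalk x))
    (h2 : ∀ p : PrimeSpectrum (X.presheaf.stalk x), I ≤ p.asIdeal → u ∈ p.asIdeal →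
      p.asIdeal = IsLocalRing.maximalIdeal (X.presheaf.stalk x))
    (h3 : ∀ b : X.presheaf.stalk x, u * b ∈ I → b ∈ I) :
    {ξ : X | ξ ⤳ x ∧ ξ ≠ x ∧ ∀ h : ξ ⤳ x, I ≤ RingHom.ker (Cyc.specMap x ξ h)}.Finite ∧
    Module.length (X.presheaf.stalk x) (X.presheaf.stalk x ⧸ (I ⊔ Ideal.span {u})) =
      ∑ᶠ ξ ∈ {ξ : X | ξ ⤳ x ∧ ξ ≠ x ∧ ∀ h : ξ ⤳ x, I ≤ RingHom.ker (Cyc.specMap x ξ h)},
        genTermE x I u ξ := by
  classical
  have hsupp : ∀ p : PrimeSpectrum (X.presheaf.stalk x),
      p ∈ Module.support (X.presheaf.stalk x) (X.presheaf.stalk x ⧸ I) ↔ I ≤ p.asIdeal := by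
    intro p
    rw [Module.support_eq_zeroLocus, Ideal.annihilator_quotient, PrimeSpectrum.mem_zeroLocus]
    exact SetLike.coe_subset_coe
  have hdim1 : Module.supportDim (X.presheaf.stalk x) (X.presheaf.stalk x ⧸ I) ≤ 1 := by
    rw [Module.supportDim, Order.krullDim_le_one_iff]
    rintro ⟨p, hp⟩
    by_cases hpm : p.asIdeal = IsLocalRing.maximalIdeal (X.presheaf.stalk x)
    · right
      rintro ⟨p', hp'⟩ _
      show p' ≤ p
      show p'.asIdeal ≤ p.asIdeal
      rw [hpm]
      exact IsLocalRing.le_maximalIdeal p'.2.ne_top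
    · left
      rintro ⟨p', hp'⟩ hle
      show p ≤ p'
      by_contra hnot
      have hlt : p' < p := lt_of_le_not_ge hle hnot
      exact hpm (h1 p' p ((hsupp p').mp hp') hlt)
  have hdim0 : Module.supportDim (X.presheaf.stalk x)
      ((X.presheaf.stalk x ⧸ I) ⧸ u • (⊤ : Submodule (X.presheaf.stalk x)
        (X.presheaf.stalk x ⧸ I))) ≤ 0 := by
    rw [Module.supportDim, Order.krullDim_nonpos_iff_forall_isMax]
    rintro ⟨p, hp⟩ ⟨p', hp'⟩ _
    have hp2 : p ∈ Module.support (X.presheaf.stalk x)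
        (QuotSMulTop u (X.presheaf.stalk x ⧸ I)) := hp
    rw [Module.support_quotSMulTop] at hp2
    have hup : u ∈ p.asIdeal := by
      have h4 := hp2.2
      rw [PrimeSpectrum.mem_zeroLocus, Set.singleton_subset_iff] at h4
      exact h4
    have hpm := h2 p ((hsupp p).mp hp2.1) hup
    show p' ≤ p
    show p'.asIdeal ≤ p.asIdeal
    rw [hpm]
    exact IsLocalRing.le_maximalIdeal p'.2.ne_top
  have hker : LinearMap.ker (LinearMap.lsmul (X.presheaf.stalk x) (X.presheaf.stalk x ⧸ I) u) =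
      ⊥ := by
    rw [LinearMap.ker_eq_bot']
    intro z hz
    obtain ⟨b, rfl⟩ := Ideal.Quotient.mk_surjective z
    have hz' : Ideal.Quotient.mk I (u * b) = 0 := hz
    rw [Ideal.Quotient.eq_zero_iff_mem] at hz' ⊢
    exact h3 b hz'
  have hmain := Groth.Agent.Lib.Helper26.LenD.main (X.presheaf.stalk x) (X.presheaf.stalk x ⧸ I) u
    hdim1 hdim0
  rw [hker, Module.length_bot, zero_add] at hmain
  -- the left hand side
  have hmapQ : Submodule.map (Submodule.mkQ I)
      (I ⊔ Ideal.span {u} : Submodule (X.presheaf.stalk x) (X.presheaf.stalk x)) =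
      u • (⊤ : Submodule (X.presheaf.stalk x) (X.presheaf.stalk x ⧸ I)) := by
    ext z
    obtain ⟨b, rfl⟩ := Submodule.Quotient.mk_surjective I z
    rw [Submodule.mem_smul_pointwise_iff_exists]
    constructor
    · rintro ⟨t, ht, hte⟩
      obtain ⟨i, hi, w, hw, rfl⟩ := Submodule.mem_sup.mp ht
      obtain ⟨c', rfl⟩ := Ideal.mem_span_singleton'.mp hw
      refine ⟨Submodule.Quotient.mk c', trivial, ?_⟩
      rw [← hte]
      show u • Submodule.Quotient.mk c' = Submodule.Quotient.mk (i + c' * u)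
      rw [← Submodule.Quotient.mk_smul, Submodule.Quotient.eq, smul_eq_mul]
      have : u * c' - (i + c' * u) = -i := by ring
      rw [this]
      exact I.neg_mem hi
    · rintro ⟨w, -, hw⟩
      obtain ⟨c', rfl⟩ := Submodule.Quotient.mk_surjective I w
      refine ⟨u * c', ?_, ?_⟩
      · apply Submodule.mem_sup_right
        exact Ideal.mem_span_singleton'.mpr ⟨c', mul_comm _ _⟩
      · rw [← hw]
        rfl
  have hL : Module.length (X.presheaf.stalk x) (X.presheaf.stalk x ⧸ (I ⊔ Ideal.span {u})) =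
      Module.length (X.presheaf.stalk x) ((X.presheaf.stalk x ⧸ I) ⧸
        u • (⊤ : Submodule (X.presheaf.stalk x) (X.presheaf.stalk x ⧸ I))) := by
    have e1 := Submodule.quotientQuotientEquivQuotient I (I ⊔ Ideal.span {u}) le_sup_left
    have e2 := Submodule.quotEquivOfEq _ _ hmapQ
    exact (e2.symm.trans e1).length_eq.symm
  -- the bijection with the primes
  obtain ⟨G, hG⟩ : ∃ G : Set X, G = {ξ : X | ξ ⤳ x ∧ ξ ≠ x ∧
      ∀ h : ξ ⤳ x, I ≤ RingHom.ker (Cyc.specMap x ξ h)} := ⟨_, rfl⟩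
  have hbij : Set.BijOn (genPrime x) G
      {p : PrimeSpectrum (X.presheaf.stalk x) |
        p ∈ Module.support (X.presheaf.stalk x) (X.presheaf.stalk x ⧸ I) ∧
          p.asIdeal ≠ IsLocalRing.maximalIdeal (X.presheaf.stalk x)} := by
    rw [hG]
    refine ⟨?_, ?_, ?_⟩
    · rintro ξ ⟨h, hne, hI⟩
      rw [genPrime_eq h]
      refine ⟨(hsupp _).mpr (hI h), ?_⟩
      intro hm
      exact hne ((ker_specMap_eq_maximalIdeal_iff h).mp hm)
    · rintro ξ ⟨h, -, -⟩ ξ' ⟨h', -, -⟩ hee
      rw [genPrime_eq h, genPrime_eq h'] at hee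
      exact eq_of_ker_specMap_eq h h' (congrArg PrimeSpectrum.asIdeal hee)
    · rintro q ⟨hq, hqm⟩
      haveI := q.isPrime
      obtain ⟨ξ, h, hqξ⟩ :=
        Groth.Agent.Helper23.RegPull.exists_generization_of_isPrime X x q.asIdeal
      have hker' : RingHom.ker (Cyc.specMap x ξ h) = q.asIdeal := by
        rw [ker_specMap h, ← hqξ]
      refine ⟨ξ, ⟨h, ?_, ?_⟩, ?_⟩
      · intro hξx
        have h4 := (ker_specMap_eq_maximalIdeal_iff h).mpr hξx
        rw [hker'] at h4
        exact hqm h4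
      · intro h'
        rw [hker']
        exact (hsupp q).mp hq
      · rw [genPrime_eq h]
        exact PrimeSpectrum.ext hker'
  have hfinP := Groth.Agent.Lib.Helper26.LenB.finite_nonmaximal_support
    (X.presheaf.stalk x ⧸ I)
    (Groth.Agent.Lib.Helper26.LenB.eq_maximal_of_lt_of_supportDim_le_one
      (X.presheaf.stalk x ⧸ I) hdim1)
  have hGfin : G.Finite := hbij.finite_iff_finite.mpr hfinP
  refine ⟨hG ▸ hGfin, ?_⟩
  obtain ⟨Gq, hGq⟩ : ∃ Gq : PrimeSpectrum (X.presheaf.stalk x) → ℕ∞, Gq = fun p =>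
      Ring.ord (X.presheaf.stalk x ⧸ p.asIdeal) (Ideal.Quotient.mk p.asIdeal u) *
        Module.length (Localization.AtPrime p.asIdeal)
          (LocalizedModule p.asIdeal.primeCompl (X.presheaf.stalk x ⧸ I)) := ⟨_, rfl⟩
  have hval : ∀ ξ ∈ G, genTermE x I u ξ = Gq (genPrime x ξ) := by
    intro ξ hξ
    rw [hG] at hξ
    obtain ⟨h, hne, hI⟩ := hξ
    rw [genTermE_eq h, genPrime_eq h, hGq]
    have hloc : Module.length (Localization.AtPrime (RingHom.ker (Cyc.specMap x ξ h)))
        (LocalizedModule (RingHom.ker (Cyc.specMap x ξ h)).primeCompl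
          (X.presheaf.stalk x ⧸ I)) =
        Module.length (X.presheaf.stalk ξ)
          (X.presheaf.stalk ξ ⧸ I.map (X.presheaf.stalkSpecializes h).hom) := by
      letI : Algebra (X.presheaf.stalk x) (X.presheaf.stalk ξ) :=
        (X.presheaf.stalkSpecializes h).hom.toAlgebra
      haveI : (Ideal.comap (X.presheaf.stalkSpecializes h).hom
        (IsLocalRing.maximalIdeal (X.presheaf.stalk ξ))).IsPrime := Ideal.comap_isPrime _ _
      haveI hloc' := Groth.Agent.Helper23.RegPull.isLocalization_stalkSpecializes X h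
      exact length_localized_quot' (RingHom.ker (Cyc.specMap x ξ h)) _ (ker_specMap h) I
    show _ = Ring.ord (Cyc.LocQuot x ξ h)
        (Ideal.Quotient.mk (RingHom.ker (Cyc.specMap x ξ h)) u) *
      Module.length (Localization.AtPrime (RingHom.ker (Cyc.specMap x ξ h)))
        (LocalizedModule (RingHom.ker (Cyc.specMap x ξ h)).primeCompl
          (X.presheaf.stalk x ⧸ I))
    rw [hloc, mul_comm]
  rw [hL, hmain, ← hG, finsum_mem_eq_of_bijOn (genPrime x) hbij hval, hGq]
  rfl

/-- The fibre ring at a point which is maximal in its fibre has finite length. -/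
theorem length_fibre_ne_top {X Y : Scheme.{u}} [IsLocallyNoetherian X] (f : X ⟶ Y) (x : X)
    (hmax : ∀ z, f z = f x → z ⤳ x → z = x) :
    Module.length (X.presheaf.stalk x) (X.presheaf.stalk x ⧸
      Ideal.map (f.stalkMap x).hom (IsLocalRing.maximalIdeal (Y.presheaf.stalk (f x)))) ≠ ⊤ := by
  obtain ⟨J, hJ⟩ : ∃ J : Ideal (X.presheaf.stalk x), J = Ideal.map (f.stalkMap x).hom
      (IsLocalRing.maximalIdeal (Y.presheaf.stalk (f x))) := ⟨_, rfl⟩
  rw [← hJ]
  have hprime : ∀ P : Ideal (X.presheaf.stalk x ⧸ J), P.IsPrime → P.IsMaximal := by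
    intro P hP
    haveI : (P.comap (Ideal.Quotient.mk J)).IsPrime := Ideal.comap_isPrime _ _
    obtain ⟨z, h, hq⟩ := Groth.Agent.Helper23.RegPull.exists_generization_of_isPrime X x
      (P.comap (Ideal.Quotient.mk J))
    have hker : RingHom.ker (Cyc.specMap x z h) = P.comap (Ideal.Quotient.mk J) := by
      rw [ker_specMap h, ← hq]
    have hJle : J ≤ P.comap (Ideal.Quotient.mk J) := by
      intro a ha
      rw [Ideal.mem_comap, Ideal.Quotient.eq_zero_iff_mem.mpr ha]
      exact P.zero_mem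
    have hfz : f z = f x :=
      (map_maximalIdeal_le_ker_iff f h).mp (by rw [hker, ← hJ]; exact hJle)
    have hzx : z = x := hmax z hfz h
    have hcm : P.comap (Ideal.Quotient.mk J) = IsLocalRing.maximalIdeal (X.presheaf.stalk x) := by
      rw [← hker]
      exact (ker_specMap_eq_maximalIdeal_iff h).mpr hzx
    have hP' : P = (IsLocalRing.maximalIdeal (X.presheaf.stalk x)).map (Ideal.Quotient.mk J) := by
      rw [← hcm, Ideal.map_comap_of_surjective _ Ideal.Quotient.mk_surjective]
    rw [hP']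
    refine (Ideal.map_eq_top_or_isMaximal_of_surjective (Ideal.Quotient.mk J)
      Ideal.Quotient.mk_surjective (IsLocalRing.maximalIdeal.isMaximal _)).resolve_left ?_
    intro htop
    exact hP.ne_top (hP'.trans htop)
  haveI : Ring.KrullDimLE 0 (X.presheaf.stalk x ⧸ J) := Ring.krullDimLE_zero_iff.mpr hprime
  haveI : IsArtinianRing (X.presheaf.stalk x ⧸ J) := isArtinianRing_iff_krullDimLE_zero.mpr inferInstance
  have hfl : IsFiniteLength (X.presheaf.stalk x ⧸ J) (X.presheaf.stalk x ⧸ J) :=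
    isFiniteLength_iff_isNoetherian_isArtinian.mpr ⟨inferInstance, inferInstance⟩
  have h1 : Module.length (X.presheaf.stalk x ⧸ J) (X.presheaf.stalk x ⧸ J) ≠ ⊤ :=
    Module.length_ne_top_iff.mpr hfl
  have h2 := length_quot_comap (Ideal.Quotient.mk J) Ideal.Quotient.mk_surjective
    (⊥ : Ideal (X.presheaf.stalk x ⧸ J))
  have h3 : (⊥ : Ideal (X.presheaf.stalk x ⧸ J)).comap (Ideal.Quotient.mk J) = J := by
    rw [← RingHom.ker_eq_comap_bot, Ideal.mk_ker]
  have h4 : Module.length (X.presheaf.stalk x ⧸ J)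
      ((X.presheaf.stalk x ⧸ J) ⧸ (⊥ : Ideal (X.presheaf.stalk x ⧸ J))) =
      Module.length (X.presheaf.stalk x ⧸ J) (X.presheaf.stalk x ⧸ J) :=
    (Submodule.quotEquivOfEqBot (⊥ : Submodule (X.presheaf.stalk x ⧸ J) (X.presheaf.stalk x ⧸ J))
      rfl).length_eq
  rw [h3, h4] at h2
  rw [h2]
  exact h1

theorem ordAt_div_eq' [IsLocallyNoetherian X] {x ξ : X} (h : ξ ⤳ x)
    (hdim : Ring.KrullDimLE 1 (Cyc.LocQuot x ξ h)) (a b : X.presheaf.stalk x)
    (ha : a ∉ RingHom.ker (Cyc.specMap x ξ h)) (hb : b ∉ RingHom.ker (Cyc.specMap x ξ h)) :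
    Cyc.ordAt x ξ h (Cyc.specMap x ξ h a / Cyc.specMap x ξ h b) =
      ((Ring.ord (Cyc.LocQuot x ξ h)
        (Ideal.Quotient.mk (RingHom.ker (Cyc.specMap x ξ h)) a)).toNat : ℤ) -
      ((Ring.ord (Cyc.LocQuot x ξ h)
        (Ideal.Quotient.mk (RingHom.ker (Cyc.specMap x ξ h)) b)).toNat : ℤ) := by
  unfold Cyc.ordAt
  haveI := hdim
  haveI : IsFractionRing (Cyc.LocQuot x ξ h) (X.residueField ξ) := isFractionRing_locQuot h
  have hne_a : Ideal.Quotient.mk (RingHom.ker (Cyc.specMap x ξ h)) a ≠ 0 :=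
    fun h0 => ha (Ideal.Quotient.eq_zero_iff_mem.mp h0)
  have hne_b : Ideal.Quotient.mk (RingHom.ker (Cyc.specMap x ξ h)) b ≠ 0 :=
    fun h0 => hb (Ideal.Quotient.eq_zero_iff_mem.mp h0)
  have hinj := algebraMap_locQuot_injective' h
  have h1 : Cyc.specMap x ξ h a = algebraMap (Cyc.LocQuot x ξ h) (X.residueField ξ)
      (Ideal.Quotient.mk (RingHom.ker (Cyc.specMap x ξ h)) a) := rfl
  have h2 : Cyc.specMap x ξ h b = algebraMap (Cyc.LocQuot x ξ h) (X.residueField ξ)
      (Ideal.Quotient.mk (RingHom.ker (Cyc.specMap x ξ h)) b) := rfl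
  rw [h1, h2, ordFrac_div' (A := Cyc.LocQuot x ξ h) _ _
      (fun h0 => hne_a (hinj (h0.trans (map_zero _).symm)))
      (fun h0 => hne_b (hinj (h0.trans (map_zero _).symm))),
    Groth.Agent.Helper25.LatDet.ordFrac_algebraMap (A := Cyc.LocQuot x ξ h)
      (K := X.residueField ξ) hne_a,
    Groth.Agent.Helper25.LatDet.ordFrac_algebraMap (A := Cyc.LocQuot x ξ h)
      (K := X.residueField ξ) hne_b]

theorem krullDimLE_locQuot_of_delta [IsLocallyNoetherian X] (δ : X → ℤ) (hδ : Cyc.IsDimFun X δ)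
    {x ξ : X} (h : ξ ⤳ x) (hd : δ x + 1 = δ ξ) : Ring.KrullDimLE 1 (Cyc.LocQuot x ξ h) := by
  obtain ⟨m, hm, hδm⟩ := Groth.Agent.Helper14.LocQuotLemmas.delta_eq_add_locQuot δ hδ ξ x h
  have hm1 : m = 1 := by omega
  rw [Ring.krullDimLE_iff, hm, hm1]

/-- Multiplication by the image of `a ∉ 𝔭` is injective on `B/𝔭B` for `B` flat over `A`. -/
theorem mem_map_of_mul_mem {A B : Type u} [CommRing A] [CommRing B] [Algebra A B]
    [Module.Flat A B] (𝔭 : Ideal A) [𝔭.IsPrime] (a : A) (ha : a ∉ 𝔭) (b : B)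
    (h : algebraMap A B a * b ∈ 𝔭.map (algebraMap A B)) : b ∈ 𝔭.map (algebraMap A B) := by
  let μ : (A ⧸ 𝔭) →ₗ[A] (A ⧸ 𝔭) := LinearMap.lsmul A (A ⧸ 𝔭) a
  have hμ : Function.Injective μ := by
    rw [injective_iff_map_eq_zero]
    intro z hz
    obtain ⟨c, rfl⟩ := Ideal.Quotient.mk_surjective z
    have hz' : Ideal.Quotient.mk 𝔭 (a * c) = 0 := hz
    rw [Ideal.Quotient.eq_zero_iff_mem] at hz' ⊢
    exact (Ideal.IsPrime.mem_or_mem inferInstance hz').resolve_left ha
  have hμB : Function.Injective (LinearMap.lTensor B μ) :=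
    Module.Flat.lTensor_preserves_injective_linearMap μ hμ
  have hsm : ∀ w : TensorProduct A B (A ⧸ 𝔭),
      algebraMap A B a • w = LinearMap.lTensor B μ w := by
    intro w
    induction w using TensorProduct.induction_on with
    | zero => rw [smul_zero, map_zero]
    | tmul b' m =>
      rw [TensorProduct.smul_tmul', LinearMap.lTensor_tmul, algebraMap_smul,
        TensorProduct.smul_tmul]
      rfl
    | add w₁ w₂ h₁ h₂ => rw [smul_add, map_add, h₁, h₂]
  let e := Algebra.TensorProduct.quotIdealMapEquivTensorQuot B 𝔭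
  have h0 : Ideal.Quotient.mk (𝔭.map (algebraMap A B)) (algebraMap A B a * b) = 0 :=
    Ideal.Quotient.eq_zero_iff_mem.mpr h
  have h1 : algebraMap A B a • e (Ideal.Quotient.mk (𝔭.map (algebraMap A B)) b) = 0 := by
    have h2 : algebraMap A B a • (Ideal.Quotient.mk (𝔭.map (algebraMap A B)) b) =
        Ideal.Quotient.mk (𝔭.map (algebraMap A B)) (algebraMap A B a * b) := rfl
    have h5 : algebraMap A B a • e (Ideal.Quotient.mk (𝔭.map (algebraMap A B)) b) =
        e (algebraMap A B a • (Ideal.Quotient.mk (𝔭.map (algebraMap A B)) b)) :=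
      (map_smul e _ _).symm
    rw [h5, h2, h0, map_zero]
  rw [hsm] at h1
  have h3 : e (Ideal.Quotient.mk (𝔭.map (algebraMap A B)) b) = 0 :=
    hμB (h1.trans (map_zero _).symm)
  have h4 : Ideal.Quotient.mk (𝔭.map (algebraMap A B)) b = 0 :=
    e.injective (h3.trans (map_zero _).symm)
  exact Ideal.Quotient.eq_zero_iff_mem.mp h4

end Groth.Agent.Lead.SecOrd
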