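import Mathlib
import Groth.Prelude.Def_Cyc
import Groth.Agent.Lib.Helper23.FFib3
import Groth.Agent.Lib.Lead.SecOrd24

/-!
# Finite locally free morphisms: `f_* f^* α = d • α`

Chart computations for a finite flat morphism `f : X ⟶ Y` over an affine open `V ⊆ Y`:
the fibre multiplicity at `x` is the ramification index, the residue degree at `x` is the inertia
degree, and `∑ e_x f_x = rank`.
-/

set_option autoImplicit false

open CategoryTheory CategoryTheory.Limits AlgebraicGeometry Opposite TopologicalSpace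

universe u

namespace Groth.Agent.Lead.FinFlat

/-! ### Algebra -/

/-- Transport of the degree of a residue field extension along ring isomorphisms. -/
theorem finrank_residueField_eq {R S R' S' : Type*} [CommRing R] [CommRing S] [CommRing R']
    [CommRing S'] [IsLocalRing R] [IsLocalRing S] [IsLocalRing R'] [IsLocalRing S']
    [Algebra R S] [IsLocalHom (algebraMap R S)] (ψ : R' →+* S') [IsLocalHom ψ]
    (i : R ≃+* R') (j : S ≃+* S')
    (h : ψ.comp (i : R →+* R') = (j : S →+* S').comp (algebraMap R S)) :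
    Module.finrank (IsLocalRing.ResidueField R) (IsLocalRing.ResidueField S) =
      (letI := (IsLocalRing.ResidueField.map ψ).toAlgebra
       Module.finrank (IsLocalRing.ResidueField R') (IsLocalRing.ResidueField S')) := by
  letI := (IsLocalRing.ResidueField.map ψ).toAlgebra
  refine Algebra.finrank_eq_of_equiv_equiv (IsLocalRing.ResidueField.mapEquiv i)
    (IsLocalRing.ResidueField.mapEquiv j) ?_
  refine Ideal.Quotient.ringHom_ext (RingHom.ext fun r => ?_)
  have h' := congrArg (fun g : R →+* S' => IsLocalRing.residue S' (g r)) h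
  exact h'

/-- The ramification index computed in any model of the localization. -/
theorem ramificationIdx_eq_length {A B C : Type u} [CommRing A] [CommRing B] [CommRing C]
    [Algebra A B] [Algebra B C] (𝔭 : Ideal A) (q : Ideal B) [q.IsPrime] [q.LiesOver 𝔭]
    [IsLocalization.AtPrime C q] :
    q.ramificationIdx A =
      (Module.length C (C ⧸ (𝔭.map (algebraMap A B)).map (algebraMap B C))).toNat := by
  rw [Ideal.ramificationIdx_eq 𝔭 q]
  congr 1
  have h1 := SecOrd.length_localized_quot (C := C) q (𝔭.map (algebraMap A B))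
  have h2 := SecOrd.length_localized_quot (C := Localization.AtPrime q) q (𝔭.map (algebraMap A B))
  rw [← h1, h2, Ideal.map_map, ← IsScalarTower.algebraMap_eq]

/-! ### Charts -/

variable {X Y : Scheme.{u}}

theorem fromSpec_map (f : X ⟶ Y) {V : Y.Opens} (hV : IsAffineOpen V)
    (hU : IsAffineOpen (f ⁻¹ᵁ V)) (P : PrimeSpectrum Γ(X, f ⁻¹ᵁ V)) :
    f (hU.fromSpec P) = hV.fromSpec (Spec.map (f.app V) P) := by
  have h := (Groth.Agent.Helper23.FFib.isPullback_fromSpec f hV hU).w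
  have h' := congrArg (fun g : Spec Γ(X, f ⁻¹ᵁ V) ⟶ Y => g P) h
  simpa using h'

theorem primeIdealOf_map (f : X ⟶ Y) {V : Y.Opens} (hV : IsAffineOpen V)
    (hU : IsAffineOpen (f ⁻¹ᵁ V)) (x : X) (hx : f x ∈ V) :
    Spec.map (f.app V) (hU.primeIdealOf ⟨x, hx⟩) = hV.primeIdealOf ⟨f x, hx⟩ := by
  apply hV.fromSpec.isOpenEmbedding.injective
  rw [← fromSpec_map f hV hU, hU.fromSpec_primeIdealOf ⟨x, hx⟩,
    hV.fromSpec_primeIdealOf ⟨f x, hx⟩]

theorem liesOver_primeIdealOf (f : X ⟶ Y) {V : Y.Opens} (hV : IsAffineOpen V)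
    (hU : IsAffineOpen (f ⁻¹ᵁ V)) [Algebra Γ(Y, V) Γ(X, f ⁻¹ᵁ V)]
    (halg : algebraMap Γ(Y, V) Γ(X, f ⁻¹ᵁ V) = (f.app V).hom) (x : X) (hx : f x ∈ V) :
    (hU.primeIdealOf ⟨x, hx⟩).asIdeal.LiesOver (hV.primeIdealOf ⟨f x, hx⟩).asIdeal := by
  constructor
  have h := congrArg PrimeSpectrum.asIdeal (primeIdealOf_map f hV hU x hx)
  rw [← h, Ideal.under, halg]
  rfl

theorem stalk_comp_eq (f : X ⟶ Y) {V : Y.Opens} [Algebra Γ(Y, V) Γ(X, f ⁻¹ᵁ V)]
    (halg : algebraMap Γ(Y, V) Γ(X, f ⁻¹ᵁ V) = (f.app V).hom) (x : X) (hx : f x ∈ V) :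
    (f.stalkMap x).hom.comp (Y.presheaf.germ V (f x) hx).hom =
      (X.presheaf.germ (f ⁻¹ᵁ V) x hx).hom.comp (algebraMap Γ(Y, V) Γ(X, f ⁻¹ᵁ V)) := by
  rw [halg]
  ext a
  exact Scheme.Hom.germ_stalkMap_apply f V x hx a

/-- The fibre multiplicity is the ramification index. -/
theorem length_fibre_eq_ramificationIdx (f : X ⟶ Y) {V : Y.Opens} (hV : IsAffineOpen V)
    (hU : IsAffineOpen (f ⁻¹ᵁ V)) [Algebra Γ(Y, V) Γ(X, f ⁻¹ᵁ V)]
    (halg : algebraMap Γ(Y, V) Γ(X, f ⁻¹ᵁ V) = (f.app V).hom) (x : X) (hx : f x ∈ V) :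
    (Module.length (X.presheaf.stalk x) (X.presheaf.stalk x ⧸ Ideal.map (f.stalkMap x).hom
        (IsLocalRing.maximalIdeal (Y.presheaf.stalk (f x))))).toNat =
      (hU.primeIdealOf ⟨x, hx⟩).asIdeal.ramificationIdx Γ(Y, V) := by
  letI algB : Algebra Γ(X, f ⁻¹ᵁ V) (X.presheaf.stalk x) :=
    (X.presheaf.germ (f ⁻¹ᵁ V) x hx).hom.toAlgebra
  haveI : IsLocalization.AtPrime (X.presheaf.stalk x) (hU.primeIdealOf ⟨x, hx⟩).asIdeal :=
    hU.isLocalization_stalk ⟨x, hx⟩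
  letI algA : Algebra Γ(Y, V) (Y.presheaf.stalk (f x)) :=
    (Y.presheaf.germ V (f x) hx).hom.toAlgebra
  haveI : IsLocalization.AtPrime (Y.presheaf.stalk (f x)) (hV.primeIdealOf ⟨f x, hx⟩).asIdeal :=
    hV.isLocalization_stalk ⟨f x, hx⟩
  haveI := liesOver_primeIdealOf f hV hU halg x hx
  rw [ramificationIdx_eq_length (C := X.presheaf.stalk x) (hV.primeIdealOf ⟨f x, hx⟩).asIdeal
    (hU.primeIdealOf ⟨x, hx⟩).asIdeal]
  have hI : Ideal.map (f.stalkMap x).hom (IsLocalRing.maximalIdeal (Y.presheaf.stalk (f x))) =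
      Ideal.map (algebraMap Γ(X, f ⁻¹ᵁ V) (X.presheaf.stalk x))
        (Ideal.map (algebraMap Γ(Y, V) Γ(X, f ⁻¹ᵁ V)) (hV.primeIdealOf ⟨f x, hx⟩).asIdeal) := by
    rw [← IsLocalization.AtPrime.map_eq_maximalIdeal (hV.primeIdealOf ⟨f x, hx⟩).asIdeal
      (Y.presheaf.stalk (f x)), Ideal.map_map, Ideal.map_map]
    congr 1
    exact stalk_comp_eq f halg x hx
  rw [hI]

/-- The residue degree is the inertia degree. -/
theorem residueDegree_eq_inertiaDeg (f : X ⟶ Y) {V : Y.Opens} (hV : IsAffineOpen V)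
    (hU : IsAffineOpen (f ⁻¹ᵁ V)) [Algebra Γ(Y, V) Γ(X, f ⁻¹ᵁ V)]
    (halg : algebraMap Γ(Y, V) Γ(X, f ⁻¹ᵁ V) = (f.app V).hom) (x : X) (hx : f x ∈ V) :
    f.residueDegree x = (hU.primeIdealOf ⟨x, hx⟩).asIdeal.inertiaDeg Γ(Y, V) := by
  letI algB : Algebra Γ(X, f ⁻¹ᵁ V) (X.presheaf.stalk x) :=
    (X.presheaf.germ (f ⁻¹ᵁ V) x hx).hom.toAlgebra
  haveI : IsLocalization.AtPrime (X.presheaf.stalk x) (hU.primeIdealOf ⟨x, hx⟩).asIdeal :=
    hU.isLocalization_stalk ⟨x, hx⟩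
  letI algA : Algebra Γ(Y, V) (Y.presheaf.stalk (f x)) :=
    (Y.presheaf.germ V (f x) hx).hom.toAlgebra
  haveI : IsLocalization.AtPrime (Y.presheaf.stalk (f x)) (hV.primeIdealOf ⟨f x, hx⟩).asIdeal :=
    hV.isLocalization_stalk ⟨f x, hx⟩
  haveI := liesOver_primeIdealOf f hV hU halg x hx
  set 𝔭 : PrimeSpectrum Γ(Y, V) := hV.primeIdealOf ⟨f x, hx⟩ with h𝔭
  set q : PrimeSpectrum Γ(X, f ⁻¹ᵁ V) := hU.primeIdealOf ⟨x, hx⟩ with hq
  letI := Localization.AtPrime.algebraOfLiesOver 𝔭.asIdeal q.asIdeal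
  rw [Ideal.inertiaDeg_eq 𝔭.asIdeal q.asIdeal]
  let eY : Localization.AtPrime 𝔭.asIdeal ≃ₐ[Γ(Y, V)] Y.presheaf.stalk (f x) :=
    IsLocalization.algEquiv 𝔭.asIdeal.primeCompl _ _
  let eX : Localization.AtPrime q.asIdeal ≃ₐ[Γ(X, f ⁻¹ᵁ V)] X.presheaf.stalk x :=
    IsLocalization.algEquiv q.asIdeal.primeCompl _ _
  have hc : (f.stalkMap x).hom.comp ((eY.toRingEquiv : Localization.AtPrime 𝔭.asIdeal ≃+*
        Y.presheaf.stalk (f x)) : Localization.AtPrime 𝔭.asIdeal →+* Y.presheaf.stalk (f x)) =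
      ((eX.toRingEquiv : Localization.AtPrime q.asIdeal ≃+* X.presheaf.stalk x) :
        Localization.AtPrime q.asIdeal →+* X.presheaf.stalk x).comp
        (algebraMap (Localization.AtPrime 𝔭.asIdeal) (Localization.AtPrime q.asIdeal)) := by
    refine IsLocalization.ringHom_ext 𝔭.asIdeal.primeCompl (RingHom.ext fun a => ?_)
    have h1 : eY (algebraMap Γ(Y, V) (Localization.AtPrime 𝔭.asIdeal) a) =
        algebraMap Γ(Y, V) (Y.presheaf.stalk (f x)) a := eY.commutes a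
    have h2 : algebraMap (Localization.AtPrime 𝔭.asIdeal) (Localization.AtPrime q.asIdeal)
        (algebraMap Γ(Y, V) (Localization.AtPrime 𝔭.asIdeal) a) =
        algebraMap Γ(X, f ⁻¹ᵁ V) (Localization.AtPrime q.asIdeal)
          (algebraMap Γ(Y, V) Γ(X, f ⁻¹ᵁ V) a) :=
      Localization.localRingHom_to_map _ _ _ _ a
    have h3 : eX (algebraMap Γ(X, f ⁻¹ᵁ V) (Localization.AtPrime q.asIdeal)
        (algebraMap Γ(Y, V) Γ(X, f ⁻¹ᵁ V) a)) =
        algebraMap Γ(X, f ⁻¹ᵁ V) (X.presheaf.stalk x) (algebraMap Γ(Y, V) Γ(X, f ⁻¹ᵁ V) a) :=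
      eX.commutes _
    have h4 := congrArg (fun g : Γ(Y, V) →+* X.presheaf.stalk x => g a)
      (stalk_comp_eq f halg x hx)
    show (f.stalkMap x).hom (eY (algebraMap Γ(Y, V) (Localization.AtPrime 𝔭.asIdeal) a)) =
      eX (algebraMap (Localization.AtPrime 𝔭.asIdeal) (Localization.AtPrime q.asIdeal)
        (algebraMap Γ(Y, V) (Localization.AtPrime 𝔭.asIdeal) a))
    rw [h1, h2, h3]
    exact h4
  exact (finrank_residueField_eq (f.stalkMap x).hom eY.toRingEquiv eX.toRingEquiv hc).symm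

/-- `∑ e_x f_x = rank` over an affine chart. -/
theorem finsum_fibre_eq_finrank_of_affine (f : X ⟶ Y) [IsFinite f] [Flat f]
    {V : Y.Opens} (hV : IsAffineOpen V) (y : Y) (hy : y ∈ V) :
    ∑ᶠ x ∈ f ⁻¹' {y}, (Module.length (X.presheaf.stalk x) (X.presheaf.stalk x ⧸
        Ideal.map (f.stalkMap x).hom
          (IsLocalRing.maximalIdeal (Y.presheaf.stalk (f x))))).toNat *
        f.residueDegree x = f.finrank y := by
  have hU : IsAffineOpen (f ⁻¹ᵁ V) := hV.preimage f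
  letI algAB : Algebra Γ(Y, V) Γ(X, f ⁻¹ᵁ V) := (f.app V).hom.toAlgebra
  have halg : algebraMap Γ(Y, V) Γ(X, f ⁻¹ᵁ V) = (f.app V).hom := rfl
  have hpb := Groth.Agent.Helper23.FFib.isPullback_fromSpec f hV hU
  haveI hfl' : Flat (Spec.map (f.app V)) :=
    MorphismProperty.of_isPullback (P := @Flat) hpb inferInstance
  haveI hfi' : IsFinite (Spec.map (f.app V)) :=
    MorphismProperty.of_isPullback (P := @IsFinite) hpb inferInstance
  have hfl : (f.app V).hom.Flat := Flat.SpecMap_iff.mp hfl'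
  have hfi : (f.app V).hom.Finite := (IsFinite.SpecMap_iff _).mp hfi'
  haveI : Module.Flat Γ(Y, V) Γ(X, f ⁻¹ᵁ V) := hfl
  haveI : Module.Finite Γ(Y, V) Γ(X, f ⁻¹ᵁ V) := hfi
  obtain ⟨P, hP⟩ : ∃ P : PrimeSpectrum Γ(Y, V), P = hV.primeIdealOf ⟨y, hy⟩ := ⟨_, rfl⟩
  have hPy : hV.fromSpec P = y := by rw [hP]; exact hV.fromSpec_primeIdealOf ⟨y, hy⟩
  -- the rank
  have h1 : f.finrank y =
      Module.finrank P.asIdeal.ResidueField (P.asIdeal.Fiber Γ(X, f ⁻¹ᵁ V)) := by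
    have e1 := Scheme.Hom.finrank_of_isPullback _ _ f hV.fromSpec hpb P
    rw [hPy] at e1
    rw [← e1, Scheme.Hom.finrank_SpecMap_eq_finrank hfi hfl, Ideal.finrank_fiber_eq_rankAtStalk]
    rfl
  haveI : Finite (P.asIdeal.primesOver Γ(X, f ⁻¹ᵁ V)) :=
    (Algebra.QuasiFinite.finite_primesOver P.asIdeal).to_subtype
  letI := Fintype.ofFinite (P.asIdeal.primesOver Γ(X, f ⁻¹ᵁ V))
  have hsum : ∑ᶠ x ∈ f ⁻¹' {y}, (Module.length (X.presheaf.stalk x) (X.presheaf.stalk x ⧸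
        Ideal.map (f.stalkMap x).hom
          (IsLocalRing.maximalIdeal (Y.presheaf.stalk (f x))))).toNat * f.residueDegree x =
      ∑ᶠ q ∈ (Set.univ : Set (P.asIdeal.primesOver Γ(X, f ⁻¹ᵁ V))),
        q.1.ramificationIdx Γ(Y, V) * q.1.inertiaDeg Γ(Y, V) := by
    symm
    refine finsum_mem_eq_of_bijOn
      (fun q : P.asIdeal.primesOver Γ(X, f ⁻¹ᵁ V) => hU.fromSpec ⟨q.1, q.2.1⟩) ⟨?_, ?_, ?_⟩ ?_
    · intro q _
      show f (hU.fromSpec ⟨q.1, q.2.1⟩) = y
      rw [fromSpec_map f hV hU, ← hPy]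
      congr 1
      apply PrimeSpectrum.ext
      exact (q.2.2.over).symm
    · intro q _ q' _ h
      have h' := hU.fromSpec.isOpenEmbedding.injective h
      exact Subtype.ext (congrArg PrimeSpectrum.asIdeal h')
    · intro x hx
      have hxy : f x = y := hx
      have hxV : f x ∈ V := by rw [hxy]; exact hy
      have hlo := liesOver_primeIdealOf f hV hU halg x hxV
      have hPx : hV.primeIdealOf ⟨f x, hxV⟩ = P := by
        rw [hP]
        congr 1
        exact Subtype.ext hxy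
      rw [hPx] at hlo
      exact ⟨⟨(hU.primeIdealOf ⟨x, hxV⟩).asIdeal, (hU.primeIdealOf ⟨x, hxV⟩).2, hlo⟩,
        Set.mem_univ _, hU.fromSpec_primeIdealOf ⟨x, hxV⟩⟩
    · intro q _
      have hxU : hU.fromSpec ⟨q.1, q.2.1⟩ ∈ f ⁻¹ᵁ V :=
        Groth.Agent.Helper23.FFib.fromSpec_mem hU ⟨q.1, q.2.1⟩
      have hxV : f (hU.fromSpec ⟨q.1, q.2.1⟩) ∈ V := hxU
      have hq : hU.primeIdealOf ⟨hU.fromSpec ⟨q.1, q.2.1⟩, hxV⟩ = ⟨q.1, q.2.1⟩ :=
        Groth.Agent.Helper23.FFib.primeIdealOf_fromSpec hU ⟨q.1, q.2.1⟩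
      show q.1.ramificationIdx Γ(Y, V) * q.1.inertiaDeg Γ(Y, V) = _ * _
      rw [length_fibre_eq_ramificationIdx f hV hU halg _ hxV,
        residueDegree_eq_inertiaDeg f hV hU halg _ hxV, hq]
  rw [hsum, finsum_mem_univ, finsum_eq_sum_of_fintype,
    Ideal.sum_ramification_inertia_eq_finrank_fiber, ← h1]

/-- `∑ e_x f_x = rank`. -/
theorem finsum_fibre_eq_finrank (f : X ⟶ Y) [IsFinite f] [Flat f] (y : Y) :
    ∑ᶠ x ∈ f ⁻¹' {y}, (Module.length (X.presheaf.stalk x) (X.presheaf.stalk x ⧸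
        Ideal.map (f.stalkMap x).hom
          (IsLocalRing.maximalIdeal (Y.presheaf.stalk (f x))))).toNat *
        f.residueDegree x = f.finrank y := by
  obtain ⟨V, hV, hyV, -⟩ := exists_isAffineOpen_mem_and_subset (x := y) (U := ⊤) trivial
  exact finsum_fibre_eq_finrank_of_affine f hV y hyV

/-- The residue degrees of a finite morphism are positive. -/
theorem residueDegree_pos (f : X ⟶ Y) [IsFinite f] (x : X) : 0 < f.residueDegree x := by
  obtain ⟨V, hV, hxV, -⟩ := exists_isAffineOpen_mem_and_subset (x := f x) (U := ⊤) trivial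
  have hU : IsAffineOpen (f ⁻¹ᵁ V) := hV.preimage f
  letI algAB : Algebra Γ(Y, V) Γ(X, f ⁻¹ᵁ V) := (f.app V).hom.toAlgebra
  haveI : Module.Finite Γ(Y, V) Γ(X, f ⁻¹ᵁ V) := IsFinite.finite_app f V hV
  rw [residueDegree_eq_inertiaDeg f hV hU rfl x hxV]
  haveI := (hU.primeIdealOf ⟨x, hxV⟩).2
  exact Ideal.inertiaDeg_pos _ _

/-- For a finite morphism with compatible dimension functions, `δX = δY ∘ f`. -/
theorem delta_eq (f : X ⟶ Y) [IsFinite f] (δX : X → ℤ) (δY : Y → ℤ)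
    (hδ : Cyc.DeltaCompat f δX δY) (x : X) : δX x = δY (f x) := by
  obtain ⟨n, hn, hx⟩ := hδ x
  letI := (f.residueFieldMap x).hom.toAlgebra
  haveI : Module.Finite (Y.residueField (f x)) (X.residueField x) :=
    Module.finite_of_finrank_pos (residueDegree_pos f x)
  have h0 : Algebra.trdeg (Y.residueField (f x)) (X.residueField x) = 0 := _root_.trdeg_eq_zero
  have hn' : (0 : Cardinal) = (n : Cardinal) := h0.symm.trans hn
  have hn0 : n = 0 := by exact_mod_cast hn'.symm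
  rw [hx, hn0]
  simp

/-- A finite morphism has relative dimension `0`. -/
theorem hasRelDim_zero (f : X ⟶ Y) [IsFinite f] : Cyc.HasRelDim f 0 := by
  intro y T hT
  have h1 : topologicalKrullDim T ≤ 0 :=
    (topologicalKrullDim_subspace_le _ T).trans (topologicalKrullDim_zero_of_discreteTopology _)
  obtain ⟨t, ht⟩ := hT.1.nonempty
  haveI : Nonempty (IrreducibleCloseds T) :=
    ⟨⟨closure {⟨t, ht⟩}, isIrreducible_singleton.closure, isClosed_closure⟩⟩
  have h2 : 0 ≤ topologicalKrullDim T := Order.krullDim_nonneg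
  simpa using le_antisymm h1 h2

/-- `f_* f^* α = d • α` for a finite locally free morphism of constant degree `d`. -/
theorem main (δX : X → ℤ) (δY : Y → ℤ) (f : X ⟶ Y) [IsFinite f] [Flat f] (d : ℕ)
    (hd : ∀ y : Y, f.finrank y = d) (hδ : Cyc.DeltaCompat f δX δY) :
    Cyc.HasRelDim f 0 ∧ ∀ (α : AlgebraicCycle Y ℤ) (α' : AlgebraicCycle X ℤ),
      ⇑α' = Cyc.pullFun f δX δY 0 ⇑α → AlgebraicCycle.map f δX δY α' = d • α := by
  refine ⟨hasRelDim_zero f, fun α α' hα' => ?_⟩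
  ext y
  unfold AlgebraicCycle.map
  rw [Function.locallyFinsupp.map_apply, Function.locallyFinsuppWithin.coe_nsmul, Pi.smul_apply,
    nsmul_eq_mul]
  have hfin : (f ⁻¹' {y}).Finite := Scheme.Hom.finite_preimage_singleton f y
  have hterm : ∀ x ∈ f ⁻¹' {y}, α' x * ((AlgebraicCycle.mapCoeff f δX δY x : ℕ) : ℤ) =
      α y * (((Module.length (X.presheaf.stalk x) (X.presheaf.stalk x ⧸
        Ideal.map (f.stalkMap x).hom
          (IsLocalRing.maximalIdeal (Y.presheaf.stalk (f x))))).toNat *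
        f.residueDegree x : ℕ) : ℤ) := by
    intro x hx
    have hxy : f x = y := hx
    have hm : AlgebraicCycle.mapCoeff f δX δY x = f.residueDegree x := by
      unfold AlgebraicCycle.mapCoeff
      exact if_pos (delta_eq f δX δY hδ x)
    have hp : α' x = α y * ((Module.length (X.presheaf.stalk x) (X.presheaf.stalk x ⧸
        Ideal.map (f.stalkMap x).hom
          (IsLocalRing.maximalIdeal (Y.presheaf.stalk (f x))))).toNat : ℤ) := by
      rw [hα']
      unfold Cyc.pullFun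
      have hαy : (α : Y → ℤ) (f x) = α y := by rw [hxy]
      rw [if_pos (by rw [delta_eq f δX δY hδ x]; simp), hαy]
    rw [hm, hp]
    push_cast
    ring
  rw [finsum_mem_congr rfl hterm, ← mul_finsum_mem, ← Nat.cast_finsum_mem hfin,
    finsum_fibre_eq_finrank f y, hd y]
  ring

end Groth.Agent.Lead.FinFlat
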