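import Groth.Agent.Lib.Lead.SecOrd21
import Groth.Agent.Lib.Helper4.RelDimPts
import Groth.Agent.Lib.Helper16.Sch.FibComp1
import Groth.Agent.Lib.Helper13.PullbackStalk

/-!
# Flat pullback of cycles: composition, and the cycle of a pulled back coherent module
-/

set_option autoImplicit false
universe u v
open CategoryTheory CategoryTheory.Limits AlgebraicGeometry Opposite TopologicalSpace
open scoped Pointwise TensorProduct

namespace Groth.Agent.Lead.SecOrd

/-- Flat local homomorphisms multiply colengths of ideals by the length of the closed fibre. -/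
theorem length_quot_map_ideal {A B : Type u} [CommRing A] [CommRing B] [IsLocalRing A]
    [IsLocalRing B] [Algebra A B] [IsLocalHom (algebraMap A B)] [Module.Flat A B] (I : Ideal A) :
    Module.length B (B ⧸ I.map (algebraMap A B)) =
      Module.length A (A ⧸ I) *
        Module.length B (B ⧸ (IsLocalRing.maximalIdeal A).map (algebraMap A B)) := by
  have h1 := IsLocalRing.length_baseChange A B (A ⧸ I)
  have h2 := (Algebra.TensorProduct.quotIdealMapEquivTensorQuot B I).toLinearEquiv.length_eq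
  rw [← h1, ← h2]

variable {X : Scheme.{u}}

theorem ker_specMap_mono {x ξ z : X} (h : ξ ⤳ x) (hz : z ⤳ ξ) :
    RingHom.ker (Cyc.specMap x z (hz.trans h)) ≤ RingHom.ker (Cyc.specMap x ξ h) := by
  intro a ha
  rw [ker_specMap, Ideal.mem_comap] at ha ⊢
  by_contra hnot
  have hu : IsUnit ((X.presheaf.stalkSpecializes h).hom a) := by
    by_contra hnu
    exact hnot ((IsLocalRing.mem_maximalIdeal _).mpr hnu)
  have hu2 : IsUnit ((X.presheaf.stalkSpecializes hz).hom
      ((X.presheaf.stalkSpecializes h).hom a)) := hu.map _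
  have hcomp : (X.presheaf.stalkSpecializes hz).hom ((X.presheaf.stalkSpecializes h).hom a) =
      (X.presheaf.stalkSpecializes (hz.trans h)).hom a := by
    have h3 := TopCat.Presheaf.stalkSpecializes_comp X.presheaf hz h
    exact congrArg (fun φ => φ.hom a) h3
  rw [hcomp] at hu2
  exact ((IsLocalRing.mem_maximalIdeal _).mp ha) hu2

theorem map_maximalIdeal_le_ker_iff {X Y : Scheme.{u}} (f : X ⟶ Y) {ξ x : X} (h : ξ ⤳ x) :
    Ideal.map (f.stalkMap x).hom (IsLocalRing.maximalIdeal (Y.presheaf.stalk (f x))) ≤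
      RingHom.ker (Cyc.specMap x ξ h) ↔ f ξ = f x := by
  have h' : f ξ ⤳ f x := h.map f.continuous
  have key : ∀ a, (f.stalkMap x).hom a ∈ RingHom.ker (Cyc.specMap x ξ h) ↔
      a ∈ RingHom.ker (Cyc.specMap (f x) (f ξ) h') := by
    intro a
    rw [RingHom.mem_ker, RingHom.mem_ker, ← residueFieldMap_specMap f h h' a]
    constructor
    · intro h0
      exact (f.residueFieldMap ξ).hom.injective (h0.trans (map_zero _).symm)
    · intro h0
      rw [h0, map_zero]
  rw [Ideal.map_le_iff_le_comap, ← ker_specMap_eq_maximalIdeal_iff h']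
  constructor
  · intro hle
    apply le_antisymm
    · exact IsLocalRing.le_maximalIdeal (RingHom.ker_ne_top _)
    · intro a ha
      exact (key a).mp (hle ha)
  · intro heq a ha
    rw [Ideal.mem_comap]
    exact (key a).mpr (heq ▸ ha)

/-- Every point has a generization in its fibre which is maximal in that fibre. -/
theorem exists_fibre_maximal' {X Y : Scheme.{u}} (f : X ⟶ Y) (x : X) :
    ∃ x' : X, x' ⤳ x ∧ f x' = f x ∧ ∀ z : X, f z = f x' → z ⤳ x' → z = x' := by
  obtain ⟨I, hI⟩ : ∃ I : Ideal (X.presheaf.stalk x), I = Ideal.map (f.stalkMap x).hom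
      (IsLocalRing.maximalIdeal (Y.presheaf.stalk (f x))) := ⟨_, rfl⟩
  have hIm : I ≤ IsLocalRing.maximalIdeal (X.presheaf.stalk x) := by
    rw [hI, ← (ker_specMap_eq_maximalIdeal_iff (specializes_refl x)).mpr rfl]
    exact (map_maximalIdeal_le_ker_iff f (specializes_refl x)).mpr rfl
  obtain ⟨q, hqmin, hqle⟩ := Ideal.exists_minimalPrimes_le hIm
  haveI : q.IsPrime := hqmin.1.1
  obtain ⟨x', h, hq⟩ := Groth.Agent.Helper23.RegPull.exists_generization_of_isPrime X x q
  have hker : RingHom.ker (Cyc.specMap x x' h) = q := by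
    rw [ker_specMap h, ← hq]
  have hIq : I ≤ q := hqmin.1.2
  have hfx' : f x' = f x := (map_maximalIdeal_le_ker_iff f h).mp (by rw [hker, ← hI]; exact hIq)
  refine ⟨x', h, hfx', ?_⟩
  intro z hfz hz
  have hfzx : f z = f x := hfz.trans hfx'
  have h1 : I ≤ RingHom.ker (Cyc.specMap x z (hz.trans h)) := by
    rw [hI]
    exact (map_maximalIdeal_le_ker_iff f (hz.trans h)).mpr hfzx
  have h2 : RingHom.ker (Cyc.specMap x z (hz.trans h)) ≤ q := by
    rw [← hker]
    exact ker_specMap_mono h hz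
  have h3 : q ≤ RingHom.ker (Cyc.specMap x z (hz.trans h)) := hqmin.2 ⟨inferInstance, h1⟩ h2
  exact eq_of_ker_specMap_eq (hz.trans h) h ((le_antisymm h2 h3).trans hker.symm)

/-- The fibre ring at a point which is not maximal in its fibre has infinite length. -/
theorem length_fibre_eq_top {X Y : Scheme.{u}} (f : X ⟶ Y) (x z : X) (hz : z ⤳ x) (hne : z ≠ x)
    (hfz : f z = f x) :
    Module.length (X.presheaf.stalk x) (X.presheaf.stalk x ⧸
      Ideal.map (f.stalkMap x).hom (IsLocalRing.maximalIdeal (Y.presheaf.stalk (f x)))) = ⊤ := by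
  by_contra hfin
  obtain ⟨q, hq⟩ : ∃ q : Ideal (X.presheaf.stalk x), q = RingHom.ker (Cyc.specMap x z hz) :=
    ⟨_, rfl⟩
  have hIq : Ideal.map (f.stalkMap x).hom
      (IsLocalRing.maximalIdeal (Y.presheaf.stalk (f x))) ≤ q := by
    rw [hq]
    exact (map_maximalIdeal_le_ker_iff f hz).mpr hfz
  haveI : q.IsPrime := by
    rw [hq]
    infer_instance
  have hsurj : Function.Surjective (Submodule.mapQ (Ideal.map (f.stalkMap x).hom
      (IsLocalRing.maximalIdeal (Y.presheaf.stalk (f x)))) q LinearMap.id (by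
        intro a ha
        exact hIq ha)) := by
    intro b
    obtain ⟨b, rfl⟩ := Submodule.Quotient.mk_surjective _ b
    exact ⟨Submodule.Quotient.mk b, rfl⟩
  have hlen : Module.length (X.presheaf.stalk x) (X.presheaf.stalk x ⧸ q) ≠ ⊤ :=
    ne_top_of_le_ne_top hfin (Module.length_le_of_surjective _ hsurj)
  rw [Module.length_ne_top_iff, isFiniteLength_iff_isNoetherian_isArtinian] at hlen
  haveI : IsArtinianRing (X.presheaf.stalk x ⧸ q) := isArtinian_of_tower (X.presheaf.stalk x) hlen.2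
  have hfield : IsField (X.presheaf.stalk x ⧸ q) :=
    IsArtinianRing.isField_of_isDomain (X.presheaf.stalk x ⧸ q)
  have hmax : q.IsMaximal := Ideal.Quotient.maximal_of_isField q hfield
  have hqm : q = IsLocalRing.maximalIdeal (X.presheaf.stalk x) := IsLocalRing.eq_maximalIdeal hmax
  exact hne ((ker_specMap_eq_maximalIdeal_iff hz).mp (hq ▸ hqm))

/-- Multiplicativity of the fibre lengths along a composite whose first map is flat. -/
theorem length_comp {X Y Z : Scheme.{u}} (f : X ⟶ Y) (g : Y ⟶ Z) [Flat f] (x : X) :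
    Module.length (X.presheaf.stalk x) (X.presheaf.stalk x ⧸
        Ideal.map ((f ≫ g).stalkMap x).hom
          (IsLocalRing.maximalIdeal (Z.presheaf.stalk ((f ≫ g) x)))) =
      Module.length (Y.presheaf.stalk (f x)) (Y.presheaf.stalk (f x) ⧸
        Ideal.map (g.stalkMap (f x)).hom
          (IsLocalRing.maximalIdeal (Z.presheaf.stalk (g (f x))))) *
      Module.length (X.presheaf.stalk x) (X.presheaf.stalk x ⧸
        Ideal.map (f.stalkMap x).hom (IsLocalRing.maximalIdeal (Y.presheaf.stalk (f x)))) := by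
  letI alg : Algebra (Y.presheaf.stalk (f x)) (X.presheaf.stalk x) :=
    (f.stalkMap x).hom.toAlgebra
  haveI hflat : Module.Flat (Y.presheaf.stalk (f x)) (X.presheaf.stalk x) :=
    AlgebraicGeometry.Flat.stalkMap f x
  haveI hloc : IsLocalHom (algebraMap (Y.presheaf.stalk (f x)) (X.presheaf.stalk x)) :=
    f.toLRSHom.prop x
  have hcomp : ((f ≫ g).stalkMap x).hom =
      (f.stalkMap x).hom.comp (g.stalkMap (f x)).hom := by
    rw [Scheme.Hom.stalkMap_comp]
    rfl
  have hI : Ideal.map ((f ≫ g).stalkMap x).hom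
      (IsLocalRing.maximalIdeal (Z.presheaf.stalk ((f ≫ g) x))) =
      Ideal.map (f.stalkMap x).hom (Ideal.map (g.stalkMap (f x)).hom
        (IsLocalRing.maximalIdeal (Z.presheaf.stalk (g (f x))))) := by
    rw [Ideal.map_map, ← hcomp]
    rfl
  rw [hI]
  exact length_quot_map_ideal (A := Y.presheaf.stalk (f x)) (B := X.presheaf.stalk x)
    (Ideal.map (g.stalkMap (f x)).hom (IsLocalRing.maximalIdeal (Z.presheaf.stalk (g (f x)))))

theorem sheafFun_pos' (δ : X → ℤ) (k : ℤ) (F : X.Modules) (x : X) (h : δ x = k) :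
    Cyc.sheafFun δ k F x =
      ((Module.length (X.presheaf.stalk x) (F.presheaf.stalk x)).toNat : ℤ) := by
  unfold Cyc.sheafFun
  rw [if_pos h]

theorem sheafFun_neg' (δ : X → ℤ) (k : ℤ) (F : X.Modules) (x : X) (h : ¬ δ x = k) :
    Cyc.sheafFun δ k F x = 0 := by
  unfold Cyc.sheafFun
  rw [if_neg h]

/-- Composition of flat pullbacks of relative dimensions `r` and `s`. -/
theorem main_comp (X Y Z : Scheme.{u}) (δX : X → ℤ) (δY : Y → ℤ) (δZ : Z → ℤ) (f : X ⟶ Y)
    (g : Y ⟶ Z) [Flat f] [LocallyOfFiniteType f] [LocallyOfFiniteType g] (r s : ℕ)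
    (hr : Cyc.HasRelDim f r) (hs : Cyc.HasRelDim g s) (hf : Cyc.DeltaCompat f δX δY)
    (hg : Cyc.DeltaCompat g δY δZ) :
    Cyc.HasRelDim (f ≫ g) (r + s) ∧ ∀ α : Z → ℤ,
      Cyc.pullFun f δX δY r (Cyc.pullFun g δY δZ s α) =
        Cyc.pullFun (f ≫ g) δX δZ ((r : ℤ) + s) α := by
  have hfr : ∀ x : X, FlatMor.fibreDimAt f x = (r : WithBot ℕ∞) :=
    Groth.Agent.Helper4.RelDimPts.fibreDimAt_eq_of_hasRelDim f r hr
  have hgs : ∀ y : Y, FlatMor.fibreDimAt g y = (s : WithBot ℕ∞) :=
    Groth.Agent.Helper4.RelDimPts.fibreDimAt_eq_of_hasRelDim g s hs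
  have hfg : ∀ x : X, FlatMor.fibreDimAt (f ≫ g) x = ((r + s : ℕ) : WithBot ℕ∞) := by
    intro x
    rw [Groth.Agent.Helper16.FibComp.fibreDimAt_comp_eq f g x (AlgebraicGeometry.Flat.stalkMap f x),
      hfr, hgs]
    push_cast
    rfl
  refine ⟨Groth.Agent.Helper4.RelDimPts.hasRelDim_of_fibreDimAt_eq (f ≫ g) (r + s) hfg, ?_⟩
  intro α
  funext x
  obtain ⟨n, hn, hδn⟩ := hf x
  obtain ⟨m, hm, hδm⟩ := hg (f x)
  have hnr : n ≤ r := by
    have h1 := Groth.Agent.Helper14.EquidimAt.trdeg_le_fibreDimAt f x x specializes_rfl n hn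
    rw [hfr x] at h1
    exact_mod_cast h1
  have hms : m ≤ s := by
    have h1 := Groth.Agent.Helper14.EquidimAt.trdeg_le_fibreDimAt g (f x) (f x) specializes_rfl m hm
    rw [hgs (f x)] at h1
    exact_mod_cast h1
  have hfgx : (f ≫ g) x = g (f x) := Scheme.Hom.comp_apply f g x
  have hδfg : δZ ((f ≫ g) x) = δZ (g (f x)) := by rw [hfgx]
  have hαfg : α ((f ≫ g) x) = α (g (f x)) := by rw [hfgx]
  by_cases hc : δX x = δZ ((f ≫ g) x) + ((r : ℤ) + s)
  · have h1 : δX x = δY (f x) + r := by omega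
    have h2 : δY (f x) = δZ (g (f x)) + s := by omega
    rw [pullFun_pos' f δX δY r _ x h1, pullFun_pos' g δY δZ s _ (f x) h2,
      pullFun_pos' (f ≫ g) δX δZ _ _ x hc, length_comp f g x, ENat.toNat_mul, hαfg]
    push_cast
    ring
  · rw [pullFun_neg' (f ≫ g) δX δZ _ _ x hc]
    by_cases h1 : δX x = δY (f x) + r
    · have h2 : ¬ δY (f x) = δZ (g (f x)) + s := by
        intro h2
        apply hc
        omega
      rw [pullFun_pos' f δX δY r _ x h1, pullFun_neg' g δY δZ s _ (f x) h2, zero_mul]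
    · rw [pullFun_neg' f δX δY r _ x h1]

theorem subsingleton_tensor_of_right {R M N : Type*} [CommRing R] [AddCommGroup M] [Module R M]
    [AddCommGroup N] [Module R N] [Subsingleton N] : Subsingleton (M ⊗[R] N) := by
  refine ⟨fun a b => ?_⟩
  have h0 : ∀ t : M ⊗[R] N, t = 0 := by
    intro t
    induction t using TensorProduct.induction_on with
    | zero => rfl
    | tmul m n => rw [Subsingleton.elim n 0, TensorProduct.tmul_zero]
    | add a b ha hb => rw [ha, hb, add_zero]
  rw [h0 a, h0 b]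

/-- Flat pullback of the cycle of a coherent module, with a shift condition on the dimension
functions at the generic points of the fibres. -/
theorem main_pull_sheaf (X X' : Scheme.{u}) (p : X' ⟶ X) [Flat p] (δ : X → ℤ) (δ' : X' → ℤ)
    (hd' : Cyc.IsDimFun X' δ') (c : ℤ)
    (hc : ∀ x' : X', (∀ y, p y = p x' → y ⤳ x' → y = x') → δ' x' = δ (p x') + c) (k : ℤ)
    (F : X.Modules) (hF : Coh.IsCoh F)
    (hdim : ∀ x : X, Nontrivial (F.presheaf.stalk x) → δ x ≤ k) :
    (∀ x' : X', Nontrivial (((Scheme.Modules.pullback p).obj F).presheaf.stalk x') →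
        δ' x' ≤ k + c) ∧
      Cyc.pullFun p δ' δ c (Cyc.sheafFun δ k F) =
        Cyc.sheafFun δ' (k + c) ((Scheme.Modules.pullback p).obj F) := by
  haveI : F.IsQuasicoherent := hF.1
  have hlen : ∀ x' : X', Module.length (X'.presheaf.stalk x')
      (((Scheme.Modules.pullback p).obj F).presheaf.stalk x') =
      Module.length (X.presheaf.stalk (p x')) (F.presheaf.stalk (p x')) *
        Module.length (X'.presheaf.stalk x') (X'.presheaf.stalk x' ⧸
          Ideal.map (p.stalkMap x').hom
            (IsLocalRing.maximalIdeal (X.presheaf.stalk (p x')))) := by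
    intro x'
    letI alg : Algebra (X.presheaf.stalk (p x')) (X'.presheaf.stalk x') :=
      (p.stalkMap x').hom.toAlgebra
    haveI hflat : Module.Flat (X.presheaf.stalk (p x')) (X'.presheaf.stalk x') :=
      AlgebraicGeometry.Flat.stalkMap p x'
    haveI hloc : IsLocalHom (algebraMap (X.presheaf.stalk (p x')) (X'.presheaf.stalk x')) :=
      p.toLRSHom.prop x'
    obtain ⟨e⟩ := Groth.Agent.Helper13.Pullback.exists_stalk_pullback_equiv p F x'
    rw [e.length_eq]
    exact IsLocalRing.length_baseChange (X.presheaf.stalk (p x')) (X'.presheaf.stalk x')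
      (F.presheaf.stalk (p x'))
  have hnontriv : ∀ x' : X', Nontrivial (((Scheme.Modules.pullback p).obj F).presheaf.stalk x') →
      Nontrivial (F.presheaf.stalk (p x')) := by
    intro x' hnt
    by_contra hnot
    rw [not_nontrivial_iff_subsingleton] at hnot
    have h0 : Module.length (X.presheaf.stalk (p x')) (F.presheaf.stalk (p x')) = 0 :=
      Module.length_eq_zero
    have h1 := hlen x'
    rw [h0, zero_mul, Module.length_eq_zero_iff] at h1
    exact not_subsingleton _ h1
  refine ⟨?_, ?_⟩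
  · intro x' hnt
    have h1 := hdim (p x') (hnontriv x' hnt)
    obtain ⟨x'', hx'', hpx'', hmax⟩ := exists_fibre_maximal' p x'
    have h2 := hc x'' hmax
    rw [hpx''] at h2
    by_cases he : x'' = x'
    · rw [← he]
      omega
    · have h3 := (hd' x'' x' hx'' he).1
      omega
  · funext x'
    by_cases h1 : δ' x' = k + c
    · rw [sheafFun_pos' δ' (k + c) _ x' h1, hlen x']
      by_cases h2 : δ (p x') = k
      · rw [pullFun_pos' p δ' δ c _ x' (by omega), sheafFun_pos' δ k F (p x') h2, ENat.toNat_mul]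
        push_cast
        ring
      · have hL : Cyc.pullFun p δ' δ c (Cyc.sheafFun δ k F) x' = 0 := by
          by_cases h3 : δ' x' = δ (p x') + c
          · exfalso
            omega
          · exact pullFun_neg' p δ' δ c _ x' h3
        rw [hL, ENat.toNat_mul]
        by_cases hnt : Nontrivial (F.presheaf.stalk (p x'))
        · have h4 := hdim (p x') hnt
          have hnmax : ¬ (∀ y, p y = p x' → y ⤳ x' → y = x') := by
            intro hmax
            have h5 := hc x' hmax
            omega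
          push Not at hnmax
          obtain ⟨z, hpz, hzx, hzne⟩ := hnmax
          rw [length_fibre_eq_top p x' z hzx hzne hpz, ENat.toNat_top, mul_zero]
          rfl
        · rw [not_nontrivial_iff_subsingleton] at hnt
          have h0 : Module.length (X.presheaf.stalk (p x')) (F.presheaf.stalk (p x')) = 0 :=
            Module.length_eq_zero
          rw [h0, ENat.toNat_zero, zero_mul]
          rfl
    · rw [sheafFun_neg' δ' (k + c) _ x' h1]
      by_cases h3 : δ' x' = δ (p x') + c
      · rw [pullFun_pos' p δ' δ c _ x' h3, sheafFun_neg' δ k F (p x') (by omega), zero_mul]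
      · exact pullFun_neg' p δ' δ c _ x' h3

/-- Composition of flat pullbacks with shift conditions on the dimension functions. -/
theorem main_comp_shift (X X' X'' : Scheme.{u}) (p : X' ⟶ X) (p' : X'' ⟶ X') [Flat p']
    (δ : X → ℤ) (δ' : X' → ℤ) (δ'' : X'' → ℤ) (c c' : ℤ)
    (hc : ∀ x' : X', (∀ y, p y = p x' → y ⤳ x' → y = x') → δ' x' = δ (p x') + c)
    (hc' : ∀ x'' : X'', (∀ y, p' y = p' x'' → y ⤳ x'' → y = x'') → δ'' x'' = δ' (p' x'') + c') :
    (∀ x'' : X'', (∀ y, (p' ≫ p) y = (p' ≫ p) x'' → y ⤳ x'' → y = x'') →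
        δ'' x'' = δ ((p' ≫ p) x'') + (c + c')) ∧
      ∀ α : X → ℤ, Cyc.pullFun (p' ≫ p) δ'' δ (c + c') α =
        Cyc.pullFun p' δ'' δ' c' (Cyc.pullFun p δ' δ c α) := by
  have hkey : ∀ x'' : X'', (∀ y, (p' ≫ p) y = (p' ≫ p) x'' → y ⤳ x'' → y = x'') →
      δ'' x'' = δ' (p' x'') + c' ∧ δ' (p' x'') = δ (p (p' x'')) + c := by
    intro x'' hmax
    have hmax1 : ∀ y, p' y = p' x'' → y ⤳ x'' → y = x'' := by
      intro y hy hyx
      apply hmax y ?_ hyx
      rw [Scheme.Hom.comp_apply, Scheme.Hom.comp_apply, hy]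
    have hmax2 : ∀ z, p z = p (p' x'') → z ⤳ p' x'' → z = p' x'' := by
      intro z hz hzx
      obtain ⟨y, hy, hpy⟩ := AlgebraicGeometry.Flat.generalizingMap p' hzx
      have h1 : y = x'' := by
        apply hmax y ?_ hy
        rw [Scheme.Hom.comp_apply, Scheme.Hom.comp_apply, hpy, hz]
      rw [← hpy, h1]
    exact ⟨hc' x'' hmax1, hc (p' x'') hmax2⟩
  refine ⟨?_, ?_⟩
  · intro x'' hmax
    obtain ⟨h1, h2⟩ := hkey x'' hmax
    rw [Scheme.Hom.comp_apply]
    omega
  · intro α
    funext x''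
    have hfgx : (p' ≫ p) x'' = p (p' x'') := Scheme.Hom.comp_apply p' p x''
    have hδfg : δ ((p' ≫ p) x'') = δ (p (p' x'')) := by rw [hfgx]
    have hαfg : α ((p' ≫ p) x'') = α (p (p' x'')) := by rw [hfgx]
    by_cases h1 : δ'' x'' = δ' (p' x'') + c'
    · by_cases h2 : δ' (p' x'') = δ (p (p' x'')) + c
      · rw [pullFun_pos' (p' ≫ p) δ'' δ _ _ x'' (by omega), pullFun_pos' p' δ'' δ' c' _ x'' h1,
          pullFun_pos' p δ' δ c _ (p' x'') h2, length_comp p' p x'', ENat.toNat_mul, hαfg]
        push_cast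
        ring
      · rw [pullFun_pos' p' δ'' δ' c' _ x'' h1, pullFun_neg' p δ' δ c _ (p' x'') h2, zero_mul]
        by_cases h3 : δ'' x'' = δ ((p' ≫ p) x'') + (c + c')
        · have hnmax : ¬ (∀ y, (p' ≫ p) y = (p' ≫ p) x'' → y ⤳ x'' → y = x'') :=
            fun hmax => h2 (hkey x'' hmax).2
          push Not at hnmax
          obtain ⟨z, hpz, hzx, hzne⟩ := hnmax
          rw [pullFun_pos' (p' ≫ p) δ'' δ _ _ x'' h3,
            length_fibre_eq_top (p' ≫ p) x'' z hzx hzne hpz, ENat.toNat_top]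
          simp
        · exact pullFun_neg' (p' ≫ p) δ'' δ _ _ x'' h3
    · rw [pullFun_neg' p' δ'' δ' c' _ x'' h1]
      by_cases h3 : δ'' x'' = δ ((p' ≫ p) x'') + (c + c')
      · have hnmax : ¬ (∀ y, (p' ≫ p) y = (p' ≫ p) x'' → y ⤳ x'' → y = x'') :=
          fun hmax => h1 (hkey x'' hmax).1
        push Not at hnmax
        obtain ⟨z, hpz, hzx, hzne⟩ := hnmax
        rw [pullFun_pos' (p' ≫ p) δ'' δ _ _ x'' h3,
          length_fibre_eq_top (p' ≫ p) x'' z hzx hzne hpz, ENat.toNat_top]
        simp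
      · exact pullFun_neg' (p' ≫ p) δ'' δ _ _ x'' h3

/-- Flat pullback (locally of finite type, of relative dimension `r`) of the cycle of a coherent
module. -/
theorem main_pull_sheaf_lft (X Y : Scheme.{u}) (δX : X → ℤ) (δY : Y → ℤ) (hX : Cyc.IsSetup X δX)
    (hY : Cyc.IsSetup Y δY) (f : X ⟶ Y) [Flat f] [LocallyOfFiniteType f] (r : ℕ)
    (hr : Cyc.HasRelDim f r) (hδ : Cyc.DeltaCompat f δX δY) (k : ℤ) (F : Y.Modules)
    (hF : Coh.IsCoh F) (hdim : ∀ y : Y, Nontrivial (F.presheaf.stalk y) → δY y ≤ k) :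
    (∀ x : X, Nontrivial (((Scheme.Modules.pullback f).obj F).presheaf.stalk x) →
        δX x ≤ k + r) ∧
      Cyc.pullFun f δX δY r (Cyc.sheafFun δY k F) =
        Cyc.sheafFun δX (k + r) ((Scheme.Modules.pullback f).obj F) := by
  have hc : ∀ x : X, (∀ y, f y = f x → y ⤳ x → y = x) → δX x = δY (f x) + r := by
    intro x hmax
    exact (Groth.Agent.S1861.result X Y δX δY hX hY f r hr hδ (f x) x (subset_closure rfl) (by
      intro x' hcl hsp
      apply hmax x' ?_ hsp
      have h1 : f x ⤳ f x' := specializes_iff_mem_closure.mpr hcl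
      have h2 : f x' ⤳ f x := hsp.map f.continuous
      exact (h2.antisymm h1).eq)).2
  exact main_pull_sheaf Y X f δY δX hX.2.2 r hc k F hF hdim

end Groth.Agent.Lead.SecOrd
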