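import Mathlib
import Groth.Prelude.Def_IntMult
import Groth.Agent.Lib.Helper12.KoszTor2
import Groth.Agent.Lib.Helper12.KoszEuler10
import Groth.Agent.Lib.Helper12.KoszEuler12
import Groth.Agent.Lib.Helper10.TorSymm
import Groth.Agent.Lib.Helper28.IdealExt3
import Groth.Agent.Lib.Helper13.DimLemma

/-!
# Intersection multiplicity with an effective Cartier divisor

`χ(A/𝔮, A/(g)) = length A/(𝔮 + (g))` for a prime `𝔮` not containing the regular element `g`, and the
geometric input: if `V` is Cartier at `ξ` (ideal `(g)`), `W` is integral, `ξ` is a maximal point of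
`V ∩ W` and the intersection is proper, then `g ∉ I_{W,ξ}`.
-/

set_option autoImplicit false

open CategoryTheory CategoryTheory.Limits AlgebraicGeometry Opposite TopologicalSpace
open scoped Pointwise

universe u

namespace Groth.Agent.Lead.IntMultCart

open Groth.Agent.Helper28.IdealExt

/-! ### Algebra -/

theorem chi_symm (A : Type u) [CommRing A] (M N : Type u) [AddCommGroup M] [Module A M]
    [AddCommGroup N] [Module A N] : IntMult.chi A M N = IntMult.chi A N M := by
  unfold IntMult.chi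
  refine finsum_congr fun i => ?_
  obtain ⟨e⟩ := Groth.Agent.Helper10.TorSymm.nonempty_tor_symm (ModuleCat.of A M)
    (ModuleCat.of A N) i
  have h : Module.length A (DRing.Tor A i M N) = Module.length A (DRing.Tor A i N M) :=
    e.toLinearEquiv.length_eq
  rw [h]

theorem smul_top_eq_map_mkQ {A : Type u} [CommRing A] (𝔮 : Ideal A) (g : A) :
    (g • (⊤ : Submodule A (A ⧸ 𝔮))) =
      Submodule.map (Submodule.mkQ (𝔮 : Submodule A A)) (Ideal.span {g} : Submodule A A) := by
  ext y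
  rw [Submodule.mem_smul_pointwise_iff_exists, Submodule.mem_map]
  constructor
  · rintro ⟨b, -, rfl⟩
    obtain ⟨a, rfl⟩ := Submodule.mkQ_surjective (𝔮 : Submodule A A) b
    refine ⟨a * g, Ideal.mem_span_singleton'.2 ⟨a, rfl⟩, ?_⟩
    rw [mul_comm]
    rfl
  · rintro ⟨a, ha, rfl⟩
    obtain ⟨c, rfl⟩ := Ideal.mem_span_singleton'.1 ha
    refine ⟨Submodule.mkQ (𝔮 : Submodule A A) c, Submodule.mem_top, ?_⟩
    rw [mul_comm]
    rfl

theorem length_quotSMulTop_quot {A : Type u} [CommRing A] (𝔮 : Ideal A) (g : A) :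
    Module.length A (QuotSMulTop g (A ⧸ 𝔮)) = Module.length A (A ⧸ (𝔮 ⊔ Ideal.span {g})) := by
  have e1 : (QuotSMulTop g (A ⧸ 𝔮)) ≃ₗ[A]
      ((A ⧸ (𝔮 : Submodule A A)) ⧸
        Submodule.map (Submodule.mkQ (𝔮 : Submodule A A)) (Ideal.span {g} : Submodule A A)) :=
    Submodule.quotEquivOfEq _ _ (smul_top_eq_map_mkQ 𝔮 g)
  have e2 := Submodule.quotientQuotientEquivQuotientSup (𝔮 : Submodule A A)
    (Ideal.span {g} : Submodule A A)
  exact (e1.trans e2).length_eq

theorem chi_quot_span_singleton {A : Type u} [CommRing A] [IsNoetherianRing A] [IsLocalRing A]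
    (𝔮 : Ideal A) [𝔮.IsPrime] (g : A) (hg : g ∉ 𝔮) (hreg : IsSMulRegular A g) :
    IntMult.chi A (A ⧸ 𝔮) (A ⧸ Ideal.span {g}) =
      ((Module.length A (A ⧸ (𝔮 ⊔ Ideal.span {g}))).toNat : ℤ) := by
  rw [chi_symm, ← Ideal.ofList_singleton]
  have hw : RingTheory.Sequence.IsWeaklyRegular A [g] :=
    (RingTheory.Sequence.isWeaklyRegular_singleton_iff A g).2 hreg
  rw [Groth.Agent.Helper12.KoszTor.chi_eq [g] hw (A ⧸ 𝔮)]
  have hregM : IsSMulRegular (A ⧸ 𝔮) g := by
    intro a b hab
    obtain ⟨a, rfl⟩ := Ideal.Quotient.mk_surjective a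
    obtain ⟨b, rfl⟩ := Ideal.Quotient.mk_surjective b
    have h1 : Ideal.Quotient.mk 𝔮 (g * a) = Ideal.Quotient.mk 𝔮 (g * b) := hab
    rw [Ideal.Quotient.eq, ← mul_sub] at h1
    rw [Ideal.Quotient.eq]
    exact (Ideal.IsPrime.mem_or_mem ‹_› h1).resolve_left hg
  rw [Groth.Agent.Helper12.KoszEuler.chi_regular (A ⧸ 𝔮) g [] hregM,
    Groth.Agent.Helper12.KoszEuler.chi_nil, length_quotSMulTop_quot, Ideal.ofList_singleton]

/-! ### Geometry -/

variable {X : Scheme.{u}}

theorem stalkIdeal_map_spec (I : X.IdealSheafData) {z x : X} (h : z ⤳ x) :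
    (stalkIdeal I x).map (X.presheaf.stalkSpecializes h).hom = stalkIdeal I z := by
  obtain ⟨_, ⟨A, hA, rfl⟩, hxA, -⟩ :=
    X.isBasis_affineOpens.exists_subset_of_mem_open (Set.mem_univ x) isOpen_univ
  have hzA : z ∈ A := h.mem_open A.2 hxA
  rw [stalkIdeal_eq I ⟨A, hA⟩ x hxA, stalkIdeal_eq I ⟨A, hA⟩ z hzA, Ideal.map_map,
    ← CommRingCat.hom_comp, TopCat.Presheaf.germ_stalkSpecializes]

theorem stalkIdeal_bot (x : X) : stalkIdeal (⊥ : X.IdealSheafData) x = ⊥ := by
  obtain ⟨_, ⟨A, hA, rfl⟩, hxA, -⟩ :=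
    X.isBasis_affineOpens.exists_subset_of_mem_open (Set.mem_univ x) isOpen_univ
  rw [stalkIdeal_eq ⊥ ⟨A, hA⟩ x hxA]
  simp [Ideal.map_bot]

theorem isPrime_ideal (I : X.IdealSheafData) [IsIntegral I.subscheme] (V : X.affineOpens)
    (x : X) (hxV : x ∈ V.1) (hx : x ∈ I.support) : (I.ideal V).IsPrime := by
  rw [← I.ker_subschemeι_app V]
  have hne : Nonempty ↥((I.subschemeι ⁻¹ᵁ V.1 : I.subscheme.Opens) : Set I.subscheme) := by
    have hxr : x ∈ Set.range I.subschemeι := by
      rw [I.range_subschemeι]; exact hx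
    obtain ⟨z, hz⟩ := hxr
    refine ⟨⟨z, ?_⟩⟩
    show I.subschemeι z ∈ V.1
    rw [hz]; exact hxV
  haveI : IsDomain Γ(I.subscheme, I.subschemeι ⁻¹ᵁ V.1) :=
    @AlgebraicGeometry.IsIntegral.component_integral I.subscheme inferInstance
      (I.subschemeι ⁻¹ᵁ V.1) hne
  exact RingHom.ker_isPrime _

theorem isPrime_stalkIdeal (I : X.IdealSheafData) [IsIntegral I.subscheme] (x : X)
    (hx : x ∈ I.support) : (stalkIdeal I x).IsPrime := by
  obtain ⟨_, ⟨U, hU, rfl⟩, hxU, -⟩ :=
    X.isBasis_affineOpens.exists_subset_of_mem_open (Set.mem_univ x) isOpen_univ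
  have hle := (mem_support_iff_stalkIdeal_le I x).1 hx
  rw [stalkIdeal_eq I ⟨U, hU⟩ x hxU] at hle ⊢
  have hb : (I.ideal ⟨U, hU⟩).IsPrime := isPrime_ideal I ⟨U, hU⟩ x hxU hx
  letI : Algebra Γ(X, U) (X.presheaf.stalk x) := (X.presheaf.germ U x hxU).hom.toAlgebra
  haveI hloc : IsLocalization.AtPrime (X.presheaf.stalk x) (hU.primeIdealOf ⟨x, hxU⟩).asIdeal :=
    hU.isLocalization_stalk ⟨x, hxU⟩
  have hdis : Disjoint ((hU.primeIdealOf ⟨x, hxU⟩).asIdeal.primeCompl : Set Γ(X, U))
      ((I.ideal ⟨U, hU⟩ : Ideal Γ(X, U)) : Set Γ(X, U)) := by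
    rw [Set.disjoint_left]
    intro a haP hab
    apply haP
    rw [Ideal.map_le_iff_le_comap] at hle
    have h1 := hle hab
    rw [← IsLocalization.AtPrime.comap_maximalIdeal (X.presheaf.stalk x)
      (hU.primeIdealOf ⟨x, hxU⟩).asIdeal]
    exact h1
  exact IsLocalization.isPrime_of_isPrime_disjoint
    (hU.primeIdealOf ⟨x, hxU⟩).asIdeal.primeCompl (X.presheaf.stalk x) _ hb hdis

/-- The key geometric input: a generator of the ideal of `V` at a maximal point of a proper
intersection `V ∩ W` does not vanish on `W`. -/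
theorem generator_not_mem [IsIntegral X] (IV IW : X.IdealSheafData) [IsIntegral IW.subscheme]
    (n r s : ℕ) (hn : topologicalKrullDim X = n) (hr : topologicalKrullDim IV.support = r)
    (hs : topologicalKrullDim IW.support = s)
    (hprop : IntMult.ProperInt (IV.support : Set X) (IW.support : Set X) n r s) (ξ : X)
    (hξV : ξ ∈ IV.support) (hξW : ξ ∈ IW.support)
    (hmax : ∀ ξ' : X, ξ' ∈ IV.support → ξ' ∈ IW.support → ξ' ⤳ ξ → ξ' = ξ)
    (g : X.presheaf.stalk ξ) (hg : stalkIdeal IV ξ = Ideal.span {g}) (hg0 : g ≠ 0) :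
    g ∉ stalkIdeal IW ξ := by
  intro hgW
  have hle : stalkIdeal IV ξ ≤ stalkIdeal IW ξ := by
    rw [hg, Ideal.span_singleton_le_iff_mem]; exact hgW
  -- the generic point of `W`
  have hirr : IsIrreducible (IW.support : Set X) := by
    have h1 : (IW.support : Set X) = Set.range IW.subschemeι := IW.range_subschemeι.symm
    rw [h1, ← Set.image_univ]
    exact (IrreducibleSpace.isIrreducible_univ _).image _ IW.subschemeι.continuous.continuousOn
  obtain ⟨η, hη⟩ := QuasiSober.sober hirr IW.support.isClosed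
  have hηW : η ∈ IW.support := hη.mem
  have hηξ : η ⤳ ξ := hη.specializes hξW
  have hηV : η ∈ IV.support := by
    rw [mem_support_iff_stalkIdeal_le, ← stalkIdeal_map_spec IV hηξ]
    calc (stalkIdeal IV ξ).map (X.presheaf.stalkSpecializes hηξ).hom
        ≤ (stalkIdeal IW ξ).map (X.presheaf.stalkSpecializes hηξ).hom := Ideal.map_mono hle
      _ = stalkIdeal IW η := stalkIdeal_map_spec IW hηξ
      _ ≤ IsLocalRing.maximalIdeal (X.presheaf.stalk η) :=
          (mem_support_iff_stalkIdeal_le IW η).1 hηW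
  have hηeq : η = ξ := hmax η hηV hηW hηξ
  rw [hηeq] at hη
  -- `W ⊆ V`
  have hWV : (IW.support : Set X) ⊆ IV.support := by
    rw [← hη.def]
    exact closure_minimal (Set.singleton_subset_iff.2 hξV) IV.support.isClosed
  have hVW : (IV.support : Set X) ∩ IW.support = IW.support := Set.inter_eq_right.2 hWV
  obtain ⟨h1, h2⟩ := hprop ⟨ξ, hξV, hξW⟩
  rw [hVW] at h2
  have hs' : topologicalKrullDim ↥(IW.support : Set X) = s := hs
  have hr' : topologicalKrullDim ↥(IV.support : Set X) = r := hr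
  rw [hs'] at h2
  have h4 : s ≤ r + s - n := by exact_mod_cast h2
  have h5 : n ≤ r := by omega
  by_cases hVu : (IV.support : Set X) = Set.univ
  · have htop : IV.support = ⊤ := SetLike.coe_injective (hVu.trans Closeds.coe_top.symm)
    have hbot : IV = ⊥ := Scheme.IdealSheafData.support_eq_top_iff.1 htop
    have h0 : stalkIdeal IV ξ = ⊥ := by rw [hbot]; exact stalkIdeal_bot ξ
    rw [hg] at h0
    exact hg0 (Ideal.span_singleton_eq_bot.1 h0)
  · have h6 := Groth.Agent.Helper13.DimLemma.topologicalKrullDim_add_one_le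
      (A := (IV.support : Set X)) (B := Set.univ) IV.support.isClosed (Set.subset_univ _) hVu
      (IrreducibleSpace.isIrreducible_univ X)
    have h7 : topologicalKrullDim ↥(Set.univ : Set X) = topologicalKrullDim X :=
      IsHomeomorph.topologicalKrullDim_eq _ (Homeomorph.Set.univ X).isHomeomorph
    rw [h7, hn, hr'] at h6
    have h8 : r + 1 ≤ n := by exact_mod_cast h6
    omega

theorem main (K : Type u) [Field K] (X : Scheme.{u}) (f : X ⟶ Spec (CommRingCat.of K))
    [LocallyOfFiniteType f] [IsIntegral X] (IV IW : X.IdealSheafData)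
    [IsIntegral IW.subscheme] (n r s : ℕ) (hn : topologicalKrullDim X = n)
    (hr : topologicalKrullDim IV.support = r) (hs : topologicalKrullDim IW.support = s)
    (hprop : IntMult.ProperInt (IV.support : Set X) (IW.support : Set X) n r s) (ξ : X)
    (hξV : ξ ∈ IV.support) (hξW : ξ ∈ IW.support)
    (hmax : ∀ ξ' : X, ξ' ∈ IV.support → ξ' ∈ IW.support → ξ' ⤳ ξ → ξ' = ξ)
    (g : ↑(X.presheaf.stalk ξ)) (hg : IntMult.stalkIdeal IV ξ = Ideal.span {g})
    (hreg : IsSMulRegular (↑(X.presheaf.stalk ξ)) g) :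
    (IntMult.mult IV IW ξ : ℤ) = (Module.length (X.presheaf.stalk ξ) (↑(X.presheaf.stalk ξ) ⧸
      (IntMult.stalkIdeal IW ξ ⊔ Ideal.span {g}))).toNat := by
  haveI : IsLocallyNoetherian X := LocallyOfFiniteType.isLocallyNoetherian f
  have hg0 : g ≠ 0 := by
    rintro rfl
    have h01 := hreg (show (0 : X.presheaf.stalk ξ) • (1 : X.presheaf.stalk ξ) =
      (0 : X.presheaf.stalk ξ) • (0 : X.presheaf.stalk ξ) by simp)
    exact one_ne_zero h01
  have hg' : stalkIdeal IV ξ = Ideal.span {g} := hg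
  have hnot : g ∉ stalkIdeal IW ξ :=
    generator_not_mem IV IW n r s hn hr hs hprop ξ hξV hξW hmax g hg' hg0
  haveI hpr : (stalkIdeal IW ξ).IsPrime := isPrime_stalkIdeal IW ξ hξW
  have key := chi_quot_span_singleton (stalkIdeal IW ξ) g hnot hreg
  unfold IntMult.mult
  rw [hg]
  exact key

end Groth.Agent.Lead.IntMultCart
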