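import Groth.Agent.Lib.Lead.SecOrd19
import Groth.Agent.Lib.Helper26.LenG
import Groth.Agent.Lib.Helper23.RegPull2

/-!
# The zero scheme of a regular section and `c₁(L) ∩ [Y]`

`[Z(s)]_k = c₁(L) ∩ [Y]_{k+1}` coefficientwise, for a section `s` of an invertible module which is
regular at the points of δ-dimension `k` on a scheme of δ-dimension `≤ k + 1`.
-/

set_option autoImplicit false
universe u v
open CategoryTheory CategoryTheory.Limits AlgebraicGeometry Opposite TopologicalSpace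
open Groth.Agent.Helper13.Inv
open scoped Pointwise

namespace Groth.Agent.Lead.SecOrd

theorem length_self_ringEquiv {R S : Type*} [CommRing R] [CommRing S] (σ : R ≃+* S) :
    Module.length R R = Module.length S S := by
  apply WithBot.coe_injective
  rw [Module.coe_length, Module.coe_length]
  exact Order.krullDim_eq_of_orderIso σ.idealComapOrderIso.symm

theorem ell_self_eq_length {A S : Type u} [CommRing A] [CommRing S] [Algebra A S] (q : Ideal A)
    [q.IsPrime] [IsLocalization.AtPrime S q] :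
    Groth.Agent.Lib.Helper26.CycSeq1.ell q A = Module.length S S := by
  unfold Groth.Agent.Lib.Helper26.CycSeq1.ell
  have e1 : LocalizedModule q.primeCompl A ≃ₗ[A] Localization.AtPrime q :=
    IsLocalizedModule.iso q.primeCompl (Algebra.linearMap A (Localization.AtPrime q))
  have e2 : LocalizedModule q.primeCompl A ≃ₗ[Localization.AtPrime q] Localization.AtPrime q :=
    e1.extendScalarsOfIsLocalization q.primeCompl (Localization.AtPrime q)
  rw [e2.length_eq]
  exact length_self_ringEquiv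
    (IsLocalization.algEquiv q.primeCompl (Localization.AtPrime q) S).toRingEquiv

theorem ell_eq_of_eq {A S : Type u} [CommRing A] [CommRing S] [Algebra A S] (q q' : Ideal A)
    [q.IsPrime] [q'.IsPrime] (hqq : q = q') [IsLocalization.AtPrime S q'] :
    Groth.Agent.Lib.Helper26.CycSeq1.ell q A = Module.length S S := by
  subst hqq
  exact ell_self_eq_length q

variable {X : Scheme.{u}}

theorem ker_specMap {ξ x : X} (h : ξ ⤳ x) :
    RingHom.ker (Cyc.specMap x ξ h) =
      Ideal.comap (X.presheaf.stalkSpecializes h).hom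
        (IsLocalRing.maximalIdeal (X.presheaf.stalk ξ)) := by
  ext a
  rw [RingHom.mem_ker, Ideal.mem_comap]
  exact IsLocalRing.residue_eq_zero_iff _

instance ker_specMap_isPrime {ξ x : X} (h : ξ ⤳ x) :
    (RingHom.ker (Cyc.specMap x ξ h)).IsPrime := by
  rw [ker_specMap]
  exact Ideal.comap_isPrime _ _

theorem fromSpecStalk_ker {ξ x : X} (h : ξ ⤳ x) :
    (X.fromSpecStalk x).base
      (⟨RingHom.ker (Cyc.specMap x ξ h), inferInstance⟩ : PrimeSpectrum (X.presheaf.stalk x)) =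
      ξ := by
  have h1 := Scheme.SpecMap_stalkSpecializes_fromSpecStalk h
  have h5 : (Spec.map (X.presheaf.stalkSpecializes h) ≫ X.fromSpecStalk x).base
      (IsLocalRing.closedPoint (X.presheaf.stalk ξ)) = ξ := by
    rw [h1]
    exact Scheme.fromSpecStalk_closedPoint
  have h6 : (Spec.map (X.presheaf.stalkSpecializes h)).base
      (IsLocalRing.closedPoint (X.presheaf.stalk ξ)) =
      (⟨RingHom.ker (Cyc.specMap x ξ h), inferInstance⟩ :
        PrimeSpectrum (X.presheaf.stalk x)) := by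
    apply PrimeSpectrum.ext
    exact (ker_specMap h).symm
  rw [← h6]
  exact h5

theorem eq_of_ker_specMap_eq {ξ ξ' x : X} (h : ξ ⤳ x) (h' : ξ' ⤳ x)
    (hk : RingHom.ker (Cyc.specMap x ξ h) = RingHom.ker (Cyc.specMap x ξ' h')) : ξ = ξ' := by
  have e : (⟨RingHom.ker (Cyc.specMap x ξ h), inferInstance⟩ :
      PrimeSpectrum (X.presheaf.stalk x)) =
      ⟨RingHom.ker (Cyc.specMap x ξ' h'), inferInstance⟩ := PrimeSpectrum.ext hk
  exact (fromSpecStalk_ker h).symm.trans
    ((congrArg (fun p => (X.fromSpecStalk x).base p) e).trans (fromSpecStalk_ker h'))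

theorem ker_specMap_eq_maximalIdeal_iff {ξ x : X} (h : ξ ⤳ x) :
    RingHom.ker (Cyc.specMap x ξ h) = IsLocalRing.maximalIdeal (X.presheaf.stalk x) ↔ ξ = x := by
  constructor
  · intro hk
    have e : (⟨RingHom.ker (Cyc.specMap x ξ h), inferInstance⟩ :
        PrimeSpectrum (X.presheaf.stalk x)) = IsLocalRing.closedPoint _ := PrimeSpectrum.ext hk
    have h1 := fromSpecStalk_ker h
    have h2 := congrArg (fun p => (X.fromSpecStalk x).base p) e
    exact h1.symm.trans (h2.trans Scheme.fromSpecStalk_closedPoint)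
  · intro hξ
    subst hξ
    have h1 := fromSpecStalk_ker h
    have h2 : (X.fromSpecStalk ξ).base (IsLocalRing.closedPoint _) = ξ :=
      Scheme.fromSpecStalk_closedPoint
    have hinj : Function.Injective (X.fromSpecStalk ξ).base :=
      (X.fromSpecStalk ξ).isEmbedding.injective
    have h3 := hinj (h1.trans h2.symm)
    exact congrArg PrimeSpectrum.asIdeal h3

theorem algebraMap_locQuot_injective' {ξ x : X} (h : ξ ⤳ x) :
    Function.Injective (algebraMap (Cyc.LocQuot x ξ h) (X.residueField ξ)) := by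
  rw [injective_iff_map_eq_zero]
  intro a ha
  obtain ⟨r, rfl⟩ := Ideal.Quotient.mk_surjective a
  have hr : Cyc.specMap x ξ h r = 0 := ha
  exact Ideal.Quotient.eq_zero_iff_mem.mpr (RingHom.mem_ker.mpr hr)

theorem isFractionRing_locQuot {ξ x : X} (h : ξ ⤳ x) :
    IsFractionRing (Cyc.LocQuot x ξ h) (X.residueField ξ) := by
  haveI : FaithfulSMul (Cyc.LocQuot x ξ h) (X.residueField ξ) :=
    (faithfulSMul_iff_algebraMap_injective _ _).mpr (algebraMap_locQuot_injective' h)
  refine IsFractionRing.of_field (R := Cyc.LocQuot x ξ h) (K := X.residueField ξ) ?_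
  intro z
  obtain ⟨φ, hφ⟩ := X.residue_surjective ξ z
  have hφ' : (X.residue ξ).hom φ = z := hφ
  letI : Algebra (X.presheaf.stalk x) (X.presheaf.stalk ξ) :=
    (X.presheaf.stalkSpecializes h).hom.toAlgebra
  haveI : (Ideal.comap (X.presheaf.stalkSpecializes h).hom
    (IsLocalRing.maximalIdeal (X.presheaf.stalk ξ))).IsPrime := Ideal.comap_isPrime _ _
  haveI hloc := Groth.Agent.Helper23.RegPull.isLocalization_stalkSpecializes X h
  obtain ⟨⟨a, b⟩, hab⟩ := IsLocalization.surj (Ideal.comap (X.presheaf.stalkSpecializes h).hom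
    (IsLocalRing.maximalIdeal (X.presheaf.stalk ξ))).primeCompl φ
  have hab' : φ * (X.presheaf.stalkSpecializes h).hom (b : X.presheaf.stalk x) =
      (X.presheaf.stalkSpecializes h).hom a := hab
  have hbu : IsUnit ((X.presheaf.stalkSpecializes h).hom (b : X.presheaf.stalk x)) :=
    IsLocalization.map_units (X.presheaf.stalk ξ) b
  refine ⟨Ideal.Quotient.mk _ a, Ideal.Quotient.mk _ (b : X.presheaf.stalk x), ?_⟩
  have hb0 : (X.residue ξ).hom ((X.presheaf.stalkSpecializes h).hom (b : X.presheaf.stalk x)) ≠ 0 :=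
    (hbu.map (X.residue ξ).hom).ne_zero
  show z = (X.residue ξ).hom ((X.presheaf.stalkSpecializes h).hom a) /
    (X.residue ξ).hom ((X.presheaf.stalkSpecializes h).hom (b : X.presheaf.stalk x))
  rw [eq_div_iff hb0, ← hφ', ← map_mul, hab']

theorem subschemeFun_id (δ : X → ℤ) (k : ℤ) (ξ : X) :
    Cyc.subschemeFun δ k (𝟙 X) ξ =
      if δ ξ = k then
        ((Module.length (X.presheaf.stalk ξ) (X.presheaf.stalk ξ)).toNat : ℤ) else 0 := by
  unfold Cyc.subschemeFun
  have hset : {z : X | (𝟙 X : X ⟶ X) z = ξ} = {ξ} := by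
    ext z
    simp
  by_cases hk : δ ξ = k
  · rw [if_pos hk, if_pos hk, hset, finsum_mem_singleton]
  · rw [if_neg hk, if_neg hk]

theorem coheight_eq_one_of_dimFun (δ : X → ℤ) (hδ : Cyc.IsDimFun X δ) (k : ℤ)
    (hdim : ∀ y : X, δ y ≤ k + 1) (x : X) (hxk : δ x = k)
    (hgen : ∃ ξ : X, ξ ⤳ x ∧ ξ ≠ x) : Order.coheight x = 1 := by
  apply le_antisymm
  · rw [Order.coheight_le_iff']
    intro p hp
    have hlen : p.length ≤ 1 := by
      by_contra hlen
      push Not at hlen
      have h01 : p ⟨0, by omega⟩ < p ⟨1, by omega⟩ := p.strictMono (by simp [Fin.lt_def])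
      have h12 : p ⟨1, by omega⟩ < p ⟨2, by omega⟩ := p.strictMono (by simp [Fin.lt_def])
      have hx0 : p ⟨0, by omega⟩ = x := hp
      rw [hx0] at h01
      have hzx : p ⟨1, by omega⟩ ⤳ x := Scheme.le_iff_specializes.mp h01.le
      have hz2 : p ⟨2, by omega⟩ ⤳ p ⟨1, by omega⟩ := Scheme.le_iff_specializes.mp h12.le
      have hne1 : p ⟨1, by omega⟩ ≠ x := by
        intro h
        rw [h] at h01
        exact lt_irrefl _ h01
      have hne2 : p ⟨2, by omega⟩ ≠ p ⟨1, by omega⟩ := by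
        intro h
        rw [h] at h12
        exact lt_irrefl _ h12
      have d1 := (hδ _ _ hzx hne1).1
      have d2 := (hδ _ _ hz2 hne2).1
      have d3 := hdim (p ⟨2, by omega⟩)
      omega
    exact_mod_cast hlen
  · have hpos : 0 < Order.coheight x := by
      rw [Order.coheight_pos]
      intro hmax
      obtain ⟨ξ, hξx, hne⟩ := hgen
      have h1 : x ≤ ξ := Scheme.le_iff_specializes.mpr hξx
      have h2 : x ⤳ ξ := Scheme.le_iff_specializes.mp (hmax h1)
      have d1 := (hδ _ _ hξx hne).1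
      have d2 := (hδ _ _ h2 (Ne.symm hne)).1
      omega
    exact Order.one_le_iff_pos.mpr hpos

/-- `[Z(s)]_k = c₁(L) ∩ [Y]_{k+1}` computed with the rational sections induced by `s`. -/
theorem main_fundamental (Y : Scheme.{u}) (δ : Y → ℤ) (hY : Cyc.IsSetup Y δ) (L : Y.Modules)
    (hL : PicF.IsInvertible L) (k : ℤ) (hdim : ∀ y : Y, δ y ≤ k + 1)
    (s : L.presheaf.obj (Opposite.op ⊤))
    (hreg : ∀ y : Y, δ y = k → Function.Injective
      (fun a : Y.presheaf.stalk y => a • (L.presheaf.germ ⊤ y trivial) s)) :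
    Cyc.zeroSectionFun δ k L s =
      Cyc.c1CapFun δ L (Cyc.subschemeFun δ (k + 1) (𝟙 Y))
        (fun ξ => Submodule.Quotient.mk ((L.presheaf.germ ⊤ ξ trivial) s)) := by
  classical
  obtain ⟨hN, -, hδ⟩ := hY
  haveI := hN
  funext x
  show Cyc.zeroSectionFun δ k L s x = ∑ᶠ ξ : Y, Cyc.subschemeFun δ (k + 1) (𝟙 Y) ξ *
    Cyc.secDivFun δ L ξ (Submodule.Quotient.mk ((L.presheaf.germ ⊤ ξ trivial) s)) x
  have hterm0 : ∀ ξ : Y, ¬ (ξ ⤳ x ∧ δ x = k ∧ δ ξ = k + 1) →
      Cyc.subschemeFun δ (k + 1) (𝟙 Y) ξ *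
        Cyc.secDivFun δ L ξ (Submodule.Quotient.mk ((L.presheaf.germ ⊤ ξ trivial) s)) x = 0 := by
    intro ξ hnot
    rw [subschemeFun_id]
    by_cases h1 : δ ξ = k + 1
    · rw [if_pos h1]
      unfold Cyc.secDivFun
      by_cases h2 : ξ ⤳ x ∧ δ x + 1 = δ ξ
      · exfalso
        apply hnot
        exact ⟨h2.1, by omega, h1⟩
      · rw [dif_neg h2, mul_zero]
    · rw [if_neg h1, zero_mul]
  by_cases hxk : δ x = k
  swap
  · unfold Cyc.zeroSectionFun
    rw [if_neg hxk]
    symm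
    apply finsum_eq_zero_of_forall_eq_zero
    intro ξ
    exact hterm0 ξ (fun h => hxk h.2.1)
  -- local generator
  obtain ⟨W, hxW, e, he⟩ := (isInvertible_iff_exists_isGen L).1 hL x
  obtain ⟨g, hg⟩ := Groth.Agent.Helper23.RegMero.IsGenOn.exists_smul_eq (L := L) (e := e) he
    (L.presheaf.map (homOfLE (le_top : W ≤ ⊤)).op s)
  obtain ⟨f₀, hf₀⟩ : ∃ f₀ : Y.presheaf.stalk x, f₀ = Y.presheaf.germ W x hxW g := ⟨_, rfl⟩
  obtain ⟨t₀, ht₀e⟩ : ∃ t₀ : L.presheaf.stalk x, t₀ = L.presheaf.germ W x hxW e := ⟨_, rfl⟩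
  have hbij : Function.Bijective (fun r : Y.presheaf.stalk x => r • t₀) := by
    rw [ht₀e]
    exact he x hxW
  have hgermx : L.presheaf.germ ⊤ x trivial s = f₀ • t₀ := by
    rw [hf₀, ht₀e, ← Mero.germ_smul, ← hg, TopCat.Presheaf.germ_res_apply]
  have hgermξ : ∀ (ξ : Y) (h : ξ ⤳ x), L.presheaf.germ ⊤ ξ trivial s =
      (Y.presheaf.stalkSpecializes h).hom f₀ • L.presheaf.germ W ξ (spz_mem h hxW) e := by
    intro ξ h
    rw [hf₀, specO_germ' h hxW, ← Mero.germ_smul, ← hg, TopCat.Presheaf.germ_res_apply]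
  have hnzd : f₀ ∈ nonZeroDivisors (Y.presheaf.stalk x) := by
    rw [mem_nonZeroDivisors_iff_right]
    intro a ha
    apply hreg x hxk
    show a • (L.presheaf.germ ⊤ x trivial) s =
      (0 : Y.presheaf.stalk x) • (L.presheaf.germ ⊤ x trivial) s
    rw [hgermx, smul_smul, ha, zero_smul, zero_smul]
  -- the left hand side
  have ht₀ : Submodule.span (Y.presheaf.stalk x) {t₀} = ⊤ := by
    rw [eq_top_iff]
    intro m _
    obtain ⟨r, hr⟩ := hbij.2 m
    exact Submodule.mem_span_singleton.mpr ⟨r, hr⟩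
  have key : ∀ t : L.presheaf.stalk x, Submodule.span (Y.presheaf.stalk x) {t} = ⊤ →
      (∃ f : Y.presheaf.stalk x, (L.presheaf.germ ⊤ x trivial) s = f • t) ∧
      ∀ f : Y.presheaf.stalk x, (L.presheaf.germ ⊤ x trivial) s = f • t →
        ((Module.length (Y.presheaf.stalk x)
          (↥(Y.presheaf.stalk x) ⧸ Ideal.span {f})).toNat : ℤ) =
          ((Module.length (Y.presheaf.stalk x)
            (↥(Y.presheaf.stalk x) ⧸ Ideal.span {f₀})).toNat : ℤ) := by
    intro t ht
    obtain ⟨u, hu⟩ := hbij.2 t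
    have hu' : u • t₀ = t := hu
    have h0 : t₀ ∈ Submodule.span (Y.presheaf.stalk x) {t} := by rw [ht]; trivial
    obtain ⟨v, hv⟩ := Submodule.mem_span_singleton.mp h0
    have hvu : v * u = 1 := by
      apply hbij.1
      show (v * u) • t₀ = (1 : Y.presheaf.stalk x) • t₀
      rw [mul_smul, hu', hv, one_smul]
    refine ⟨⟨f₀ * v, by rw [hgermx, mul_smul, hv]⟩, ?_⟩
    intro f hf
    have hff : f₀ = f * u := by
      apply hbij.1
      show f₀ • t₀ = (f * u) • t₀
      rw [mul_smul, hu', ← hf, hgermx]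
    have huu : IsUnit u := IsUnit.of_mul_eq_one v (by rw [mul_comm]; exact hvu)
    have hspan : (Ideal.span {f} : Ideal (Y.presheaf.stalk x)) = Ideal.span {f₀} := by
      rw [hff, Ideal.span_singleton_mul_right_unit huu]
    rw [hspan]
  have hLHS : Cyc.zeroSectionFun δ k L s x =
      ((Module.length (Y.presheaf.stalk x)
        (↥(Y.presheaf.stalk x) ⧸ Ideal.span {f₀})).toNat : ℤ) := by
    unfold Cyc.zeroSectionFun
    rw [if_pos hxk]
    split_ifs with h1 h2
    · exact (key _ (Classical.choose_spec h1)).2 _ (Classical.choose_spec h2)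
    · exact absurd ((key _ (Classical.choose_spec h1)).1) h2
    · exact absurd ⟨_, ht₀⟩ h1
  rw [hLHS]
  -- orders along generizations
  have hsec : ∀ (ξ : Y) (h : ξ ⤳ x),
      Cyc.secOrdAt L ξ x h (Submodule.Quotient.mk ((L.presheaf.germ ⊤ ξ trivial) s)) =
        CycAlg.ordFrac (Cyc.LocQuot x ξ h) (Y.residueField ξ)
          (algebraMap (Cyc.LocQuot x ξ h) (Y.residueField ξ)
            (Ideal.Quotient.mk (RingHom.ker (Cyc.specMap x ξ h)) f₀)) := by
    intro ξ h
    rw [hgermξ ξ h, secOrdAt_of_isGen' L h hxW e (he x hxW) (he ξ (spz_mem h hxW))]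
    rfl
  by_cases hgen : ∃ ξ : Y, ξ ⤳ x ∧ ξ ≠ x
  swap
  · -- no proper generisation: `f₀` is a unit and both sides vanish
    have hprime : ∀ q : Ideal (Y.presheaf.stalk x), q.IsPrime →
        q = IsLocalRing.maximalIdeal (Y.presheaf.stalk x) := by
      intro q hq
      haveI := hq
      obtain ⟨ξ, h, hqξ⟩ := Groth.Agent.Helper23.RegPull.exists_generization_of_isPrime Y x q
      have hξx : ξ = x := by
        by_contra hne
        exact hgen ⟨ξ, h, hne⟩
      rw [hqξ, ← ker_specMap h]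
      exact (ker_specMap_eq_maximalIdeal_iff h).mpr hξx
    have hunit : IsUnit f₀ := by
      by_contra hnu
      have hm : f₀ ∈ IsLocalRing.maximalIdeal (Y.presheaf.stalk x) :=
        (IsLocalRing.mem_maximalIdeal f₀).mpr hnu
      have hnil : f₀ ∈ nilradical (Y.presheaf.stalk x) := by
        rw [nilradical_eq_sInf, Ideal.mem_sInf]
        intro J hJ
        rw [hprime J hJ]
        exact hm
      obtain ⟨n, hn⟩ := hnil
      have h1 := pow_mem hnzd n
      rw [hn] at h1
      exact zero_notMem_nonZeroDivisors h1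
    have hsub : Subsingleton (↥(Y.presheaf.stalk x) ⧸ Ideal.span {f₀}) :=
      Ideal.Quotient.subsingleton_iff.mpr (Ideal.span_singleton_eq_top.mpr hunit)
    rw [Module.length_eq_zero]
    symm
    show (∑ᶠ ξ : Y, _) = ((0 : ℕ∞).toNat : ℤ)
    rw [ENat.toNat_zero, Nat.cast_zero]
    apply finsum_eq_zero_of_forall_eq_zero
    intro ξ
    apply hterm0 ξ
    rintro ⟨h, -, hξk⟩
    apply hgen
    refine ⟨ξ, h, ?_⟩
    rintro rfl
    omega
  -- dimension one
  have hco := coheight_eq_one_of_dimFun δ hδ k hdim x hxk hgen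
  have hA : ringKrullDim (Y.presheaf.stalk x) = 1 := by
    rw [ringKrullDim_stalk_eq_coheight, hco]
    rfl
  have hK : Groth.Agent.Lib.Helper26.LenA.K f₀ (Y.presheaf.stalk x) = ⊥ := by
    show LinearMap.ker (LinearMap.lsmul (Y.presheaf.stalk x) (Y.presheaf.stalk x) f₀) = ⊥
    rw [LinearMap.ker_eq_bot']
    intro a ha
    have h1 : f₀ * a = 0 := ha
    exact (mul_left_mem_nonZeroDivisors_eq_zero_iff hnzd).mp h1
  have hform := Groth.Agent.Lib.Helper26.LenE.formula_regular hA hnzd (Y.presheaf.stalk x) hK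
  have hsmul : f₀ • (⊤ : Submodule (Y.presheaf.stalk x) (Y.presheaf.stalk x)) =
      Ideal.span {f₀} := by
    ext y
    rw [Submodule.mem_smul_pointwise_iff_exists, Ideal.mem_span_singleton']
    constructor
    · rintro ⟨z, -, rfl⟩
      exact ⟨z, by rw [smul_eq_mul, mul_comm]⟩
    · rintro ⟨z, rfl⟩
      exact ⟨z, trivial, by rw [smul_eq_mul, mul_comm]⟩
  have hlen : Module.length (Y.presheaf.stalk x) (↥(Y.presheaf.stalk x) ⧸ Ideal.span {f₀}) =
      Module.length (Y.presheaf.stalk x) (↥(Y.presheaf.stalk x) ⧸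
        f₀ • (⊤ : Submodule (Y.presheaf.stalk x) (Y.presheaf.stalk x))) :=
    (Submodule.quotEquivOfEq _ _ hsmul.symm).length_eq
  have hfin := Groth.Agent.Lib.Helper26.LenG.finite_minimal (A := Y.presheaf.stalk x)
  rw [Groth.Agent.Lib.Helper26.LenG.finsum_min_eq] at hform
  have hmemT : ∀ q ∈ hfin.toFinset, q.asIdeal ∈ minimalPrimes (Y.presheaf.stalk x) :=
    fun q hq => (Set.Finite.mem_toFinset hfin).mp hq
  have hcast : (∑ q ∈ hfin.toFinset,
      Ring.ord (↥(Y.presheaf.stalk x) ⧸ q.asIdeal) (Ideal.Quotient.mk q.asIdeal f₀) *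
        Groth.Agent.Lib.Helper26.CycSeq1.ell q.asIdeal (Y.presheaf.stalk x)) =
      ((∑ q ∈ hfin.toFinset,
        (Ring.ord (↥(Y.presheaf.stalk x) ⧸ q.asIdeal) (Ideal.Quotient.mk q.asIdeal f₀)).toNat *
        (Groth.Agent.Lib.Helper26.CycSeq1.ell q.asIdeal (Y.presheaf.stalk x)).toNat : ℕ) :
          ℕ∞) := by
    rw [Nat.cast_sum]
    refine Finset.sum_congr rfl (fun q hq => ?_)
    rw [Nat.cast_mul,
      ENat.natCast_toNat (Groth.Agent.Lib.Helper26.LenF.ord_ne_top hA q.asIdeal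
        (Groth.Agent.Lib.Helper26.LenE.notMem_of_mem_minimalPrimes hnzd (hmemT q hq))),
      ENat.natCast_toNat (Groth.Agent.Lib.Helper26.LenF.ell_ne_top q.asIdeal (hmemT q hq)
        (Y.presheaf.stalk x))]
  have hLHS2 : ((Module.length (Y.presheaf.stalk x)
      (↥(Y.presheaf.stalk x) ⧸ Ideal.span {f₀})).toNat : ℤ) =
      ∑ q ∈ hfin.toFinset,
        ((Groth.Agent.Lib.Helper26.CycSeq1.ell q.asIdeal (Y.presheaf.stalk x)).toNat : ℤ) *
        ((Ring.ord (↥(Y.presheaf.stalk x) ⧸ q.asIdeal)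
          (Ideal.Quotient.mk q.asIdeal f₀)).toNat : ℤ) := by
    rw [hlen, hform, hcast, ENat.toNat_coe]
    push_cast
    exact Finset.sum_congr rfl (fun q _ => mul_comm _ _)
  rw [hLHS2]
  -- the right hand side
  obtain ⟨T, hT⟩ : ∃ T : Y → ℤ, T = fun ξ => Cyc.subschemeFun δ (k + 1) (𝟙 Y) ξ *
      Cyc.secDivFun δ L ξ (Submodule.Quotient.mk ((L.presheaf.germ ⊤ ξ trivial) s)) x :=
    ⟨_, rfl⟩
  have hTdef : ∀ ξ, T ξ = Cyc.subschemeFun δ (k + 1) (𝟙 Y) ξ *
      Cyc.secDivFun δ L ξ (Submodule.Quotient.mk ((L.presheaf.germ ⊤ ξ trivial) s)) x := by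
    intro ξ
    rw [hT]
  obtain ⟨G, hG⟩ : ∃ G : Set Y, G = {ξ : Y | ξ ⤳ x ∧ ξ ≠ x} := ⟨_, rfl⟩
  obtain ⟨Gq, hGq⟩ : ∃ Gq : PrimeSpectrum (Y.presheaf.stalk x) → ℤ, Gq = fun q =>
      ((Groth.Agent.Lib.Helper26.CycSeq1.ell q.asIdeal (Y.presheaf.stalk x)).toNat : ℤ) *
        ((Ring.ord (↥(Y.presheaf.stalk x) ⧸ q.asIdeal)
          (Ideal.Quotient.mk q.asIdeal f₀)).toNat : ℤ) := ⟨_, rfl⟩
  have hsupp : Function.support T ⊆ G := by
    intro ξ hξ
    rw [hG]
    by_contra hnot
    apply hξ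
    rw [hTdef]
    apply hterm0 ξ
    rintro ⟨h, -, hξk⟩
    apply hnot
    refine ⟨h, ?_⟩
    rintro rfl
    omega
  have hsum1 : (∑ᶠ ξ : Y, Cyc.subschemeFun δ (k + 1) (𝟙 Y) ξ *
      Cyc.secDivFun δ L ξ (Submodule.Quotient.mk ((L.presheaf.germ ⊤ ξ trivial) s)) x) =
      ∑ᶠ ξ ∈ G, T ξ := by
    rw [finsum_mem_def, Set.indicator_eq_self.mpr hsupp, hT]
  rw [hsum1]
  let ef : Y → PrimeSpectrum (Y.presheaf.stalk x) := fun ξ =>
    if h : ξ ⤳ x then ⟨RingHom.ker (Cyc.specMap x ξ h), inferInstance⟩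
    else IsLocalRing.closedPoint (Y.presheaf.stalk x)
  have hef : ∀ (ξ : Y) (h : ξ ⤳ x), ef ξ = ⟨RingHom.ker (Cyc.specMap x ξ h), inferInstance⟩ :=
    fun ξ h => dif_pos h
  have hmin : ∀ (ξ : Y) (h : ξ ⤳ x), ξ ≠ x →
      RingHom.ker (Cyc.specMap x ξ h) ∈ minimalPrimes (Y.presheaf.stalk x) := by
    intro ξ h hne
    by_contra hnm
    have h1 := Groth.Agent.Lib.Helper26.LenE.eq_maximal_of_not_minimal hA
      (⟨RingHom.ker (Cyc.specMap x ξ h), inferInstance⟩ :
        PrimeSpectrum (Y.presheaf.stalk x)) hnm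
    exact hne ((ker_specMap_eq_maximalIdeal_iff h).mp h1)
  have hbijOn : Set.BijOn ef G
      {q : PrimeSpectrum (Y.presheaf.stalk x) | q.asIdeal ∈ minimalPrimes (Y.presheaf.stalk x)} := by
    rw [hG]
    refine ⟨?_, ?_, ?_⟩
    · rintro ξ ⟨h, hne⟩
      show (ef ξ).asIdeal ∈ minimalPrimes (Y.presheaf.stalk x)
      rw [hef ξ h]
      exact hmin ξ h hne
    · rintro ξ ⟨h, -⟩ ξ' ⟨h', -⟩ hee
      rw [hef ξ h, hef ξ' h'] at hee
      exact eq_of_ker_specMap_eq h h' (congrArg PrimeSpectrum.asIdeal hee)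
    · intro q hq
      haveI := q.isPrime
      obtain ⟨ξ, h, hqξ⟩ :=
        Groth.Agent.Helper23.RegPull.exists_generization_of_isPrime Y x q.asIdeal
      have hker : RingHom.ker (Cyc.specMap x ξ h) = q.asIdeal := by
        rw [ker_specMap h, ← hqξ]
      refine ⟨ξ, ⟨h, ?_⟩, ?_⟩
      · intro hξx
        have h1 := (ker_specMap_eq_maximalIdeal_iff h).mpr hξx
        rw [hker] at h1
        exact Groth.Agent.Lib.Helper26.LenE.ne_maximal_of_minimal hA q hq h1
      · rw [hef ξ h]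
        exact PrimeSpectrum.ext hker
  have hval : ∀ ξ ∈ G, T ξ = Gq (ef ξ) := by
    intro ξ hξ
    rw [hG] at hξ
    obtain ⟨h, hne⟩ := hξ
    have hξk : δ ξ = k + 1 := by
      have d1 := (hδ ξ x h hne).1
      have d2 := hdim ξ
      omega
    have hminξ := hmin ξ h hne
    rw [hTdef, hef ξ h, hGq, subschemeFun_id, if_pos hξk]
    unfold Cyc.secDivFun
    rw [dif_pos ⟨h, by omega⟩, hsec ξ h]
    -- the length factor
    have hell : Groth.Agent.Lib.Helper26.CycSeq1.ell (RingHom.ker (Cyc.specMap x ξ h))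
        (Y.presheaf.stalk x) = Module.length (Y.presheaf.stalk ξ) (Y.presheaf.stalk ξ) := by
      letI : Algebra (Y.presheaf.stalk x) (Y.presheaf.stalk ξ) :=
        (Y.presheaf.stalkSpecializes h).hom.toAlgebra
      haveI : (Ideal.comap (Y.presheaf.stalkSpecializes h).hom
        (IsLocalRing.maximalIdeal (Y.presheaf.stalk ξ))).IsPrime := Ideal.comap_isPrime _ _
      haveI hloc := Groth.Agent.Helper23.RegPull.isLocalization_stalkSpecializes Y h
      exact ell_eq_of_eq (RingHom.ker (Cyc.specMap x ξ h)) _ (ker_specMap h)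
    -- the order factor
    have hf₀q : f₀ ∉ RingHom.ker (Cyc.specMap x ξ h) :=
      Groth.Agent.Lib.Helper26.LenE.notMem_of_mem_minimalPrimes hnzd hminξ
    have hne0 : Ideal.Quotient.mk (RingHom.ker (Cyc.specMap x ξ h)) f₀ ≠ 0 := by
      intro h0
      exact hf₀q (Ideal.Quotient.eq_zero_iff_mem.mp h0)
    haveI : Ring.KrullDimLE 1 (Cyc.LocQuot x ξ h) :=
      Groth.Agent.Lib.Helper26.LenF.krullDimLE_quot hA _
    haveI : IsFractionRing (Cyc.LocQuot x ξ h) (Y.residueField ξ) := isFractionRing_locQuot h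
    have hord := Groth.Agent.Helper25.LatDet.ordFrac_algebraMap (A := Cyc.LocQuot x ξ h)
      (K := Y.residueField ξ) hne0
    show (_ : ℤ) * _ = ((Groth.Agent.Lib.Helper26.CycSeq1.ell (RingHom.ker (Cyc.specMap x ξ h))
      (Y.presheaf.stalk x)).toNat : ℤ) * ((Ring.ord (Cyc.LocQuot x ξ h)
        (Ideal.Quotient.mk (RingHom.ker (Cyc.specMap x ξ h)) f₀)).toNat : ℤ)
    rw [hord, hell]
  rw [finsum_mem_eq_of_bijOn ef hbijOn hval, finsum_mem_eq_finite_toFinset_sum Gq hfin, hGq]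

end Groth.Agent.Lead.SecOrd
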