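import Mathlib
import Groth.Prelude.Def_IntMult
import Groth.Agent.Lib.Lead.IntMultCart
import Groth.Agent.Lib.Helper9.Depth3
import Groth.Agent.Lib.Helper8.JD3
import Groth.Agent.Lib.Helper14.DimClosure
import Groth.Agent.Lib.Lead.SecOrd20

/-!
# Intersection multiplicity: complete intersection against a Cohen–Macaulay subvariety

`χ(A/I_W, A/(g₁,…,g_c)) = length A/(I_W + (g))` when `g` is an `A`-regular sequence, `A/I_W` is a
Cohen–Macaulay local ring of dimension `≥ c` and `A/(I_W + (g))` has dimension `0`; and the geometric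
input (dimension theory of varieties over a field through the transcendence-degree dimension
function).
-/

set_option autoImplicit false

open CategoryTheory CategoryTheory.Limits AlgebraicGeometry Opposite TopologicalSpace
open scoped Pointwise

universe u

namespace Groth.Agent.Lead.IntMultCM

open RingTheory.Sequence IsLocalRing

/-! ### Algebra -/

section Algebra

theorem withBot_le_of_succ_le_succ {a : WithBot ℕ∞} {k : ℕ}
    (h : ((k + 1 : ℕ) : WithBot ℕ∞) ≤ a + 1) : (k : WithBot ℕ∞) ≤ a := by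
  induction a with
  | bot =>
    exfalso
    have h1 : (⊥ : WithBot ℕ∞) + 1 = ⊥ := rfl
    rw [h1] at h
    exact absurd (le_bot_iff.mp h) (by exact_mod_cast WithBot.coe_ne_bot)
  | coe a =>
    induction a with
    | top => exact le_top
    | coe a =>
      have h4 : ((k + 1 : ℕ) : WithBot ℕ∞) ≤ ((a + 1 : ℕ) : WithBot ℕ∞) := by
        simpa using h
      have h5 : k + 1 ≤ a + 1 := by exact_mod_cast h4
      have h6 : k ≤ a := by omega
      exact_mod_cast h6

variable {A : Type u} [CommRing A]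

theorem smul_top_eq_map_mkQ (I J : Ideal A) :
    (J • (⊤ : Submodule A (A ⧸ I))) =
      Submodule.map (Submodule.mkQ (I : Submodule A A)) (J : Submodule A A) := by
  have h1 : (⊤ : Submodule A (A ⧸ I)) =
      Submodule.map (Submodule.mkQ (I : Submodule A A)) ⊤ := by
    rw [Submodule.map_top, Submodule.range_mkQ]
  rw [h1, ← Submodule.map_smul'']
  congr 1
  simp

theorem length_quot_smul_top (I J : Ideal A) :
    Module.length A ((A ⧸ I) ⧸ (J • (⊤ : Submodule A (A ⧸ I)))) =
      Module.length A (A ⧸ (I ⊔ J)) := by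
  have e1 : ((A ⧸ I) ⧸ (J • (⊤ : Submodule A (A ⧸ I)))) ≃ₗ[A]
      ((A ⧸ (I : Submodule A A)) ⧸
        Submodule.map (Submodule.mkQ (I : Submodule A A)) (J : Submodule A A)) :=
    Submodule.quotEquivOfEq _ _ (smul_top_eq_map_mkQ I J)
  have e2 := Submodule.quotientQuotientEquivQuotientSup (I : Submodule A A) (J : Submodule A A)
  exact (e1.trans e2).length_eq

variable [IsNoetherianRing A] [IsLocalRing A]

theorem chi_eq_length_of_isWeaklyRegular (l : List A) :
    ∀ (M : Type u) [AddCommGroup M] [Module A M] [Module.Finite A M], IsWeaklyRegular M l →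
      Groth.Agent.Helper12.KoszEuler.chi M l =
        ((Module.length A (M ⧸ (Ideal.ofList l • ⊤ : Submodule A M))).toNat : ℤ) := by
  induction l with
  | nil =>
    intro M _ _ _ _
    rw [Groth.Agent.Helper12.KoszEuler.chi_nil]
    have e : (M ⧸ (Ideal.ofList ([] : List A) • ⊤ : Submodule A M)) ≃ₗ[A] M :=
      Submodule.quotEquivOfEqBot _ (by rw [Ideal.ofList_nil, Submodule.bot_smul])
    rw [e.length_eq]
  | cons x l ih =>
    intro M _ _ _ h
    rw [isWeaklyRegular_cons_iff] at h
    rw [Groth.Agent.Helper12.KoszEuler.chi_regular M x l h.1, ih (QuotSMulTop x M) h.2,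
      (Submodule.quotOfListConsSMulTopEquivQuotSMulTopInner M x l).length_eq]

theorem supportDim_le_quot_add_length (l : List A) :
    ∀ (N : Type u) [AddCommGroup N] [Module A N] [Module.Finite A N],
      (∀ x ∈ l, x ∈ maximalIdeal A) →
      Module.supportDim A N ≤
        Module.supportDim A (N ⧸ (Ideal.ofList l • ⊤ : Submodule A N)) +
          (l.length : WithBot ℕ∞) := by
  induction l with
  | nil =>
    intro N _ _ _ _
    have e : (N ⧸ (Ideal.ofList ([] : List A) • ⊤ : Submodule A N)) ≃ₗ[A] N :=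
      Submodule.quotEquivOfEqBot _ (by rw [Ideal.ofList_nil, Submodule.bot_smul])
    rw [Module.supportDim_eq_of_equiv e]
    simp
  | cons x l ih =>
    intro N _ _ _ hl
    have h1 := Module.supportDim_le_supportDim_quotSMulTop_succ (M := N)
      (hl x List.mem_cons_self)
    have h2 := ih (QuotSMulTop x N) (fun y hy => hl y (List.mem_cons_of_mem _ hy))
    rw [Module.supportDim_eq_of_equiv
      (Submodule.quotOfListConsSMulTopEquivQuotSMulTopInner N x l)]
    calc Module.supportDim A N ≤ Module.supportDim A (QuotSMulTop x N) + 1 := h1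
      _ ≤ (Module.supportDim A (QuotSMulTop x N ⧸
            (Ideal.ofList l • ⊤ : Submodule A (QuotSMulTop x N))) +
            (l.length : WithBot ℕ∞)) + 1 := add_le_add_left h2 1
      _ = _ := by
        rw [List.length_cons, add_assoc]
        push_cast
        rfl

theorem isWeaklyRegular_of_isCM (l : List A) :
    ∀ (M : Type u) [AddCommGroup M] [Module A M] [Module.Finite A M],
      LocCoh.IsCohenMacaulayModule A M → (∀ x ∈ l, x ∈ maximalIdeal A) →
      Module.supportDim A M = (l.length : WithBot ℕ∞) →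
      Module.supportDim A (M ⧸ (Ideal.ofList l • ⊤ : Submodule A M)) ≤ 0 →
      IsWeaklyRegular M l := by
  induction l with
  | nil =>
    intro M _ _ _ _ _ _ _
    exact IsWeaklyRegular.nil A M
  | cons x l ih =>
    intro M _ _ _ hCM hl hdim h0
    have hx : x ∈ maximalIdeal A := hl x List.mem_cons_self
    have hl' : ∀ y ∈ l, y ∈ maximalIdeal A := fun y hy => hl y (List.mem_cons_of_mem _ hy)
    have h0' : Module.supportDim A (QuotSMulTop x M ⧸
        (Ideal.ofList l • ⊤ : Submodule A (QuotSMulTop x M))) ≤ 0 := by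
      rw [← Module.supportDim_eq_of_equiv
        (Submodule.quotOfListConsSMulTopEquivQuotSMulTopInner M x l)]
      exact h0
    have h1 := Module.supportDim_le_supportDim_quotSMulTop_succ (M := M) hx
    have h2 := supportDim_le_quot_add_length l (QuotSMulTop x M) hl'
    have h3 : Module.supportDim A (QuotSMulTop x M) ≤ (l.length : WithBot ℕ∞) := by
      calc Module.supportDim A (QuotSMulTop x M)
          ≤ Module.supportDim A (QuotSMulTop x M ⧸
            (Ideal.ofList l • ⊤ : Submodule A (QuotSMulTop x M))) +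
            (l.length : WithBot ℕ∞) := h2
        _ ≤ 0 + (l.length : WithBot ℕ∞) := add_le_add_left h0' _
        _ = _ := zero_add _
    have h4 : (l.length : WithBot ℕ∞) ≤ Module.supportDim A (QuotSMulTop x M) := by
      rw [hdim, List.length_cons] at h1
      exact withBot_le_of_succ_le_succ h1
    have h5 : Module.supportDim A (QuotSMulTop x M) = (l.length : WithBot ℕ∞) :=
      le_antisymm h3 h4
    have hdrop : Module.supportDim A (QuotSMulTop x M) + 1 = Module.supportDim A M := by
      rw [h5, hdim, List.length_cons]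
      push_cast
      rfl
    have hreg := Groth.Agent.Helper9.Depth.isSMulRegular_of_supportDim_drop hCM hx hdrop
    have hCM' := Groth.Agent.Helper9.Depth.isCM_quotSMulTop hCM hx hreg
    rw [isWeaklyRegular_cons_iff]
    exact ⟨hreg, ih (QuotSMulTop x M) hCM' hl' h5 h0'⟩

theorem mem_maximalIdeal_of_isRegular (l : List A) (hreg : IsRegular A l) :
    ∀ x ∈ l, x ∈ maximalIdeal A := by
  intro x hx
  rw [mem_maximalIdeal, mem_nonunits_iff]
  intro hu
  apply hreg.2
  have h1 : Ideal.ofList l = ⊤ :=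
    Ideal.eq_top_of_isUnit_mem _ (Ideal.subset_span hx) hu
  rw [h1]
  simp

theorem main_alg (IW : Ideal A) (l : List A) (hreg : IsRegular A l)
    [hW : LocCoh.IsCohenMacaulayLocalRing (A ⧸ IW)]
    (hdim : (l.length : WithBot ℕ∞) ≤ ringKrullDim (A ⧸ IW))
    (h0 : ringKrullDim (A ⧸ (IW ⊔ Ideal.ofList l)) ≤ 0) :
    IntMult.chi A (A ⧸ IW) (A ⧸ Ideal.ofList l) =
      ((Module.length A (A ⧸ (IW ⊔ Ideal.ofList l))).toNat : ℤ) := by
  rw [Groth.Agent.Lead.IntMultCart.chi_symm,
    Groth.Agent.Helper12.KoszTor.chi_eq l hreg.toIsWeaklyRegular (A ⧸ IW)]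
  have hlm := mem_maximalIdeal_of_isRegular l hreg
  -- regularity on `B = A/I_W`
  have hwr : IsWeaklyRegular (A ⧸ IW) l := by
    rw [← isWeaklyRegular_map_algebraMap_iff (A ⧸ IW) (A ⧸ IW) l]
    haveI : IsLocalHom (Ideal.Quotient.mk IW) :=
      IsLocalHom.of_surjective _ Ideal.Quotient.mk_surjective
    have hl' : ∀ y ∈ l.map (algebraMap A (A ⧸ IW)), y ∈ maximalIdeal (A ⧸ IW) := by
      intro y hy
      obtain ⟨x, hx, rfl⟩ := List.mem_map.1 hy
      exact map_nonunit (Ideal.Quotient.mk IW) x (hlm x hx)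
    have hq0 : Module.supportDim (A ⧸ IW) ((A ⧸ IW) ⧸
        (Ideal.ofList (l.map (algebraMap A (A ⧸ IW))) • ⊤ : Submodule (A ⧸ IW) (A ⧸ IW))) ≤ 0 := by
      have eq : Ideal.ofList (l.map (algebraMap A (A ⧸ IW))) =
          Ideal.ofList (l.map (algebraMap A (A ⧸ IW))) • (⊤ : Ideal (A ⧸ IW)) := by simp
      rw [← Module.supportDim_eq_of_equiv (Submodule.quotEquivOfEq _ _ eq),
        Module.supportDim_quotient_eq_ringKrullDim]
      have e := DoubleQuot.quotQuotEquivQuotSup IW (Ideal.ofList l)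
      rw [Ideal.map_ofList] at e
      exact (ringKrullDim_eq_of_ringEquiv e).trans_le h0
    have hle := supportDim_le_quot_add_length (l.map (algebraMap A (A ⧸ IW))) (A ⧸ IW) hl'
    have hd : Module.supportDim (A ⧸ IW) (A ⧸ IW) =
        ((l.map (algebraMap A (A ⧸ IW))).length : WithBot ℕ∞) := by
      apply le_antisymm
      · calc Module.supportDim (A ⧸ IW) (A ⧸ IW) ≤ _ := hle
          _ ≤ 0 + ((l.map (algebraMap A (A ⧸ IW))).length : WithBot ℕ∞) :=
            add_le_add_left hq0 _
          _ = _ := zero_add _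
      · rw [List.length_map, Module.supportDim_self_eq_ringKrullDim]
        exact hdim
    exact isWeaklyRegular_of_isCM (l.map (algebraMap A (A ⧸ IW))) (A ⧸ IW)
      hW.supportDim_eq_depth hl' hd hq0
  rw [chi_eq_length_of_isWeaklyRegular l (A ⧸ IW) hwr, length_quot_smul_top]

end Algebra

/-! ### Geometry -/

section Geometry

variable {X : Scheme.{u}}

open Groth.Agent.Helper28.IdealExt Groth.Agent.Lead.IntMultCart Groth.Agent.Lead.SecOrd

/-- every prime of the local ring at `ξ` is the prime of a generization of `ξ` -/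
theorem exists_eq_ker (ξ : X) (q : PrimeSpectrum (X.presheaf.stalk ξ)) :
    ∃ (z : X) (h : z ⤳ ξ), q.asIdeal = RingHom.ker (Cyc.specMap ξ z h) ∧
      (X.fromSpecStalk ξ).base q = z := by
  have hz : (X.fromSpecStalk ξ).base q ∈ Set.range (X.fromSpecStalk ξ) := ⟨q, rfl⟩
  rw [Scheme.range_fromSpecStalk] at hz
  refine ⟨_, hz, ?_, rfl⟩
  have h1 := fromSpecStalk_ker hz
  have hinj : Function.Injective (X.fromSpecStalk ξ).base :=
    (X.fromSpecStalk ξ).isEmbedding.injective
  have h2 := hinj h1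
  exact (congrArg PrimeSpectrum.asIdeal h2).symm

theorem stalkIdeal_le_ker_iff (I : X.IdealSheafData) {z ξ : X} (h : z ⤳ ξ) :
    stalkIdeal I ξ ≤ RingHom.ker (Cyc.specMap ξ z h) ↔ z ∈ I.support := by
  rw [ker_specMap h, ← Ideal.map_le_iff_le_comap, stalkIdeal_map_spec I h,
    mem_support_iff_stalkIdeal_le]

/-- at a maximal point of `V ∩ W` the local ring of the scheme-theoretic intersection has
dimension `≤ 0` -/
theorem ringKrullDim_quot_le_zero (IV IW : X.IdealSheafData) (ξ : X)
    (hmax : ∀ ξ' : X, ξ' ∈ IV.support → ξ' ∈ IW.support → ξ' ⤳ ξ → ξ' = ξ) :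
    ringKrullDim (X.presheaf.stalk ξ ⧸ (stalkIdeal IW ξ ⊔ stalkIdeal IV ξ)) ≤ 0 := by
  have hK : Ring.KrullDimLE 0 (X.presheaf.stalk ξ ⧸ (stalkIdeal IW ξ ⊔ stalkIdeal IV ξ)) := by
    rw [Ring.krullDimLE_zero_iff]
    intro P hP
    have hq : (P.comap (Ideal.Quotient.mk (stalkIdeal IW ξ ⊔ stalkIdeal IV ξ))).IsPrime :=
      Ideal.comap_isPrime _ _
    obtain ⟨z, h, hqz, -⟩ := exists_eq_ker ξ
      ⟨P.comap (Ideal.Quotient.mk (stalkIdeal IW ξ ⊔ stalkIdeal IV ξ)), hq⟩
    have hqz' : P.comap (Ideal.Quotient.mk (stalkIdeal IW ξ ⊔ stalkIdeal IV ξ)) =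
        RingHom.ker (Cyc.specMap ξ z h) := hqz
    have hJle : stalkIdeal IW ξ ⊔ stalkIdeal IV ξ ≤
        P.comap (Ideal.Quotient.mk (stalkIdeal IW ξ ⊔ stalkIdeal IV ξ)) := by
      intro a ha
      rw [Ideal.mem_comap, Ideal.Quotient.eq_zero_iff_mem.2 ha]
      exact P.zero_mem
    rw [hqz'] at hJle
    have hzW : z ∈ IW.support := (stalkIdeal_le_ker_iff IW h).1 (le_trans le_sup_left hJle)
    have hzV : z ∈ IV.support := (stalkIdeal_le_ker_iff IV h).1 (le_trans le_sup_right hJle)
    have hzξ : z = ξ := hmax z hzV hzW h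
    have hqm : P.comap (Ideal.Quotient.mk (stalkIdeal IW ξ ⊔ stalkIdeal IV ξ)) =
        IsLocalRing.maximalIdeal (X.presheaf.stalk ξ) := by
      rw [hqz']
      exact (ker_specMap_eq_maximalIdeal_iff h).2 hzξ
    have hPmap : P = (IsLocalRing.maximalIdeal (X.presheaf.stalk ξ)).map
        (Ideal.Quotient.mk (stalkIdeal IW ξ ⊔ stalkIdeal IV ξ)) := by
      rw [← hqm, Ideal.map_comap_of_surjective _ Ideal.Quotient.mk_surjective]
    rcases Ideal.map_eq_top_or_isMaximal_of_surjective
      (Ideal.Quotient.mk (stalkIdeal IW ξ ⊔ stalkIdeal IV ξ)) Ideal.Quotient.mk_surjective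
      (IsLocalRing.maximalIdeal.isMaximal (X.presheaf.stalk ξ)) with h1 | h1
    · exact absurd (hPmap.trans h1) hP.ne_top
    · rw [hPmap]; exact h1
  have := (Ring.krullDimLE_iff (n := 0)
    (R := X.presheaf.stalk ξ ⧸ (stalkIdeal IW ξ ⊔ stalkIdeal IV ξ))).1 hK
  simpa using this

/-- the Krull dimension of `O_{X,ξ}/I_ξ` is the dimension of the space of generizations of `ξ`
in the support of `I` -/
theorem ringKrullDim_quot_stalkIdeal (I : X.IdealSheafData) (ξ : X) :
    ringKrullDim (X.presheaf.stalk ξ ⧸ stalkIdeal I ξ) =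
      topologicalKrullDim ↥{t : X | t ∈ (I.support : Set X) ∧ t ⤳ ξ} := by
  rw [← PrimeSpectrum.topologicalKrullDim_eq_ringKrullDim]
  let φ : PrimeSpectrum (X.presheaf.stalk ξ ⧸ stalkIdeal I ξ) → X := fun P =>
    (X.fromSpecStalk ξ).base (PrimeSpectrum.comap (Ideal.Quotient.mk (stalkIdeal I ξ)) P)
  have hemb : Topology.IsEmbedding φ :=
    (X.fromSpecStalk ξ).isEmbedding.comp
      (PrimeSpectrum.isClosedEmbedding_comap_of_surjective _ _
        Ideal.Quotient.mk_surjective).isEmbedding
  have hrange : Set.range φ = {t : X | t ∈ (I.support : Set X) ∧ t ⤳ ξ} := by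
    ext t
    constructor
    · rintro ⟨P, rfl⟩
      obtain ⟨z, h, hq, hz⟩ := exists_eq_ker ξ
        (PrimeSpectrum.comap (Ideal.Quotient.mk (stalkIdeal I ξ)) P)
      have hφ : φ P = z := hz
      rw [hφ]
      refine ⟨(stalkIdeal_le_ker_iff I h).1 ?_, h⟩
      rw [← hq]
      intro a ha
      show Ideal.Quotient.mk (stalkIdeal I ξ) a ∈ P.asIdeal
      rw [Ideal.Quotient.eq_zero_iff_mem.2 ha]
      exact P.asIdeal.zero_mem
    · rintro ⟨htI, htξ⟩
      have hle := (stalkIdeal_le_ker_iff I htξ).2 htI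
      have hmem : (⟨RingHom.ker (Cyc.specMap ξ t htξ), inferInstance⟩ :
          PrimeSpectrum (X.presheaf.stalk ξ)) ∈
          Set.range (PrimeSpectrum.comap (Ideal.Quotient.mk (stalkIdeal I ξ))) := by
        rw [_root_.range_comap_of_surjective _ _ Ideal.Quotient.mk_surjective,
          PrimeSpectrum.mem_zeroLocus, Ideal.mk_ker]
        exact hle
      obtain ⟨P, hP⟩ := hmem
      refine ⟨P, ?_⟩
      show (X.fromSpecStalk ξ).base
        (PrimeSpectrum.comap (Ideal.Quotient.mk (stalkIdeal I ξ)) P) = t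
      rw [hP]
      exact fromSpecStalk_ker htξ
  rw [IsHomeomorph.topologicalKrullDim_eq _ hemb.toHomeomorph.isHomeomorph, hrange]

theorem exists_isGenericPoint_support (I : X.IdealSheafData) [IsIntegral I.subscheme] :
    ∃ η : X, IsGenericPoint η (I.support : Set X) := by
  have hirr : IsIrreducible (I.support : Set X) := by
    have h1 : (I.support : Set X) = Set.range I.subschemeι := I.range_subschemeι.symm
    rw [h1, ← Set.image_univ]
    exact (IrreducibleSpace.isIrreducible_univ _).image _ I.subschemeι.continuous.continuousOn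
  exact QuasiSober.sober hirr I.support.isClosed

theorem le_ringKrullDim (K : Type u) [Field K] (f : X ⟶ Spec (CommRingCat.of K))
    [LocallyOfFiniteType f] [IsIntegral X] (IV IW : X.IdealSheafData)
    [IsIntegral IV.subscheme] [IsIntegral IW.subscheme] (n r s : ℕ)
    (hn : topologicalKrullDim X = n) (hr : topologicalKrullDim IV.support = r)
    (hs : topologicalKrullDim IW.support = s)
    (hprop : IntMult.ProperInt (IV.support : Set X) (IW.support : Set X) n r s) (ξ : X)
    (hξV : ξ ∈ IV.support) (hξW : ξ ∈ IW.support) (c : ℕ)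
    (hc : ringKrullDim (X.presheaf.stalk ξ ⧸ stalkIdeal IV ξ) + (c : WithBot ℕ∞) =
      ringKrullDim (X.presheaf.stalk ξ)) :
    (c : WithBot ℕ∞) ≤ ringKrullDim (X.presheaf.stalk ξ ⧸ stalkIdeal IW ξ) := by
  haveI : IsLocallyNoetherian X := LocallyOfFiniteType.isLocallyNoetherian f
  obtain ⟨δ, hδdef⟩ : ∃ δ : X → ℤ, δ = Groth.Agent.Helper14.DimClosure.trdegFun f := ⟨_, rfl⟩
  have hδ : Cyc.IsDimFun X δ := by
    rw [hδdef]; exact Groth.Agent.Helper14.DimClosure.isDimFun_trdegFun K f
  have hnn : ∀ t, 0 ≤ δ t := by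
    intro t; rw [hδdef]; exact Groth.Agent.Helper14.DimClosure.trdegFun_nonneg f t
  have hcl : ∀ η : X, topologicalKrullDim ↥(closure ({η} : Set X)) =
      (((δ η).toNat : ℕ) : WithBot ℕ∞) := by
    intro η; rw [hδdef]; exact Groth.Agent.Helper14.DimClosure.dim_closure_eq K f η
  have hmono : ∀ {a b : X}, a ⤳ b → δ b ≤ δ a := fun h =>
    Groth.Agent.Helper8.JD.delta_le_of_specializes δ hδ h
  obtain ⟨ηV, hηV⟩ := exists_isGenericPoint_support IV
  obtain ⟨ηW, hηW⟩ := exists_isGenericPoint_support IW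
  have hr' : (((δ ηV).toNat : ℕ) : WithBot ℕ∞) = r := by
    rw [← hcl ηV, hηV.def]; exact hr
  have hs' : (((δ ηW).toNat : ℕ) : WithBot ℕ∞) = s := by
    rw [← hcl ηW, hηW.def]; exact hs
  have hn' : (((δ (genericPoint X)).toNat : ℕ) : WithBot ℕ∞) = n := by
    rw [← hcl (genericPoint X), (genericPoint_spec X).def, ← hn]
    exact IsHomeomorph.topologicalKrullDim_eq _ (Homeomorph.Set.univ X).isHomeomorph
  obtain ⟨hle, h2⟩ := hprop ⟨ξ, hξV, hξW⟩
  have ht : (((δ ξ).toNat : ℕ) : WithBot ℕ∞) ≤ ((r + s - n : ℕ) : WithBot ℕ∞) := by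
    rw [← hcl ξ]
    refine le_trans (Groth.Agent.Helper8.JD.topDim_mono ?_) h2
    exact closure_minimal (Set.singleton_subset_iff.2 ⟨hξV, hξW⟩)
      (IV.support.isClosed.inter IW.support.isClosed)
  have dV : ringKrullDim (X.presheaf.stalk ξ ⧸ stalkIdeal IV ξ) =
      (((δ ηV - δ ξ).toNat : ℕ) : WithBot ℕ∞) := by
    rw [ringKrullDim_quot_stalkIdeal]
    exact Groth.Agent.Helper8.JD.topDim_gen δ hδ (IV.support : Set X) IV.support.isClosed ξ
      ηV hηV.mem (hηV.specializes hξV) (fun η hη _ => hmono (hηV.specializes hη))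
  have dW : ringKrullDim (X.presheaf.stalk ξ ⧸ stalkIdeal IW ξ) =
      (((δ ηW - δ ξ).toNat : ℕ) : WithBot ℕ∞) := by
    rw [ringKrullDim_quot_stalkIdeal]
    exact Groth.Agent.Helper8.JD.topDim_gen δ hδ (IW.support : Set X) IW.support.isClosed ξ
      ηW hηW.mem (hηW.specializes hξW) (fun η hη _ => hmono (hηW.specializes hη))
  have dX : ringKrullDim (X.presheaf.stalk ξ) =
      (((δ (genericPoint X) - δ ξ).toNat : ℕ) : WithBot ℕ∞) := by
    have h1 := ringKrullDim_quot_stalkIdeal (⊥ : X.IdealSheafData) ξ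
    rw [stalkIdeal_bot] at h1
    rw [← ringKrullDim_eq_of_ringEquiv (RingEquiv.quotientBot (X.presheaf.stalk ξ)), h1]
    exact Groth.Agent.Helper8.JD.topDim_gen δ hδ ((⊥ : X.IdealSheafData).support : Set X)
      (⊥ : X.IdealSheafData).support.isClosed ξ (genericPoint X)
      (by rw [Scheme.IdealSheafData.support_bot]; trivial)
      (genericPoint_specializes ξ) (fun η _ _ => hmono (genericPoint_specializes η))
  rw [dV, dX] at hc
  rw [dW]
  have hc' : (δ ηV - δ ξ).toNat + c = (δ (genericPoint X) - δ ξ).toNat := by exact_mod_cast hc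
  have e1 : (δ ηV).toNat = r := by exact_mod_cast hr'
  have e2 : (δ ηW).toNat = s := by exact_mod_cast hs'
  have e3 : (δ (genericPoint X)).toNat = n := by exact_mod_cast hn'
  have e4 : (δ ξ).toNat ≤ r + s - n := by exact_mod_cast ht
  have hVξ : δ ξ ≤ δ ηV := hmono (hηV.specializes hξV)
  have hWξ : δ ξ ≤ δ ηW := hmono (hηW.specializes hξW)
  have hXξ : δ ξ ≤ δ (genericPoint X) := hmono (genericPoint_specializes ξ)
  have p1 := hnn ξ
  have p2 := hnn ηV
  have p3 := hnn ηW
  have p4 := hnn (genericPoint X)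
  have goal : c ≤ (δ ηW - δ ξ).toNat := by omega
  exact_mod_cast goal

theorem main (K : Type u) [Field K] (X : Scheme.{u}) (f : X ⟶ Spec (CommRingCat.of K))
    [LocallyOfFiniteType f] [IsIntegral X] (IV IW : X.IdealSheafData)
    [IsIntegral IV.subscheme] [IsIntegral IW.subscheme] (n r s : ℕ)
    (hn : topologicalKrullDim X = n) (hr : topologicalKrullDim IV.support = r)
    (hs : topologicalKrullDim IW.support = s)
    (hprop : IntMult.ProperInt (IV.support : Set X) (IW.support : Set X) n r s) (ξ : X)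
    (hξV : ξ ∈ IV.support) (hξW : ξ ∈ IW.support)
    (hmax : ∀ ξ' : X, ξ' ∈ IV.support → ξ' ∈ IW.support → ξ' ⤳ ξ → ξ' = ξ) (c : ℕ)
    (g : Fin c → ↑(X.presheaf.stalk ξ))
    (hg : IntMult.stalkIdeal IV ξ = Ideal.span (Set.range g))
    (hreg : RingTheory.Sequence.IsRegular (↑(X.presheaf.stalk ξ)) (List.ofFn g))
    (hW : LocCoh.IsCohenMacaulayLocalRing (↑(X.presheaf.stalk ξ) ⧸ IntMult.stalkIdeal IW ξ)) :
    (IntMult.mult IV IW ξ : ℤ) = (Module.length (X.presheaf.stalk ξ) (↑(X.presheaf.stalk ξ) ⧸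
      (IntMult.stalkIdeal IW ξ ⊔ IntMult.stalkIdeal IV ξ))).toNat := by
  haveI : IsLocallyNoetherian X := LocallyOfFiniteType.isLocallyNoetherian f
  have hg' : stalkIdeal IV ξ = Ideal.span (Set.range g) := hg
  have hof : Ideal.ofList (List.ofFn g) = stalkIdeal IV ξ := by
    rw [hg']
    unfold Ideal.ofList
    congr 1
    ext x
    simp [List.mem_ofFn]
  have hlen : (List.ofFn g).length = c := List.length_ofFn
  have hc : ringKrullDim (X.presheaf.stalk ξ ⧸ stalkIdeal IV ξ) + (c : WithBot ℕ∞) =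
      ringKrullDim (X.presheaf.stalk ξ) := by
    have h1 := ringKrullDim_add_length_eq_ringKrullDim_of_isRegular (List.ofFn g) hreg
    rw [hof, hlen] at h1
    exact h1
  have hdim := le_ringKrullDim K f IV IW n r s hn hr hs hprop ξ hξV hξW c hc
  have h0 := ringKrullDim_quot_le_zero IV IW ξ hmax
  haveI hW' : LocCoh.IsCohenMacaulayLocalRing (↑(X.presheaf.stalk ξ) ⧸ stalkIdeal IW ξ) := hW
  have key := main_alg (stalkIdeal IW ξ) (List.ofFn g) hreg (by rw [hlen]; exact hdim)
    (by rw [hof]; exact h0)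
  rw [hof] at key
  unfold IntMult.mult
  exact key

end Geometry

end Groth.Agent.Lead.IntMultCM
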