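import Mathlib
import Groth.Agent.Lib.Helper28.ReflDepth
import Groth.Agent.Lib.Helper21.HomDepth

/-!
# Serre's conditions `(S_1)`, `(S_2)` for `Hom(M, N)`
-/

set_option autoImplicit false
set_option linter.style.haveILetI false
universe u

open LocCoh

namespace Groth.Agent.Lead.HomSk

open Groth.Agent.Lead.Depth

theorem supportDim_hom_le (A : Type u) [CommRing A] [IsNoetherianRing A]
    (X Y : Type u) [AddCommGroup X] [Module A X] [Module.Finite A X]
    [AddCommGroup Y] [Module A Y] [Module.Finite A Y] :
    Module.supportDim A (X →ₗ[A] Y) ≤ Module.supportDim A Y := by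
  haveI : Module.Finite A (X →ₗ[A] Y) := by
    have : IsNoetherian A (X →ₗ[A] Y) := inferInstance
    exact Module.IsNoetherian.finite A (X →ₗ[A] Y)
  have hsub : Module.support A (X →ₗ[A] Y) ⊆ Module.support A Y := by
    intro q hq
    rw [Module.mem_support_iff_of_finite] at hq ⊢
    refine le_trans ?_ hq
    intro a ha
    rw [Module.mem_annihilator] at ha ⊢
    intro φ
    apply LinearMap.ext
    intro x
    rw [LinearMap.smul_apply, ha, LinearMap.zero_apply]
  exact Order.krullDim_le_of_strictMono (Set.inclusion hsub) (fun a b hab => hab)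

theorem hasSk_hom (R : Type u) [CommRing R] [IsNoetherianRing R]
    (M N : Type u) [AddCommGroup M] [Module R M] [Module.Finite R M] [AddCommGroup N] [Module R N]
    [Module.Finite R N] (k : ℕ) (hk : k = 1 ∨ k = 2) (hN : LocCoh.HasSk k R N) :
    LocCoh.HasSk k R (M →ₗ[R] N) := by
  intro p hp
  obtain ⟨F, hF⟩ : ∃ F : (M →ₗ[R] N) →ₗ[R]
      (LocalizedModule p.primeCompl M →ₗ[Localization.AtPrime p] LocalizedModule p.primeCompl N),
      F = IsLocalizedModule.mapExtendScalars p.primeCompl
        (LocalizedModule.mkLinearMap p.primeCompl M)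
        (LocalizedModule.mkLinearMap p.primeCompl N) (Localization.AtPrime p) := ⟨_, rfl⟩
  haveI : IsLocalizedModule p.primeCompl F := by
    rw [hF]
    haveI := Module.finitePresentation_of_finite R M
    exact Module.FinitePresentation.isLocalizedModule_mapExtendScalars _ _ _ _
  obtain ⟨e⟩ : Nonempty (LocalizedModule p.primeCompl (M →ₗ[R] N) ≃ₗ[Localization.AtPrime p]
      (LocalizedModule p.primeCompl M →ₗ[Localization.AtPrime p]
        LocalizedModule p.primeCompl N)) :=
    ⟨(IsLocalizedModule.linearEquiv p.primeCompl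
      (LocalizedModule.mkLinearMap p.primeCompl (M →ₗ[R] N)) F).extendScalarsOfIsLocalization
      p.primeCompl (Localization.AtPrime p)⟩
  rw [Module.supportDim_eq_of_equiv e, depth_congr e]
  have hNp := hN p
  obtain ⟨H1, H2⟩ := Groth.Agent.Helper21.HD.main (R := Localization.AtPrime p)
    (LocalizedModule p.primeCompl M) (LocalizedModule p.primeCompl N)
  have hsd := supportDim_hom_le (Localization.AtPrime p) (LocalizedModule p.primeCompl M)
    (LocalizedModule p.primeCompl N)
  have key := Groth.Agent.Helper28.ReflDepth.min_le_of_hom_depth k hk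
    (LocCoh.depth (Localization.AtPrime p) (LocalizedModule p.primeCompl N))
    (LocCoh.depth (Localization.AtPrime p)
      (LocalizedModule p.primeCompl M →ₗ[Localization.AtPrime p]
        LocalizedModule p.primeCompl N)) H1 H2
  refine le_trans ?_ (WithBot.coe_le_coe.2 key)
  rw [WithBot.coe_min]
  refine le_min ?_ ?_
  · exact (min_le_left _ _).trans (le_of_eq (WithBot.coe_natCast k).symm)
  · exact le_trans (min_le_min le_rfl hsd) hNp

end Groth.Agent.Lead.HomSk
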