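import Mathlib
import Groth.Agent.Lib.Lead.Fib2
import Groth.Agent.Lib.Lead.FinRes2
import Groth.Agent.Lib.Lead.Depth16

/-!
# `(S_k)` and regular sequences

* `hasSk_quot_ofList`: if `M` has `(S_{k+r})` and `rs` is a weakly `M`-regular sequence of length `r`
  then `M/(rs)M` has `(S_k)`.
* `drop`: depth and dimension of `(M/(rs)M)_q` for a weakly regular sequence contained in `q`.
-/

set_option autoImplicit false
set_option linter.style.haveILetI false
set_option linter.unusedSectionVars false

universe u

open LocCoh IsLocalRing RingTheory.Sequence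

namespace Groth.Agent.Lead.SkReg

open Groth.Agent.Lead

variable {A : Type u} [CommRing A] [IsNoetherianRing A]

theorem withBot_le_of_add_one_le (a : WithBot ℕ∞) (b : ℕ∞)
    (h : a + 1 ≤ ((b + 1 : ℕ∞) : WithBot ℕ∞)) : a ≤ ((b : ℕ∞) : WithBot ℕ∞) := by
  induction a using WithBot.recBotCoe with
  | bot => exact bot_le
  | coe a =>
    have h' : ((a + 1 : ℕ∞) : WithBot ℕ∞) ≤ ((b + 1 : ℕ∞) : WithBot ℕ∞) := by
      rw [WithBot.coe_add a 1, WithBot.coe_one]; exact h
    rw [WithBot.coe_le_coe] at h' ⊢
    exact (ENat.add_le_add_iff_right (by simp)).mp h'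

theorem lemmaA (M : Type u) [AddCommGroup M] [Module A M] [Module.Finite A M] (t : A)
    (hreg : IsSMulRegular M t) (q : Ideal A) [q.IsPrime] (htq : t ∈ q)
    [Nontrivial (LocalizedModule q.primeCompl M)] :
    LocCoh.depth (Localization.AtPrime q) (LocalizedModule q.primeCompl (QuotSMulTop t M)) + 1 =
      LocCoh.depth (Localization.AtPrime q) (LocalizedModule q.primeCompl M) ∧
    Module.supportDim (Localization.AtPrime q)
        (LocalizedModule q.primeCompl (QuotSMulTop t M)) + 1 =
      Module.supportDim (Localization.AtPrime q) (LocalizedModule q.primeCompl M) := by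
  have hreg' := Depth.isSMulRegular_localizedModule q t M hreg
  refine ⟨FinRes.depth_localized_quotSMulTop_add_one q M t htq hreg', ?_⟩
  have hx'mem : algebraMap A (Localization.AtPrime q) t ∈ maximalIdeal (Localization.AtPrime q) :=
    (IsLocalization.AtPrime.to_map_mem_maximal_iff _ q t).mpr htq
  rw [Module.supportDim_eq_of_equiv (Depth.localizedQuotSMulTopEquiv q t M)]
  exact Module.supportDim_quotSMulTop_succ_eq_supportDim hreg' hx'mem

theorem nontrivial_localized_quotSMulTop (q : Ideal A) [hq : q.IsPrime] (M : Type u)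
    [AddCommGroup M] [Module A M] [Module.Finite A M]
    [hnt : Nontrivial (LocalizedModule q.primeCompl M)] (t : A) (htq : t ∈ q) :
    Nontrivial (LocalizedModule q.primeCompl (QuotSMulTop t M)) := by
  have h : (⟨q, hq⟩ : PrimeSpectrum A) ∈ Module.support A (QuotSMulTop t M) := by
    rw [Module.support_quotSMulTop]
    refine ⟨Module.mem_support_iff.2 hnt, ?_⟩
    rw [PrimeSpectrum.mem_zeroLocus, Set.singleton_subset_iff]
    exact htq
  exact Module.mem_support_iff.1 h

theorem hasSk_mono {k k' : ℕ} (hk : k' ≤ k) (M : Type u) [AddCommGroup M] [Module A M]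
    (h : LocCoh.HasSk k A M) : LocCoh.HasSk k' A M := by
  intro q _
  exact le_trans (min_le_min (by exact_mod_cast hk) le_rfl) (h q)

theorem hasSk_quotSMulTop (k : ℕ) (M : Type u) [AddCommGroup M] [Module A M] [Module.Finite A M]
    (t : A) (hreg : IsSMulRegular M t) (hS : LocCoh.HasSk (k + 1) A M) :
    LocCoh.HasSk k A (QuotSMulTop t M) := by
  intro q hq
  by_cases hnt : Nontrivial (LocalizedModule q.primeCompl (QuotSMulTop t M))
  swap
  · rw [not_nontrivial_iff_subsingleton] at hnt
    haveI := hnt
    rw [Module.supportDim_eq_bot_of_subsingleton, min_bot_right]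
    exact bot_le
  have hsupp : (⟨q, hq⟩ : PrimeSpectrum A) ∈ Module.support A (QuotSMulTop t M) :=
    Module.mem_support_iff.2 hnt
  rw [Module.support_quotSMulTop] at hsupp
  obtain ⟨h1, h2⟩ := hsupp
  haveI : Nontrivial (LocalizedModule q.primeCompl M) := Module.mem_support_iff.1 h1
  have htq : t ∈ q := by
    rw [PrimeSpectrum.mem_zeroLocus, Set.singleton_subset_iff] at h2
    exact h2
  obtain ⟨hd, hs⟩ := lemmaA M t hreg q htq
  have h3 := hS q
  rw [← hd, ← hs] at h3
  have h4 : ((k + 1 : ℕ) : WithBot ℕ∞) = (k : WithBot ℕ∞) + 1 := Nat.cast_succ k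
  rw [h4, min_add_add_right] at h3
  exact withBot_le_of_add_one_le _ _ h3

theorem hasSk_quot_ofList : ∀ (rs : List A) (k : ℕ) (M : Type u) [AddCommGroup M] [Module A M]
    [Module.Finite A M], IsWeaklyRegular M rs → LocCoh.HasSk (k + rs.length) A M →
    LocCoh.HasSk k A (M ⧸ (Ideal.ofList rs • ⊤ : Submodule A M)) := by
  intro rs
  induction rs with
  | nil =>
    intro k M _ _ _ _ hS
    have e : (M ⧸ (Ideal.ofList ([] : List A) • ⊤ : Submodule A M)) ≃ₗ[A] M :=
      Submodule.quotEquivOfEqBot _ (by rw [Ideal.ofList_nil, Submodule.bot_smul])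
    exact (Fib.hasSk_congr k e).mpr hS
  | cons t rs ih =>
    intro k M _ _ _ hwr hS
    rw [isWeaklyRegular_cons_iff] at hwr
    have h1 : LocCoh.HasSk (k + rs.length) A (QuotSMulTop t M) :=
      hasSk_quotSMulTop (k + rs.length) M t hwr.1 hS
    have h2 := ih k (QuotSMulTop t M) hwr.2 h1
    exact (Fib.hasSk_congr k
      (Submodule.quotOfListConsSMulTopEquivQuotSMulTopInner M t rs)).mpr h2

/-- Depth and dimension drop by the length along a weakly regular sequence inside `q`. -/
theorem drop (q : Ideal A) [q.IsPrime] : ∀ (rs : List A) (M : Type u) [AddCommGroup M]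
    [Module A M] [Module.Finite A M] [Nontrivial (LocalizedModule q.primeCompl M)],
    (∀ x ∈ rs, x ∈ q) → IsWeaklyRegular M rs →
    (LocCoh.depth (Localization.AtPrime q)
        (LocalizedModule q.primeCompl (M ⧸ (Ideal.ofList rs • ⊤ : Submodule A M))) +
        (rs.length : ℕ∞) =
      LocCoh.depth (Localization.AtPrime q) (LocalizedModule q.primeCompl M)) ∧
    (Module.supportDim (Localization.AtPrime q)
        (LocalizedModule q.primeCompl (M ⧸ (Ideal.ofList rs • ⊤ : Submodule A M))) +
        (rs.length : WithBot ℕ∞) =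
      Module.supportDim (Localization.AtPrime q) (LocalizedModule q.primeCompl M)) := by
  intro rs
  induction rs with
  | nil =>
    intro M _ _ _ _ _ _
    have e : (M ⧸ (Ideal.ofList ([] : List A) • ⊤ : Submodule A M)) ≃ₗ[A] M :=
      Submodule.quotEquivOfEqBot _ (by rw [Ideal.ofList_nil, Submodule.bot_smul])
    have e' := IsLocalizedModule.mapEquiv q.primeCompl
      (LocalizedModule.mkLinearMap q.primeCompl
        (M ⧸ (Ideal.ofList ([] : List A) • ⊤ : Submodule A M)))
      (LocalizedModule.mkLinearMap q.primeCompl M) (Localization.AtPrime q) e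
    rw [Module.supportDim_eq_of_equiv e', Depth.depth_congr e', List.length_nil, Nat.cast_zero,
      Nat.cast_zero, add_zero, add_zero]
    exact ⟨rfl, rfl⟩
  | cons t rs ih =>
    intro M _ _ _ _ hmem hwr
    rw [isWeaklyRegular_cons_iff] at hwr
    have htq : t ∈ q := hmem t (List.mem_cons_self)
    obtain ⟨hd, hs⟩ := lemmaA M t hwr.1 q htq
    haveI := nontrivial_localized_quotSMulTop q M t htq
    obtain ⟨ihd, ihs⟩ := ih (QuotSMulTop t M)
      (fun x hx => hmem x (List.mem_cons_of_mem _ hx)) hwr.2
    have e := Submodule.quotOfListConsSMulTopEquivQuotSMulTopInner M t rs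
    have e' := IsLocalizedModule.mapEquiv q.primeCompl
      (LocalizedModule.mkLinearMap q.primeCompl
        (M ⧸ (Ideal.ofList (t :: rs) • ⊤ : Submodule A M)))
      (LocalizedModule.mkLinearMap q.primeCompl
        (QuotSMulTop t M ⧸ (Ideal.ofList rs • ⊤ : Submodule A (QuotSMulTop t M))))
      (Localization.AtPrime q) e
    rw [Module.supportDim_eq_of_equiv e', Depth.depth_congr e', List.length_cons, Nat.cast_succ,
      Nat.cast_succ, ← add_assoc, ← add_assoc, ihd, ihs]
    exact ⟨hd, hs⟩

end Groth.Agent.Lead.SkReg
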