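import Mathlib
import Groth.Agent.Lib.Lead.Depth16
import Groth.Agent.Lib.Helper9.Depth

/-!
# Bijectivity of a linear map from local data at associated primes

* `injective_of_forall`, `surjective_of_forall`: criteria via associated primes of the kernel /
  cokernel.
* `mem_associatedPrimes_of_depth`: if `φ : M → N` is injective, `depth M_p ≥ 2` and `p` is the
  annihilator of the class of `y` in `N / φ(M)`, then `p ∈ Ass N`.
-/

set_option autoImplicit false
set_option linter.style.haveILetI false

universe u

open RingTheory.Sequence LocCoh IsLocalRing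

namespace Groth.Agent.Lead.BijLoc

variable {R : Type u} [CommRing R] [IsNoetherianRing R]
variable {M N : Type u} [AddCommGroup M] [Module R M] [AddCommGroup N] [Module R N]

theorem injective_of_forall (φ : M →ₗ[R] N)
    (h : ∀ (p : Ideal R) [p.IsPrime], p ∈ associatedPrimes R M → ∀ z : M, φ z = 0 →
      ∃ s : R, s ∉ p ∧ s • z = 0) : Function.Injective φ := by
  rw [← LinearMap.ker_eq_bot]
  by_contra hne
  haveI : Nontrivial (LinearMap.ker φ) := Submodule.nontrivial_iff_ne_bot.mpr hne
  obtain ⟨P, hP⟩ := associatedPrimes.nonempty R (LinearMap.ker φ)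
  have hP' : IsAssociatedPrime P (LinearMap.ker φ) := hP
  have hPM : P ∈ associatedPrimes R M :=
    hP'.map_of_injective (LinearMap.ker φ).subtype (LinearMap.ker φ).injective_subtype
  obtain ⟨hprime, z, hz⟩ := isAssociatedPrime_iff.mp hP'
  haveI := hprime
  obtain ⟨s, hsP, hsz⟩ := h P hPM z.1 (LinearMap.mem_ker.mp z.2)
  apply hsP
  rw [hz, Submodule.mem_colon_singleton, Submodule.mem_bot]
  exact Subtype.ext (by rw [Submodule.coe_smul, hsz]; rfl)

theorem surjective_of_forall (φ : M →ₗ[R] N)
    (h : ∀ (p : Ideal R) [p.IsPrime] (y : N),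
      (∀ r : R, r • y ∈ LinearMap.range φ ↔ r ∈ p) → False) :
    Function.Surjective φ := by
  rw [← LinearMap.range_eq_top]
  by_contra hne
  haveI : Nontrivial (N ⧸ LinearMap.range φ) := Submodule.Quotient.nontrivial_iff.mpr hne
  obtain ⟨P, hP⟩ := associatedPrimes.nonempty R (N ⧸ LinearMap.range φ)
  have hP' : IsAssociatedPrime P (N ⧸ LinearMap.range φ) := hP
  obtain ⟨hprime, c, hc⟩ := isAssociatedPrime_iff.mp hP'
  obtain ⟨y, rfl⟩ := Submodule.Quotient.mk_surjective _ c
  haveI := hprime
  refine h P y (fun r => ?_)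
  rw [hc, Submodule.mem_colon_singleton, Submodule.mem_bot, ← Submodule.Quotient.mk_smul,
    Submodule.Quotient.mk_eq_zero]

theorem mem_associatedPrimes_of_depth [Module.Finite R M] (φ : M →ₗ[R] N)
    (hφ : Function.Injective φ) (p : Ideal R) [p.IsPrime]
    (hdepth : 2 ≤ LocCoh.depth (Localization.AtPrime p) (LocalizedModule p.primeCompl M))
    (y : N) (hy : ∀ r : R, r • y ∈ LinearMap.range φ ↔ r ∈ p) :
    p ∈ associatedPrimes R N := by
  obtain ⟨φ', hφ'⟩ : ∃ f : LocalizedModule p.primeCompl M →ₗ[Localization.AtPrime p]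
      LocalizedModule p.primeCompl N, f = LocalizedModule.map p.primeCompl φ := ⟨_, rfl⟩
  have hmap : ∀ (m : M) (s : p.primeCompl),
      φ' (LocalizedModule.mk m s) = LocalizedModule.mk (φ m) s := by
    intro m s
    rw [hφ']
    exact LocalizedModule.map_mk p.primeCompl φ m s
  have hinj' : Function.Injective φ' := by
    rw [hφ']
    exact LocalizedModule.map_injective p.primeCompl φ hφ
  obtain ⟨y', hy'⟩ : ∃ y' : LocalizedModule p.primeCompl N,
      y' = LocalizedModule.mk y 1 := ⟨_, rfl⟩
  -- Claim A
  have claimA : ∀ c ∈ maximalIdeal (Localization.AtPrime p),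
      ∃ t : LocalizedModule p.primeCompl M, φ' t = c • y' := by
    intro c hc
    obtain ⟨r, s, rfl⟩ := IsLocalization.exists_mk'_eq p.primeCompl c
    have hr : r ∈ p :=
      (IsLocalization.AtPrime.mk'_mem_maximal_iff (Localization.AtPrime p) p r s).mp hc
    obtain ⟨m0, hm0⟩ := (hy r).mpr hr
    refine ⟨LocalizedModule.mk m0 (s * 1), ?_⟩
    rw [hmap, hm0, hy', ← Localization.mk_eq_mk'_apply, LocalizedModule.mk_smul_mk]
  -- Claim B
  have claimB : ¬ ∃ t : LocalizedModule p.primeCompl M, φ' t = y' := by
    rintro ⟨t, ht⟩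
    induction t using LocalizedModule.induction_on with
    | _ m s =>
      rw [hmap, hy', LocalizedModule.mk_eq] at ht
      obtain ⟨u, hu⟩ := ht
      simp only [one_smul, Submonoid.smul_def] at hu
      have hmem : ((u : R) * (s : R)) • y ∈ LinearMap.range φ :=
        ⟨(u : R) • m, by rw [map_smul, hu, mul_smul]⟩
      have hus := (hy _).mp hmem
      rcases (inferInstance : p.IsPrime).mem_or_mem hus with h1 | h1
      · exact u.2 h1
      · exact s.2 h1
  -- a regular sequence of length two
  have hab : ∃ a b : Localization.AtPrime p, a ∈ maximalIdeal (Localization.AtPrime p) ∧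
      b ∈ maximalIdeal (Localization.AtPrime p) ∧
      IsSMulRegular (LocalizedModule p.primeCompl M) a ∧
      (∀ u v : LocalizedModule p.primeCompl M, b • u = a • v → ∃ z, u = a • z) := by
    rcases subsingleton_or_nontrivial (LocalizedModule p.primeCompl M) with hs | hnt
    · exact ⟨0, 0, zero_mem _, zero_mem _, fun x y _ => Subsingleton.elim x y,
        fun u v _ => ⟨0, Subsingleton.elim _ _⟩⟩
    · have htop : maximalIdeal (Localization.AtPrime p) •
          (⊤ : Submodule (Localization.AtPrime p) (LocalizedModule p.primeCompl M)) ≠ ⊤ :=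
        Groth.Agent.Lead.Depth.maximalIdeal_smul_top_ne_top _
      have h2 : ((2 : ℕ) : ℕ∞) ≤ LocCoh.idealDepth (maximalIdeal (Localization.AtPrime p))
          (LocalizedModule p.primeCompl M) := by
        rw [Nat.cast_ofNat]
        exact hdepth
      obtain ⟨rs, hlen, hreg, hmem⟩ := Groth.Agent.Lead.Depth.exists_of_le_idealDepth
        (maximalIdeal (Localization.AtPrime p)) (LocalizedModule p.primeCompl M) htop 2 h2
      obtain ⟨a, b, rfl⟩ := List.length_eq_two.mp hlen
      rw [isWeaklyRegular_cons_iff, isWeaklyRegular_cons_iff] at hreg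
      obtain ⟨ha, hb, -⟩ := hreg
      refine ⟨a, b, hmem a (by simp), hmem b (by simp), ha, fun u v huv => ?_⟩
      have h1 : b • (Submodule.Quotient.mk u :
          QuotSMulTop a (LocalizedModule p.primeCompl M)) = 0 := by
        rw [← Submodule.Quotient.mk_smul, huv]
        exact (Submodule.Quotient.mk_eq_zero _).mpr
          (Submodule.smul_mem_pointwise_smul v a ⊤ Submodule.mem_top)
      have h3 : (Submodule.Quotient.mk u :
          QuotSMulTop a (LocalizedModule p.primeCompl M)) = 0 :=
        hb (show b • (Submodule.Quotient.mk u :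
          QuotSMulTop a (LocalizedModule p.primeCompl M)) = b • 0 by rw [h1, smul_zero])
      rw [Submodule.Quotient.mk_eq_zero] at h3
      obtain ⟨z, -, hz⟩ := (Submodule.mem_smul_pointwise_iff_exists _ _ _).mp h3
      exact ⟨z, hz.symm⟩
  obtain ⟨a, b, ha, hb, hareg, hbreg⟩ := hab
  obtain ⟨u, hu⟩ := claimA a ha
  obtain ⟨v, hv⟩ := claimA b hb
  have huv : b • u = a • v := hinj' (by rw [map_smul, map_smul, hu, hv, smul_comm])
  obtain ⟨z, hz⟩ := hbreg u v huv
  have haw : a • (y' - φ' z) = 0 := by
    rw [smul_sub, ← map_smul, ← hz, hu, sub_self]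
  have hw0 : y' - φ' z ≠ 0 := fun h0 => claimB ⟨z, (sub_eq_zero.mp h0).symm⟩
  have hcw : ∀ c ∈ maximalIdeal (Localization.AtPrime p), c • (y' - φ' z) = 0 := by
    intro c hc
    obtain ⟨t0, ht0⟩ := claimA c hc
    have h1 : c • (y' - φ' z) = φ' (t0 - c • z) := by
      rw [map_sub, map_smul, ht0, smul_sub]
    have h2 : a • (t0 - c • z) = 0 := by
      apply hinj'
      rw [map_smul, ← h1, smul_comm, haw, smul_zero, map_zero]
    have h3 : t0 - c • z = 0 :=
      hareg (show a • (t0 - c • z) = a • 0 by rw [h2, smul_zero])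
    rw [h1, h3, map_zero]
  have hass : maximalIdeal (Localization.AtPrime p) ∈
      associatedPrimes (Localization.AtPrime p) (LocalizedModule p.primeCompl N) := by
    rw [AssociatedPrimes.mem_iff, isAssociatedPrime_iff]
    refine ⟨inferInstance, y' - φ' z, ?_⟩
    apply le_antisymm
    · intro c hc
      rw [Submodule.mem_colon_singleton, Submodule.mem_bot]
      exact hcw c hc
    · apply IsLocalRing.le_maximalIdeal
      intro htop
      have h1 : (1 : Localization.AtPrime p) ∈
          (⊥ : Submodule (Localization.AtPrime p) (LocalizedModule p.primeCompl N)).colon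
            {y' - φ' z} := by
        rw [htop]; exact Submodule.mem_top
      rw [Submodule.mem_colon_singleton, Submodule.mem_bot, one_smul] at h1
      exact hw0 h1
  have hfg : ((maximalIdeal (Localization.AtPrime p)).comap
      (algebraMap R (Localization.AtPrime p))).FG :=
    (isNoetherianRing_iff_ideal_fg R).mp inferInstance _
  have h5 :=
    Module.associatedPrimes.comap_mem_associatedPrimes_of_mem_associatedPrimes_of_isLocalizedModule_of_fg
      p.primeCompl (LocalizedModule.mkLinearMap p.primeCompl N)
      (maximalIdeal (Localization.AtPrime p)) hass hfg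
  have hMcomap : (maximalIdeal (Localization.AtPrime p)).comap
      (algebraMap R (Localization.AtPrime p)) = p :=
    Localization.AtPrime.under_maximalIdeal
  rwa [hMcomap] at h5

end Groth.Agent.Lead.BijLoc
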