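import Groth.Agent.Lib.Lead.HomSh2
import Groth.Agent.Lib.Helper13.FinPresAffine

/-!
# Every stalk map out of a finitely presented module extends to a section of `homSh` (lead)
-/

set_option autoImplicit false
universe u
open CategoryTheory CategoryTheory.Limits AlgebraicGeometry Opposite TopologicalSpace
open RefHull
open Groth.Agent.Helper13.QCoh Groth.Agent.Helper13.QCohLoc Groth.Agent.Helper13.LocFree

namespace Groth.Agent.Lead.HomSh

variable {X : Scheme.{u}}

theorem mem_iInf_opens' {ι : Type*} [Finite ι] (U : ι → X.Opens) (x : X) :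
    x ∈ (⨅ i, U i) ↔ ∀ i, x ∈ U i := by
  rw [← SetLike.mem_coe, Opens.coe_iInf]
  simp

/-- restriction is semilinear -/
theorem res_smul (G : X.Modules) {U U' : X.Opens} (i : U' ⟶ U) (a : Γ(X, U)) (v : Γ(G, U)) :
    G.presheaf.map i.op (a • v) = X.presheaf.map i.op a • G.presheaf.map i.op v := by
  apply sec_ext' G
  intro y
  rw [TopCat.Presheaf.germ_res_apply, Mero.germ_smul, Mero.germ_smul,
    TopCat.Presheaf.germ_res_apply, TopCat.Presheaf.germ_res_apply]

variable {F G : X.Modules}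

/-- a stalk map out of a finitely presented module is the value of a section of the sheaf Hom
over a neighbourhood. -/
theorem exists_sec_eq [hF : SheafOfModules.IsFinitePresentation (R := X.ringCatSheaf) F]
    (x : X) (φ : StalkHom F G x) :
    ∃ (W : X.Opens) (hxW : x ∈ W) (g : Γ(homSh F G, W)), g.1 ⟨x, hxW⟩ = φ := by
  obtain ⟨_, ⟨V, hV, rfl⟩, hxV, -⟩ := X.isBasis_affineOpens.exists_subset_of_mem_open
    (Set.mem_univ x) isOpen_univ
  haveI : Module.FinitePresentation Γ(X, V) Γ(F, V) :=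
    finitePresentation_sections_of_isFinitePresentation F hV
  obtain ⟨n, k, f, r, hf, hfr⟩ := Module.FinitePresentation.exists_fin' Γ(X, V) Γ(F, V)
  set mg : Fin n → Γ(F, V) := fun i => f (fun l => if i = l then 1 else 0) with hmg
  have hfsum : ∀ c : Fin n → Γ(X, V), f c = ∑ i, c i • mg i := fun c =>
    LinearMap.pi_apply_eq_sum_univ f c
  -- Step 1: lift the images of the generators
  have h1 : ∀ i, ∃ (Wi : X.Opens) (hxi : x ∈ Wi) (ti : Γ(G, Wi)),
      G.presheaf.germ Wi x hxi ti = φ (F.presheaf.germ V x hxV (mg i)) :=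
    fun i => TopCat.Presheaf.exists_germ_eq G.presheaf _
  choose Wi hxi ti hti using h1
  set W₀ : X.Opens := (⨅ i, Wi i) ⊓ V with hW₀
  have hxW₀ : x ∈ W₀ := ⟨(mem_iInf_opens' Wi x).2 hxi, hxV⟩
  have hW₀i : ∀ i, W₀ ≤ Wi i := fun i => inf_le_left.trans (iInf_le _ i)
  have hW₀V : W₀ ≤ V := inf_le_right
  set t₀ : Fin n → Γ(G, W₀) := fun i => G.presheaf.map (homOfLE (hW₀i i)).op (ti i) with ht₀def
  have ht₀ : ∀ i, G.presheaf.germ W₀ x hxW₀ (t₀ i) = φ (F.presheaf.germ V x hxV (mg i)) := by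
    intro i
    rw [ht₀def]
    dsimp only
    rw [TopCat.Presheaf.germ_res_apply]
    exact hti i
  -- Step 2: the relations hold near `x`
  have hR : ∀ j : Fin k, ∃ (Wj : X.Opens) (_ : x ∈ Wj) (hj : Wj ≤ W₀),
      G.presheaf.map (homOfLE hj).op (∑ i, X.presheaf.map (homOfLE hW₀V).op
        (r (fun l => if j = l then 1 else 0) i) • t₀ i) = 0 := by
    intro j
    set c := r (fun l => if j = l then (1 : Γ(X, V)) else 0) with hc
    have hg0 : G.presheaf.germ W₀ x hxW₀
        (∑ i, X.presheaf.map (homOfLE hW₀V).op (c i) • t₀ i) = G.presheaf.germ W₀ x hxW₀ 0 := by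
      rw [map_sum, map_zero]
      have hterm : ∀ i, G.presheaf.germ W₀ x hxW₀
          (X.presheaf.map (homOfLE hW₀V).op (c i) • t₀ i) =
          φ (F.presheaf.germ V x hxV (c i • mg i)) := by
        intro i
        rw [Mero.germ_smul, TopCat.Presheaf.germ_res_apply, ht₀, Mero.germ_smul, map_smul]
      rw [Finset.sum_congr rfl (fun i _ => hterm i), ← map_sum, ← map_sum, ← hfsum c, hc,
        hfr.apply_apply_eq_zero, map_zero, map_zero]
    obtain ⟨W', hxW', i₁, i₂, hW'⟩ := TopCat.Presheaf.germ_eq G.presheaf x hxW₀ hxW₀ _ _ hg0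
    refine ⟨W', hxW', i₁.le, ?_⟩
    rw [map_zero] at hW'
    exact hW'
  choose Wj hxj hj hWj using hR
  set W : X.Opens := (⨅ j, Wj j) ⊓ W₀ with hWdef
  have hxW : x ∈ W := ⟨(mem_iInf_opens' Wj x).2 hxj, hxW₀⟩
  have hWW₀ : W ≤ W₀ := inf_le_right
  have hWj' : ∀ j, W ≤ Wj j := fun j => inf_le_left.trans (iInf_le _ j)
  have hWV : W ≤ V := hWW₀.trans hW₀V
  set tW : Fin n → Γ(G, W) := fun i => G.presheaf.map (homOfLE hWW₀).op (t₀ i) with htWdef
  -- Step 3: the linear map on the free module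
  letI modW : Module Γ(X, V) Γ(G, W) :=
    Module.compHom _ (X.presheaf.map (homOfLE hWV).op).hom
  have hsmul : ∀ (a : Γ(X, V)) (v : Γ(G, W)),
      a • v = X.presheaf.map (homOfLE hWV).op a • v := fun _ _ => rfl
  let Ψ₀ : (Fin n → Γ(X, V)) →ₗ[Γ(X, V)] Γ(G, W) := Fintype.linearCombination Γ(X, V) tW
  have hΨ₀ : ∀ c, Ψ₀ c = ∑ i, X.presheaf.map (homOfLE hWV).op (c i) • tW i := fun c => by
    simp only [Ψ₀, Fintype.linearCombination_apply, hsmul]
  have hker : LinearMap.ker f ≤ LinearMap.ker Ψ₀ := by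
    rw [hfr.linearMap_ker_eq]
    rintro _ ⟨d, rfl⟩
    rw [LinearMap.mem_ker, LinearMap.pi_apply_eq_sum_univ r d, map_sum]
    apply Finset.sum_eq_zero
    intro j _
    rw [map_smul, hΨ₀]
    have h2 : ∑ i, X.presheaf.map (homOfLE hWV).op (r (fun l => if j = l then 1 else 0) i) • tW i =
        G.presheaf.map (homOfLE hWW₀).op (∑ i, X.presheaf.map (homOfLE hW₀V).op
          (r (fun l => if j = l then 1 else 0) i) • t₀ i) := by
      rw [map_sum]
      refine Finset.sum_congr rfl fun i _ => ?_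
      rw [res_smul, res_map_map_eq]
    rw [h2, ← map_map_eq G (homOfLE (hj j)).op (homOfLE (hWj' j)).op (homOfLE hWW₀).op, hWj,
      map_zero, smul_zero]
  let Ψ : Γ(F, V) →ₗ[Γ(X, V)] Γ(G, W) :=
    ((LinearMap.ker f).liftQ Ψ₀ hker).comp (f.quotKerEquivOfSurjective hf).symm.toLinearMap
  have hΨf : ∀ c, Ψ (f c) = Ψ₀ c := by
    intro c
    have : (f.quotKerEquivOfSurjective hf).symm (f c) = (LinearMap.ker f).mkQ c := by
      rw [LinearEquiv.symm_apply_eq]
      rfl
    simp only [Ψ, LinearMap.comp_apply, LinearEquiv.coe_coe, this, Submodule.mkQ_apply,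
      Submodule.liftQ_apply]
  obtain ⟨g, hg⟩ := exists_secOfLin hV hWV Ψ.toAddMonoidHom (fun a m => by
    change Ψ (a • m) = _
    rw [map_smul]
    rfl)
  refine ⟨W, hxW, g, ?_⟩
  apply stalkHom_ext hV x hxV
  intro m
  obtain ⟨c, rfl⟩ := hf m
  have h3 := hg ⟨x, hxW⟩ (f c)
  dsimp only at h3
  rw [h3]
  change G.presheaf.germ W x hxW (Ψ (f c)) = _
  rw [hΨf, hΨ₀, map_sum, hfsum, map_sum, map_sum]
  refine Finset.sum_congr rfl fun i _ => ?_
  rw [Mero.germ_smul, TopCat.Presheaf.germ_res_apply, Mero.germ_smul, map_smul]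
  congr 1
  rw [htWdef]
  dsimp only
  rw [TopCat.Presheaf.germ_res_apply]
  exact ht₀ i

end Groth.Agent.Lead.HomSh
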