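import Mathlib
import Groth.Prelude.Def_ZClos
import Groth.Agent.Lib.Lead.ZClos5

/-!
# The Z-closure: the isomorphism criterion (lead)

If `u : F ⟶ F'` is bijective on stalks outside `Z` and `F'` is Z-closed, then the induced map
`H⁰_{X/Z}(F) ⟶ F'` is an isomorphism.
-/

set_option autoImplicit false
set_option linter.style.haveILetI false
set_option linter.unusedSectionVars false

universe u

open CategoryTheory CategoryTheory.Limits AlgebraicGeometry TopologicalSpace Opposite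
open Groth.Agent.Helper13.QCoh

namespace Groth.Agent.Lead.ZClos1

variable {X : Scheme.{u}} [IsLocallyNoetherian X] (Z : Set X)

/-- gluing two local lifts after removing a closed subset of `Z`. -/
theorem lift_union (hZ : StableUnderSpecialization Z) {F F' : X.Modules} (φ : F ⟶ F')
    (hφ : ∀ x : X, x ∉ Z → Function.Injective
      ((TopCat.Presheaf.stalkFunctor (C := Ab.{u}) x).map φ.mapPresheaf))
    (V : X.Opens) (hV : IsCompact (V : Set X)) (a : Γ(F', V))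
    (N₁ N₂ : X.Opens) (h₁ : N₁ ≤ V) (h₂ : N₂ ≤ V) (t₁ : Γ(F, N₁)) (t₂ : Γ(F, N₂))
    (e₁ : φ.app N₁ t₁ = F'.presheaf.map (homOfLE h₁).op a)
    (e₂ : φ.app N₂ t₂ = F'.presheaf.map (homOfLE h₂).op a) :
    ∃ (T₃ : ZClos.Cl Z) (t : Γ(F, N₁ ⊓ T₃.U ⊔ N₂ ⊓ T₃.U)),
      φ.app (N₁ ⊓ T₃.U ⊔ N₂ ⊓ T₃.U) t = F'.presheaf.map
        (homOfLE (sup_le ((inf_le_left : N₁ ⊓ T₃.U ≤ N₁).trans h₁)
          ((inf_le_left : N₂ ⊓ T₃.U ≤ N₂).trans h₂))).op a := by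
  have hc : IsCompact ((N₁ ⊓ N₂ : X.Opens) : Set X) := isCompact_of_le hV (inf_le_left.trans h₁)
  have hI : N₁ ⊓ N₂ ≤ V := inf_le_left.trans h₁
  obtain ⟨d, hd_def⟩ : ∃ d : Γ(F, N₁ ⊓ N₂),
      d = F.presheaf.map (homOfLE (inf_le_left : N₁ ⊓ N₂ ≤ N₁)).op t₁ -
        F.presheaf.map (homOfLE (inf_le_right : N₁ ⊓ N₂ ≤ N₂)).op t₂ := ⟨_, rfl⟩
  have hd : φ.app (N₁ ⊓ N₂) d = 0 := by
    have q1 : φ.app (N₁ ⊓ N₂) (F.presheaf.map (homOfLE (inf_le_left : N₁ ⊓ N₂ ≤ N₁)).op t₁) =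
        F'.presheaf.map (homOfLE hI).op a :=
      (app_map φ (inf_le_left : N₁ ⊓ N₂ ≤ N₁) t₁).trans
        ((congrArg (fun x => F'.presheaf.map (homOfLE (inf_le_left : N₁ ⊓ N₂ ≤ N₁)).op x) e₁).trans
          (map_map_eq F' (homOfLE h₁).op (homOfLE (inf_le_left : N₁ ⊓ N₂ ≤ N₁)).op
            (homOfLE hI).op a))
    have q2 : φ.app (N₁ ⊓ N₂) (F.presheaf.map (homOfLE (inf_le_right : N₁ ⊓ N₂ ≤ N₂)).op t₂) =
        F'.presheaf.map (homOfLE hI).op a :=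
      (app_map φ (inf_le_right : N₁ ⊓ N₂ ≤ N₂) t₂).trans
        ((congrArg (fun x => F'.presheaf.map (homOfLE (inf_le_right : N₁ ⊓ N₂ ≤ N₂)).op x) e₂).trans
          (map_map_eq F' (homOfLE h₂).op (homOfLE (inf_le_right : N₁ ⊓ N₂ ≤ N₂)).op
            (homOfLE hI).op a))
    rw [hd_def, map_sub, q1, q2, sub_self]
  obtain ⟨T₃, hT₃⟩ := exists_res_eq_zero_of_germ Z F hZ (N₁ ⊓ N₂) hc d
    (fun y hy hyZ => germ_eq_zero_of_app_eq_zero φ y (hφ y hyZ) (N₁ ⊓ N₂) hy d hd)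
  refine ⟨T₃, ?_⟩
  -- inclusions
  have kC : N₁ ⊓ N₂ ⊓ T₃.U ≤ N₁ ⊓ N₂ := inf_le_left
  have hCN₁ : N₁ ⊓ N₂ ⊓ T₃.U ≤ N₁ := kC.trans inf_le_left
  have hCN₂ : N₁ ⊓ N₂ ⊓ T₃.U ≤ N₂ := kC.trans inf_le_right
  have hC₁ : N₁ ⊓ T₃.U ⊓ (N₂ ⊓ T₃.U) ≤ N₁ ⊓ N₂ ⊓ T₃.U :=
    le_inf (le_inf (inf_le_left.trans inf_le_left) (inf_le_right.trans inf_le_left))
      (inf_le_left.trans inf_le_right)
  have hAB₁ : N₁ ⊓ T₃.U ⊓ (N₂ ⊓ T₃.U) ≤ N₁ := inf_le_left.trans inf_le_left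
  have hAB₂ : N₁ ⊓ T₃.U ⊓ (N₂ ⊓ T₃.U) ≤ N₂ := inf_le_right.trans inf_le_left
  have hd' : F.presheaf.map (homOfLE kC).op
      (F.presheaf.map (homOfLE (inf_le_left : N₁ ⊓ N₂ ≤ N₁)).op t₁) =
    F.presheaf.map (homOfLE kC).op
      (F.presheaf.map (homOfLE (inf_le_right : N₁ ⊓ N₂ ≤ N₂)).op t₂) := by
    rw [hd_def, map_sub, sub_eq_zero] at hT₃
    exact hT₃
  have hd'' : F.presheaf.map (homOfLE hCN₁).op t₁ = F.presheaf.map (homOfLE hCN₂).op t₂ :=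
    (map_map_eq F (homOfLE (inf_le_left : N₁ ⊓ N₂ ≤ N₁)).op (homOfLE kC).op
      (homOfLE hCN₁).op t₁).symm.trans
      (hd'.trans (map_map_eq F (homOfLE (inf_le_right : N₁ ⊓ N₂ ≤ N₂)).op (homOfLE kC).op
        (homOfLE hCN₂).op t₂))
  have hab : F.presheaf.map
      (homOfLE (inf_le_left : N₁ ⊓ T₃.U ⊓ (N₂ ⊓ T₃.U) ≤ N₁ ⊓ T₃.U)).op
      (F.presheaf.map (homOfLE (inf_le_left : N₁ ⊓ T₃.U ≤ N₁)).op t₁) =
    F.presheaf.map (homOfLE (inf_le_right : N₁ ⊓ T₃.U ⊓ (N₂ ⊓ T₃.U) ≤ N₂ ⊓ T₃.U)).op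
      (F.presheaf.map (homOfLE (inf_le_left : N₂ ⊓ T₃.U ≤ N₂)).op t₂) :=
    (map_map_eq F (homOfLE (inf_le_left : N₁ ⊓ T₃.U ≤ N₁)).op
      (homOfLE (inf_le_left : N₁ ⊓ T₃.U ⊓ (N₂ ⊓ T₃.U) ≤ N₁ ⊓ T₃.U)).op (homOfLE hAB₁).op t₁).trans
      ((map_map_eq F (homOfLE hCN₁).op (homOfLE hC₁).op (homOfLE hAB₁).op t₁).symm.trans
        ((congrArg (fun x => F.presheaf.map (homOfLE hC₁).op x) hd'').trans
          ((map_map_eq F (homOfLE hCN₂).op (homOfLE hC₁).op (homOfLE hAB₂).op t₂).trans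
            (map_map_eq F (homOfLE (inf_le_left : N₂ ⊓ T₃.U ≤ N₂)).op
              (homOfLE (inf_le_right : N₁ ⊓ T₃.U ⊓ (N₂ ⊓ T₃.U) ≤ N₂ ⊓ T₃.U)).op
              (homOfLE hAB₂).op t₂).symm)))
  obtain ⟨t, htA, htB⟩ := glue₂ F
    (F.presheaf.map (homOfLE (inf_le_left : N₁ ⊓ T₃.U ≤ N₁)).op t₁)
    (F.presheaf.map (homOfLE (inf_le_left : N₂ ⊓ T₃.U ≤ N₂)).op t₂) hab
  refine ⟨t, ?_⟩
  have hAV : N₁ ⊓ T₃.U ≤ V := (inf_le_left : N₁ ⊓ T₃.U ≤ N₁).trans h₁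
  have hBV : N₂ ⊓ T₃.U ≤ V := (inf_le_left : N₂ ⊓ T₃.U ≤ N₂).trans h₂
  apply eq_of_res₂ F'
  · -- on `A`
    refine (app_map φ (le_sup_left : N₁ ⊓ T₃.U ≤ N₁ ⊓ T₃.U ⊔ N₂ ⊓ T₃.U) t).symm.trans ?_
    refine (congrArg (fun x => φ.app (N₁ ⊓ T₃.U) x) htA).trans ?_
    refine (app_map φ (inf_le_left : N₁ ⊓ T₃.U ≤ N₁) t₁).trans ?_
    refine (congrArg (fun x => F'.presheaf.map
      (homOfLE (inf_le_left : N₁ ⊓ T₃.U ≤ N₁)).op x) e₁).trans ?_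
    refine (map_map_eq F' (homOfLE h₁).op (homOfLE (inf_le_left : N₁ ⊓ T₃.U ≤ N₁)).op
      (homOfLE hAV).op a).trans ?_
    exact (map_map_eq F' (homOfLE (sup_le hAV hBV)).op
      (homOfLE (le_sup_left : N₁ ⊓ T₃.U ≤ N₁ ⊓ T₃.U ⊔ N₂ ⊓ T₃.U)).op (homOfLE hAV).op a).symm
  · -- on `B`
    refine (app_map φ (le_sup_right : N₂ ⊓ T₃.U ≤ N₁ ⊓ T₃.U ⊔ N₂ ⊓ T₃.U) t).symm.trans ?_
    refine (congrArg (fun x => φ.app (N₂ ⊓ T₃.U) x) htB).trans ?_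
    refine (app_map φ (inf_le_left : N₂ ⊓ T₃.U ≤ N₂) t₂).trans ?_
    refine (congrArg (fun x => F'.presheaf.map
      (homOfLE (inf_le_left : N₂ ⊓ T₃.U ≤ N₂)).op x) e₂).trans ?_
    refine (map_map_eq F' (homOfLE h₂).op (homOfLE (inf_le_left : N₂ ⊓ T₃.U ≤ N₂)).op
      (homOfLE hBV).op a).trans ?_
    exact (map_map_eq F' (homOfLE (sup_le hAV hBV)).op
      (homOfLE (le_sup_right : N₂ ⊓ T₃.U ≤ N₁ ⊓ T₃.U ⊔ N₂ ⊓ T₃.U)).op (homOfLE hBV).op a).symm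

/-- the inductive predicate: the section `a` lifts over an open containing `S` minus a closed
subset of `Z`. -/
def LiftP {F F' : X.Modules} (φ : F ⟶ F') (V : X.Opens) (a : Γ(F', V)) (S : Set X) : Prop :=
  ∃ (N : X.Opens) (hNV : N ≤ V) (T' : ZClos.Cl Z) (t : Γ(F, N)),
    S ∩ (T'.U : Set X) ⊆ (N : Set X) ∧ φ.app N t = F'.presheaf.map (homOfLE hNV).op a

theorem liftP_iff {F F' : X.Modules} (φ : F ⟶ F') (V : X.Opens) (a : Γ(F', V)) (S : Set X) :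
    LiftP Z φ V a S ↔ ∃ (N : X.Opens) (hNV : N ≤ V) (T' : ZClos.Cl Z) (t : Γ(F, N)),
      S ∩ (T'.U : Set X) ⊆ (N : Set X) ∧ φ.app N t = F'.presheaf.map (homOfLE hNV).op a :=
  Iff.rfl

/-- **Lifting sections** through a morphism bijective on stalks outside `Z`, after removing a closed
subset of `Z`. -/
theorem exists_lift (hZ : StableUnderSpecialization Z) {F F' : X.Modules} (φ : F ⟶ F')
    (hφ : ∀ x : X, x ∉ Z → Function.Bijective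
      ((TopCat.Presheaf.stalkFunctor (C := Ab.{u}) x).map φ.mapPresheaf))
    (V : X.Opens) (hV : IsCompact (V : Set X)) (a : Γ(F', V)) :
    ∃ (T : ZClos.Cl Z) (t : Γ(F, V ⊓ T.U)),
      φ.app (V ⊓ T.U) t = F'.presheaf.map (homOfLE (inf_le_left : V ⊓ T.U ≤ V)).op a := by
  have hS₀V : (V : Set X) \ liftLocus φ V a ⊆ (V : Set X) := Set.sdiff_subset
  have hS₀Z : (V : Set X) \ liftLocus φ V a ⊆ Z := by
    rintro y ⟨hyV, hyL⟩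
    by_contra hyZ
    exact hyL ((mem_liftLocus_iff φ V a y).2 (exists_local_lift φ y (hφ y hyZ).2 V hyV a))
  have hS₀cl : IsClosed ((Subtype.val : ↥V → X) ⁻¹' ((V : Set X) \ liftLocus φ V a)) := by
    have h1 : (Subtype.val : ↥V → X) ⁻¹' ((V : Set X) \ liftLocus φ V a) =
        ((Subtype.val : ↥V → X) ⁻¹' (liftLocus φ V a))ᶜ := by
      ext z
      constructor
      · rintro ⟨_, hz⟩
        exact hz
      · intro hz
        exact ⟨z.2, hz⟩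
    rw [h1, isClosed_compl_iff]
    exact (isOpen_liftLocus φ V a).preimage continuous_subtype_val
  obtain ⟨T₁, hT₁⟩ := exists_cl_of_closed_in_compact Z hZ V hV _ hS₀V hS₀Z hS₀cl
  have hc₁ : IsCompact ((V ⊓ T₁.U : X.Opens) : Set X) := isCompact_of_le hV inf_le_left
  have key : LiftP Z φ V a ((V ⊓ T₁.U : X.Opens) : Set X) := by
    refine hc₁.induction_on (p := LiftP Z φ V a) ?_ ?_ ?_ ?_
    · refine (liftP_iff Z φ V a _).2 ⟨⊥, bot_le, ⊥, 0, ?_, ?_⟩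
      · intro y hy
        exact hy.1.elim
      · exact eq_of_le_bot F' _ _
    · intro S S' hSS' hS'
      obtain ⟨N, hNV, T', t, hS', e⟩ := (liftP_iff Z φ V a _).1 hS'
      exact (liftP_iff Z φ V a _).2 ⟨N, hNV, T', t, fun y hy => hS' ⟨hSS' hy.1, hy.2⟩, e⟩
    · intro S₁ S₂ hp₁ hp₂
      obtain ⟨N₁, h₁, T₁', t₁, hS₁, e₁⟩ := (liftP_iff Z φ V a _).1 hp₁
      obtain ⟨N₂, h₂, T₂', t₂, hS₂, e₂⟩ := (liftP_iff Z φ V a _).1 hp₂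
      obtain ⟨T₃, t, ht⟩ := lift_union Z hZ φ (fun x hx => (hφ x hx).1) V hV a N₁ N₂ h₁ h₂
        t₁ t₂ e₁ e₂
      refine (liftP_iff Z φ V a _).2 ⟨N₁ ⊓ T₃.U ⊔ N₂ ⊓ T₃.U, _, T₁' ⊔ T₂' ⊔ T₃, t, ?_, ht⟩
      rintro y ⟨hy | hy, hyT⟩
      · have hy1 : y ∈ N₁ := hS₁ ⟨hy, ZClos.Cl.U_anti
          ((le_sup_left : T₁' ≤ T₁' ⊔ T₂').trans (le_sup_left : T₁' ⊔ T₂' ≤ T₁' ⊔ T₂' ⊔ T₃)) hyT⟩
        have hy3 : y ∈ T₃.U := ZClos.Cl.U_anti (le_sup_right : T₃ ≤ T₁' ⊔ T₂' ⊔ T₃) hyT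
        have hyA : y ∈ N₁ ⊓ T₃.U := ⟨hy1, hy3⟩
        exact (le_sup_left : N₁ ⊓ T₃.U ≤ N₁ ⊓ T₃.U ⊔ N₂ ⊓ T₃.U) hyA
      · have hy1 : y ∈ N₂ := hS₂ ⟨hy, ZClos.Cl.U_anti
          ((le_sup_right : T₂' ≤ T₁' ⊔ T₂').trans (le_sup_left : T₁' ⊔ T₂' ≤ T₁' ⊔ T₂' ⊔ T₃)) hyT⟩
        have hy3 : y ∈ T₃.U := ZClos.Cl.U_anti (le_sup_right : T₃ ≤ T₁' ⊔ T₂' ⊔ T₃) hyT
        have hyB : y ∈ N₂ ⊓ T₃.U := ⟨hy1, hy3⟩
        exact (le_sup_right : N₂ ⊓ T₃.U ≤ N₁ ⊓ T₃.U ⊔ N₂ ⊓ T₃.U) hyB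
    · intro y hy
      have hyL : y ∈ liftLocus φ V a := by
        by_contra hyL
        exact hy.2 (hT₁ ⟨hy.1, hyL⟩)
      obtain ⟨N, hNV, hyN, t, ht⟩ := (mem_liftLocus_iff φ V a y).1 hyL
      refine ⟨(N : Set X), mem_nhdsWithin_of_mem_nhds (N.isOpen.mem_nhds hyN), ?_⟩
      refine (liftP_iff Z φ V a _).2 ⟨N, hNV, ⊥, t, ?_, ht⟩
      intro z hz
      exact hz.1
  obtain ⟨N, hNV, T', t, hS, e⟩ := (liftP_iff Z φ V a _).1 key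
  have hle : V ⊓ (T₁ ⊔ T').U ≤ N := by
    intro y hy
    have hy1 : y ∈ V ⊓ T₁.U := ⟨hy.1, ZClos.Cl.U_anti (le_sup_left : T₁ ≤ T₁ ⊔ T') hy.2⟩
    exact hS ⟨hy1, ZClos.Cl.U_anti (le_sup_right : T' ≤ T₁ ⊔ T') hy.2⟩
  refine ⟨T₁ ⊔ T', F.presheaf.map (homOfLE hle).op t, ?_⟩
  refine (app_map φ hle t).trans ?_
  refine (congrArg (fun x => F'.presheaf.map (homOfLE hle).op x) e).trans ?_
  exact map_map_eq F' (homOfLE hNV).op (homOfLE hle).op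
    (homOfLE (inf_le_left : V ⊓ (T₁ ⊔ T').U ≤ V)).op a

/-- the factorization through `ρ` on classes `σ T V t`. -/
theorem fac_σ {F F' : X.Modules} (φ : F ⟶ F') (v : (ZClos.H0 Z).obj F ⟶ F')
    (hv : ZClos.rhoApp Z F ≫ v = φ) (T : ZClos.Cl Z) (V : X.Opens) (t : Γ(F, V ⊓ T.U)) :
    F'.presheaf.map (homOfLE (inf_le_left : V ⊓ T.U ≤ V)).op (v.app V (σ Z F T V t)) =
      φ.app (V ⊓ T.U) t := by
  refine (app_map v (inf_le_left : V ⊓ T.U ≤ V) (σ Z F T V t)).symm.trans ?_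
  rw [σ_res]
  have h3 : σ Z F T (V ⊓ T.U) (F.presheaf.map
      (homOfLE (inf_le_inf_right T.U (inf_le_left : V ⊓ T.U ≤ V))).op t) =
      (ZClos.rhoApp Z F).app (V ⊓ T.U) t := (rho_eq Z F T (V ⊓ T.U) t).symm
  rw [h3]
  exact congrArg (fun ψ : F ⟶ F' => ψ.app (V ⊓ T.U) t) hv

/-- **Isomorphism criterion** (EGA IV 5.9.11-type): a morphism to a Z-closed module which is
bijective on stalks outside `Z` induces an isomorphism from the Z-closure. -/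
theorem isIso_of_fac (hZ : StableUnderSpecialization Z) {F F' : X.Modules}
    (hF' : ZClos.IsZClosed Z F') (φ : F ⟶ F')
    (hφ : ∀ x : X, x ∉ Z → Function.Bijective
      ((TopCat.Presheaf.stalkFunctor (C := Ab.{u}) x).map φ.mapPresheaf))
    (v : (ZClos.H0 Z).obj F ⟶ F') (hv : ZClos.rhoApp Z F ≫ v = φ) : IsIso v := by
  haveI : IsIso (ZClos.rhoApp Z F') := hF'
  have hpure : ZClos.IsZPure Z F' := by
    unfold ZClos.IsZPure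
    infer_instance
  rw [isIso_iff_bijective_compact]
  intro V hV
  constructor
  · refine (injective_iff_map_eq_zero (v.app V).hom).2 ?_
    intro s' hs'
    obtain ⟨T, t, rfl⟩ := exists_rep Z F V hV s'
    apply σ_eq_zero_of_germ Z F hZ V hV T t
    intro y hy hyZ
    apply germ_eq_zero_of_app_eq_zero φ y (hφ y hyZ).1 (V ⊓ T.U) hy t
    refine (fac_σ Z φ v hv T V t).symm.trans ?_
    have hs'' : v.app V (σ Z F T V t) = 0 := hs'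
    rw [hs'', map_zero]
  · intro a
    obtain ⟨T, t, ht⟩ := exists_lift Z hZ φ hφ V hV a
    refine ⟨σ Z F T V t, ?_⟩
    apply (isZPure_iff Z F').1 hpure T V hV
    exact (fac_σ Z φ v hv T V t).trans ht

end Groth.Agent.Lead.ZClos1
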