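import Mathlib
import Groth.Prelude
import Groth.Agent.Lib.Lead.ZClos6
import Groth.Agent.Lib.Lead.EmbPts

/-!
# Z-purity at a point and associated points (lead)

For a quasi-coherent module `F` on a locally Noetherian scheme and `Z` stable under specialization:
`F` is Z-pure at `x` iff no generization of `x` lying in `Z` is an associated point of `F`; for
coherent `F` this says `depth F_{x'} ≥ 1` at these points.
-/

set_option autoImplicit false
set_option linter.style.haveILetI false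
set_option linter.unusedSectionVars false

universe u

open CategoryTheory CategoryTheory.Limits AlgebraicGeometry TopologicalSpace Opposite
open IsLocalRing LocCoh Groth.Agent.Lead.Depth
open Groth.Agent.Helper13.QCoh Groth.Agent.Helper13.FinType Groth.Agent.Helper13.QCohLoc
  Groth.Agent.Helper13.LocFree Groth.Agent.Helper13.FlatOver
open Groth.Agent.Lead.EmbPts Groth.Agent.Lead.IsoDepth

namespace Groth.Agent.Lead.ZClos1

/-- depth at least one iff the maximal ideal is not associated. -/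
theorem one_le_depth_iff (A : Type u) [CommRing A] [IsLocalRing A] [IsNoetherianRing A]
    (N : Type u) [AddCommGroup N] [Module A N] [Module.Finite A N] :
    (1 : ℕ∞) ≤ LocCoh.depth A N ↔ maximalIdeal A ∉ associatedPrimes A N := by
  constructor
  · intro h hm
    haveI : Nontrivial N := by
      by_contra hcon
      rw [not_nontrivial_iff_subsingleton] at hcon
      have h2 : (associatedPrimes A N).Nonempty := ⟨_, hm⟩
      rw [associatedPrimes.eq_empty_of_subsingleton] at h2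
      exact Set.not_nonempty_empty h2
    have hd : LocCoh.depth A N = 0 :=
      idealDepth_eq_zero_of_mem_associatedPrimes N (maximalIdeal A) hm
        (maximalIdeal_smul_top_ne_top N)
    rw [hd] at h
    exact absurd h (not_le.2 zero_lt_one)
  · intro h
    by_contra h1
    have hnr : ∀ x ∈ maximalIdeal A, ¬ IsSMulRegular N x := by
      intro x hx hreg
      apply h1
      have := le_idealDepth_of_isWeaklyRegular (maximalIdeal A) N [x]
        ((RingTheory.Sequence.isWeaklyRegular_cons_iff N x []).mpr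
          ⟨hreg, RingTheory.Sequence.IsWeaklyRegular.nil _ _⟩)
        (by intro r hr; rw [List.mem_singleton] at hr; rw [hr]; exact hx)
      rw [depth_def]
      simpa using this
    obtain ⟨Q, hQ, hmQ⟩ :=
      exists_le_associatedPrime_of_forall_not_regular' N (maximalIdeal A) hnr
    have hQeq : Q = maximalIdeal A := le_antisymm (le_maximalIdeal hQ.isPrime.ne_top) hmQ
    exact h (hQeq ▸ hQ)

variable {X : Scheme.{u}}

/-- a section killed by a function invertible at `y` has vanishing germ at `y`. -/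
theorem germ_eq_zero_of_smul_eq_zero (F : X.Modules) {V : X.Opens} (y : X) (hyV : y ∈ V)
    (r : Γ(X, V)) (hr : y ∈ X.basicOpen r) (m : Γ(F, V)) (h : r • m = 0) :
    F.presheaf.germ V y hyV m = 0 := by
  have h1 := germ_smul F V y hyV r m
  rw [h, map_zero] at h1
  have hu : IsUnit (X.presheaf.germ V y hyV r) := (X.mem_basicOpen r y hyV).1 hr
  exact (hu.smul_eq_zero).1 h1.symm

variable [IsLocallyNoetherian X] (Z : Set X) (F : X.Modules) [F.IsQuasicoherent]

/-- if `F` is Z-pure at `x`, no generization of `x` in `Z` is an associated point of `F`. -/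
theorem not_isAssPoint_of_isZPureAt (hZ : StableUnderSpecialization Z) (x : X)
    (hpure : ZClos.IsZPureAt Z F x) (x' : X) (hspec : x' ⤳ x) (hx'Z : x' ∈ Z) :
    ¬ Curv2.IsAssPoint F x' := by
  intro hass
  obtain ⟨_, ⟨V, hV, rfl⟩, hxV, -⟩ :=
    X.isBasis_affineOpens.exists_subset_of_mem_open (Set.mem_univ x) isOpen_univ
  have hV' : IsAffineOpen V := hV
  haveI : IsNoetherianRing Γ(X, V) := IsLocallyNoetherian.component_noetherian ⟨V, hV'⟩
  have hx'V : x' ∈ V := hspec.mem_open V.isOpen hxV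
  have h1 : (hV'.primeIdealOf ⟨x', hx'V⟩).asIdeal ∈ associatedPrimes Γ(X, V) Γ(F, V) := by
    have h0 := comap_mem_associatedPrimes_sections F hV' ⟨x', hx'V⟩ _ hass
    rw [comap_maximalIdeal_stalk hV' ⟨x', hx'V⟩] at h0
    exact h0
  obtain ⟨-, m, hm⟩ := (isAssociatedPrime_iff (R := Γ(X, V)) (M := Γ(F, V))).mp h1
  have hmem : ∀ r : Γ(X, V), r ∈ (hV'.primeIdealOf ⟨x', hx'V⟩).asIdeal ↔ r • m = 0 := by
    intro r
    rw [hm, Submodule.mem_colon_singleton, Submodule.mem_bot]
  have hle : (hV'.primeIdealOf ⟨x', hx'V⟩).asIdeal ≤ (hV'.primeIdealOf ⟨x, hxV⟩).asIdeal :=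
    (specializes_iff_primeIdealOf_le hV' ⟨x', hx'V⟩ ⟨x, hxV⟩).1 hspec
  have hsub : (closure ({x'} : Set X)) ⊆ Z := fun y hy =>
    hZ (specializes_iff_mem_closure.2 hy) hx'Z
  let T : ZClos.Cl Z := ⟨⟨closure {x'}, isClosed_closure⟩, hsub⟩
  have hres : F.presheaf.map (homOfLE (inf_le_left : V ⊓ T.U ≤ V)).op m = 0 := by
    refine TopCat.Presheaf.section_ext (⟨F.presheaf, F.isSheaf⟩ : TopCat.Sheaf Ab X) (V ⊓ T.U)
      _ 0 ?_
    intro y hy
    refine (TopCat.Presheaf.germ_res_apply F.presheaf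
      (homOfLE (inf_le_left : V ⊓ T.U ≤ V)) y hy m).trans ?_
    refine Eq.trans ?_ (map_zero _).symm
    have hyV : y ∈ V := hy.1
    have hnspec : ¬ x' ⤳ y := fun hs => hy.2 (specializes_iff_mem_closure.1 hs)
    have hnle : ¬ (hV'.primeIdealOf ⟨x', hx'V⟩).asIdeal ≤
        (hV'.primeIdealOf ⟨y, hyV⟩).asIdeal := fun hle' =>
      hnspec ((specializes_iff_primeIdealOf_le hV' ⟨x', hx'V⟩ ⟨y, hyV⟩).2 hle')
    obtain ⟨r, hr1, hr2⟩ := SetLike.not_le_iff_exists.1 hnle
    have hyr : y ∈ X.basicOpen r := (mem_basicOpen_iff_notMem_primeIdealOf hV' y hyV r).2 hr2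
    exact germ_eq_zero_of_smul_eq_zero F y hyV r hyr m ((hmem r).1 hr1)
  have hne : F.presheaf.germ V x hxV m ≠ 0 := by
    intro h0
    obtain ⟨g, hg1, hg2⟩ := exists_smul_eq_zero_of_germ_eq_zero F hV' x hxV m h0
    exact (mem_basicOpen_iff_notMem_primeIdealOf hV' x hxV g).1 hg1 (hle ((hmem g).2 hg2))
  apply hne
  apply hpure
  have h2 : ZClos.rhoStalk Z F x (F.presheaf.germ V x hxV m) =
      ((ZClos.H0 Z).obj F).presheaf.germ V x hxV ((ZClos.rhoApp Z F).app V m) :=
    stalkMap_germ (ZClos.rhoApp Z F) x V hxV m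
  refine h2.trans ?_
  refine Eq.trans ?_ (map_zero _).symm
  rw [rho_eq Z F T V m, hres, map_zero, map_zero]

/-- if no generization of `x` in `Z` is an associated point of `F`, then `F` is Z-pure at `x`. -/
theorem isZPureAt_of_forall_not_isAssPoint (x : X)
    (h : ∀ x' : X, x' ⤳ x → x' ∈ Z → ¬ Curv2.IsAssPoint F x') : ZClos.IsZPureAt Z F x := by
  refine (injective_iff_map_eq_zero (ZClos.rhoStalk Z F x).hom).2 ?_
  intro mx hmx
  obtain ⟨V, hxV, hVc, s, rfl⟩ :=
    TopCat.Presheaf.exists_mem_germ_eq_of_isBasis isBasis_compact F.presheaf x mx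
  have hm' : ((ZClos.H0 Z).obj F).presheaf.germ V x hxV ((ZClos.rhoApp Z F).app V s) =
      ((ZClos.H0 Z).obj F).presheaf.germ V x hxV 0 := by
    rw [map_zero]
    exact (TopCat.Presheaf.stalkFunctor_map_germ_apply V x hxV
      (ZClos.rhoApp Z F).mapPresheaf s).symm.trans hmx
  obtain ⟨W, hxW, iU, iV, hW⟩ := TopCat.Presheaf.germ_eq _ x hxV hxV _ _ hm'
  obtain ⟨W', hW'c, hxW', hW'W⟩ := exists_compact_nhd W x hxW
  have hW'V : W' ≤ V := hW'W.trans iU.le
  have h1 : (ZClos.rhoApp Z F).app W' (F.presheaf.map (homOfLE hW'V).op s) = 0 := by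
    refine (app_map (ZClos.rhoApp Z F) hW'V s).trans ?_
    rw [← map_map_eq ((ZClos.H0 Z).obj F) iU.op (homOfLE hW'W).op (homOfLE hW'V).op, hW,
      map_zero, map_zero]
  obtain ⟨T, hT⟩ := exists_of_rho_eq_zero Z F W' hW'c _ h1
  obtain ⟨_, ⟨A, hA, rfl⟩, hxA, hAW'⟩ :=
    X.isBasis_affineOpens.exists_subset_of_mem_open hxW' W'.2
  have hA' : IsAffineOpen A := hA
  haveI : IsNoetherianRing Γ(X, A) := IsLocallyNoetherian.component_noetherian ⟨A, hA'⟩
  have hAW : A ≤ W' := hAW'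
  have hAV : A ≤ V := hAW.trans hW'V
  obtain ⟨s₁, hs₁⟩ : ∃ s₁ : Γ(F, A), s₁ = F.presheaf.map (homOfLE hAV).op s := ⟨_, rfl⟩
  have hgerm : F.presheaf.germ V x hxV s = F.presheaf.germ A x hxA s₁ := by
    rw [hs₁]
    exact (TopCat.Presheaf.germ_res_apply F.presheaf (homOfLE hAV) x hxA s).symm
  have hs₁T : F.presheaf.map (homOfLE (inf_le_left : A ⊓ T.U ≤ A)).op s₁ = 0 := by
    have hT' : F.presheaf.map (homOfLE ((inf_le_left : W' ⊓ T.U ≤ W').trans hW'V)).op s = 0 :=
      (map_map_eq F (homOfLE hW'V).op (homOfLE (inf_le_left : W' ⊓ T.U ≤ W')).op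
        (homOfLE ((inf_le_left : W' ⊓ T.U ≤ W').trans hW'V)).op s).symm.trans hT
    rw [hs₁]
    refine (map_map_eq F (homOfLE hAV).op (homOfLE (inf_le_left : A ⊓ T.U ≤ A)).op
      (homOfLE ((inf_le_left : A ⊓ T.U ≤ A).trans hAV)).op s).trans ?_
    refine (map_map_eq F (homOfLE ((inf_le_left : W' ⊓ T.U ≤ W').trans hW'V)).op
      (homOfLE (inf_le_inf_right T.U hAW)).op
      (homOfLE ((inf_le_left : A ⊓ T.U ≤ A).trans hAV)).op s).symm.trans ?_
    rw [hT', map_zero]
  refine hgerm.trans ?_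
  by_contra hne
  have hIle : ∀ g : Γ(X, A), g • s₁ = 0 → g ∈ (hA'.primeIdealOf ⟨x, hxA⟩).asIdeal := by
    intro g hg
    by_contra hgx
    exact hne (germ_eq_zero_of_smul_eq_zero F x hxA g
      ((mem_basicOpen_iff_notMem_primeIdealOf hA' x hxA g).2 hgx) s₁ hg)
  have hIp : (Submodule.span Γ(X, A) ({s₁} : Set Γ(F, A))).annihilator ≤
      (hA'.primeIdealOf ⟨x, hxA⟩).asIdeal := fun g hg =>
    hIle g ((Submodule.mem_annihilator_span_singleton s₁ g).1 hg)
  obtain ⟨p', hp'min, hp'le⟩ := Ideal.exists_minimalPrimes_le hIp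
  haveI : Module.Finite Γ(X, A) (Submodule.span Γ(X, A) ({s₁} : Set Γ(F, A))) :=
    Module.Finite.span_singleton Γ(X, A) s₁
  have hp'N : p' ∈ associatedPrimes Γ(X, A) (Submodule.span Γ(X, A) ({s₁} : Set Γ(F, A))) :=
    Module.associatedPrimes.minimalPrimes_annihilator_subset_associatedPrimes Γ(X, A)
      (Submodule.span Γ(X, A) ({s₁} : Set Γ(F, A))) hp'min
  have hp'M : p' ∈ associatedPrimes Γ(X, A) Γ(F, A) :=
    associatedPrimes.subset_of_injective
      (f := (Submodule.span Γ(X, A) ({s₁} : Set Γ(F, A))).subtype)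
      (Submodule.injective_subtype _) hp'N
  have hp'prime : p'.IsPrime := hp'min.1.1
  have hx'A0 : hA'.fromSpec (⟨p', hp'prime⟩ : PrimeSpectrum Γ(X, A)) ∈ A := by
    have : hA'.fromSpec (⟨p', hp'prime⟩ : PrimeSpectrum Γ(X, A)) ∈ hA'.fromSpec.opensRange :=
      ⟨_, rfl⟩
    rwa [hA'.opensRange_fromSpec] at this
  obtain ⟨x', hx'⟩ : ∃ x' : X, x' = hA'.fromSpec (⟨p', hp'prime⟩ : PrimeSpectrum Γ(X, A)) :=
    ⟨_, rfl⟩
  have hx'A : x' ∈ A := hx' ▸ hx'A0
  have hprime : hA'.primeIdealOf ⟨x', hx'A⟩ = ⟨p', hp'prime⟩ := by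
    subst hx'
    exact primeIdealOf_fromSpec' hA' _ _
  have hspec : x' ⤳ x := (specializes_iff_primeIdealOf_le hA' ⟨x', hx'A⟩ ⟨x, hxA⟩).2
    (by rw [hprime]; exact hp'le)
  have hx'T : x' ∈ (T.1 : Set X) := by
    by_contra hx'T
    have hx'AT : x' ∈ A ⊓ T.U := ⟨hx'A, hx'T⟩
    have h0 : F.presheaf.germ A x' hx'A s₁ = 0 := by
      rw [← TopCat.Presheaf.germ_res_apply F.presheaf
        (homOfLE (inf_le_left : A ⊓ T.U ≤ A)) x' hx'AT s₁, hs₁T, map_zero]
    obtain ⟨g, hg1, hg2⟩ := exists_smul_eq_zero_of_germ_eq_zero F hA' x' hx'A s₁ h0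
    have hgI : g ∈ (Submodule.span Γ(X, A) ({s₁} : Set Γ(F, A))).annihilator :=
      (Submodule.mem_annihilator_span_singleton s₁ g).2 hg2
    have hgp' : g ∈ p' := hp'min.1.2 hgI
    have h3 := (mem_basicOpen_iff_notMem_primeIdealOf hA' x' hx'A g).1 hg1
    rw [hprime] at h3
    exact h3 hgp'
  have hass : Curv2.IsAssPoint F x' :=
    isAssPoint_of_isAssociatedPrime F hA' ⟨x', hx'A⟩ (by rw [hprime]; exact hp'M)
  exact h x' hspec (T.2 hx'T) hass

/-- **Z-purity at a point via associated points.** -/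
theorem isZPureAt_iff_forall_not_isAssPoint (hZ : StableUnderSpecialization Z) (x : X) :
    ZClos.IsZPureAt Z F x ↔ ∀ x' : X, x' ⤳ x → x' ∈ Z → ¬ Curv2.IsAssPoint F x' :=
  ⟨fun hp x' h1 h2 => not_isAssPoint_of_isZPureAt Z F hZ x hp x' h1 h2,
    isZPureAt_of_forall_not_isAssPoint Z F x⟩

/-- **Z-purity at a point via depth** (coherent case). -/
theorem isZPureAt_iff_depth [SheafOfModules.IsFiniteType (R := X.ringCatSheaf) F]
    (hZ : StableUnderSpecialization Z) (x : X) :
    ZClos.IsZPureAt Z F x ↔ ∀ x' : X, x' ⤳ x → x' ∈ Z →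
      (1 : ℕ∞) ≤ LocCoh.depth (X.presheaf.stalk x') (F.presheaf.stalk x') := by
  have key : ∀ x' : X, (1 : ℕ∞) ≤ LocCoh.depth (X.presheaf.stalk x') (F.presheaf.stalk x') ↔
      ¬ Curv2.IsAssPoint F x' := by
    intro x'
    haveI : Module.Finite (X.presheaf.stalk x') (F.presheaf.stalk x') :=
      finite_stalk_of_isFiniteType F x'
    exact one_le_depth_iff _ _
  rw [isZPureAt_iff_forall_not_isAssPoint Z F hZ x]
  constructor
  · intro h x' h1 h2
    exact (key x').2 (h x' h1 h2)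
  · intro h x' h1 h2
    exact (key x').1 (h x' h1 h2)

/-- a quasi-coherent module with no associated point in `Z` is Z-pure. -/
theorem isZPure_of_ass_disjoint (hass : ∀ x ∈ AssSch.Ass F, x ∉ Z) : ZClos.IsZPure Z F := by
  unfold ZClos.IsZPure
  rw [mono_iff_stalk_injective]
  intro x
  exact isZPureAt_of_forall_not_isAssPoint Z F x (fun x' _ hx'Z hx'ass => hass x' hx'ass hx'Z)

end Groth.Agent.Lead.ZClos1
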