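import Mathlib
import Groth.Prelude
import Groth.Agent.Lib.Lead.ZClos7
import Groth.Agent.Lib.Helper13.Qcqs
import Groth.Agent.Lib.Helper13.FinAffine2

/-!
# Coherence of `i_*(F|X∖T)` from coherence of the Z-closure; codimension of `Z` in the closures of
the associated points; `(S₂)` for the `Z^(2)`-closure (lead)
-/

set_option autoImplicit false
set_option linter.style.haveILetI false
set_option linter.unusedSectionVars false

universe u

open CategoryTheory CategoryTheory.Limits AlgebraicGeometry TopologicalSpace Opposite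
open IsLocalRing LocCoh Groth.Agent.Lead.Depth
open Groth.Agent.Helper13.QCoh Groth.Agent.Helper13.FinType Groth.Agent.Helper13.QCohLoc
  Groth.Agent.Helper13.LocFree Groth.Agent.Helper13.FlatOver
open Groth.Agent.Lead.EmbPts Groth.Agent.Lead.IsoDepth

namespace Groth.Agent.Lead.ZClos1

variable {X : Scheme.{u}}

/-- the linear map induced on stalks by a morphism of modules. -/
noncomputable def stalkLin {F G : X.Modules} (φ : F ⟶ G) (x : X) :
    F.presheaf.stalk x →ₗ[X.presheaf.stalk x] G.presheaf.stalk x where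
  toFun := stalkMap φ x
  map_add' a b := map_add _ a b
  map_smul' r m := stalkMap_smul φ x r m

theorem stalkLin_apply {F G : X.Modules} (φ : F ⟶ G) (x : X) (m : F.presheaf.stalk x) :
    stalkLin φ x m = stalkMap φ x m := rfl

variable [IsLocallyNoetherian X] (Z : Set X) (F : X.Modules)

/-- for a Z-pure module the colimit injections `i_*(F|X∖T) ⟶ H⁰_{X/Z}(F)` are monomorphisms. -/
theorem mono_colimit_ι (hF : ZClos.IsZPure Z F) (T : ZClos.Cl Z) :
    Mono (colimit.ι ((ZClos.diagram Z).obj F) T) := by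
  rw [mono_iff_injective_compact]
  intro V hV
  have key : ∀ a₀ : Γ(F, T.U.ι ''ᵁ T.U.ι ⁻¹ᵁ V), injV Z F T V a₀ = 0 → a₀ = 0 := by
    intro a₀ ha₀
    obtain ⟨t, ht⟩ : ∃ t : Γ(F, V ⊓ T.U),
        t = F.presheaf.map (homOfLE (le_of_eq (img_eq Z T V).symm)).op a₀ := ⟨_, rfl⟩
    have hat : F.presheaf.map (homOfLE (le_of_eq (img_eq Z T V))).op t = a₀ := by
      rw [ht, map_map_eq F _ _ (𝟙 _) a₀, map_id_apply' F _ a₀]
    have hσ : σ Z F T V t = 0 := by
      rw [σ_apply, hat]
      exact ha₀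
    obtain ⟨T', hTT', h1⟩ := exists_of_σ_eq_zero Z F V hV T t hσ
    have h2 : t = 0 := injective_transition Z F hF hTT' V hV (h1.trans (map_zero _).symm)
    rw [← hat, h2, map_zero]
  refine (injective_iff_map_eq_zero
    ((colimit.ι ((ZClos.diagram Z).obj F) T).app V).hom).2 ?_
  intro a ha
  exact key a ha

/-- **Coherence of the direct images** `i_*(F|X∖T)` when the Z-closure is coherent and `F` has no
associated point in `Z`. -/
theorem isCoh_resPush (hF : Coh.IsCoh F) (hass : ∀ x ∈ AssSch.Ass F, x ∉ Z)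
    (hH : Coh.IsCoh ((ZClos.H0 Z).obj F)) (T : ZClos.Cl Z) :
    Coh.IsCoh ((ZClos.resPush T.U).obj F) := by
  obtain ⟨hqc, hft⟩ := hF
  haveI : F.IsQuasicoherent := hqc
  obtain ⟨hHqc, hHft⟩ := hH
  haveI : ((ZClos.H0 Z).obj F).IsQuasicoherent := hHqc
  haveI : SheafOfModules.IsFiniteType (R := X.ringCatSheaf) ((ZClos.H0 Z).obj F) := hHft
  have hpure : ZClos.IsZPure Z F := isZPure_of_ass_disjoint Z F hass
  haveI hmono : Mono (colimit.ι ((ZClos.diagram Z).obj F) T) := mono_colimit_ι Z F hpure T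
  haveI hGqc : ((ZClos.resPush T.U).obj F).IsQuasicoherent :=
    Groth.Agent.Helper13.Qcqs.isQuasicoherent_pushforward_of_qcqs T.U.ι
      ((Scheme.Modules.restrictFunctor T.U.ι).obj F)
  refine ⟨hGqc, ?_⟩
  apply isFiniteType_of_finite_sections ((ZClos.resPush T.U).obj F)
  intro x
  obtain ⟨_, ⟨U, hU, rfl⟩, hxU, -⟩ :=
    X.isBasis_affineOpens.exists_subset_of_mem_open (Set.mem_univ x) isOpen_univ
  have hU' : IsAffineOpen U := hU
  haveI : IsNoetherianRing Γ(X, U) := IsLocallyNoetherian.component_noetherian ⟨U, hU'⟩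
  haveI : Module.Finite Γ(X, U) Γ((ZClos.H0 Z).obj F, U) :=
    finite_sections_of_isFiniteType ((ZClos.H0 Z).obj F) hU'
  refine ⟨U, hxU, hU', ?_⟩
  haveI : _root_.IsNoetherian Γ(X, U) Γ((ZClos.H0 Z).obj F, U) :=
    isNoetherian_of_isNoetherianRing_of_finite Γ(X, U) Γ((ZClos.H0 Z).obj F, U)
  let f : Γ((ZClos.resPush T.U).obj F, U) →ₗ[Γ(X, U)] Γ((ZClos.H0 Z).obj F, U) :=
    appLinearMap (colimit.ι ((ZClos.diagram Z).obj F) T) U
  exact Module.Finite.of_injective f
    (injective_app_of_mono (colimit.ι ((ZClos.diagram Z).obj F) T) U)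

/-- an associated point of `F` outside `Z` is an associated point of the Z-closure. -/
theorem isAssPoint_H0_of_not_mem (x : X) (hxZ : x ∉ Z) (hx : Curv2.IsAssPoint F x) :
    Curv2.IsAssPoint ((ZClos.H0 Z).obj F) x := by
  have hbij := isZClosedAt_of_not_mem Z F x hxZ
  obtain ⟨hpr, m, hm⟩ :=
    (isAssociatedPrime_iff (R := X.presheaf.stalk x) (M := F.presheaf.stalk x)).mp hx
  refine (isAssociatedPrime_iff (R := X.presheaf.stalk x)
    (M := ((ZClos.H0 Z).obj F).presheaf.stalk x)).mpr ⟨hpr, ZClos.rhoStalk Z F x m, ?_⟩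
  ext r
  have hlin : ZClos.rhoStalk Z F x (r • m) = r • ZClos.rhoStalk Z F x m :=
    stalkMap_smul (ZClos.rhoApp Z F) x r m
  have hr : r ∈ maximalIdeal (X.presheaf.stalk x) ↔ r • m = 0 := by
    rw [hm, Submodule.mem_colon_singleton, Submodule.mem_bot]
  rw [Submodule.mem_colon_singleton, Submodule.mem_bot, hr]
  constructor
  · intro h0
    rw [← hlin, h0]
    exact map_zero _
  · intro h0
    apply hbij.1
    refine hlin.trans (h0.trans ?_)
    exact (map_zero _).symm

/-- affine-local form of the codimension estimate. -/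
theorem two_le_dim_quot_aux (G : X.Modules) [G.IsQuasicoherent]
    [SheafOfModules.IsFiniteType (R := X.ringCatSheaf) G]
    {V : X.Opens} (hV : IsAffineOpen V) [IsNoetherianRing Γ(X, V)] (x y : V)
    (h : (x : X) ⤳ (y : X)) (hass : Curv2.IsAssPoint G (x : X))
    (hdepth : (2 : ℕ∞) ≤ LocCoh.depth (X.presheaf.stalk (y : X)) (G.presheaf.stalk (y : X))) :
    (2 : WithBot ℕ∞) ≤ ringKrullDim (X.presheaf.stalk (y : X) ⧸
      (maximalIdeal (X.presheaf.stalk (x : X))).comap (X.presheaf.stalkSpecializes h).hom) := by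
  haveI hlocy : IsLocalization.AtPrime (X.presheaf.stalk (y : X)) (hV.primeIdealOf y).asIdeal :=
    hV.isLocalization_stalk y
  have h1 : (hV.primeIdealOf x).asIdeal ∈ associatedPrimes Γ(X, V) Γ(G, V) := by
    have h0 := comap_mem_associatedPrimes_sections G hV x _ hass
    rw [comap_maximalIdeal_stalk hV x] at h0
    exact h0
  have hle := (specializes_iff_primeIdealOf_le hV x y).1 h
  obtain ⟨h2, h3⟩ := map_mem_associatedPrimes_stalk G hV y _ h1 hle
  haveI : Module.Finite (X.presheaf.stalk (y : X)) (G.presheaf.stalk (y : X)) :=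
    finite_stalk_of_isFiniteType G (y : X)
  have h4 := depth_le_ringKrullDim_quotient_of_mem_associatedPrimes
    (G.presheaf.stalk (y : X)) _ h2
  have hq' : Ideal.comap (algebraMap Γ(X, V) (X.presheaf.stalk (y : X)))
      ((maximalIdeal (X.presheaf.stalk (x : X))).comap (X.presheaf.stalkSpecializes h).hom) =
      (hV.primeIdealOf x).asIdeal := by
    rw [← comap_maximalIdeal_stalk hV x]
    ext r
    rw [Ideal.mem_comap, Ideal.mem_comap, Ideal.mem_comap]
    have e : (X.presheaf.stalkSpecializes h).hom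
        (algebraMap Γ(X, V) (X.presheaf.stalk (y : X)) r) =
        algebraMap Γ(X, V) (X.presheaf.stalk (x : X)) r :=
      congr($(TopCat.Presheaf.germ_stalkSpecializes X.presheaf y.2 h) r)
    rw [e]
  have heq : (maximalIdeal (X.presheaf.stalk (x : X))).comap
      (X.presheaf.stalkSpecializes h).hom =
      Ideal.map (algebraMap Γ(X, V) (X.presheaf.stalk (y : X))) (hV.primeIdealOf x).asIdeal := by
    rw [← hq']
    exact (IsLocalization.map_under (hV.primeIdealOf y).asIdeal.primeCompl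
      (X.presheaf.stalk (y : X)) _).symm
  rw [heq]
  exact le_trans (WithBot.coe_le_coe.2 hdepth) h4

/-- **Codimension estimate**: for an associated point `x ∉ Z` of `F` and a specialization `y ∈ Z`,
`dim O_{X,y}/p_x ≥ 2` provided the stalk of the (coherent) Z-closure at `y` has depth `≥ 2`. -/
theorem two_le_dim_quot (hH : Coh.IsCoh ((ZClos.H0 Z).obj F))
    (x : X) (hx : x ∈ AssSch.Ass F) (hxZ : x ∉ Z) (y : X) (h : x ⤳ y)
    (hdepth : (2 : ℕ∞) ≤ LocCoh.depth (X.presheaf.stalk y)
      (((ZClos.H0 Z).obj F).presheaf.stalk y)) :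
    (2 : WithBot ℕ∞) ≤ ringKrullDim (X.presheaf.stalk y ⧸
      (maximalIdeal (X.presheaf.stalk x)).comap (X.presheaf.stalkSpecializes h).hom) := by
  obtain ⟨hHqc, hHft⟩ := hH
  haveI : ((ZClos.H0 Z).obj F).IsQuasicoherent := hHqc
  haveI : SheafOfModules.IsFiniteType (R := X.ringCatSheaf) ((ZClos.H0 Z).obj F) := hHft
  have hassG := isAssPoint_H0_of_not_mem Z F x hxZ hx
  obtain ⟨_, ⟨V, hV, rfl⟩, hyV, -⟩ :=
    X.isBasis_affineOpens.exists_subset_of_mem_open (Set.mem_univ y) isOpen_univ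
  have hV' : IsAffineOpen V := hV
  haveI : IsNoetherianRing Γ(X, V) := IsLocallyNoetherian.component_noetherian ⟨V, hV'⟩
  have hxV : x ∈ V := h.mem_open V.isOpen hyV
  exact two_le_dim_quot_aux ((ZClos.H0 Z).obj F) hV' ⟨x, hxV⟩ ⟨y, hyV⟩ h hassG hdepth

/-- the set of points whose local ring has dimension at least `n` is stable under specialization. -/
theorem stable_dimGe (X : Scheme.{u}) (n : ℕ) : StableUnderSpecialization (ZClos.dimGe X n) := by
  intro x y hxy hx
  have hx' : (n : WithBot ℕ∞) ≤ ringKrullDim (X.presheaf.stalk x) := hx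
  change (n : WithBot ℕ∞) ≤ ringKrullDim (X.presheaf.stalk y)
  rw [ringKrullDim_stalk_eq_coheight] at hx' ⊢
  have hle : y ≤ x := hxy
  exact hx'.trans (WithBot.coe_le_coe.2 (Order.coheight_anti hle))

theorem le_zero_of_not_two_le {d : WithBot ℕ∞} (h2 : ¬ (2 : WithBot ℕ∞) ≤ d) (h1 : d ≠ 1) :
    d ≤ 0 := by
  induction d using WithBot.recBotCoe with
  | bot => exact bot_le
  | coe n =>
    induction n using ENat.recTopCoe with
    | top => exact absurd (WithBot.coe_le_coe.2 le_top) h2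
    | coe k =>
      have hk2 : ¬ 2 ≤ k := fun h => h2 (WithBot.coe_le_coe.2 (by exact_mod_cast h))
      have hk1 : k ≠ 1 := fun h => h1 (by subst h; rfl)
      have hk0 : k = 0 := by omega
      subst hk0
      exact le_of_eq rfl

/-- **(S₂) for the `Z^(2)`-closure.** -/
theorem s2_H0 (hF : Coh.IsCoh F)
    (hass : ∀ x ∈ AssSch.Ass F, ringKrullDim (X.presheaf.stalk x) ≠ 1)
    (hdepth : ∀ y ∈ ZClos.dimGe X 2, (2 : ℕ∞) ≤ LocCoh.depth (X.presheaf.stalk y)
      (((ZClos.H0 (ZClos.dimGe X 2)).obj F).presheaf.stalk y)) (x : X) :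
    min (2 : WithBot ℕ∞) (Module.supportDim (X.presheaf.stalk x)
        (((ZClos.H0 (ZClos.dimGe X 2)).obj F).presheaf.stalk x)) ≤
      ((LocCoh.depth (X.presheaf.stalk x)
        (((ZClos.H0 (ZClos.dimGe X 2)).obj F).presheaf.stalk x) : ℕ∞) : WithBot ℕ∞) := by
  obtain ⟨hqc, hft⟩ := hF
  haveI : F.IsQuasicoherent := hqc
  haveI : SheafOfModules.IsFiniteType (R := X.ringCatSheaf) F := hft
  by_cases hxZ : x ∈ ZClos.dimGe X 2
  · exact (min_le_left _ _).trans (WithBot.coe_le_coe.2 (hdepth x hxZ))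
  · have hbij := isZClosedAt_of_not_mem (ZClos.dimGe X 2) F x hxZ
    let e : F.presheaf.stalk x ≃ₗ[X.presheaf.stalk x]
        ((ZClos.H0 (ZClos.dimGe X 2)).obj F).presheaf.stalk x :=
      LinearEquiv.ofBijective (stalkLin (ZClos.rhoApp (ZClos.dimGe X 2) F) x) hbij
    rw [← depth_congr e, ← Module.supportDim_eq_of_equiv e]
    haveI : Module.Finite (X.presheaf.stalk x) (F.presheaf.stalk x) :=
      finite_stalk_of_isFiniteType F x
    have hsd : Module.supportDim (X.presheaf.stalk x) (F.presheaf.stalk x) ≤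
        ringKrullDim (X.presheaf.stalk x) := Module.supportDim_le_ringKrullDim _ _
    have hx2 : ¬ (2 : WithBot ℕ∞) ≤ ringKrullDim (X.presheaf.stalk x) := hxZ
    by_cases h1 : ringKrullDim (X.presheaf.stalk x) = 1
    · have hnass : ¬ Curv2.IsAssPoint F x := fun ha => hass x ha h1
      have hd1 : (1 : ℕ∞) ≤ LocCoh.depth (X.presheaf.stalk x) (F.presheaf.stalk x) :=
        (one_le_depth_iff _ _).2 hnass
      refine (min_le_right _ _).trans (hsd.trans ?_)
      rw [h1]
      exact_mod_cast hd1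
    · have h0 := le_zero_of_not_two_le hx2 h1
      refine (min_le_right _ _).trans (hsd.trans (h0.trans ?_))
      exact_mod_cast (zero_le : (0 : ℕ∞) ≤ LocCoh.depth (X.presheaf.stalk x) (F.presheaf.stalk x))

end Groth.Agent.Lead.ZClos1
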