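import Mathlib
import Groth.Prelude
import Groth.Agent.Lib.Lead.ZClos8
import Groth.Agent.Lib.Helper6.QcohLocal

/-!
# Filtered colimits of quasi-coherent modules on a locally Noetherian scheme are quasi-coherent;
the Z-closure of a quasi-coherent module is quasi-coherent (lead)
-/

set_option autoImplicit false
set_option linter.style.haveILetI false
set_option linter.unusedSectionVars false

universe u

open CategoryTheory CategoryTheory.Limits AlgebraicGeometry TopologicalSpace Opposite
open Groth.Agent.Helper13.QCoh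

namespace Groth.Agent.Lead.ZClos1

variable {X : Scheme.{u}} [IsLocallyNoetherian X]

section Colim

variable {J : Type u} [SmallCategory J] [IsFiltered J] (D : J ⥤ X.Modules)

/-- sections of a filtered colimit over a quasi-compact open come from some stage. -/
theorem exists_rep_colim (V : X.Opens) (hV : IsCompact (V : Set X)) (s : Γ(colimit D, V)) :
    ∃ (j : J) (a : Γ(D.obj j, V)), (colimit.ι D j).app V a = s := by
  haveI := preservesColimit_secF D V hV (qSep V)
  have hc := isColimitOfPreserves (secF V) (colimit.isColimit D)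
  obtain ⟨j, a, ha⟩ := Concrete.isColimit_exists_rep (D ⋙ secF V) hc s
  exact ⟨j, a, ha⟩

/-- a section killed in the filtered colimit is killed at some later stage. -/
theorem exists_of_colim_eq_zero (V : X.Opens) (hV : IsCompact (V : Set X)) (j : J)
    (a : Γ(D.obj j, V)) (h : (colimit.ι D j).app V a = 0) :
    ∃ (j' : J) (f : j ⟶ j'), (D.map f).app V a = 0 := by
  haveI := preservesColimit_secF D V hV (qSep V)
  have hc := isColimitOfPreserves (secF V) (colimit.isColimit D)
  have h0 : ((secF V).mapCocone (colimit.cocone D)).ι.app j a =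
      ((secF V).mapCocone (colimit.cocone D)).ι.app j (0 : Γ(D.obj j, V)) := by
    have h1 : ((secF V).mapCocone (colimit.cocone D)).ι.app j a = (colimit.ι D j).app V a := rfl
    rw [h1, h]
    exact (map_zero ((colimit.ι D j).app V).hom).symm
  obtain ⟨j', f, g, hfg⟩ := Concrete.isColimit_exists_of_rep_eq (D ⋙ secF V) hc a
    (0 : Γ(D.obj j, V)) h0
  refine ⟨j', f, ?_⟩
  have h3 : (D ⋙ secF V).map g (0 : Γ(D.obj j, V)) = 0 :=
    map_zero ((D ⋙ secF V).map g).hom
  rw [h3] at hfg
  exact hfg

/-- the colimit injections are compatible with the transition maps, on sections. -/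
theorem colimit_w_app {j j' : J} (f : j ⟶ j') (V : X.Opens) (a : Γ(D.obj j, V)) :
    (colimit.ι D j').app V ((D.map f).app V a) = (colimit.ι D j).app V a := by
  have hw := colimit.w D f
  exact congrArg (fun ψ : D.obj j ⟶ colimit D => ψ.app V a) hw

/-- **A filtered colimit of quasi-coherent modules on a locally Noetherian scheme is
quasi-coherent.** -/
theorem isQuasicoherent_colimit (hD : ∀ j, (D.obj j).IsQuasicoherent) :
    (colimit D).IsQuasicoherent := by
  refine Groth.Agent.Helper6.QcohLocal.isQuasicoherent_of_affineOpens (colimit D)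
    (fun V : X.affineOpens => V.1) (fun V => V.2) (fun y => ?_) ?_ ?_
  · obtain ⟨_, ⟨V, hV, rfl⟩, hyV, -⟩ := X.isBasis_affineOpens.exists_subset_of_mem_open
      (Set.mem_univ y) isOpen_univ
    exact ⟨⟨V, hV⟩, hyV⟩
  · rintro V r W U' rfl hW rfl s
    have hV : IsAffineOpen V.1 := V.2
    have hWc : IsCompact ((X.basicOpen r : X.Opens) : Set X) := (hV.basicOpen r).isCompact
    obtain ⟨j, a, rfl⟩ := exists_rep_colim D (X.basicOpen r) hWc s
    haveI := hD j
    obtain ⟨n, t₁, ht₁⟩ := exists_pow_smul_eq_res (D.obj j) hV r a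
    refine ⟨n, (colimit.ι D j).app V.1 t₁, ?_⟩
    refine Eq.trans ?_ (app_map (colimit.ι D j) hW t₁)
    have ht₁' : (D.obj j).presheaf.map (homOfLE hW).op t₁ =
        (X.presheaf.map (homOfLE hW).op r) ^ n • a := ht₁
    rw [ht₁']
    exact (Scheme.Modules.Hom.app_smul (colimit.ι D j) _ a).symm
  · rintro V r W U' rfl hW rfl t ht
    have hV : IsAffineOpen V.1 := V.2
    have hVc : IsCompact ((V.1 : X.Opens) : Set X) := hV.isCompact
    have hWc : IsCompact ((X.basicOpen r : X.Opens) : Set X) := (hV.basicOpen r).isCompact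
    obtain ⟨j, a, rfl⟩ := exists_rep_colim D V.1 hVc t
    have h1 : (colimit.ι D j).app (X.basicOpen r)
        ((D.obj j).presheaf.map (homOfLE hW).op a) = 0 :=
      (app_map (colimit.ι D j) hW a).trans ht
    obtain ⟨j', f, hf⟩ := exists_of_colim_eq_zero D (X.basicOpen r) hWc j _ h1
    haveI := hD j'
    have h2 : (D.obj j').presheaf.map (homOfLE (X.basicOpen_le r)).op ((D.map f).app V.1 a) = 0 :=
      (app_map (D.map f) hW a).symm.trans hf
    obtain ⟨n, hn⟩ := exists_pow_smul_eq_zero (D.obj j') hV r _ h2
    refine ⟨n, ?_⟩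
    have h3 : (X.presheaf.map (homOfLE (Eq.le (rfl : V.1 = V.1))).op r) = r := by
      have : (homOfLE (Eq.le (rfl : V.1 = V.1))).op = 𝟙 (op V.1) := rfl
      rw [this, X.presheaf.map_id]
      rfl
    rw [h3, ← colimit_w_app D f V.1 a, ← Scheme.Modules.Hom.app_smul, hn, map_zero]

end Colim

/-- **The Z-closure of a quasi-coherent module is quasi-coherent.** -/
theorem isQuasicoherent_H0 (Z : Set X) (F : X.Modules) [F.IsQuasicoherent] :
    ((ZClos.H0 Z).obj F).IsQuasicoherent := by
  have h : ∀ T : ZClos.Cl Z, (((ZClos.diagram Z).obj F).obj T).IsQuasicoherent := fun T =>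
    Groth.Agent.Helper13.Qcqs.isQuasicoherent_pushforward_of_qcqs T.U.ι
      ((Scheme.Modules.restrictFunctor T.U.ι).obj F)
  exact isQuasicoherent_colimit ((ZClos.diagram Z).obj F) h

end Groth.Agent.Lead.ZClos1
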