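import Mathlib

/-!
# Polynomial lemmas for the asymptotic Riemann–Roch statement (S7649). Mathlib only.
-/

set_option autoImplicit false
universe u

open Polynomial

namespace Groth.Agent.Lead.AsympPoly

/-- (G) a polynomial of degree `≤ d` differs from its degree-`d` term by `O((n+1)^(d-1))`. -/
theorem exists_bound_of_natDegree_le (Q : ℚ[X]) (d : ℕ) (hQ : Q.natDegree ≤ d) :
    ∃ C : ℚ, ∀ n : ℕ, |Q.eval (n : ℚ) - Q.coeff d * (n : ℚ) ^ d| ≤ C * ((n : ℚ) + 1) ^ (d - 1) := by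
  refine ⟨∑ j ∈ Finset.range d, |Q.coeff j|, fun n => ?_⟩
  have h1 : Q.eval (n : ℚ) = ∑ i ∈ Finset.range (d + 1), Q.coeff i * (n : ℚ) ^ i :=
    Polynomial.eval_eq_sum_range' (Nat.lt_succ_of_le hQ) _
  rw [h1, Finset.sum_range_succ, add_sub_cancel_right, Finset.sum_mul]
  refine (Finset.abs_sum_le_sum_abs _ _).trans (Finset.sum_le_sum fun j hj => ?_)
  rw [abs_mul]
  have hj' : j ≤ d - 1 := by
    have := Finset.mem_range.mp hj
    omega
  have hn0 : (0 : ℚ) ≤ (n : ℚ) := Nat.cast_nonneg n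
  have h2 : |(n : ℚ) ^ j| ≤ ((n : ℚ) + 1) ^ (d - 1) := by
    rw [abs_of_nonneg (pow_nonneg hn0 j)]
    calc (n : ℚ) ^ j ≤ ((n : ℚ) + 1) ^ j := pow_le_pow_left₀ hn0 (by linarith) j
      _ ≤ ((n : ℚ) + 1) ^ (d - 1) := pow_le_pow_right₀ (by linarith) hj'
  exact mul_le_mul_of_nonneg_left h2 (abs_nonneg _)

end Groth.Agent.Lead.AsympPoly
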