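import Mathlib
import Groth.Prelude.Def_CurvBase
import Groth.Agent.Lib.Lead.EulerK0
import Groth.Agent.Lib.Lead.EffDeg
import Groth.Agent.Lib.Lead.DegTensor
import Groth.Agent.Lib.Lead.IntNumDimOne
import Groth.Agent.Lib.Lead.KerFree2
import Groth.Agent.Lib.Helper13.CurveGen1
import Groth.Agent.Lib.Helper13.PbInv
import Groth.Agent.Lib.Helper13.QCohStalk
import Groth.Agent.Lib.Helper13.PushFinite
import Groth.Agent.Lib.Helper13.QCohPush

/-!
# Birational invariance of the degree in dimension `≤ 1` (lead)

`deg_pullback_birational`: for `f : X' ⟶ X` proper over `k`, of dimension `≤ 1`, an isomorphism over a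
dense open `U` with dense preimage, `deg (f^* E) = deg E`.
-/

set_option autoImplicit false
universe u
open CategoryTheory CategoryTheory.Limits AlgebraicGeometry Opposite TopologicalSpace

namespace Groth.Agent.Lead.BiratDeg

open Groth.Agent.Lead.EulerK0 Groth.Agent.Lead.EffDeg Groth.Agent.Lead.DegTensor
open Groth.Agent.Lead.IntNumDimOne
open Groth.Agent.Helper13.QCoh

section Sections

variable {X X' : Scheme.{u}} (f : X' ⟶ X) (U : X.Opens)

theorem isIso_app_of_le [IsIso (f ∣_ U)] (W : X.Opens) (hW : W ≤ U) : IsIso (f.app W) := by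
  have h1 : IsIso (f.app (U.ι ''ᵁ (U.ι ⁻¹ᵁ W))) := by
    have hiso : IsIso ((f ∣_ U).app (U.ι ⁻¹ᵁ W)) := inferInstance
    have hb : IsIso (X'.presheaf.map
        (eqToHom (image_morphismRestrict_preimage f U (U.ι ⁻¹ᵁ W))).op) := inferInstance
    rw [morphismRestrict_app f U (U.ι ⁻¹ᵁ W)] at hiso
    exact @IsIso.of_isIso_comp_right _ _ _ _ _ _ _ hb hiso
  have e : U.ι ''ᵁ (U.ι ⁻¹ᵁ W) = W := by
    rw [Scheme.Hom.image_preimage_eq_opensRange_inf, Scheme.Opens.opensRange_ι]
    exact inf_eq_right.2 hW
  exact e ▸ h1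

theorem app_bijective_of_le [IsIso (f ∣_ U)] (W : X.Opens) (hW : W ≤ U) :
    Function.Bijective (f.app W).hom := by
  haveI := isIso_app_of_le f U W hW
  exact ConcreteCategory.bijective_of_isIso (f.app W)

/-- the unit `O_X ⟶ f_* O_X'` is bijective on stalks at the points of `U`. -/
theorem stalkMap_unit_bijective [IsIso (f ∣_ U)] (x : X) (hx : x ∈ U) :
    Function.Bijective (stalkMap (ClSub.unitToPush f) x) := by
  constructor
  · rw [injective_iff_map_eq_zero]
    intro t ht
    obtain ⟨W, hxW, s, rfl⟩ := TopCat.Presheaf.exists_germ_eq (Coh.structureModule X).presheaf t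
    rw [stalkMap_germ] at ht
    -- the germ of `f.app W s` vanishes
    have h0 : ((Scheme.Modules.pushforward f).obj (Coh.structureModule X')).presheaf.germ W x hxW
        ((ClSub.unitToPush f).app W s) =
        ((Scheme.Modules.pushforward f).obj (Coh.structureModule X')).presheaf.germ W x hxW 0 := by
      rw [ht, map_zero]
    obtain ⟨W', hxW', i₁, i₂, heq⟩ := TopCat.Presheaf.germ_eq
      ((Scheme.Modules.pushforward f).obj (Coh.structureModule X')).presheaf x hxW hxW _ _ h0
    -- shrink into `U`
    let W'' : X.Opens := W' ⊓ U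
    have hxW'' : x ∈ W'' := ⟨hxW', hx⟩
    let j : W'' ⟶ W := homOfLE (inf_le_left.trans i₁.le)
    have h1 : (ClSub.unitToPush f).app W'' ((Coh.structureModule X).presheaf.map j.op s) = 0 := by
      have hn : ((Scheme.Modules.pushforward f).obj (Coh.structureModule X')).presheaf.map j.op
          ((ClSub.unitToPush f).app W s) =
          (ClSub.unitToPush f).app W'' ((Coh.structureModule X).presheaf.map j.op s) := by
        have := (ClSub.unitToPush f).mapPresheaf.naturality j.op
        exact (congrArg (fun ψ' => ψ' s) this).symm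
      have h2 : ((Scheme.Modules.pushforward f).obj (Coh.structureModule X')).presheaf.map j.op
          ((ClSub.unitToPush f).app W s) = 0 := by
        have hj : j = homOfLE (inf_le_left : W'' ≤ W') ≫ i₁ := rfl
        rw [hj, op_comp, Functor.map_comp]
        change ((Scheme.Modules.pushforward f).obj (Coh.structureModule X')).presheaf.map
          (homOfLE (inf_le_left : W'' ≤ W')).op
          (((Scheme.Modules.pushforward f).obj (Coh.structureModule X')).presheaf.map i₁.op
            ((ClSub.unitToPush f).app W s)) = 0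
        rw [heq]
        rw [map_zero, map_zero]
      exact hn.symm.trans h2
    have h3 : (Coh.structureModule X).presheaf.map j.op s = 0 :=
      (app_bijective_of_le f U W'' inf_le_right).1 (h1.trans (map_zero _).symm)
    have h4 := TopCat.Presheaf.germ_res_apply (Coh.structureModule X).presheaf j x hxW'' s
    rw [← h4, h3, map_zero]
  · intro t
    obtain ⟨W, hxW, a, rfl⟩ := TopCat.Presheaf.exists_germ_eq
      ((Scheme.Modules.pushforward f).obj (Coh.structureModule X')).presheaf t
    let W'' : X.Opens := W ⊓ U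
    have hxW'' : x ∈ W'' := ⟨hxW, hx⟩
    let j : W'' ⟶ W := homOfLE inf_le_left
    obtain ⟨s, hs⟩ := (app_bijective_of_le f U W'' inf_le_right).2
      (((Scheme.Modules.pushforward f).obj (Coh.structureModule X')).presheaf.map j.op a)
    refine ⟨(Coh.structureModule X).presheaf.germ W'' x hxW'' s, ?_⟩
    rw [stalkMap_germ]
    have h4 := TopCat.Presheaf.germ_res_apply
      ((Scheme.Modules.pushforward f).obj (Coh.structureModule X')).presheaf j x hxW'' a
    rw [← h4]
    exact congrArg _ hs

end Sections

section Supports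

variable {X : Scheme.{u}} {M N : X.Modules} (u : M ⟶ N)

theorem notMem_support_kernel (x : X) (h : Function.Injective (stalkMap u x)) :
    x ∉ CohB1.support (kernel u) := by
  intro hx
  apply hx
  refine ⟨fun a b => ?_⟩
  have hinj : Function.Injective (stalkMap (kernel.ι u) x) :=
    (mono_iff_stalk_injective (kernel.ι u)).1 inferInstance x
  have key : ∀ q : (kernel u : X.Modules).presheaf.stalk x, q = 0 := by
    intro q
    apply hinj
    apply h
    rw [← Groth.Agent.Helper13.PbInv.stalkMap_comp, kernel.condition,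
      Groth.Agent.Helper13.PbInv.stalkMap_zero, map_zero, map_zero]
  rw [key a, key b]

end Supports

section Main

variable (k : Type u) [Field k] {X : Scheme.{u}} [X.Over (Spec (CommRingCat.of k))]
  [IsProper (X ↘ Spec (CommRingCat.of k))]

/-- `χ(M ⊗ E) − n χ(M)` only depends on `M` up to kernels and cokernels of dimension `≤ 0`. -/
theorem psi_eq_of_small_ker_coker (n : ℕ) (E : X.Modules) (hE : FlatMod.IsFinLocFreeOfRank n E)
    {M N : X.Modules} (hM : Coh.IsCoh M) (hN : Coh.IsCoh N) (u : M ⟶ N)
    (hK : topologicalKrullDim ↥(CohB1.support (kernel u)) ≤ 0)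
    (hC : topologicalKrullDim ↥(CohB1.support (cokernel u)) ≤ 0) :
    Curv2.euler k X (CohB1.tensorMod M E) - n * Curv2.euler k X M =
      Curv2.euler k X (CohB1.tensorMod N E) - n * Curv2.euler k X N := by
  haveI : IsNoetherian X := isNoetherian_of_proper' k X
  haveI := hM.1
  haveI := hM.2
  haveI := hN.1
  haveI := hN.2
  have cK : Coh.IsCoh (kernel u) := Groth.Agent.Lead.KerFree.isCoh_kernel hM hN u
  have cC : Coh.IsCoh (cokernel u) :=
    ⟨Groth.Agent.Helper13.QCohLocal.isQuasicoherent_cokernel u,
      Groth.Agent.Helper13.FinType.isFiniteType_of_epi (cokernel.π u)⟩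
  haveI := cC.1
  have cI : Coh.IsCoh (Abelian.image u) :=
    ⟨Groth.Agent.Helper13.QCohLocal.isQuasicoherent_kernel (cokernel.π u),
      Groth.Agent.Helper13.FinType.isFiniteType_of_epi (Abelian.factorThruImage u)⟩
  -- the two short exact sequences
  let S₂ : ShortComplex X.Modules :=
    ShortComplex.mk (Abelian.image.ι u) (cokernel.π u) (kernel.condition _)
  have hS₂ : S₂.ShortExact :=
    { exact := ShortComplex.exact_kernel (cokernel.π u)
      mono_f := inferInstanceAs (Mono (kernel.ι (cokernel.π u)))
      epi_g := inferInstanceAs (Epi (cokernel.π u)) }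
  have w : kernel.ι u ≫ Abelian.factorThruImage u = 0 := by
    rw [← cancel_mono (Abelian.image.ι u), Category.assoc, Abelian.image.fac, kernel.condition,
      zero_comp]
  let S₁ : ShortComplex X.Modules :=
    ShortComplex.mk (kernel.ι u) (Abelian.factorThruImage u) w
  let S₁' : ShortComplex X.Modules := ShortComplex.mk (kernel.ι u) u (kernel.condition u)
  let φ : S₁ ⟶ S₁' :=
    { τ₁ := 𝟙 _
      τ₂ := 𝟙 _
      τ₃ := Abelian.image.ι u
      comm₁₂ := by simp [S₁, S₁']
      comm₂₃ := by
        change 𝟙 _ ≫ u = Abelian.factorThruImage u ≫ Abelian.image.ι u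
        rw [Abelian.image.fac, Category.id_comp] }
  have hS₁ : S₁.ShortExact :=
    { exact := by
        haveI : Epi φ.τ₁ := inferInstanceAs (Epi (𝟙 _))
        haveI : IsIso φ.τ₂ := inferInstanceAs (IsIso (𝟙 _))
        haveI : Mono φ.τ₃ := inferInstanceAs (Mono (Abelian.image.ι u))
        exact (ShortComplex.exact_iff_of_epi_of_isIso_of_mono φ).2
          (ShortComplex.exact_kernel u)
      mono_f := inferInstanceAs (Mono (kernel.ι u))
      epi_g := inferInstanceAs (Epi (Abelian.factorThruImage u)) }
  -- additivity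
  have a₁ := Groth.Agent.Helper13.EulerAdd.euler_additive k S₁ hS₁ cK hM cI
  have a₂ := Groth.Agent.Helper13.EulerAdd.euler_additive k S₂ hS₂ cI hN cC
  have b₁ := euler_tensorSC k E n hE S₁ hS₁ cK hM cI
  have b₂ := euler_tensorSC k E n hE S₂ hS₂ cI hN cC
  have zK := euler_tensor_right k E n hE (kernel u) cK hK
  have zC := euler_tensor_right k E n hE (cokernel u) cC hC
  change Curv2.euler k X M = Curv2.euler k X (kernel u) + Curv2.euler k X (Abelian.image u) at a₁
  change Curv2.euler k X N = Curv2.euler k X (Abelian.image u) + Curv2.euler k X (cokernel u) at a₂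
  change Curv2.euler k X (CohB1.tensorMod M E) = Curv2.euler k X (CohB1.tensorMod (kernel u) E) +
    Curv2.euler k X (CohB1.tensorMod (Abelian.image u) E) at b₁
  change Curv2.euler k X (CohB1.tensorMod N E) =
    Curv2.euler k X (CohB1.tensorMod (Abelian.image u) E) +
    Curv2.euler k X (CohB1.tensorMod (cokernel u) E) at b₂
  rw [a₁, a₂, b₁, b₂, zK, zC]
  ring

end Main

section Finite

variable {X X' : Scheme.{u}} (f : X' ⟶ X) (U : X.Opens)

theorem subsingleton_preimage_inter [IsIso (f ∣_ U)] (x : X) :
    ((f ⁻¹' {x}) ∩ ((f ⁻¹ᵁ U : X'.Opens) : Set X')).Subsingleton := by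
  rintro a ⟨ha, haU⟩ b ⟨hb, hbU⟩
  have hinj : Function.Injective (f ∣_ U) := (f ∣_ U).isOpenEmbedding.injective
  have h1 : (f ∣_ U) ⟨a, haU⟩ = (f ∣_ U) ⟨b, hbU⟩ := by
    apply Subtype.ext
    rw [morphismRestrict_base_coe, morphismRestrict_base_coe]
    exact (ha : f a = x).trans (hb : f b = x).symm
  exact congrArg Subtype.val (hinj h1)

theorem finite_preimage_singleton [IsIso (f ∣_ U)] [IsNoetherian X']
    (hdim' : topologicalKrullDim X' ≤ 1) (hU' : Dense ((f ⁻¹ᵁ U : X'.Opens) : Set X')) (x : X) :
    (f ⁻¹' {x}).Finite := by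
  have hfin : (((f ⁻¹ᵁ U : X'.Opens) : Set X')ᶜ).Finite :=
    Groth.Agent.Helper13.DiscSupp.finite_of_closed_points _
      (f ⁻¹ᵁ U).isOpen.isClosed_compl
      (fun y hy => Groth.Agent.Helper13.CurveGen.isClosed_singleton_of_notMem_dense hdim'
        (f ⁻¹ᵁ U) hU' y hy)
  refine ((subsingleton_preimage_inter f U x).finite.union hfin).subset ?_
  intro a ha
  by_cases haU : a ∈ ((f ⁻¹ᵁ U : X'.Opens) : Set X')
  · exact Or.inl ⟨ha, haU⟩
  · exact Or.inr haU

end Finite

section Birational

variable (k : Type u) [Field k] {X X' : Scheme.{u}} [X.Over (Spec (CommRingCat.of k))]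
  [X'.Over (Spec (CommRingCat.of k))] [IsProper (X ↘ Spec (CommRingCat.of k))]
  [IsProper (X' ↘ Spec (CommRingCat.of k))]

theorem deg_pullback_birational (hdim : topologicalKrullDim X ≤ 1)
    (hdim' : topologicalKrullDim X' ≤ 1) (f : X' ⟶ X)
    (hf : f ≫ (X ↘ Spec (CommRingCat.of k)) = X' ↘ Spec (CommRingCat.of k))
    (U : X.Opens) (hU : Dense (U : Set X)) (hU' : Dense ((f ⁻¹ᵁ U : X'.Opens) : Set X'))
    (hfU : IsIso (f ∣_ U)) (n : ℕ) (E : X.Modules) (hE : FlatMod.IsFinLocFreeOfRank n E) :
    Curv2.deg k X' ((Scheme.Modules.pullback f).obj E) n = Curv2.deg k X E n := by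
  haveI : IsNoetherian X := isNoetherian_of_proper' k X
  haveI : IsNoetherian X' := isNoetherian_of_proper' k X'
  haveI := hfU
  -- `f` is finite
  haveI : IsProper f := by
    haveI : IsProper (f ≫ (X ↘ Spec (CommRingCat.of k))) := by
      rw [hf]
      infer_instance
    exact IsProper.of_comp f (X ↘ Spec (CommRingCat.of k))
  haveI : LocallyQuasiFinite f :=
    LocallyQuasiFinite.of_finite_preimage_singleton f
      (fun x => finite_preimage_singleton f U hdim' hU' x)
  haveI : IsFinite f := IsFinite.of_isProper_of_locallyQuasiFinite f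
  -- coherence of `f_* O`
  have hO : Coh.IsCoh (Coh.structureModule X) := isCoh_structureModule
  have hO' : Coh.IsCoh (Coh.structureModule X') := isCoh_structureModule
  haveI := hO'.1
  haveI := hO'.2
  have hA : Coh.IsCoh ((Scheme.Modules.pushforward f).obj (Coh.structureModule X')) :=
    ⟨Groth.Agent.Helper13.QCohPush.isQuasicoherent_pushforward f _,
      (Groth.Agent.Helper13.PushFinite.isFiniteType_pushforward_iff f _).1 inferInstance⟩
  haveI := hO.1
  haveI := hO.2
  haveI := hA.1
  haveI := hA.2
  -- supports of the kernel and cokernel of the unit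
  have hcl : ∀ y ∈ ((U : Set X)ᶜ), IsClosed ({y} : Set X) := fun y hy =>
    Groth.Agent.Helper13.CurveGen.isClosed_singleton_of_notMem_dense hdim U hU y hy
  have hUc : topologicalKrullDim ↥((U : Set X)ᶜ) ≤ 0 :=
    dim_le_zero_of_forall_isClosed _ U.isOpen.isClosed_compl hcl
  have hK : topologicalKrullDim ↥(CohB1.support (kernel (ClSub.unitToPush f))) ≤ 0 := by
    refine (Groth.Agent.Helper13.DimLemma.dim_subset_le ?_).trans hUc
    intro y hy hyU
    exact notMem_support_kernel (ClSub.unitToPush f) y
      (stalkMap_unit_bijective f U y hyU).1 hy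
  have hC : topologicalKrullDim ↥(CohB1.support (cokernel (ClSub.unitToPush f))) ≤ 0 := by
    refine (Groth.Agent.Helper13.DimLemma.dim_subset_le ?_).trans hUc
    intro y hy hyU
    exact (Groth.Agent.Helper13.PbInv.stalkMap_surjective_iff_notMem_support
      (ClSub.unitToPush f) y).1 (stalkMap_unit_bijective f U y hyU).2 hy
  have key := psi_eq_of_small_ker_coker k n E hE hO hA (ClSub.unitToPush f) hK hC
  -- translate to `X'`
  have e1 := euler_finite_tensor_rank k f hf n E hE
  have e2 := euler_push' k f hf (Coh.structureModule X')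
  have hEc : Coh.IsCoh E := isCoh_of_iso (Groth.Agent.Helper13.Tensor.rid E)
    (Groth.Agent.Helper13.K0Tensor.isCoh_tensor E n hE _ hO)
  have e3 := euler_iso k (Groth.Agent.Helper13.Tensor.lid E) (isCoh_tensor_right E n hE _ hO) hEc
  unfold Curv2.deg
  rw [← e1, ← e2, ← key, e3]

end Birational

end Groth.Agent.Lead.BiratDeg
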