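import Mathlib
import Groth.Agent.Lib.Helper3.UFDCartier2

/-!
# Principal ideals in factorial localizations from local data at the associated primes (lead)
-/

set_option autoImplicit false
universe u
open IsLocalRing

namespace Groth.Agent.Lead.CartExt

/-- a localization of a unique factorization domain which is a domain is a unique factorization
domain. -/
theorem ufd_of_isLocalization' {R : Type*} [CommRing R] [IsDomain R] [UniqueFactorizationMonoid R]
    (M : Submonoid R) (S : Type*) [CommRing S] [IsDomain S] [Algebra R S] [IsLocalization M S] :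
    UniqueFactorizationMonoid S := by
  rw [UniqueFactorizationMonoid.iff_exists_prime_mem_of_isPrime]
  intro Q hQ0 hQ
  have hP : (Q.comap (algebraMap R S)).IsPrime := Ideal.comap_isPrime _ _
  have hmc : Ideal.map (algebraMap R S) (Q.comap (algebraMap R S)) = Q :=
    IsLocalization.map_comap M S Q
  have hP0 : Q.comap (algebraMap R S) ≠ ⊥ := by
    intro h
    apply hQ0
    rw [← hmc, h, Ideal.map_bot]
  obtain ⟨p, hpP, hp⟩ :=
    (UniqueFactorizationMonoid.iff_exists_prime_mem_of_isPrime.1 inferInstance) _ hP0 hP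
  have hpQ : algebraMap R S p ∈ Q := hpP
  refine ⟨algebraMap R S p, hpQ, ?_⟩
  have hdisj : Disjoint (M : Set R) ↑(Ideal.span {p}) := by
    rw [Set.disjoint_left]
    intro m hm hmp
    have hle : Ideal.span {p} ≤ Q.comap (algebraMap R S) :=
      (Ideal.span_singleton_le_iff_mem _).2 hpP
    have hmQ : algebraMap R S m ∈ Q := hle hmp
    exact hQ.ne_top (Ideal.eq_top_of_isUnit_mem _ hmQ (IsLocalization.map_units S ⟨m, hm⟩))
  have hprime := IsLocalization.isPrime_of_isPrime_disjoint M S (Ideal.span {p})
    ((Ideal.span_singleton_prime hp.ne_zero).2 hp) hdisj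
  rw [Ideal.map_span, Set.image_singleton] at hprime
  have h0 : algebraMap R S p ≠ 0 := by
    intro h
    obtain ⟨m, hm⟩ := (IsLocalization.map_eq_zero_iff M S p).1 h
    rcases mul_eq_zero.1 hm with h1 | h1
    · have hu := IsLocalization.map_units S m
      rw [h1, map_zero] at hu
      exact not_isUnit_zero hu
    · exact hp.ne_zero h1
  exact (Ideal.span_singleton_prime h0).1 hprime

/-- associated primes of `R/IR` contract to associated primes of `A/I` for a localization `R`
of a Noetherian ring `A`. -/
theorem comap_mem_associatedPrimes_quotient {A R : Type u} [CommRing A] [IsNoetherianRing A]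
    [CommRing R] [Algebra A R] (S : Submonoid A) [IsLocalization S R] (I : Ideal A) (P : Ideal R)
    (hP : P ∈ associatedPrimes R (R ⧸ I.map (algebraMap A R))) :
    P.comap (algebraMap A R) ∈ associatedPrimes A (A ⧸ I) := by
  haveI : IsNoetherianRing R := IsLocalization.isNoetherianRing S R inferInstance
  have hPprime : P.IsPrime := hP.isPrime
  obtain ⟨-, m, hm⟩ := (isAssociatedPrime_iff (M := R ⧸ I.map (algebraMap A R))).1 hP
  obtain ⟨r, rfl⟩ := Ideal.Quotient.mk_surjective m
  have hPr : ∀ t : R, t ∈ P ↔ t * r ∈ I.map (algebraMap A R) := by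
    intro t
    rw [hm, Submodule.mem_colon_singleton, Submodule.mem_bot]
    have : t • (Ideal.Quotient.mk (I.map (algebraMap A R)) r) =
        Ideal.Quotient.mk (I.map (algebraMap A R)) (t * r) := by
      rw [map_mul]
      rfl
    rw [this, Ideal.Quotient.eq_zero_iff_mem]
  obtain ⟨⟨a, s⟩, has⟩ := IsLocalization.surj S r
  -- `r * s = a`
  have hPa : ∀ t : A, t ∈ P.comap (algebraMap A R) ↔ ∃ s' ∈ S, s' * (t * a) ∈ I := by
    intro t
    rw [Ideal.mem_comap, hPr, ← IsLocalization.algebraMap_mem_map_algebraMap_iff S R, map_mul,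
      ← has]
    have hu : IsUnit (algebraMap A R s) := IsLocalization.map_units R s
    rw [← mul_assoc, Ideal.mul_unit_mem_iff_mem _ hu]
  -- choose a maximal colon ideal
  let F : Set (Ideal A) := {K | ∃ s' ∈ S, K = (I.colon {s' * a} : Ideal A)}
  have hFne : F.Nonempty := ⟨_, 1, S.one_mem, rfl⟩
  obtain ⟨K, ⟨s₀, hs₀, rfl⟩, hKmax⟩ := set_has_maximal_iff_noetherian.2 inferInstance F hFne
  have hcolon : ∀ (c t : A), t ∈ (I.colon {c} : Ideal A) ↔ t * c ∈ I := by
    intro c t
    rw [Submodule.mem_colon_singleton]
    rfl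
  have hq : P.comap (algebraMap A R) = (I.colon {s₀ * a} : Ideal A) := by
    ext t
    rw [hPa, hcolon]
    constructor
    · rintro ⟨s', hs', h⟩
      have hle : (I.colon {s₀ * a} : Ideal A) ≤ I.colon {(s' * s₀) * a} := by
        intro x hx
        rw [hcolon] at hx ⊢
        have : x * (s' * s₀ * a) = s' * (x * (s₀ * a)) := by ring
        rw [this]
        exact I.mul_mem_left _ hx
      have hmem : (I.colon {(s' * s₀) * a} : Ideal A) ∈ F := ⟨s' * s₀, S.mul_mem hs' hs₀, rfl⟩
      have heq : (I.colon {s₀ * a} : Ideal A) = I.colon {(s' * s₀) * a} := by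
        by_contra hne
        exact hKmax _ hmem (lt_of_le_of_ne hle hne)
      rw [← hcolon, heq, hcolon]
      have : t * (s' * s₀ * a) = s₀ * (s' * (t * a)) := by ring
      rw [this]
      exact I.mul_mem_left _ h
    · intro h
      refine ⟨s₀, hs₀, ?_⟩
      have : s₀ * (t * a) = t * (s₀ * a) := by ring
      rw [this]
      exact h
  haveI : (P.comap (algebraMap A R)).IsPrime := Ideal.comap_isPrime _ _
  refine (isAssociatedPrime_iff (M := A ⧸ I)).2 ⟨inferInstance, Ideal.Quotient.mk I (s₀ * a), ?_⟩
  rw [hq]
  ext t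
  rw [hcolon, Submodule.mem_colon_singleton, Submodule.mem_bot]
  have : t • (Ideal.Quotient.mk I (s₀ * a)) = Ideal.Quotient.mk I (t * (s₀ * a)) := by
    rw [map_mul]
    rfl
  rw [this, Ideal.Quotient.eq_zero_iff_mem]

/-- in a Noetherian factorial domain, an associated prime `P` of `R/J` at which `J` becomes
principal has height one. -/
theorem height_eq_one_of_mem_associatedPrimes {R : Type u} [CommRing R] [IsDomain R]
    [IsNoetherianRing R] [UniqueFactorizationMonoid R] (J P : Ideal R) [hPp : P.IsPrime]
    (hP : P ∈ associatedPrimes R (R ⧸ J))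
    (T : Type u) [CommRing T] [Algebra R T] [IsLocalization.AtPrime T P]
    (g : T) (hg : g ≠ 0) (hJ : J.map (algebraMap R T) = Ideal.span {g}) : P.height = 1 := by
  classical
  haveI : IsDomain T := IsLocalization.isDomain_of_atPrime T P
  haveI : IsLocalRing T := IsLocalization.AtPrime.isLocalRing T P
  haveI : IsNoetherianRing T := IsLocalization.isNoetherianRing P.primeCompl T inferInstance
  haveI : UniqueFactorizationMonoid T := ufd_of_isLocalization' P.primeCompl T
  obtain ⟨-, m, hm⟩ := (isAssociatedPrime_iff (M := R ⧸ J)).1 hP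
  obtain ⟨r, rfl⟩ := Ideal.Quotient.mk_surjective m
  have hPr : ∀ t : R, t ∈ P ↔ t * r ∈ J := by
    intro t
    rw [hm, Submodule.mem_colon_singleton, Submodule.mem_bot]
    have : t • (Ideal.Quotient.mk J r) = Ideal.Quotient.mk J (t * r) := by
      rw [map_mul]
      rfl
    rw [this, Ideal.Quotient.eq_zero_iff_mem]
  have hb : algebraMap R T r ∉ Ideal.span {g} := by
    rw [← hJ, IsLocalization.algebraMap_mem_map_algebraMap_iff P.primeCompl]
    rintro ⟨s, hs, hsr⟩
    exact hs ((hPr s).2 hsr)
  have hmb : ∀ t ∈ maximalIdeal T, t * algebraMap R T r ∈ Ideal.span {g} := by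
    intro t ht
    obtain ⟨⟨t₀, s⟩, hts⟩ := IsLocalization.surj P.primeCompl t
    have ht₀ : t₀ ∈ P := by
      have h1 : algebraMap R T t₀ ∈ maximalIdeal T := by
        rw [← hts]
        exact Ideal.mul_mem_right _ _ ht
      have h2 : Ideal.comap (algebraMap R T) (maximalIdeal T) = P :=
        IsLocalization.AtPrime.comap_maximalIdeal T P
      rw [← Ideal.mem_comap, h2] at h1
      exact h1
    have h1 : algebraMap R T (t₀ * r) ∈ Ideal.span {g} := by
      rw [← hJ]
      exact Ideal.mem_map_of_mem _ ((hPr t₀).1 ht₀)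
    have h2 : t * algebraMap R T r * algebraMap R T s ∈ Ideal.span {g} := by
      have : t * algebraMap R T r * algebraMap R T s = algebraMap R T (t₀ * r) := by
        rw [map_mul, ← hts]
        ring
      rw [this]
      exact h1
    exact (Ideal.mul_unit_mem_iff_mem _ (IsLocalization.map_units T s)).1 h2
  letI := UniqueFactorizationMonoid.toGCDMonoid T
  obtain ⟨d, g', b', hgg', hbb', hu⟩ : ∃ d g' b' : T, g = d * g' ∧ algebraMap R T r = d * b' ∧
      IsUnit (gcd g' b') := by
    obtain ⟨g', b', h1, h2, h3⟩ := extract_gcd g (algebraMap R T r)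
    exact ⟨_, g', b', h1, h2, h3⟩
  have hd : d ≠ 0 := by
    intro h
    apply hg
    rw [hgg', h, zero_mul]
  have hg'0 : g' ≠ 0 := by
    intro h
    apply hg
    rw [hgg', h, mul_zero]
  have hrel : IsRelPrime g' b' := gcd_isUnit_iff_isRelPrime.1 hu
  have hg'nu : ¬ IsUnit g' := by
    intro hu'
    apply hb
    rw [Ideal.mem_span_singleton]
    obtain ⟨v, hv⟩ := hu'
    refine ⟨↑v⁻¹ * b', ?_⟩
    rw [hbb', hgg', ← hv, mul_assoc, ← mul_assoc (v : T), Units.mul_inv, one_mul]
  have hle : maximalIdeal T ≤ Ideal.span {g'} := by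
    intro t ht
    have h1 := hmb t ht
    rw [Ideal.mem_span_singleton] at h1 ⊢
    rw [hgg', hbb'] at h1
    have h2 : g' ∣ t * b' := by
      have h3 : d * g' ∣ d * (t * b') := by
        have : d * (t * b') = t * (d * b') := by ring
        rw [this]
        exact h1
      exact (mul_dvd_mul_iff_left hd).1 h3
    exact hrel.dvd_of_dvd_mul_right h2
  have hmeq : maximalIdeal T = Ideal.span {g'} :=
    le_antisymm hle ((Ideal.span_singleton_le_iff_mem _).2 ((IsLocalRing.mem_maximalIdeal _).2 hg'nu))
  have h1 : (maximalIdeal T).height ≤ 1 := by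
    haveI : (Ideal.span {g'}).IsPrincipal := ⟨⟨g', rfl⟩⟩
    apply Ideal.height_le_one_of_isPrincipal_of_mem_minimalPrimes (Ideal.span {g'})
    rw [← hmeq, Ideal.minimalPrimes_eq_subsingleton_self]
    rfl
  have h2 : (maximalIdeal T).height ≠ 0 := by
    rw [Ne, Ideal.height_eq_zero_iff_eq_bot, hmeq, Ideal.span_singleton_eq_bot]
    exact hg'0
  have h3 : (maximalIdeal T).height = 1 := le_antisymm h1 (ENat.one_le_iff_ne_zero.2 h2)
  have h4 : (maximalIdeal T).under R = P := IsLocalization.AtPrime.under_maximalIdeal T P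
  rw [← h4, IsLocalization.height_under P.primeCompl]
  exact h3

/-- **Local-to-global principality**: `A` Noetherian, `R = A_p` a factorial domain, and `I` an
ideal of `A` which is principal (generated by a nonzero element) at every associated prime of
`A/I`; then `I R` is principal, generated by a nonzero element. -/
theorem exists_generator_of_local {A R : Type u} [CommRing A] [IsNoetherianRing A] [CommRing R]
    [Algebra A R] (p : Ideal A) [p.IsPrime] [IsLocalization.AtPrime R p] [IsDomain R]
    [UniqueFactorizationMonoid R] (I : Ideal A)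
    (H : ∀ (q : Ideal A) [q.IsPrime], q ∈ associatedPrimes A (A ⧸ I) →
      ∀ (T : Type u) [CommRing T] [Algebra A T] [IsLocalization.AtPrime T q],
        ∃ g : T, g ≠ 0 ∧ I.map (algebraMap A T) = Ideal.span {g}) :
    ∃ g : R, g ≠ 0 ∧ I.map (algebraMap A R) = Ideal.span {g} := by
  haveI : IsNoetherianRing R := IsLocalization.isNoetherianRing p.primeCompl R inferInstance
  apply Groth.Agent.Helper3.UFDCartier2.principal_of_ass_height_one
  intro P hP
  haveI hPprime : P.IsPrime := hP.isPrime
  have hq := comap_mem_associatedPrimes_quotient p.primeCompl I P hP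
  haveI : (P.comap (algebraMap A R)).IsPrime := Ideal.comap_isPrime _ _
  haveI : IsLocalization.AtPrime (Localization.AtPrime P) (P.comap (algebraMap A R)) :=
    IsLocalization.isLocalization_isLocalization_atPrime_isLocalization p.primeCompl _ P
  obtain ⟨g, hg, hIg⟩ := H (P.comap (algebraMap A R)) hq (Localization.AtPrime P)
  refine height_eq_one_of_mem_associatedPrimes (I.map (algebraMap A R)) P hP
    (Localization.AtPrime P) g hg ?_
  rw [Ideal.map_map, ← hIg, ← IsScalarTower.algebraMap_eq A R (Localization.AtPrime P)]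

end Groth.Agent.Lead.CartExt
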