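import Groth.Agent.Lib.Lead.CartExt1
import Groth.Agent.Lib.Helper13.EffCartierPartA
import Groth.Agent.Lib.Helper13.WeakAss
import Groth.Agent.S1570

/-!
# Effective Cartier divisors extend from an open with factorial local rings outside (lead)
-/

set_option autoImplicit false
universe u
open CategoryTheory CategoryTheory.Limits AlgebraicGeometry Opposite TopologicalSpace
open IsLocalRing

namespace Groth.Agent.Lead.CartExt

variable {X : Scheme.{u}} [IsLocallyNoetherian X] (U : X.Opens)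
  (D : (U : Scheme.{u}).IdealSheafData)

theorem le_comap_map : D ≤ (D.map U.ι).comap U.ι := by
  rw [Scheme.IdealSheafData.le_def]
  intro W a ha
  have H : IsAffineOpen (U.ι ⁻¹ᵁ (U.ι ''ᵁ W.1)) := by
    rw [Scheme.Hom.preimage_image_eq]
    exact W.2
  rw [Scheme.IdealSheafData.ideal_comap_of_isOpenImmersion, Ideal.mem_comap,
    Scheme.IdealSheafData.ideal_map D U.ι ⟨U.ι ''ᵁ W.1, W.2.image_of_isOpenImmersion U.ι⟩ H,
    Ideal.mem_comap]
  have hle : (⟨U.ι ⁻¹ᵁ (U.ι ''ᵁ W.1), H⟩ : (U : Scheme.{u}).affineOpens) ≤ W :=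
    (Scheme.Hom.preimage_image_eq U.ι W.1).le
  have h1 := D.ideal_le_comap_ideal hle ha
  rw [Ideal.mem_comap] at h1
  have h3 := congr($(U.ι.appIso_inv_app W.1) a)
  rw [CommRingCat.comp_apply] at h3
  rw [h3]
  exact h1

theorem comap_map_eq : (D.map U.ι).comap U.ι = D :=
  le_antisymm (Scheme.IdealSheafData.comap_map_le D U.ι) (le_comap_map U D)

/-- at the points of `U`, the scheme-theoretic closure of an effective Cartier divisor on `U` is
generated by one nonzerodivisor in the local ring. -/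
theorem exists_stalk_generator_of_mem (hD : BlowUp.IsEffCartierIdeal D) (V : X.affineOpens) (y : X)
    (hyV : y ∈ V.1) (hyU : y ∈ U) :
    ∃ g : X.presheaf.stalk y, g ∈ nonZeroDivisors (X.presheaf.stalk y) ∧
      ((D.map U.ι).ideal V).map (X.presheaf.germ V.1 y hyV).hom = Ideal.span {g} := by
  have hcomap : (D.map U.ι).comap U.ι = D := comap_map_eq U D
  let u : (U : Scheme.{u}) := ⟨y, hyU⟩
  have hu : u ∈ U.ι ⁻¹ᵁ V.1 := hyV
  obtain ⟨W, huW, hWV, t, ht, hDW⟩ :=
    Groth.Agent.Helper13.EffCartier.exists_chart_le hD u (U.ι ⁻¹ᵁ V.1) hu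
  let W' : X.affineOpens := ⟨U.ι ''ᵁ W.1, W.2.image_of_isOpenImmersion U.ι⟩
  have hW'V : W' ≤ V := by
    rintro _ ⟨w, hw, rfl⟩
    exact hWV hw
  have hyW' : y ∈ W'.1 := ⟨u, huW, rfl⟩
  let e := U.ι.appIso W.1
  have h1 : ((D.map U.ι).comap U.ι).ideal W = ((D.map U.ι).ideal W').comap e.inv.hom :=
    Scheme.IdealSheafData.ideal_comap_of_isOpenImmersion (D.map U.ι) U.ι W
  rw [hcomap] at h1
  have h3 : ∀ a : Γ(X, W'.1), e.inv.hom (e.hom.hom a) = a := fun a =>
    congrArg (fun φ => φ a) (CommRingCat.hom_ext_iff.1 e.hom_inv_id)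
  have h4 : ∀ b : Γ((U : Scheme.{u}), W.1), e.hom.hom (e.inv.hom b) = b := fun b =>
    congrArg (fun φ => φ b) (CommRingCat.hom_ext_iff.1 e.inv_hom_id)
  have hmem : ∀ a : Γ(X, W'.1), a ∈ (D.map U.ι).ideal W' ↔ e.hom.hom a ∈ D.ideal W := by
    intro a
    rw [h1, Ideal.mem_comap, h3]
  have hD'W' : (D.map U.ι).ideal W' = Ideal.span {e.inv.hom t} := by
    ext a
    rw [hmem, hDW, Ideal.mem_span_singleton, Ideal.mem_span_singleton]
    constructor
    · rintro ⟨c, hc⟩
      refine ⟨e.inv.hom c, ?_⟩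
      rw [← map_mul, ← hc, h3]
    · rintro ⟨c, hc⟩
      refine ⟨e.hom.hom c, ?_⟩
      rw [hc, map_mul, h4]
  have hinj : Function.Injective e.hom.hom := by
    intro a a' h
    rw [← h3 a, ← h3 a', h]
  have ht' : e.inv.hom t ∈ nonZeroDivisors Γ(X, W'.1) := by
    apply mem_nonZeroDivisors_of_injective hinj
    rw [h4]
    exact ht
  have hres : ((D.map U.ι).ideal V).map (X.presheaf.map (homOfLE hW'V).op).hom =
      (D.map U.ι).ideal W' := (D.map U.ι).map_ideal hW'V
  have hgerm : (X.presheaf.germ V.1 y hyV).hom =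
      (X.presheaf.germ W'.1 y hyW').hom.comp (X.presheaf.map (homOfLE hW'V).op).hom := by
    have h := X.presheaf.germ_res (homOfLE hW'V) y hyW'
    rw [← h]
    rfl
  refine ⟨X.presheaf.germ W'.1 y hyW' (e.inv.hom t), ?_, ?_⟩
  · letI := TopCat.Presheaf.algebra_section_stalk X.presheaf (⟨y, hyW'⟩ : W'.1)
    haveI := W'.2.isLocalization_stalk ⟨y, hyW'⟩
    exact IsLocalization.map_nonZeroDivisors_le (W'.2.primeIdealOf ⟨y, hyW'⟩).asIdeal.primeCompl
      (X.presheaf.stalk y) (Submonoid.mem_map_of_mem _ ht')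
  · rw [hgerm, ← Ideal.map_map, hres, hD'W', Ideal.map_span, Set.image_singleton]

/-- the associated primes of the scheme-theoretic closure lie in `U`. -/
theorem fromSpec_mem_of_mem_associatedPrimes (V : X.affineOpens) (q : Ideal Γ(X, V.1))
    [hqp : q.IsPrime]
    (hq : q ∈ associatedPrimes Γ(X, V.1) (Γ(X, V.1) ⧸ (D.map U.ι).ideal V)) :
    V.2.fromSpec ⟨q, hqp⟩ ∈ U := by
  haveI : IsNoetherianRing Γ(X, V.1) := IsLocallyNoetherian.component_noetherian V
  have hker : (D.map U.ι).ideal V = RingHom.ker ((D.subschemeι ≫ U.ι).app V.1).hom :=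
    Scheme.Hom.ker_apply (D.subschemeι ≫ U.ι) V
  obtain ⟨-, m, hm⟩ := (isAssociatedPrime_iff
    (M := Γ(X, V.1) ⧸ (D.map U.ι).ideal V)).1 hq
  obtain ⟨a, rfl⟩ := Ideal.Quotient.mk_surjective m
  have hqa : ∀ t, t ∈ q ↔ ((D.subschemeι ≫ U.ι).app V.1).hom (t * a) = 0 := by
    intro t
    rw [hm, Submodule.mem_colon_singleton, Submodule.mem_bot]
    have : t • (Ideal.Quotient.mk ((D.map U.ι).ideal V) a) =
        Ideal.Quotient.mk ((D.map U.ι).ideal V) (t * a) := by
      rw [map_mul]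
      rfl
    rw [this, Ideal.Quotient.eq_zero_iff_mem, hker, RingHom.mem_ker]
  have hb : ((D.subschemeι ≫ U.ι).app V.1).hom a ≠ 0 := by
    intro h
    have h1 : (1 : Γ(X, V.1)) ∈ q := (hqa 1).2 (by rw [one_mul]; exact h)
    exact hqp.ne_top ((Ideal.eq_top_iff_one q).2 h1)
  by_contra hy
  apply hb
  apply TopCat.Presheaf.section_ext D.subscheme.sheaf ((D.subschemeι ≫ U.ι) ⁻¹ᵁ V.1)
  intro z hz
  suffices hgoal : D.subscheme.presheaf.germ ((D.subschemeι ≫ U.ι) ⁻¹ᵁ V.1) z hz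
      (((D.subschemeι ≫ U.ι).app V.1).hom a) = 0 from
    hgoal.trans (map_zero (D.subscheme.presheaf.germ ((D.subschemeι ≫ U.ι) ⁻¹ᵁ V.1) z hz).hom).symm
  have hfzU : (D.subschemeι ≫ U.ι) z ∈ U := (D.subschemeι z).2
  have hex : ∃ t ∈ q, (D.subschemeι ≫ U.ι) z ∈ X.basicOpen t := by
    by_contra hcon
    push Not at hcon
    apply hy
    have hle : q ≤ (V.2.primeIdealOf ⟨(D.subschemeι ≫ U.ι) z, hz⟩).asIdeal := by
      intro t ht
      by_contra htn
      exact hcon t ht ((Groth.Agent.Helper13.EffCartier.mem_basicOpen_iff_notMem_primeIdealOf V.2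
        ((D.subschemeι ≫ U.ι) z) hz t).2 htn)
    have hspec : (⟨q, hqp⟩ : PrimeSpectrum Γ(X, V.1)) ⤳
        V.2.primeIdealOf ⟨(D.subschemeι ≫ U.ι) z, hz⟩ :=
      (PrimeSpectrum.le_iff_specializes _ _).1 hle
    have h2 := hspec.map V.2.fromSpec.continuous
    rw [V.2.fromSpec_primeIdealOf ⟨(D.subschemeι ≫ U.ι) z, hz⟩] at h2
    exact h2.mem_open U.isOpen hfzU
  obtain ⟨t, htq, hzt⟩ := hex
  have hzt' : z ∈ D.subscheme.basicOpen (((D.subschemeι ≫ U.ι).app V.1).hom t) := by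
    have h5 : z ∈ (D.subschemeι ≫ U.ι) ⁻¹ᵁ X.basicOpen t := hzt
    rw [Scheme.preimage_basicOpen] at h5
    exact h5
  have hunit := (Scheme.mem_basicOpen _ _ z hz).1 hzt'
  have hmul : D.subscheme.presheaf.germ _ z hz (((D.subschemeι ≫ U.ι).app V.1).hom t) *
      D.subscheme.presheaf.germ _ z hz (((D.subschemeι ≫ U.ι).app V.1).hom a) = 0 := by
    rw [← map_mul, ← map_mul, (hqa t).1 htq, map_zero]
  exact (hunit.mul_right_eq_zero).1 hmul

/-- **Effective Cartier divisors on an open `U` of a locally Noetherian scheme extend to `X` when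
the local rings of `X` outside `U` are factorial.** -/
theorem main (hD : BlowUp.IsEffCartierIdeal D)
    (hufd : ∀ x : X, x ∉ U →
      IsDomain (X.presheaf.stalk x) ∧ UniqueFactorizationMonoid (X.presheaf.stalk x)) :
    ∃ D' : X.IdealSheafData, BlowUp.IsEffCartierIdeal D' ∧ D'.comap U.ι = D := by
  refine ⟨D.map U.ι, ?_, comap_map_eq U D⟩
  apply Groth.Agent.S1570.result X (D.map U.ι)
  intro x _ V hxV
  by_cases hxU : x ∈ U
  · exact exists_stalk_generator_of_mem U D hD V x hxV hxU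
  · obtain ⟨hdom, hufdx⟩ := hufd x hxU
    haveI := hdom
    haveI := hufdx
    haveI : IsNoetherianRing Γ(X, V.1) := IsLocallyNoetherian.component_noetherian V
    letI := TopCat.Presheaf.algebra_section_stalk X.presheaf (⟨x, hxV⟩ : V.1)
    haveI hloc : IsLocalization.AtPrime (X.presheaf.stalk x)
        (V.2.primeIdealOf ⟨x, hxV⟩).asIdeal := V.2.isLocalization_stalk ⟨x, hxV⟩
    obtain ⟨g, hg0, hg⟩ := exists_generator_of_local (R := X.presheaf.stalk x)
      (V.2.primeIdealOf ⟨x, hxV⟩).asIdeal ((D.map U.ι).ideal V) (by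
        intro q hqp hq T _ _ _
        have hyU := fromSpec_mem_of_mem_associatedPrimes U D V q hq
        have hyV : V.2.fromSpec ⟨q, hqp⟩ ∈ V.1 :=
          Groth.Agent.Helper13.WeakAss.fromSpec_mem V.2 ⟨q, hqp⟩
        obtain ⟨g, hg, hIg⟩ := exists_stalk_generator_of_mem U D hD V _ hyV hyU
        letI := TopCat.Presheaf.algebra_section_stalk X.presheaf
          (⟨V.2.fromSpec ⟨q, hqp⟩, hyV⟩ : V.1)
        have hlocy : IsLocalization.AtPrime (X.presheaf.stalk (V.2.fromSpec ⟨q, hqp⟩))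
            (V.2.primeIdealOf ⟨V.2.fromSpec ⟨q, hqp⟩, hyV⟩).asIdeal :=
          V.2.isLocalization_stalk ⟨V.2.fromSpec ⟨q, hqp⟩, hyV⟩
        have hqy : V.2.primeIdealOf ⟨V.2.fromSpec ⟨q, hqp⟩, hyV⟩ = ⟨q, hqp⟩ := by
          apply V.2.fromSpec.isOpenEmbedding.injective
          exact V.2.fromSpec_primeIdealOf ⟨V.2.fromSpec ⟨q, hqp⟩, hyV⟩
        rw [hqy] at hlocy
        haveI : IsLocalization.AtPrime (X.presheaf.stalk (V.2.fromSpec ⟨q, hqp⟩)) q := hlocy
        let ε := IsLocalization.algEquiv q.primeCompl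
          (X.presheaf.stalk (V.2.fromSpec ⟨q, hqp⟩)) T
        refine ⟨ε g, ?_, ?_⟩
        · intro h
          exact nonZeroDivisors.ne_zero hg ((map_eq_zero_iff ε ε.injective).1 h)
        · have h1 : algebraMap Γ(X, V.1) T =
              (ε : X.presheaf.stalk (V.2.fromSpec ⟨q, hqp⟩) →+* T).comp
                (algebraMap Γ(X, V.1) (X.presheaf.stalk (V.2.fromSpec ⟨q, hqp⟩))) := by
            ext a
            exact (ε.commutes a).symm
          have hIg' : ((D.map U.ι).ideal V).map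
              (algebraMap Γ(X, V.1) (X.presheaf.stalk (V.2.fromSpec ⟨q, hqp⟩))) =
              Ideal.span {g} := hIg
          rw [h1, ← Ideal.map_map, hIg', Ideal.map_span, Set.image_singleton]
          rfl)
    exact ⟨g, mem_nonZeroDivisors_of_ne_zero hg0, hg⟩

end Groth.Agent.Lead.CartExt
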