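import Mathlib
import Groth.Agent.Lib.Lead.Hartogs2
import Groth.Agent.Lib.Lead.Depth16
import Groth.Agent.Lib.Lead.Fib2

/-!
# Hartogs for flat quasi-coherent modules (lead)

If `depth O_{X,x} ≥ 2` at the points of an affine open `V` outside `U'`, and `F` is quasi-coherent
with `Γ(V, F)` flat over `Γ(V, O)`, then `Γ(V, F) → Γ(U', F)` is bijective.
-/

set_option autoImplicit false
set_option linter.style.haveILetI false

universe u

open CategoryTheory AlgebraicGeometry Opposite TopologicalSpace LocCoh IsLocalRing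
open Groth.Agent.Helper13.QCoh Groth.Agent.Helper13.FinType Groth.Agent.Helper13.QCohLoc
  Groth.Agent.Helper13.LocFree

namespace Groth.Agent.Lead.FlatHartogs

open Groth.Agent.Lead.Depth RingTheory.Sequence

section Alg

variable {R : Type u} [CommRing R]

/-- regular pair conditions pass to flat modules. -/
theorem regPair_of_flat (N : Type u) [AddCommGroup N] [Module R N] [Module.Flat R N] {x y : R}
    (hx : IsSMulRegular R x) (hy : ∀ r r' : R, y * r = x * r' → ∃ r'', r = x * r'') :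
    IsSMulRegular N x ∧ ∀ n n' : N, y • n = x • n' → ∃ n'', n = x • n'' := by
  constructor
  · intro n₁ n₂ h
    have h0 : x • (n₁ - n₂) = 0 := by
      rw [smul_sub, sub_eq_zero]
      exact h
    have hrel : ∑ i : Fin 1, (fun _ : Fin 1 => x) i • (fun _ : Fin 1 => n₁ - n₂) i = 0 := by
      simpa using h0
    obtain ⟨k, a, z, h1, h2⟩ := Module.Flat.isTrivialRelation_of_sum_smul_eq_zero hrel
    have ha : ∀ j, a 0 j = 0 := fun j => by
      have h3 := h2 j
      simp only [Finset.univ_unique, Finset.sum_singleton] at h3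
      have h4 : x • a default j = x • (0 : R) := by
        rw [smul_zero, smul_eq_mul]
        exact h3
      exact hx h4
    have h5 := h1 0
    simp only [ha, zero_smul, Finset.sum_const_zero] at h5
    exact sub_eq_zero.1 h5
  · intro n n' h
    have hrel : ∑ i : Fin 2, (![y, -x] i) • (![n, n'] i) = 0 := by
      simp [Fin.sum_univ_two, h]
    obtain ⟨k, a, z, h1, h2⟩ := Module.Flat.isTrivialRelation_of_sum_smul_eq_zero hrel
    have hb : ∀ j, ∃ b, a 0 j = x * b := fun j => by
      have h3 := h2 j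
      simp only [Fin.sum_univ_two, Matrix.cons_val_zero, Matrix.cons_val_one] at h3
      exact hy _ (a 1 j) (by linear_combination h3)
    choose b hb using hb
    refine ⟨∑ j, b j • z j, ?_⟩
    have h5 := h1 0
    simp only [Matrix.cons_val_zero] at h5
    rw [h5, Finset.smul_sum]
    refine Finset.sum_congr rfl fun j _ => ?_
    rw [hb j, mul_smul]

/-- abstract Hartogs lemma via a regular pair. -/
theorem bijective_of_regPair {N G : Type*} [AddCommGroup N] [Module R N] [AddCommGroup G]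
    [Module R G] (f : N →ₗ[R] G) {ι : Type*} (a : ι → R)
    (E1 : ∀ (g : G) (i : ι), ∃ (n : ℕ) (m : N), (a i) ^ n • g = f m)
    (E2 : ∀ (m : N) (i : ι), f m = 0 → ∃ n : ℕ, (a i) ^ n • m = 0)
    (E3 : ∀ g : G, (∀ i, ∃ n : ℕ, (a i) ^ n • g = 0) → g = 0)
    (i₀ i₁ : ι) (hx : IsSMulRegular N (a i₀))
    (hy : ∀ n n' : N, a i₁ • n = a i₀ • n' → ∃ n'', n = a i₀ • n'') :
    Function.Bijective f := by
  have hxpow : ∀ (k : ℕ) (m : N), a i₀ ^ k • m = 0 → m = 0 := by
    intro k
    induction k with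
    | zero => intro m h; simpa using h
    | succ k ih =>
      intro m h
      rw [pow_succ, mul_smul] at h
      have h1 := ih _ h
      have h2 : a i₀ • m = a i₀ • (0 : N) := by rw [smul_zero]; exact h1
      exact hx h2
  have hinj : Function.Injective f := by
    rw [injective_iff_map_eq_zero]
    intro m hm
    obtain ⟨k, hk⟩ := E2 m i₀ hm
    exact hxpow k m hk
  refine ⟨hinj, fun g => ?_⟩
  obtain ⟨k, m₁, h1⟩ := E1 g i₀
  obtain ⟨l, m₂, h2⟩ := E1 g i₁
  have hrel : a i₁ ^ l • m₁ = a i₀ ^ k • m₂ := by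
    apply hinj
    rw [map_smul, map_smul, ← h1, ← h2, smul_comm]
  have hsub : ∀ (l : ℕ) (n n' : N), a i₁ ^ l • n = a i₀ • n' → ∃ n'', n = a i₀ • n'' := by
    intro l
    induction l with
    | zero => intro n n' h; exact ⟨n', by simpa using h⟩
    | succ l ih =>
      intro n n' h
      rw [pow_succ', mul_smul] at h
      obtain ⟨n₁, hn₁⟩ := hy _ _ h
      exact ih n n₁ hn₁
  have hmain : ∀ (k : ℕ) (m₁ m₂ : N), a i₁ ^ l • m₁ = a i₀ ^ k • m₂ →
      ∃ m, m₁ = a i₀ ^ k • m := by
    intro k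
    induction k with
    | zero => intro m₁ m₂ _; exact ⟨m₁, by simp⟩
    | succ k ih =>
      intro m₁ m₂ h
      rw [pow_succ', mul_smul] at h
      obtain ⟨m₁', hm₁'⟩ := hsub l m₁ _ h
      have h' : a i₁ ^ l • m₁' = a i₀ ^ k • m₂ := by
        apply hx
        change a i₀ • (a i₁ ^ l • m₁') = a i₀ • (a i₀ ^ k • m₂)
        rw [smul_comm, ← hm₁', h]
      obtain ⟨m, hm⟩ := ih m₁' m₂ h'
      exact ⟨m, by rw [hm₁', hm, pow_succ', mul_smul]⟩
  obtain ⟨m, hm⟩ := hmain k m₁ m₂ hrel
  refine ⟨m, ?_⟩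
  have hk0 : a i₀ ^ k • (g - f m) = 0 := by
    rw [smul_sub, h1, hm, map_smul, sub_self]
  have h0 : g - f m = 0 := by
    apply E3
    intro i
    obtain ⟨n, m', hm'⟩ := E1 (g - f m) i
    refine ⟨n, ?_⟩
    have h3 : f (a i₀ ^ k • m') = 0 := by
      rw [map_smul, ← hm', smul_comm, hk0, smul_zero]
    have hm0 : a i₀ ^ k • m' = 0 := hinj (by rw [h3, map_zero])
    rw [hm', hxpow k m' hm0, map_zero]
  exact (sub_eq_zero.1 h0).symm

/-- a global regular pair inside an ideal all of whose primes have depth at least two. -/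
theorem exists_regPair [IsNoetherianRing R] (I : Ideal R)
    (h : ∀ (p : Ideal R) [p.IsPrime], I ≤ p →
      2 ≤ LocCoh.depth (Localization.AtPrime p) (Localization.AtPrime p)) :
    ∃ x y : R, x ∈ I ∧ y ∈ I ∧ IsSMulRegular R x ∧
      ∀ r r' : R, y * r = x * r' → ∃ r'', r = x * r'' := by
  by_cases hI : I = ⊤
  · refine ⟨1, 1, by rw [hI]; trivial, by rw [hI]; trivial, ?_, ?_⟩
    · intro a b hab
      simpa using hab
    · intro r r' hr
      exact ⟨r, by rw [one_mul]⟩
  have h2 : (2 : ℕ∞) ≤ idealDepth I R := by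
    rw [idealDepth_eq_iInf_depth_localizedModule]
    refine le_iInf₂ fun p hp => ?_
    rw [depth_localizedModule_self]
    exact h p.asIdeal hp
  have htop : I • (⊤ : Submodule R R) ≠ ⊤ := by
    intro hcon
    apply hI
    rw [eq_top_iff]
    intro r _
    have hr : r ∈ I • (⊤ : Submodule R R) := by rw [hcon]; trivial
    refine Submodule.smul_induction_on hr ?_ ?_
    · intro a ha b _
      exact I.mul_mem_right b ha
    · intro a b ha hb
      exact I.add_mem ha hb
  obtain ⟨rs, hlen, hreg, hmem⟩ := exists_of_le_idealDepth I R htop 2 (by exact_mod_cast h2)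
  match rs, hlen, hreg, hmem with
  | [x, y], _, hreg, hmem =>
    rw [isWeaklyRegular_cons_iff] at hreg
    obtain ⟨hx, hy⟩ := hreg
    rw [isWeaklyRegular_cons_iff] at hy
    refine ⟨x, y, hmem x (by simp), hmem y (by simp), hx, ?_⟩
    intro r r' hr
    have hy1 := hy.1
    have h0 : y • (Submodule.Quotient.mk r : QuotSMulTop x R) = y • 0 := by
      rw [smul_zero, ← Submodule.Quotient.mk_smul, Submodule.Quotient.mk_eq_zero, smul_eq_mul, hr]
      exact Submodule.smul_mem_pointwise_smul r' x ⊤ trivial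
    have h1 := hy1 h0
    rw [Submodule.Quotient.mk_eq_zero] at h1
    obtain ⟨r'', -, hr''⟩ := (Submodule.mem_smul_pointwise_iff_exists _ _ _).1 h1
    exact ⟨r'', by rw [← hr'']; rfl⟩

end Alg

section Affine

variable {X : Scheme.{u}} (F : X.Modules) [F.IsQuasicoherent]

/-- affine case of Hartogs for flat quasi-coherent modules. -/
theorem bijective_res_affine_flat (V : X.Opens) (hV : IsAffineOpen V) [IsNoetherianRing Γ(X, V)]
    [Module.Flat Γ(X, V) Γ(F, V)]
    (U' : X.Opens) (hle : U' ≤ V)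
    (hdepth : ∀ (p : Ideal Γ(X, V)) [hp : p.IsPrime], hV.fromSpec ⟨p, hp⟩ ∉ U' →
      2 ≤ LocCoh.depth (Localization.AtPrime p) (Localization.AtPrime p)) :
    Function.Bijective (F.presheaf.map (homOfLE hle).op) := by
  letI modG : Module Γ(X, V) Γ(F, U') :=
    Module.compHom Γ(F, U') (X.presheaf.map (homOfLE hle).op).hom
  have hsmul : ∀ (r : Γ(X, V)) (g : Γ(F, U')),
      r • g = X.presheaf.map (homOfLE hle).op r • g := fun _ _ => rfl
  let f : Γ(F, V) →ₗ[Γ(X, V)] Γ(F, U') :=
    { toFun := fun t => F.presheaf.map (homOfLE hle).op t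
      map_add' := fun a b => map_add _ a b
      map_smul' := fun r t => Scheme.Modules.map_smul F (homOfLE hle) r t }
  have hf : ∀ t, f t = F.presheaf.map (homOfLE hle).op t := fun _ => rfl
  -- compactness of `U'`
  haveI : NoetherianSpace ↥V := noetherianSpace_of_isAffineOpen V hV
  have hcomp : IsCompact (U' : Set X) := by
    have h1 : (U' : Set X) =
        (Subtype.val : ↥V → X) '' ((Subtype.val : ↥V → X) ⁻¹' (U' : Set X)) := by
      ext y
      simp only [SetLike.mem_coe, Set.mem_image, Set.mem_preimage, Subtype.exists,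
        exists_and_left, exists_prop, exists_eq_right_right]
      exact ⟨fun h => ⟨h, hle h⟩, fun h => h.1⟩
    rw [h1]
    exact (NoetherianSpace.isCompact _).image continuous_subtype_val
  -- the basic opens inside `U'` cover `U'`
  have hcover : U' ≤ ⨆ i : {a : Γ(X, V) // X.basicOpen a ≤ U'}, X.basicOpen i.1 := by
    intro x hx
    obtain ⟨b, hb1, hb2⟩ := hV.exists_basicOpen_le (V := U') ⟨x, hx⟩ (hle hx)
    exact Opens.mem_iSup.2 ⟨⟨b, hb1⟩, hb2⟩
  -- restriction and the `Γ(X, V)`-action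
  have hres_smul : ∀ (W : X.Opens) (hW : W ≤ U') (r : Γ(X, V)) (g : Γ(F, U')),
      F.presheaf.map (homOfLE hW).op (r • g) =
        X.presheaf.map (homOfLE (hW.trans hle)).op r • F.presheaf.map (homOfLE hW).op g := by
    intro W hW r g
    rw [hsmul, Scheme.Modules.map_smul F (homOfLE hW)]
    congr 1
    exact res_map_map_eq _ _ _ r
  -- a section of `U'` vanishing on `D(a)` is killed by a power of `a`
  have hkill : ∀ (i : {a : Γ(X, V) // X.basicOpen a ≤ U'}) (h : Γ(F, U')),
      F.presheaf.map (homOfLE i.2).op h = 0 → ∃ n : ℕ, (i.1 ^ n) • h = 0 := by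
    intro i h hh
    have hb : ∀ b : {a : Γ(X, V) // X.basicOpen a ≤ U'}, ∃ n : ℕ, ∀ m, n ≤ m →
        F.presheaf.map (homOfLE b.2).op ((i.1 ^ m) • h) = 0 := by
      intro b
      have hDb : IsAffineOpen (X.basicOpen b.1) := hV.basicOpen b.1
      have hbo : X.basicOpen (X.presheaf.map (homOfLE (X.basicOpen_le b.1)).op i.1) =
          X.basicOpen b.1 ⊓ X.basicOpen i.1 := X.basicOpen_res _ _
      have hle' : X.basicOpen (X.presheaf.map (homOfLE (X.basicOpen_le b.1)).op i.1) ≤
          X.basicOpen i.1 := by rw [hbo]; exact inf_le_right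
      have h0 : F.presheaf.map (homOfLE (X.basicOpen_le
          (X.presheaf.map (homOfLE (X.basicOpen_le b.1)).op i.1))).op
            (F.presheaf.map (homOfLE b.2).op h) = 0 := by
        rw [map_map_eq F _ _ (homOfLE ((X.basicOpen_le
            (X.presheaf.map (homOfLE (X.basicOpen_le b.1)).op i.1)).trans b.2)).op,
          ← map_map_eq F (homOfLE i.2).op (homOfLE hle').op
            (homOfLE ((X.basicOpen_le
              (X.presheaf.map (homOfLE (X.basicOpen_le b.1)).op i.1)).trans b.2)).op, hh, map_zero]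
      obtain ⟨n, hn⟩ := exists_pow_smul_eq_zero F hDb
        (X.presheaf.map (homOfLE (X.basicOpen_le b.1)).op i.1) _ h0
      refine ⟨n, fun m hm => ?_⟩
      rw [hres_smul _ b.2, map_pow]
      change (X.presheaf.map (homOfLE (X.basicOpen_le b.1)).op i.1) ^ m •
        F.presheaf.map (homOfLE b.2).op h = 0
      rw [← Nat.sub_add_cancel hm, pow_add, mul_smul, hn, smul_zero]
    choose n hn using hb
    obtain ⟨t, ht⟩ := hcomp.elim_finite_subcover
      (fun b : {a : Γ(X, V) // X.basicOpen a ≤ U'} => (X.basicOpen b.1 : Set X))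
      (fun b => (X.basicOpen b.1).isOpen) (by
        intro x hx
        have := hcover hx
        rw [Opens.mem_iSup] at this
        obtain ⟨b, hb⟩ := this
        exact Set.mem_iUnion.2 ⟨b, hb⟩)
    refine ⟨t.sup n, ?_⟩
    refine TopCat.Sheaf.eq_of_locally_eq' (⟨F.presheaf, F.isSheaf⟩ : TopCat.Sheaf Ab X)
      (fun b : t => X.basicOpen b.1.1) U' (fun b => homOfLE b.1.2) ?_ _ _ (fun b => ?_)
    · intro x hx
      have := ht hx
      rw [Set.mem_iUnion₂] at this
      obtain ⟨b, hbt, hxb⟩ := this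
      exact Opens.mem_iSup.2 ⟨⟨b, hbt⟩, hxb⟩
    · change F.presheaf.map (homOfLE b.1.2).op _ = F.presheaf.map (homOfLE b.1.2).op 0
      rw [map_zero]
      exact hn b.1 _ (Finset.le_sup b.2)
  -- the ideal of the complement
  let I : Ideal Γ(X, V) := ⨅ (x : V) (_ : (x : X) ∉ U'), (hV.primeIdealOf x).asIdeal
  have hIle : ∀ a : Γ(X, V), a ∈ I → X.basicOpen a ≤ U' := by
    intro a ha y hy
    by_contra hyU
    have hyV : y ∈ V := X.basicOpen_le a hy
    have h1 : a ∈ (hV.primeIdealOf ⟨y, hyV⟩).asIdeal := by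
      have := (Submodule.mem_iInf _).1 ha ⟨y, hyV⟩
      exact (Submodule.mem_iInf _).1 this hyU
    exact ((mem_basicOpen_iff_notMem_primeIdealOf hV y hyV a).1 hy) h1
  have hmemI : ∀ a : Γ(X, V), X.basicOpen a ≤ U' → a ∈ I := by
    intro a ha
    refine (Submodule.mem_iInf _).2 fun x => (Submodule.mem_iInf _).2 fun hx => ?_
    by_contra hcon
    exact hx (ha ((mem_basicOpen_iff_notMem_primeIdealOf hV x.1 x.2 a).2 hcon))
  have hIdepth : ∀ (p : Ideal Γ(X, V)) [p.IsPrime], I ≤ p →
      2 ≤ LocCoh.depth (Localization.AtPrime p) (Localization.AtPrime p) := by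
    intro p hp hIp
    refine hdepth p ?_
    intro hy
    have hyV : hV.fromSpec ⟨p, hp⟩ ∈ V := hle hy
    obtain ⟨b, hb1, hb2⟩ := hV.exists_basicOpen_le (V := U') ⟨hV.fromSpec ⟨p, hp⟩, hy⟩ hyV
    have h1 : (⟨p, hp⟩ : PrimeSpectrum Γ(X, V)) ∈ hV.fromSpec ⁻¹ᵁ X.basicOpen b := hb2
    rw [hV.fromSpec_preimage_basicOpen] at h1
    exact h1 (hIp (hmemI b hb1))
  obtain ⟨x, y, hxI, hyI, hxreg, hyreg⟩ := exists_regPair I hIdepth
  obtain ⟨hxN, hyN⟩ := regPair_of_flat Γ(F, V) hxreg hyreg
  have hbij : Function.Bijective f := by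
    refine bijective_of_regPair f (fun i : {a : Γ(X, V) // X.basicOpen a ≤ U'} => i.1) ?_ ?_ ?_
      ⟨x, hIle x hxI⟩ ⟨y, hIle y hyI⟩ hxN hyN
    · -- E1
      intro g i
      obtain ⟨n, t, ht⟩ := exists_pow_smul_eq_res F hV i.1 (F.presheaf.map (homOfLE i.2).op g)
      have hz : F.presheaf.map (homOfLE i.2).op ((i.1 ^ n) • g - f t) = 0 := by
        rw [map_sub, hres_smul _ i.2, hf, map_map_eq F _ _ (homOfLE (X.basicOpen_le i.1)).op, ht,
          map_pow, sub_self]
      obtain ⟨k, hk⟩ := hkill i _ hz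
      refine ⟨k + n, (i.1 ^ k) • t, ?_⟩
      rw [smul_sub, sub_eq_zero] at hk
      rw [pow_add, mul_smul, hk, map_smul]
    · -- E2
      intro m i hm
      apply exists_pow_smul_eq_zero F hV i.1 m
      rw [← map_map_eq F (homOfLE hle).op (homOfLE i.2).op (homOfLE (X.basicOpen_le i.1)).op,
        ← hf, hm, map_zero]
    · -- E3
      intro g hg
      refine TopCat.Sheaf.eq_of_locally_eq' (⟨F.presheaf, F.isSheaf⟩ : TopCat.Sheaf Ab X)
        (fun i : {a : Γ(X, V) // X.basicOpen a ≤ U'} => X.basicOpen i.1) U'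
        (fun i => homOfLE i.2) hcover _ _ (fun i => ?_)
      change F.presheaf.map (homOfLE i.2).op g = F.presheaf.map (homOfLE i.2).op 0
      rw [map_zero]
      obtain ⟨n, hn⟩ := hg i
      have h1 := congrArg (F.presheaf.map (homOfLE i.2).op) hn
      rw [hres_smul _ i.2, map_zero, map_pow] at h1
      have hu : IsUnit ((X.presheaf.map (homOfLE (i.2.trans hle)).op i.1) ^ n) :=
        (RingedSpace.isUnit_res_basicOpen X.toRingedSpace i.1).pow n
      exact (hu.smul_eq_zero).1 h1
  exact hbij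

end Affine

end Groth.Agent.Lead.FlatHartogs

namespace Groth.Agent.Lead.FlatHartogs

open CategoryTheory AlgebraicGeometry Opposite TopologicalSpace LocCoh IsLocalRing
open Groth.Agent.Helper13.QCoh Groth.Agent.Helper13.FinType Groth.Agent.Helper13.QCohLoc
  Groth.Agent.Helper13.LocFree

/-- stalkwise flatness implies flatness of the sections over an affine open. -/
theorem flat_sections {X : Scheme.{u}} (F : X.Modules) [F.IsQuasicoherent] {U : X.Opens}
    (hU : IsAffineOpen U)
    (h : ∀ x : X, x ∈ U → Module.Flat (X.presheaf.stalk x) (F.presheaf.stalk x)) :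
    Module.Flat Γ(X, U) Γ(F, U) := by
  have hmem : ∀ (P : Ideal Γ(X, U)) [P.IsMaximal], hU.fromSpec ⟨P, inferInstance⟩ ∈ U := by
    intro P _
    have : hU.fromSpec ⟨P, inferInstance⟩ ∈ hU.fromSpec.opensRange := ⟨_, rfl⟩
    rwa [hU.opensRange_fromSpec] at this
  let pt : ∀ (P : Ideal Γ(X, U)) [P.IsMaximal], U := fun P _ =>
    ⟨hU.fromSpec ⟨P, inferInstance⟩, hmem P⟩
  letI modB : ∀ (P : Ideal Γ(X, U)) [P.IsMaximal],
      Module Γ(X, U) (F.presheaf.stalk (pt P : X)) := fun P _ => modStalk F (pt P)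
  have hsc : ∀ (P : Ideal Γ(X, U)) [P.IsMaximal],
      IsScalarTower Γ(X, U) Γ(X, U) (F.presheaf.stalk (pt P : X)) := fun P _ =>
    IsScalarTower.of_algebraMap_smul (fun _ _ => rfl)
  haveI hloc : ∀ (P : Ideal Γ(X, U)) [P.IsMaximal],
      IsLocalizedModule.AtPrime P (germLin F (pt P)) := by
    intro P _
    have h1 := isLocalizedModule_germ F hU (pt P)
    have h2 : hU.primeIdealOf (pt P) = ⟨P, inferInstance⟩ :=
      Groth.Agent.Helper13.FlatOver.primeIdealOf_fromSpec' hU _ _
    rw [h2] at h1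
    exact h1
  refine @Module.flat_of_isLocalized_maximal Γ(X, U) Γ(X, U) _ _ _ Γ(F, U) _ _ _ _
    (fun P _ => F.presheaf.stalk (pt P : X)) (fun P _ => inferInstance) (fun P _ => modB P)
    (fun P _ => modB P) hsc (fun P _ => germLin F (pt P)) hloc ?_
  intro P _
  have hfl := h (pt P : X) (pt P).2
  letI : Algebra Γ(X, U) (X.presheaf.stalk (pt P : X)) :=
    X.presheaf.algebra_section_stalk (pt P)
  haveI := isScalarTower_stalk F (pt P)
  haveI h3 : IsLocalization.AtPrime (X.presheaf.stalk (pt P : X))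
      (hU.primeIdealOf (pt P)).asIdeal := hU.isLocalization_stalk (pt P)
  exact (Module.flat_iff_of_isLocalization (X.presheaf.stalk (pt P : X))
    (hU.primeIdealOf (pt P)).asIdeal.primeCompl (F.presheaf.stalk (pt P : X))).1 hfl

/-- depth of a localization of the ring of sections which is a normal domain of dimension ≥ 2. -/
theorem two_le_depth_localization_of_normal {X : Scheme.{u}} {V : X.Opens} (hV : IsAffineOpen V)
    [IsNoetherianRing Γ(X, V)] (p : Ideal Γ(X, V)) [hp : p.IsPrime]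
    (hz : hV.fromSpec ⟨p, hp⟩ ∈ V)
    (hd : IsDomain (X.presheaf.stalk (hV.fromSpec ⟨p, hp⟩)))
    (hic : IsIntegrallyClosed (X.presheaf.stalk (hV.fromSpec ⟨p, hp⟩)))
    (hdim : (2 : WithBot ℕ∞) ≤ ringKrullDim (X.presheaf.stalk (hV.fromSpec ⟨p, hp⟩))) :
    2 ≤ LocCoh.depth (Localization.AtPrime p) (Localization.AtPrime p) := by
  have hprime : hV.primeIdealOf ⟨hV.fromSpec ⟨p, hp⟩, hz⟩ = ⟨p, hp⟩ :=
    Groth.Agent.Helper13.FlatOver.primeIdealOf_fromSpec' hV _ _
  letI : Algebra Γ(X, V) (X.presheaf.stalk (hV.fromSpec ⟨p, hp⟩)) :=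
    X.presheaf.algebra_section_stalk ⟨hV.fromSpec ⟨p, hp⟩, hz⟩
  haveI hloc : IsLocalization.AtPrime (X.presheaf.stalk (hV.fromSpec ⟨p, hp⟩)) p := by
    have h1 := hV.isLocalization_stalk ⟨hV.fromSpec ⟨p, hp⟩, hz⟩
    rw [hprime] at h1
    exact h1
  let σ : Localization.AtPrime p ≃ₐ[Γ(X, V)] X.presheaf.stalk (hV.fromSpec ⟨p, hp⟩) :=
    IsLocalization.algEquiv p.primeCompl _ _
  haveI : IsDomain (Localization.AtPrime p) := σ.toRingEquiv.toMulEquiv.isDomain
  haveI : IsIntegrallyClosed (Localization.AtPrime p) :=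
    IsIntegrallyClosed.of_equiv σ.symm.toRingEquiv
  have hdim' : (2 : WithBot ℕ∞) ≤ ringKrullDim (Localization.AtPrime p) := by
    rw [ringKrullDim_eq_of_ringEquiv σ.toRingEquiv]
    exact hdim
  have hSk := (Groth.Agent.Lead.Fib.normal_RS (Localization.AtPrime p)).2
  have hmin := Groth.Agent.Lead.Fib.hasSk_self_local 2 hSk
  have hht : (2 : ℕ∞) ≤ (maximalIdeal (Localization.AtPrime p)).height := by
    rw [← IsLocalRing.maximalIdeal_height_eq_ringKrullDim] at hdim'
    exact WithBot.coe_le_coe.1 hdim'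
  have h3 : min ((2 : ℕ) : ℕ∞) (maximalIdeal (Localization.AtPrime p)).height = 2 :=
    min_eq_left (by exact_mod_cast hht)
  rw [h3] at hmin
  exact hmin

end Groth.Agent.Lead.FlatHartogs
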