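import Groth.Agent.Lib.Lead.HomSh9
import Groth.Agent.Lib.Lead.FlatHartogs

/-!
# A depth argument for cokernels (lead)

If `μ : A → M` is injective, `depth A_p ≥ 2`, `depth M_p ≥ 2` and the cokernel of `μ` vanishes at
all primes strictly below `p`, then it vanishes at `p`.
-/

set_option autoImplicit false
universe u
open CategoryTheory AlgebraicGeometry Opposite TopologicalSpace IsLocalRing
open Groth.Agent.Helper28.ReflDepth Groth.Agent.Lead.Depth

namespace Groth.Agent.Lead.CokerDepth

theorem exists_smul_mem_range_of_depth {A : Type u} [CommRing A] [IsNoetherianRing A]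
    (p : Ideal A) [p.IsPrime]
    (M : Type u) [AddCommGroup M] [Module A M] [Module.Finite A M] (μ : A →ₗ[A] M)
    (hμ : Function.Injective μ)
    (hdA : 2 ≤ LocCoh.depth (Localization.AtPrime p) (Localization.AtPrime p))
    (hdM : 2 ≤ LocCoh.depth (Localization.AtPrime p) (LocalizedModule p.primeCompl M))
    (hq : ∀ (q : Ideal A) [q.IsPrime], q < p → ∀ m₀ : M, ∃ t : A, t ∉ q ∧
      t • m₀ ∈ LinearMap.range μ) :
    ∀ m₀ : M, ∃ t : A, t ∉ p ∧ t • m₀ ∈ LinearMap.range μ := by
  classical
  have hexact : Function.Exact μ (LinearMap.range μ).mkQ := by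
    intro y
    rw [Submodule.mkQ_apply, Submodule.Quotient.mk_eq_zero]
    rfl
  have hdepth := Groth.Agent.Lead.Hartogs.depth_localized_shortExact_right p A M
    (M ⧸ LinearMap.range μ) μ (LinearMap.range μ).mkQ hμ (Submodule.mkQ_surjective _) hexact
  rw [depth_localizedModule_self] at hdepth
  have h1 : 1 ≤ LocCoh.depth (Localization.AtPrime p)
      (LocalizedModule p.primeCompl (M ⧸ LinearMap.range μ)) := by
    refine le_trans ?_ hdepth
    rw [le_min_iff]
    constructor
    · exact le_trans (by norm_num) hdM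
    · have h3 := tsub_le_tsub_right hdA 1
      have e21 : (2 : ℕ∞) - 1 = 1 := by
        show ((2 : ℕ) : ℕ∞) - ((1 : ℕ) : ℕ∞) = ((1 : ℕ) : ℕ∞)
        norm_cast
      rw [e21] at h3
      exact h3
  have h0 := (one_le_idealDepth_iff (maximalIdeal (Localization.AtPrime p))
    (LocalizedModule p.primeCompl (M ⧸ LinearMap.range μ))).1 h1
  have hC0 : ∀ c : LocalizedModule p.primeCompl (M ⧸ LinearMap.range μ), c = 0 := by
    intro c
    have hkill : ∀ q' : Ideal (Localization.AtPrime p), q'.IsPrime →
        ¬ maximalIdeal (Localization.AtPrime p) ≤ q' → ∃ s' ∉ q', s' • c = 0 := by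
      intro q' hq' hnot
      haveI := hq'
      have hqprime : (q'.comap (algebraMap A (Localization.AtPrime p))).IsPrime :=
        Ideal.comap_isPrime _ _
      have hqp : q'.comap (algebraMap A (Localization.AtPrime p)) ≤ p := by
        intro a ha
        by_contra hap
        have hunit : IsUnit (algebraMap A (Localization.AtPrime p) a) :=
          IsLocalization.map_units _ (⟨a, hap⟩ : p.primeCompl)
        exact hq'.ne_top (Ideal.eq_top_of_isUnit_mem _ ha hunit)
      have hqne : q'.comap (algebraMap A (Localization.AtPrime p)) ≠ p := by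
        intro hqp'
        apply hnot
        rw [← Localization.AtPrime.map_eq_maximalIdeal, Ideal.map_le_iff_le_comap, hqp']
      have hlt : q'.comap (algebraMap A (Localization.AtPrime p)) < p := lt_of_le_of_ne hqp hqne
      induction c using LocalizedModule.induction_on with
      | h c₀ t₀ =>
        obtain ⟨m₀, rfl⟩ := Submodule.mkQ_surjective _ c₀
        obtain ⟨t, htq, htm⟩ := hq _ hlt m₀
        refine ⟨algebraMap A (Localization.AtPrime p) t, htq, ?_⟩
        rw [algebraMap_smul, LocalizedModule.smul'_mk, ← map_smul]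
        have h5 : (LinearMap.range μ).mkQ (t • m₀) = 0 := by
          rw [Submodule.mkQ_apply, Submodule.Quotient.mk_eq_zero]
          exact htm
        rw [h5, LocalizedModule.zero_mk]
    obtain ⟨n, hn⟩ := exists_pow_smul_eq_zero (maximalIdeal (Localization.AtPrime p)) c hkill
    exact eq_zero_of_pow_smul _ h0 n c hn
  intro m₀
  have h6 := hC0 (LocalizedModule.mkLinearMap p.primeCompl (M ⧸ LinearMap.range μ)
    ((LinearMap.range μ).mkQ m₀))
  obtain ⟨⟨t, ht⟩, htm⟩ := (IsLocalizedModule.eq_zero_iff p.primeCompl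
    (LocalizedModule.mkLinearMap p.primeCompl (M ⧸ LinearMap.range μ))).1 h6
  refine ⟨t, ht, ?_⟩
  rw [Submonoid.smul_def, ← map_smul, Submodule.mkQ_apply, Submodule.Quotient.mk_eq_zero] at htm
  exact htm

/-- depth of the localization of the ring of sections at the prime of a point with normal local
ring of dimension `≥ 2`. -/
theorem two_le_depth_atPrime_of_normal {X : Scheme.{u}} {V : X.Opens} (hV : IsAffineOpen V)
    [IsNoetherianRing Γ(X, V)] (x : V)
    (hd : IsDomain (X.presheaf.stalk (x : X)))
    (hic : IsIntegrallyClosed (X.presheaf.stalk (x : X)))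
    (hdim : (2 : WithBot ℕ∞) ≤ ringKrullDim (X.presheaf.stalk (x : X))) :
    2 ≤ LocCoh.depth (Localization.AtPrime (hV.primeIdealOf x).asIdeal)
      (Localization.AtPrime (hV.primeIdealOf x).asIdeal) := by
  haveI hloc : IsLocalization.AtPrime (X.presheaf.stalk (x : X)) (hV.primeIdealOf x).asIdeal :=
    hV.isLocalization_stalk x
  let σ : Localization.AtPrime (hV.primeIdealOf x).asIdeal ≃ₐ[Γ(X, V)] X.presheaf.stalk (x : X) :=
    IsLocalization.algEquiv (hV.primeIdealOf x).asIdeal.primeCompl _ _
  haveI : IsDomain (Localization.AtPrime (hV.primeIdealOf x).asIdeal) :=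
    σ.toRingEquiv.toMulEquiv.isDomain
  haveI : IsIntegrallyClosed (Localization.AtPrime (hV.primeIdealOf x).asIdeal) :=
    IsIntegrallyClosed.of_equiv σ.symm.toRingEquiv
  have hdim' : (2 : WithBot ℕ∞) ≤ ringKrullDim (Localization.AtPrime (hV.primeIdealOf x).asIdeal) := by
    rw [ringKrullDim_eq_of_ringEquiv σ.toRingEquiv]
    exact hdim
  have hSk := (Groth.Agent.Lead.Fib.normal_RS (Localization.AtPrime (hV.primeIdealOf x).asIdeal)).2
  have hmin := Groth.Agent.Lead.Fib.hasSk_self_local 2 hSk
  have hht : (2 : ℕ∞) ≤ (maximalIdeal (Localization.AtPrime (hV.primeIdealOf x).asIdeal)).height := by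
    rw [← IsLocalRing.maximalIdeal_height_eq_ringKrullDim] at hdim'
    exact WithBot.coe_le_coe.1 hdim'
  have h3 : min ((2 : ℕ) : ℕ∞)
      (maximalIdeal (Localization.AtPrime (hV.primeIdealOf x).asIdeal)).height = 2 :=
    min_eq_left (by exact_mod_cast hht)
  rw [h3] at hmin
  exact hmin

end Groth.Agent.Lead.CokerDepth
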