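import Mathlib
import Groth.Prelude.Def_CurvBase
import Groth.Agent.Lib.Lead.EulerK0
import Groth.Agent.Lib.Lead.EffDeg
import Groth.Agent.Lib.Lead.DegTensor
import Groth.Agent.Lib.Helper13.K0Length

/-!
# `χ(E ⊗ F) = r deg E + n χ(F)` on an integral proper curve (lead)

Uses helper13's dévissage `K0Length.main` in `K₀(Coh X)` and the homomorphism `DegTensor.psi`.
-/

set_option autoImplicit false
universe u
open CategoryTheory CategoryTheory.Limits AlgebraicGeometry Opposite TopologicalSpace

namespace Groth.Agent.Lead.GenRank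

open Groth.Agent.Lead.EulerK0 Groth.Agent.Lead.EffDeg Groth.Agent.Lead.DegTensor

section Top

variable {X : Scheme.{u}} [IsIntegral X]

theorem dim_closure_genericPoint :
    topologicalKrullDim ↥(closure ({genericPoint X} : Set X)) = topologicalKrullDim X := by
  rw [(genericPoint_spec X).def]
  exact IsHomeomorph.topologicalKrullDim_eq _ (Homeomorph.Set.univ X).isHomeomorph

theorem dim_closure_ne_of_ne (hdim : topologicalKrullDim X = 1) (x : X)
    (hx : x ≠ genericPoint X) :
    topologicalKrullDim ↥(closure ({x} : Set X)) ≠ ((1 : ℕ) : WithBot ℕ∞) := by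
  have hsp : genericPoint X ⤳ x := (genericPoint_spec X).specializes (Set.mem_univ x)
  have hne : closure ({x} : Set X) ≠ closure {genericPoint X} := fun h =>
    hx ((inseparable_iff_closure_eq.2 h).eq)
  have d := Groth.Agent.Helper13.DimLemma.dim_closure_add_one_le hsp hne
  rw [dim_closure_genericPoint, hdim] at d
  have hlt := Groth.Agent.Helper13.DimLemma.lt_of_add_one_le_coe (n := 1)
    (by rwa [Nat.cast_one])
  exact ne_of_lt hlt

theorem finsum_eq (hdim : topologicalKrullDim X = 1) {G : Type*} [AddCommMonoid G] (a : X → G)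
    [DecidablePred fun x : X =>
      topologicalKrullDim ↥(closure ({x} : Set X)) = ((1 : ℕ) : WithBot ℕ∞)] :
    (finsum fun x : X =>
      if topologicalKrullDim ↥(closure ({x} : Set X)) = ((1 : ℕ) : WithBot ℕ∞) then a x else 0) =
      a (genericPoint X) := by
  rw [finsum_eq_single _ (genericPoint X) (fun x hx => if_neg (dim_closure_ne_of_ne hdim x hx))]
  rw [if_pos]
  rw [dim_closure_genericPoint, hdim, Nat.cast_one]

theorem toNat_length_eq_finrank (M : Type*) [AddCommGroup M]
    [Module (X.presheaf.stalk (genericPoint X)) M] :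
    (Module.length (X.presheaf.stalk (genericPoint X)) M).toNat =
      Module.finrank (X.presheaf.stalk (genericPoint X)) M := by
  have h := Module.length_eq_rank (X.functionField) M
  rw [h, Cardinal.toNat_toENat]
  rfl

open Groth.Agent.Helper13.StalkBasis Groth.Agent.Helper13.TensorFinLocFree in
theorem toNat_length_of_rank [IsNoetherian X] (G : X.Modules) (n : ℕ)
    (hG : FlatMod.IsFinLocFreeOfRank n G) :
    (Module.length (X.presheaf.stalk (genericPoint X))
      (G.presheaf.stalk (genericPoint X))).toNat = n := by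
  rw [toNat_length_eq_finrank]
  obtain ⟨V, s, hx, hb⟩ :=
    Groth.Agent.Helper13.K0Tensor.exists_isBasisAt_of_rank G n hG (genericPoint X)
  rw [Module.finrank_eq_card_basis (basisOf G s (genericPoint X) hx (hb _ hx))]
  exact Fintype.card_fin n

end Top

section Main

variable (k : Type u) [Field k] {X : Scheme.{u}} [X.Over (Spec (CommRingCat.of k))]
  [IsIntegral X] [IsProper (X ↘ Spec (CommRingCat.of k))]

theorem clSub_sub_mem [IsNoetherian X] (hdim : topologicalKrullDim X = 1) (F : X.Modules)
    (hF : Coh.IsCoh F) :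
    KZero.clSub (fun M : X.Modules => Coh.IsCoh M) F -
      (Module.length (X.presheaf.stalk (genericPoint X))
        (F.presheaf.stalk (genericPoint X))).toNat •
        KZero.clSub (fun M : X.Modules => Coh.IsCoh M)
          (Cyc.closureStructureSheaf (genericPoint X)) ∈
      Groth.Agent.Helper13.K0Length.filtLt (fun M : X.Modules => Coh.IsCoh M) 1 := by
  classical
  have hd : topologicalKrullDim ↥(CohB1.support F) ≤ ((1 : ℕ) : WithBot ℕ∞) := by
    rw [Nat.cast_one]
    exact (topologicalKrullDim_subspace_le X _).trans hdim.le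
  have h := Groth.Agent.Helper13.K0Length.main (fun M : X.Modules => Coh.IsCoh M)
    (fun _ => Iff.rfl) 1 F hF hd
  rwa [finsum_eq hdim] at h

/-- `χ(E ⊗ F) = r deg E + n χ(F)` with `r` the generic rank of `F`. -/
theorem euler_tensor_generic (hdim : topologicalKrullDim X = 1)
    (n : ℕ) (E : X.Modules) (hE : FlatMod.IsFinLocFreeOfRank n E) (F : X.Modules)
    (hF : Coh.IsCoh F) :
    Curv2.euler k X (CohB1.tensorMod E F) =
      (Module.finrank (X.presheaf.stalk (genericPoint X))
        (F.presheaf.stalk (genericPoint X)) : ℤ) * Curv2.deg k X E n +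
        n * Curv2.euler k X F := by
  haveI : IsNoetherian X := isNoetherian_of_proper' k X
  have hO : Coh.IsCoh (Coh.structureModule X) := isCoh_structureModule
  have hO1 : FlatMod.IsFinLocFreeOfRank 1 (Coh.structureModule X) :=
    isFinLocFreeOfRank_one_of_isInvertible _ Groth.Agent.Helper13.Inv.isInvertible_structureModule
  have hEc : Coh.IsCoh E := isCoh_of_iso (Groth.Agent.Helper13.Tensor.rid E)
    (Groth.Agent.Helper13.K0Tensor.isCoh_tensor E n hE _ hO)
  have mF := clSub_sub_mem hdim F hF
  have mO := clSub_sub_mem hdim (Coh.structureModule X) hO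
  have hF0 := psi_eq_zero_of_mem_filtLt_one k E n hE _ mF
  have hO0 := psi_eq_zero_of_mem_filtLt_one k E n hE _ mO
  rw [map_sub, map_nsmul, psi_clSub k E n hE F hF, toNat_length_eq_finrank, nsmul_eq_mul] at hF0
  rw [map_sub, map_nsmul, psi_clSub k E n hE _ hO, toNat_length_of_rank _ 1 hO1, one_nsmul] at hO0
  have e₁ := euler_iso k (Groth.Agent.Helper13.Tensor.braid F E)
    (isCoh_tensor_right E n hE F hF) (Groth.Agent.Helper13.K0Tensor.isCoh_tensor E n hE F hF)
  have e₂ := euler_iso k (Groth.Agent.Helper13.Tensor.lid E) (isCoh_tensor_right E n hE _ hO) hEc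
  rw [e₁] at hF0
  rw [e₂] at hO0
  unfold Curv2.deg
  have hx : psi k E n hE (KZero.clSub (fun M : X.Modules => Coh.IsCoh M)
      (Cyc.closureStructureSheaf (genericPoint X))) =
      Curv2.euler k X E - n * Curv2.euler k X (Coh.structureModule X) := by linarith
  rw [hx] at hF0
  linarith

end Main

end Groth.Agent.Lead.GenRank
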