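import Groth.Agent.Lib.Helper3.PushStalk
import Mathlib

/-!
# Stalk of a pushforward at a point with singleton fibre under a closed map

If `f : X ⟶ Y` is a closed map and `f ⁻¹ {f x} = {x}`, then the opens `f ⁻¹ W` (`W ∋ f x`) are
cofinal among the opens containing `x`, so `(f_* M)_{f x} → M_x` is bijective.  When both local
rings are fields this identifies `dim_{O_{Y,f x}} (f_* O_X)_{f x}` with the residue degree.
-/

universe u

open CategoryTheory CategoryTheory.Limits AlgebraicGeometry TopologicalSpace

namespace Groth.Agent.Lead.PushGeneric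

open Groth.Agent.Helper3.PushStalk

variable {Z X : Scheme.{u}} (i : Z ⟶ X) (M : Z.Modules)

/-- cofinality of preimages of opens, from closedness of the map and a singleton fibre -/
theorem exists_preimage_le (hcl : IsClosedMap i) (z : Z)
    (hfib : ∀ z' : Z, i z' = i z → z' = z) (U : Z.Opens) (hz : z ∈ U) :
    ∃ W : X.Opens, i z ∈ W ∧ i ⁻¹ᵁ W ≤ U := by
  have hc : IsClosed (i '' ((U : Set Z)ᶜ)) := hcl _ U.isOpen.isClosed_compl
  refine ⟨⟨(i '' ((U : Set Z)ᶜ))ᶜ, hc.isOpen_compl⟩, ?_, ?_⟩
  · rintro ⟨z', hz', h⟩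
    exact hz' (hfib z' h ▸ hz)
  · intro z' hz'
    by_contra hn
    exact hz' ⟨z', hn, rfl⟩

theorem pushStalkHom_bijective_of_cofinal (z : Z)
    (hcof : ∀ U : Z.Opens, z ∈ U → ∃ W : X.Opens, i z ∈ W ∧ i ⁻¹ᵁ W ≤ U) :
    Function.Bijective (pushStalkHom i M z) := by
  constructor
  · rw [injective_iff_map_eq_zero]
    intro m hm
    obtain ⟨V, hxV, m₀, rfl⟩ :=
      TopCat.Presheaf.exists_germ_eq ((Scheme.Modules.pushforward i).obj M).presheaf m
    rw [pushStalkHom_germ] at hm
    have hm' : M.presheaf.germ (i ⁻¹ᵁ V) z hxV m₀ = M.presheaf.germ (i ⁻¹ᵁ V) z hxV 0 := by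
      rw [hm, map_zero]
    obtain ⟨U', hzU', iU, iV, hres⟩ := TopCat.Presheaf.germ_eq M.presheaf z hxV hxV m₀ 0 hm'
    rw [map_zero] at hres
    obtain ⟨W, hzW, hWU⟩ := hcof U' hzU'
    have hW : i z ∈ W ⊓ V := ⟨hzW, hxV⟩
    rw [← TopCat.Presheaf.germ_res_apply ((Scheme.Modules.pushforward i).obj M).presheaf
      (homOfLE inf_le_right) (i z) hW m₀]
    have h0 : ((Scheme.Modules.pushforward i).obj M).presheaf.map
        (homOfLE (inf_le_right : W ⊓ V ≤ V)).op m₀ = 0 := by
      have hle : i ⁻¹ᵁ (W ⊓ V) ≤ U' := fun y hy => hWU hy.1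
      have : ((Scheme.Modules.pushforward i).obj M).presheaf.map
          (homOfLE (inf_le_right : W ⊓ V ≤ V)).op m₀ =
          M.presheaf.map (homOfLE hle).op (M.presheaf.map iU.op m₀) := by
        rw [← ConcreteCategory.comp_apply, ← Functor.map_comp]
        rfl
      rw [this, hres]
      exact map_zero _
    rw [h0, map_zero]
  · intro m
    obtain ⟨U, hzU, m₀, rfl⟩ := TopCat.Presheaf.exists_germ_eq M.presheaf m
    obtain ⟨W, hzW, hWU⟩ := hcof U hzU
    refine ⟨((Scheme.Modules.pushforward i).obj M).presheaf.germ W (i z) hzW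
      (M.presheaf.map (homOfLE hWU).op m₀), ?_⟩
    rw [pushStalkHom_germ]
    exact TopCat.Presheaf.germ_res_apply M.presheaf (homOfLE hWU) z hzW m₀

/-- If the local rings at `z` and `i z` are fields and `(i_* O_Z)_{i z} → O_{Z,z}` is bijective,
the dimension of `(i_* O_Z)_{i z}` over `O_{X, i z}` is the residue degree. -/
theorem finrank_push_stalk_eq_residueDegree (z : Z) (x : X) (hx : i z = x)
    (hA : IsField (X.presheaf.stalk x)) (hB : IsField (Z.presheaf.stalk z))
    (hbij : Function.Bijective (pushStalkHom i (Coh.structureModule Z) z)) :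
    Module.finrank (X.presheaf.stalk x)
      (((Scheme.Modules.pushforward i).obj (Coh.structureModule Z)).presheaf.stalk x) =
      i.residueDegree z := by
  subst hx
  letI : Algebra (X.presheaf.stalk (i z)) (Z.presheaf.stalk z) := (i.stalkMap z).hom.toAlgebra
  -- the semilinear bijection to the local ring
  let f : ((Scheme.Modules.pushforward i).obj (Coh.structureModule Z)).presheaf.stalk (i z)
      →ₗ[X.presheaf.stalk (i z)] Z.presheaf.stalk z :=
    { toFun := fun m => (unitStalkEquiv Z z).symm (pushStalkHom i (Coh.structureModule Z) z m)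
      map_add' := fun a b => by rw [map_add, map_add]
      map_smul' := fun r m => by
        rw [RingHom.id_apply, pushStalkHom_smul, map_smul]
        rfl }
  have hf : Function.Bijective f :=
    (unitStalkEquiv Z z).symm.bijective.comp hbij
  rw [(LinearEquiv.ofBijective f hf).finrank_eq]
  -- residue maps are bijective on fields
  have hres : ∀ (R : Type u) [CommRing R] [IsLocalRing R], IsField R →
      Function.Bijective (IsLocalRing.residue R) := by
    intro R _ _ hR
    refine ⟨?_, Ideal.Quotient.mk_surjective⟩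
    rw [injective_iff_map_eq_zero]
    intro a ha
    by_contra hne
    obtain ⟨b, hb⟩ := hR.mul_inv_cancel hne
    have hu : IsUnit a := IsUnit.of_mul_eq_one b hb
    rw [IsLocalRing.residue_eq_zero_iff] at ha
    exact (IsLocalRing.mem_maximalIdeal a).1 ha hu
  let e₁ : X.presheaf.stalk (i z) ≃+* X.residueField (i z) :=
    RingEquiv.ofBijective (IsLocalRing.residue (X.presheaf.stalk (i z))) (hres _ hA)
  let e₂ : Z.presheaf.stalk z ≃+* Z.residueField z :=
    RingEquiv.ofBijective (IsLocalRing.residue (Z.presheaf.stalk z)) (hres _ hB)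
  letI : Algebra (X.residueField (i z)) (Z.residueField z) := (i.residueFieldMap z).hom.toAlgebra
  refine Algebra.finrank_eq_of_equiv_equiv e₁ e₂ ?_
  ext a
  have := ConcreteCategory.congr_hom (Scheme.residue_residueFieldMap i z) a
  exact this

end Groth.Agent.Lead.PushGeneric
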