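import Mathlib
import Groth.Prelude.Def_CurvBase
import Groth.Prelude.Def_Curv2
import Groth.Agent.Lib.Lead.GenRank
import Groth.Agent.Lib.Lead.IntNumDimOne
import Groth.Agent.Lib.Lead.PushGeneric
import Groth.Agent.Lib.Helper28.CurveFinite
import Groth.Agent.Lib.Helper13.CurveGen1
import Groth.Agent.Lib.Helper13.TensorUnit

/-!
# Degree of a pullback along a nonconstant morphism of proper integral curves

`deg_X (f^* E) = [K(X) : K(Y)] · deg_Y E`.
-/

universe u

open CategoryTheory CategoryTheory.Limits AlgebraicGeometry Opposite TopologicalSpace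

namespace Groth.Agent.Lead.CurveMapDeg

open Groth.Agent.Lead.EulerK0 Groth.Agent.Lead.EffDeg Groth.Agent.Lead.DegTensor
  Groth.Agent.Lead.IntNumDimOne Groth.Agent.Lead.PushGeneric

theorem not_isClosed_genericPoint (X : Scheme.{u}) [IsIntegral X]
    (hdim : topologicalKrullDim X = 1) : ¬ IsClosed ({genericPoint X} : Set X) := by
  intro hc
  have h1 : topologicalKrullDim ↥(closure ({genericPoint X} : Set X)) ≤ 0 :=
    dim_le_zero_of_forall_isClosed _ isClosed_closure (fun x hx => by
      rw [hc.closure_eq] at hx
      rw [Set.mem_singleton_iff.1 hx]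
      exact hc)
  rw [Groth.Agent.Lead.GenRank.dim_closure_genericPoint, hdim] at h1
  exact absurd h1 (not_le.2 zero_lt_one)

theorem isClosed_singleton_of_ne_genericPoint (X : Scheme.{u}) [IsIntegral X]
    (hdim : topologicalKrullDim X = 1) (x : X) (hx : x ≠ genericPoint X) :
    IsClosed ({x} : Set X) :=
  Groth.Agent.Helper13.CurveGen.isClosed_singleton_of_generization hdim.le x (genericPoint X)
    (genericPoint_specializes x) (Ne.symm hx)

variable (k : Type u) [Field k] (X Y : Scheme.{u})
  [X.Over (Spec (CommRingCat.of k))] [Y.Over (Spec (CommRingCat.of k))] [IsIntegral X] [IsIntegral Y]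
  [IsProper (X ↘ (Spec (CommRingCat.of k)))] [IsProper (Y ↘ (Spec (CommRingCat.of k)))]

theorem deg_pullback (hX : topologicalKrullDim X = 1) (hY : topologicalKrullDim Y = 1)
    (f : X ⟶ Y) (hf : f ≫ (Y ↘ (Spec (CommRingCat.of k))) = X ↘ (Spec (CommRingCat.of k)))
    (hξ : f.base (genericPoint X) = genericPoint Y)
    (n : ℕ) (E : Y.Modules) (hE : FlatMod.IsFinLocFreeOfRank n E) :
    Curv2.deg k X ((Scheme.Modules.pullback f).obj E) n =
      (f.residueDegree (genericPoint X) : ℤ) * Curv2.deg k Y E n := by
  haveI : IsNoetherian X := isNoetherian_of_proper' k X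
  haveI : IsNoetherian Y := isNoetherian_of_proper' k Y
  have hncY := not_isClosed_genericPoint Y hY
  have hncX := not_isClosed_genericPoint X hX
  haveI : IsProper f := by
    haveI : IsProper (f ≫ (Y ↘ Spec (CommRingCat.of k))) := by rw [hf]; infer_instance
    exact IsProper.of_comp f (Y ↘ Spec (CommRingCat.of k))
  have hcl : IsClosedMap f := f.isClosedMap
  -- closed points do not map to the generic point
  have hfib : ∀ x : X, f x = f (genericPoint X) → x = genericPoint X := by
    intro x hx
    by_contra hne
    have hxc := isClosed_singleton_of_ne_genericPoint X hX x hne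
    have := hcl _ hxc
    rw [Set.image_singleton, hx] at this
    exact hncY (hξ ▸ this)
  haveI : IsFinite f := by
    refine Groth.Agent.Helper28.CurveFinite.main k X Y (X ↘ Spec (CommRingCat.of k))
      (Y ↘ Spec (CommRingCat.of k)) f hf hX.le ?_
    intro Z hZ _
    rw [irreducibleComponents_eq_singleton, Set.mem_singleton_iff] at hZ
    subst hZ
    obtain ⟨x₀, -, hx₀⟩ := IsClosed.exists_closed_singleton (isClosed_univ (X := X))
      ⟨genericPoint X, trivial⟩
    have hne : x₀ ≠ genericPoint X := fun h => hncX (h ▸ hx₀)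
    exact ⟨f x₀, ⟨x₀, trivial, rfl⟩, f (genericPoint X), ⟨_, trivial, rfl⟩,
      fun h => hne (hfib x₀ h)⟩
  have hOX : Coh.IsCoh (Coh.structureModule X) := isCoh_structureModule
  haveI := hOX.1
  haveI := hOX.2
  have hF : Coh.IsCoh ((Scheme.Modules.pushforward f).obj (Coh.structureModule X)) :=
    ⟨Groth.Agent.Helper13.QCohPush.isQuasicoherent_pushforward f _,
      (Groth.Agent.Helper13.PushFinite.isFiniteType_pushforward_iff f _).1 inferInstance⟩
  have h1 := euler_finite_tensor_rank k f hf n E hE
  have h2 := euler_push' k f hf (Coh.structureModule X)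
  have h3 := Groth.Agent.Lead.GenRank.euler_tensor_generic k hY n E hE _ hF
  have c1 := isCoh_tensor_right E n hE _ hF
  have c2 := Groth.Agent.Helper13.K0Tensor.isCoh_tensor E n hE _ hF
  have h4 := euler_iso k (Groth.Agent.Helper13.Tensor.braid E
    ((Scheme.Modules.pushforward f).obj (Coh.structureModule X))) c2 c1
  have hbij := pushStalkHom_bijective_of_cofinal f (Coh.structureModule X) (genericPoint X)
    (exists_preimage_le f hcl (genericPoint X) hfib)
  have h5 := finrank_push_stalk_eq_residueDegree f (genericPoint X) (genericPoint Y) hξ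
    (isField_stalk_of_closure_mem_irreducibleComponents Y _
      (by simp [irreducibleComponents_eq_singleton]))
    (isField_stalk_of_closure_mem_irreducibleComponents X _
      (by simp [irreducibleComponents_eq_singleton])) hbij
  rw [h5] at h3
  unfold Curv2.deg at h3 ⊢
  rw [← h1, ← h2, ← h4, h3]
  ring

end Groth.Agent.Lead.CurveMapDeg
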