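import Groth.Agent.Lib.Lead.SecOrd24

/-!
# Cycles and closed immersions

Pushforward of cycles along closed immersions, orders of rational functions along closed
immersions, and cycles of locally finite families of principal divisors.
-/

set_option autoImplicit false
universe u
open CategoryTheory CategoryTheory.Limits AlgebraicGeometry Opposite TopologicalSpace

namespace Groth.Agent.Lead.CycCl

open Groth.Agent.Lead.SecOrd

variable {X Y : Scheme.{u}}

theorem map_apply'' (f : X ⟶ Y) [QuasiCompact f] (wx : X → ℤ) (wy : Y → ℤ)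
    (c : AlgebraicCycle X ℤ) (y : Y) :
    AlgebraicCycle.map f wx wy c y =
      ∑ᶠ x ∈ (f : X → Y) ⁻¹' {y}, c x * ((AlgebraicCycle.mapCoeff f wx wy x : ℕ) : ℤ) := rfl

theorem map_apply_of_injective (f : X ⟶ Y) [QuasiCompact f] (hinj : Function.Injective f)
    (wx : X → ℤ) (wy : Y → ℤ) (c : AlgebraicCycle X ℤ) (x : X) :
    AlgebraicCycle.map f wx wy c (f x) =
      c x * ((AlgebraicCycle.mapCoeff f wx wy x : ℕ) : ℤ) := by
  rw [map_apply'']
  have hset : (f : X → Y) ⁻¹' {f x} = {x} := by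
    ext a
    simp only [Set.mem_preimage, Set.mem_singleton_iff]
    exact ⟨fun ha => hinj ha, fun ha => by rw [ha]⟩
  rw [hset, finsum_mem_singleton]

theorem map_apply_notMem_range (f : X ⟶ Y) [QuasiCompact f] (wx : X → ℤ) (wy : Y → ℤ)
    (c : AlgebraicCycle X ℤ) (y : Y) (hy : y ∉ Set.range f) :
    AlgebraicCycle.map f wx wy c y = 0 := by
  rw [map_apply'']
  have hset : (f : X → Y) ⁻¹' {y} = ∅ := by
    ext a
    simp only [Set.mem_preimage, Set.mem_singleton_iff, Set.mem_empty_iff_false, iff_false]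
    intro ha
    exact hy ⟨a, ha⟩
  rw [hset, finsum_mem_empty]

theorem residueFieldMap_surjective (f : X ⟶ Y) (x : X)
    (h : Function.Surjective (f.stalkMap x).hom) :
    Function.Surjective (f.residueFieldMap x).hom := by
  intro a
  obtain ⟨b, rfl⟩ := X.residue_surjective x a
  obtain ⟨c, rfl⟩ := h b
  refine ⟨(Y.residue (f x)).hom c, ?_⟩
  exact congrArg (fun φ => φ.hom c) (AlgebraicGeometry.Scheme.residue_residueFieldMap f x)

theorem residueDegree_eq_one (f : X ⟶ Y) (x : X)
    (h : Function.Surjective (f.stalkMap x).hom) : f.residueDegree x = 1 := by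
  unfold Scheme.Hom.residueDegree
  letI := (f.residueFieldMap x).hom.toAlgebra
  have hbij : Function.Bijective (Algebra.linearMap (Y.residueField (f x)) (X.residueField x)) :=
    ⟨(f.residueFieldMap x).hom.injective, residueFieldMap_surjective f x h⟩
  have e : Y.residueField (f x) ≃ₗ[Y.residueField (f x)] X.residueField x :=
    LinearEquiv.ofBijective (Algebra.linearMap _ _) hbij
  rw [← e.finrank_eq, Module.finrank_self]

theorem mapCoeff_closedImmersion (f : X ⟶ Y) [IsClosedImmersion f] (wx : X → ℤ) (wy : Y → ℤ)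
    (x : X) (hw : wx x = wy (f x)) : AlgebraicCycle.mapCoeff f wx wy x = 1 := by
  unfold AlgebraicCycle.mapCoeff
  rw [if_pos hw]
  exact residueDegree_eq_one f x (Scheme.Hom.stalkMap_surjective f x)

theorem injective_of_closedImmersion (f : X ⟶ Y) [IsClosedImmersion f] : Function.Injective f :=
  f.isClosedEmbedding.injective

theorem map_closedImmersion_apply (f : X ⟶ Y) [IsClosedImmersion f] (wx : X → ℤ) (wy : Y → ℤ)
    (c : AlgebraicCycle X ℤ) (x : X) (hw : wx x = wy (f x)) :
    AlgebraicCycle.map f wx wy c (f x) = c x := by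
  rw [map_apply_of_injective f (injective_of_closedImmersion f), mapCoeff_closedImmersion f wx wy x hw,
    Nat.cast_one, mul_one]

theorem specializes_iff_closedImmersion (f : X ⟶ Y) [IsClosedImmersion f] (a b : X) :
    f a ⤳ f b ↔ a ⤳ b :=
  f.isClosedEmbedding.isEmbedding.isInducing.specializes_iff

theorem mem_range_of_specializes (f : X ⟶ Y) [IsClosedImmersion f] (a : X) (y : Y)
    (h : f a ⤳ y) : y ∈ Set.range f := by
  have h1 : y ∈ closure ({f a} : Set Y) := specializes_iff_mem_closure.mp h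
  have h2 : closure ({f a} : Set Y) ⊆ Set.range f :=
    closure_minimal (by rintro _ rfl; exact Set.mem_range_self a) f.isClosedEmbedding.isClosed_range
  exact h2 h1

/-- Orders of rational functions along a closed immersion. -/
theorem ordAt_closedImmersion (j : Y ⟶ X) [IsClosedImmersion j] (u ξ : Y)
    (h : ξ ⤳ u) (h' : j ξ ⤳ j u) (g : X.residueField (j ξ)) :
    Cyc.ordAt u ξ h ((j.residueFieldMap ξ).hom g) = Cyc.ordAt (j u) (j ξ) h' g := by
  unfold Cyc.ordAt
  have hsurj₀ : Function.Surjective (j.stalkMap u).hom := Scheme.Hom.stalkMap_surjective j u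
  obtain ⟨eK, heK⟩ : ∃ eK : X.residueField (j ξ) ≃+* Y.residueField ξ,
      ∀ x, eK x = (j.residueFieldMap ξ).hom x :=
    ⟨RingEquiv.ofBijective (j.residueFieldMap ξ).hom
      ⟨(j.residueFieldMap ξ).hom.injective,
        residueFieldMap_surjective j ξ (Scheme.Hom.stalkMap_surjective j ξ)⟩, fun _ => rfl⟩
  have hsq : ∀ x : X.presheaf.stalk (j u),
      eK (Cyc.specMap (j u) (j ξ) h' x) = Cyc.specMap u ξ h ((j.stalkMap u).hom x) := by
    intro x
    rw [heK]
    show (j.residueFieldMap ξ).hom ((X.residue (j ξ)).hom ((X.presheaf.stalkSpecializes h').hom x)) =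
      (Y.residue ξ).hom ((Y.presheaf.stalkSpecializes h).hom ((j.stalkMap u).hom x))
    have h2 : (j.stalkMap ξ).hom ((X.presheaf.stalkSpecializes h').hom x) =
        (Y.presheaf.stalkSpecializes h).hom ((j.stalkMap u).hom x) :=
      AlgebraicGeometry.Scheme.Hom.stalkSpecializes_stalkMap_apply j ξ u h x
    rw [← h2]
    have h1 := congrArg (fun φ => φ.hom ((X.presheaf.stalkSpecializes h').hom x))
      (AlgebraicGeometry.Scheme.residue_residueFieldMap j ξ)
    exact h1
  have hker : RingHom.ker (Cyc.specMap (j u) (j ξ) h') =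
      (RingHom.ker (Cyc.specMap u ξ h)).comap (j.stalkMap u).hom := by
    ext x
    rw [Ideal.mem_comap, RingHom.mem_ker, RingHom.mem_ker, ← hsq]
    constructor
    · intro hx
      rw [hx, map_zero]
    · intro hx
      exact eK.injective (hx.trans (map_zero _).symm)
  have hle : RingHom.ker (Cyc.specMap (j u) (j ξ) h') ≤
      (RingHom.ker (Cyc.specMap u ξ h)).comap (j.stalkMap u).hom := hker.le
  obtain ⟨q, hq⟩ : ∃ q : Cyc.LocQuot (j u) (j ξ) h' →+* Cyc.LocQuot u ξ h,
      q = Ideal.quotientMap (RingHom.ker (Cyc.specMap u ξ h)) (j.stalkMap u).hom hle := ⟨_, rfl⟩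
  have hqmk : ∀ x : X.presheaf.stalk (j u), q (Ideal.Quotient.mk _ x) =
      Ideal.Quotient.mk _ ((j.stalkMap u).hom x) := by
    intro x
    rw [hq]
    exact Ideal.quotientMap_mk
  have hqbij : Function.Bijective q := by
    rw [hq]
    exact ⟨Ideal.quotientMap_injective' hker.ge, Ideal.quotientMap_surjective hsurj₀⟩
  obtain ⟨e, he⟩ : ∃ e : Cyc.LocQuot (j u) (j ξ) h' ≃+* Cyc.LocQuot u ξ h,
      ∀ x, e (Ideal.Quotient.mk _ x) = Ideal.Quotient.mk _ ((j.stalkMap u).hom x) :=
    ⟨RingEquiv.ofBijective q hqbij, hqmk⟩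
  have hcomm : ∀ a, eK (algebraMap (Cyc.LocQuot (j u) (j ξ) h') (X.residueField (j ξ)) a) =
      algebraMap (Cyc.LocQuot u ξ h) (Y.residueField ξ) (e a) := by
    intro a
    obtain ⟨x, rfl⟩ := Ideal.Quotient.mk_surjective a
    rw [he]
    exact hsq x
  have hfinal := ordFrac_ringEquiv e eK hcomm g
  rw [heK] at hfinal
  exact hfinal

/-- Principal divisors along a closed immersion. -/
theorem divFun_closedImmersion (j : Y ⟶ X) [IsClosedImmersion j] (δ : X → ℤ) (η y : Y)
    (g : X.residueField (j η)) :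
    Cyc.divFun (fun y => δ (j y)) η ((j.residueFieldMap η).hom g) y =
      Cyc.divFun δ (j η) g (j y) := by
  unfold Cyc.divFun
  by_cases hc : η ⤳ y ∧ δ (j y) + 1 = δ (j η)
  · have hc' : j η ⤳ j y ∧ δ (j y) + 1 = δ (j η) :=
      ⟨(specializes_iff_closedImmersion j η y).mpr hc.1, hc.2⟩
    rw [dif_pos hc, dif_pos hc']
    exact ordAt_closedImmersion j y η hc.1 hc'.1 g
  · have hc' : ¬ (j η ⤳ j y ∧ δ (j y) + 1 = δ (j η)) :=
      fun h' => hc ⟨(specializes_iff_closedImmersion j η y).mp h'.1, h'.2⟩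
    rw [dif_neg hc, dif_neg hc']

theorem divFun_eq_zero_of_notMem_range (j : Y ⟶ X) [IsClosedImmersion j] (δ : X → ℤ) (η : Y)
    (g : X.residueField (j η)) (x : X) (hx : x ∉ Set.range j) :
    Cyc.divFun δ (j η) g x = 0 := by
  unfold Cyc.divFun
  rw [dif_neg]
  rintro ⟨hsp, -⟩
  exact hx (mem_range_of_specializes j η x hsp)

/-! ### Locally finite families -/

theorem finite_mem_affine_of_locallyFinite' [IsLocallyNoetherian X] {ι : Type*} (ξ : ι → X)
    (hlf : ∀ x : X, ∃ W : Set X, IsOpen W ∧ x ∈ W ∧ {i | (closure {ξ i} ∩ W).Nonempty}.Finite)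
    {V : X.Opens} (hV : IsAffineOpen V) : {i | ξ i ∈ V}.Finite := by
  classical
  have hc : IsCompact (V : Set X) := hV.isCompact
  choose W hWo huW hWfin using hlf
  obtain ⟨t, ht⟩ := hc.elim_nhds_subcover' (fun u _ => W u)
    (fun u _ => (hWo u).mem_nhds (huW u))
  refine Set.Finite.subset (t.finite_toSet.biUnion (fun u _ => hWfin u.1)) ?_
  intro i hi
  obtain ⟨u, hut, hu⟩ := Set.mem_iUnion₂.mp (ht hi)
  exact Set.mem_iUnion₂.mpr ⟨u, Finset.mem_coe.mpr hut,
    ⟨ξ i, subset_closure (Set.mem_singleton _), hu⟩⟩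

/-- The sum of a locally finite family of principal divisors is a cycle. -/
theorem exists_cycle_of_family [IsLocallyNoetherian X] (δ : X → ℤ) (hδ : Cyc.IsDimFun X δ)
    {ι : Type*} (ξ : ι → X) (f : (i : ι) → X.residueField (ξ i)) (hf : ∀ i, f i ≠ 0)
    (hlf : ∀ x : X, ∃ W : Set X, IsOpen W ∧ x ∈ W ∧ {i | (closure {ξ i} ∩ W).Nonempty}.Finite) :
    ∃ Dc : AlgebraicCycle X ℤ, ∀ x, Dc x = ∑ᶠ i, Cyc.divFun δ (ξ i) (f i) x := by
  classical
  obtain ⟨D, hD⟩ : ∃ D : X → ℤ, D = fun x => ∑ᶠ i, Cyc.divFun δ (ξ i) (f i) x := ⟨_, rfl⟩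
  have hVfin : ∀ (V : X.Opens), IsAffineOpen V → {i | ξ i ∈ V}.Finite :=
    fun V hV => finite_mem_affine_of_locallyFinite' ξ hlf hV
  have hDsupp : ∀ z ∈ (Set.univ : Set X), ∃ t ∈ nhds z, Set.Finite (t ∩ Function.support D) := by
    intro z _
    obtain ⟨V, hV, hzV⟩ := exists_affine_nhd z
    refine ⟨V, V.isOpen.mem_nhds hzV, ?_⟩
    refine Set.Finite.subset ((hVfin V hV).biUnion (fun i _ =>
      finite_support_divFun_affine δ hδ (ξ i) (f i) (hf i) hV)) ?_
    rintro y ⟨hyV, hy⟩
    have hex : ∃ i, Cyc.divFun δ (ξ i) (f i) y ≠ 0 := by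
      by_contra hall
      push Not at hall
      apply hy
      show D y = 0
      rw [hD]
      exact finsum_eq_zero_of_forall_eq_zero hall
    obtain ⟨i, hi⟩ := hex
    have hiV : ξ i ∈ V := by
      by_contra hnV
      apply hi
      unfold Cyc.divFun
      rw [dif_neg]
      rintro ⟨hsp, -⟩
      exact hnV (hsp.mem_open V.isOpen hyV)
    exact Set.mem_iUnion₂.mpr ⟨i, hiV, hyV, hi⟩
  refine ⟨{ toFun := D
            supportWithinDomain' := Set.subset_univ _
            supportLocallyFiniteWithinDomain' := hDsupp }, fun x => ?_⟩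
  show D x = _
  rw [hD]

/-- Only finitely many members of a locally finite family contribute at a point. -/
theorem finite_support_family [IsLocallyNoetherian X] (δ : X → ℤ)
    {ι : Type*} (ξ : ι → X) (f : (i : ι) → X.residueField (ξ i))
    (hlf : ∀ x : X, ∃ W : Set X, IsOpen W ∧ x ∈ W ∧ {i | (closure {ξ i} ∩ W).Nonempty}.Finite)
    (x : X) : (Function.support (fun i => Cyc.divFun δ (ξ i) (f i) x)).Finite := by
  obtain ⟨W, hWo, hxW, hfin⟩ := hlf x
  refine hfin.subset ?_
  intro i hi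
  have hsp : ξ i ⤳ x := by
    by_contra hns
    apply hi
    show Cyc.divFun δ (ξ i) (f i) x = 0
    unfold Cyc.divFun
    rw [dif_neg]
    rintro ⟨hsp, -⟩
    exact hns hsp
  exact ⟨x, specializes_iff_mem_closure.mp hsp, hxW⟩

end Groth.Agent.Lead.CycCl
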