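import Groth.Agent.Lib.Lead.CycCl1

/-!
# Mayer–Vietoris for Chow groups: exactness in the middle
-/

set_option autoImplicit false
universe u
open CategoryTheory CategoryTheory.Limits AlgebraicGeometry Opposite TopologicalSpace

namespace Groth.Agent.Lead.CycCl

open Groth.Agent.Lead.SecOrd

variable {X Y : Scheme.{u}}

theorem exists_transport {Z : Scheme.{u}} (j : Z ⟶ X) {ξ : X} (η : Z) (e : j η = ξ)
    (f : X.residueField ξ) (hf : f ≠ 0) :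
    ∃ f' : X.residueField (j η), f' ≠ 0 ∧
      ∀ (δ : X → ℤ) (x : X), Cyc.divFun δ (j η) f' x = Cyc.divFun δ ξ f x := by
  subst e
  exact ⟨f, hf, fun _ _ => rfl⟩

theorem exists_pullback_cycle (j : Y ⟶ X) (hinj : Function.Injective j)
    (Θ : AlgebraicCycle X ℤ) : ∃ β : AlgebraicCycle Y ℤ, ∀ y, β y = Θ (j y) := by
  classical
  obtain ⟨b, hb⟩ : ∃ b : Y → ℤ, b = fun y => Θ (j y) := ⟨_, rfl⟩
  have hsupp : ∀ z ∈ (Set.univ : Set Y), ∃ t ∈ nhds z, Set.Finite (t ∩ Function.support b) := by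
    intro z _
    obtain ⟨t, ht, hfin⟩ := Θ.supportLocallyFiniteWithinDomain (j z) (Set.mem_univ _)
    refine ⟨(j : Y → X) ⁻¹' t, j.continuous.continuousAt ht, ?_⟩
    refine Set.Finite.subset (hfin.preimage (hinj.injOn)) ?_
    rintro y ⟨hyt, hy⟩
    refine ⟨hyt, ?_⟩
    intro h0
    apply hy
    show b y = 0
    rw [hb]
    exact h0
  refine ⟨{ toFun := b
            supportWithinDomain' := Set.subset_univ _
            supportLocallyFiniteWithinDomain' := hsupp }, fun y => ?_⟩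
  show b y = _
  rw [hb]

theorem divFun_inv (δ : X → ℤ) (ξ : X) (g : X.residueField ξ) (hg : g ≠ 0) (x : X) :
    Cyc.divFun δ ξ g⁻¹ x = - Cyc.divFun δ ξ g x := by
  unfold Cyc.divFun
  by_cases h : ξ ⤳ x ∧ δ x + 1 = δ ξ
  · rw [dif_pos h, dif_pos h]
    exact ordFrac_inv' g hg
  · rw [dif_neg h, dif_neg h, neg_zero]

theorem finsum_split {ι : Type*} (s : Set ι) (F : ι → ℤ) (hF : (Function.support F).Finite) :
    ∑ᶠ i, F i = ∑ᶠ j : s, F j.1 + ∑ᶠ j : (sᶜ : Set ι), F j.1 := by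
  rw [finsum_set_coe_eq_finsum_mem s, finsum_set_coe_eq_finsum_mem sᶜ,
    ← finsum_mem_union' disjoint_compl_right (hF.subset Set.inter_subset_right)
      (hF.subset Set.inter_subset_right), Set.union_compl_self, finsum_mem_univ]

/-- Mayer–Vietoris for Chow groups, exactness in the middle. -/
theorem mayerVietoris (X : Scheme.{u}) (δ : X → ℤ) (hX : Cyc.IsSetup X δ) (X₁ X₂ : Scheme.{u})
    (i₁ : X₁ ⟶ X) (i₂ : X₂ ⟶ X) [IsClosedImmersion i₁] [IsClosedImmersion i₂]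
    (hcov : Set.range ⇑i₁ ∪ Set.range ⇑i₂ = Set.univ) (k : ℤ) (α₁ : AlgebraicCycle X₁ ℤ)
    (α₂ : AlgebraicCycle X₂ ℤ) (h₁ : α₁ ∈ Cyc.Zk X₁ (fun x => δ (i₁ x)) k)
    (h₂ : α₂ ∈ Cyc.Zk X₂ (fun x => δ (i₂ x)) k)
    (h : Cyc.RatEquiv δ k (AlgebraicCycle.map i₁ (fun x => δ (i₁ x)) δ α₁)
      (AlgebraicCycle.map i₂ (fun x => δ (i₂ x)) δ α₂)) :
    ∃ β : AlgebraicCycle (pullback i₁ i₂) ℤ,
      β ∈ Cyc.Zk (pullback i₁ i₂) (fun z => δ (i₁ (pullback.fst i₁ i₂ z))) k ∧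
      Cyc.RatEquiv (fun x => δ (i₁ x)) k α₁
        (AlgebraicCycle.map (pullback.fst i₁ i₂) (fun z => δ (i₁ (pullback.fst i₁ i₂ z)))
          (fun x => δ (i₁ x)) β) ∧
      Cyc.RatEquiv (fun x => δ (i₂ x)) k α₂
        (AlgebraicCycle.map (pullback.snd i₁ i₂) (fun z => δ (i₁ (pullback.fst i₁ i₂ z)))
          (fun x => δ (i₂ x)) β) := by
  classical
  obtain ⟨hN, -, hδ⟩ := hX
  haveI := hN
  obtain ⟨ι, ξ, f, hξδ, hf0, hlf, hsum⟩ := h
  obtain ⟨s, hs⟩ : ∃ s : Set ι, s = {i | ξ i ∈ Set.range i₁} := ⟨_, rfl⟩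
  -- the two subfamilies
  have hex₁ : ∀ j : s, ∃ (η : X₁) (f' : X.residueField (i₁ η)), i₁ η = ξ j.1 ∧ f' ≠ 0 ∧
      ∀ (δ' : X → ℤ) (x : X), Cyc.divFun δ' (i₁ η) f' x = Cyc.divFun δ' (ξ j.1) (f j.1) x := by
    rintro ⟨i, hi⟩
    rw [hs] at hi
    obtain ⟨η, hη⟩ := hi
    obtain ⟨f', hf', hdiv⟩ := exists_transport i₁ η hη (f i) (hf0 i)
    exact ⟨η, f', hη, hf', hdiv⟩
  choose η₁ f₁ hη₁ hf₁ hdiv₁ using hex₁
  have hex₂ : ∀ j : (sᶜ : Set ι), ∃ (η : X₂) (f' : X.residueField (i₂ η)), i₂ η = ξ j.1 ∧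
      f' ≠ 0 ∧
      ∀ (δ' : X → ℤ) (x : X), Cyc.divFun δ' (i₂ η) f' x = Cyc.divFun δ' (ξ j.1) (f j.1) x := by
    rintro ⟨i, hi⟩
    have hi' : ξ i ∉ Set.range i₁ := by
      intro hmem
      apply hi
      rw [hs]
      exact hmem
    have hi₂ : ξ i ∈ Set.range i₂ := by
      have : ξ i ∈ Set.range ⇑i₁ ∪ Set.range ⇑i₂ := by
        rw [hcov]
        trivial
      rcases this with hm | hm
      · exact absurd hm hi'
      · exact hm
    obtain ⟨η, hη⟩ := hi₂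
    obtain ⟨f', hf', hdiv⟩ := exists_transport i₂ η hη (f i) (hf0 i)
    exact ⟨η, f', hη, hf', hdiv⟩
  choose η₂ f₂ hη₂ hf₂ hdiv₂ using hex₂
  obtain ⟨g₁, hg₁⟩ : ∃ g₁ : (j : s) → X₁.residueField (η₁ j),
      g₁ = fun j => (i₁.residueFieldMap (η₁ j)).hom (f₁ j) := ⟨_, rfl⟩
  obtain ⟨g₂, hg₂⟩ : ∃ g₂ : (j : (sᶜ : Set ι)) → X₂.residueField (η₂ j),
      g₂ = fun j => (i₂.residueFieldMap (η₂ j)).hom (f₂ j) := ⟨_, rfl⟩
  have hg₁0 : ∀ j, g₁ j ≠ 0 := by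
    intro j
    rw [hg₁]
    exact fun h0 => hf₁ j ((i₁.residueFieldMap (η₁ j)).hom.injective (h0.trans (map_zero _).symm))
  have hg₂0 : ∀ j, g₂ j ≠ 0 := by
    intro j
    rw [hg₂]
    exact fun h0 => hf₂ j ((i₂.residueFieldMap (η₂ j)).hom.injective (h0.trans (map_zero _).symm))
  -- principal divisors upstairs and downstairs
  have hd₁ : ∀ (j : s) (y : X₁), Cyc.divFun (fun x => δ (i₁ x)) (η₁ j) (g₁ j) y =
      Cyc.divFun δ (ξ j.1) (f j.1) (i₁ y) := by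
    intro j y
    rw [hg₁, ← hdiv₁ j δ (i₁ y)]
    exact divFun_closedImmersion i₁ δ (η₁ j) y (f₁ j)
  have hd₂ : ∀ (j : (sᶜ : Set ι)) (y : X₂), Cyc.divFun (fun x => δ (i₂ x)) (η₂ j) (g₂ j) y =
      Cyc.divFun δ (ξ j.1) (f j.1) (i₂ y) := by
    intro j y
    rw [hg₂, ← hdiv₂ j δ (i₂ y)]
    exact divFun_closedImmersion i₂ δ (η₂ j) y (f₂ j)
  have hz₁ : ∀ (j : s) (x : X), x ∉ Set.range i₁ → Cyc.divFun δ (ξ j.1) (f j.1) x = 0 := by
    intro j x hx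
    rw [← hdiv₁ j δ x]
    exact divFun_eq_zero_of_notMem_range i₁ δ (η₁ j) (f₁ j) x hx
  have hz₂ : ∀ (j : (sᶜ : Set ι)) (x : X), x ∉ Set.range i₂ →
      Cyc.divFun δ (ξ j.1) (f j.1) x = 0 := by
    intro j x hx
    rw [← hdiv₂ j δ x]
    exact divFun_eq_zero_of_notMem_range i₂ δ (η₂ j) (f₂ j) x hx
  -- the splitting of the sum
  obtain ⟨D₁, hD₁⟩ : ∃ D₁ : X → ℤ, D₁ = fun x => ∑ᶠ j : s, Cyc.divFun δ (ξ j.1) (f j.1) x :=
    ⟨_, rfl⟩
  obtain ⟨D₂, hD₂⟩ : ∃ D₂ : X → ℤ,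
      D₂ = fun x => ∑ᶠ j : (sᶜ : Set ι), Cyc.divFun δ (ξ j.1) (f j.1) x := ⟨_, rfl⟩
  obtain ⟨m₁, hm₁⟩ : ∃ m₁ : AlgebraicCycle X ℤ,
      m₁ = AlgebraicCycle.map i₁ (fun x => δ (i₁ x)) δ α₁ := ⟨_, rfl⟩
  obtain ⟨m₂, hm₂⟩ : ∃ m₂ : AlgebraicCycle X ℤ,
      m₂ = AlgebraicCycle.map i₂ (fun x => δ (i₂ x)) δ α₂ := ⟨_, rfl⟩
  rw [← hm₁, ← hm₂] at hsum
  have hsplit : ∀ x : X, m₁ x - m₂ x = D₁ x + D₂ x := by
    intro x
    have h1 := hsum x
    rw [Function.locallyFinsuppWithin.coe_sub, Pi.sub_apply] at h1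
    rw [h1, hD₁, hD₂]
    exact finsum_split s _ (finite_support_family δ ξ f hlf x)
  have hm₁y : ∀ y : X₁, m₁ (i₁ y) = α₁ y := by
    intro y
    rw [hm₁]
    exact map_closedImmersion_apply i₁ _ _ α₁ y rfl
  have hm₂y : ∀ y : X₂, m₂ (i₂ y) = α₂ y := by
    intro y
    rw [hm₂]
    exact map_closedImmersion_apply i₂ _ _ α₂ y rfl
  have hm₁0 : ∀ x : X, x ∉ Set.range i₁ → m₁ x = 0 := by
    intro x hx
    rw [hm₁]
    exact map_apply_notMem_range i₁ _ _ α₁ x hx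
  have hm₂0 : ∀ x : X, x ∉ Set.range i₂ → m₂ x = 0 := by
    intro x hx
    rw [hm₂]
    exact map_apply_notMem_range i₂ _ _ α₂ x hx
  have hD₁0 : ∀ x : X, x ∉ Set.range i₁ → D₁ x = 0 := by
    intro x hx
    rw [hD₁]
    exact finsum_eq_zero_of_forall_eq_zero (fun j => hz₁ j x hx)
  have hD₂0 : ∀ x : X, x ∉ Set.range i₂ → D₂ x = 0 := by
    intro x hx
    rw [hD₂]
    exact finsum_eq_zero_of_forall_eq_zero (fun j => hz₂ j x hx)
  have hD₁y : ∀ y : X₁, D₁ (i₁ y) =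
      ∑ᶠ j : s, Cyc.divFun (fun x => δ (i₁ x)) (η₁ j) (g₁ j) y := by
    intro y
    rw [hD₁]
    exact finsum_congr (fun j => (hd₁ j y).symm)
  have hD₂y : ∀ y : X₂, D₂ (i₂ y) =
      ∑ᶠ j : (sᶜ : Set ι), Cyc.divFun (fun x => δ (i₂ x)) (η₂ j) (g₂ j) y := by
    intro y
    rw [hD₂]
    exact finsum_congr (fun j => (hd₂ j y).symm)
  -- the cycle `Θ = m₁ - D₁` on `X`
  have hlf₁ : ∀ x : X, ∃ W : Set X, IsOpen W ∧ x ∈ W ∧
      {j : s | (closure {ξ j.1} ∩ W).Nonempty}.Finite := by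
    intro x
    obtain ⟨W, hWo, hxW, hfin⟩ := hlf x
    refine ⟨W, hWo, hxW, ?_⟩
    exact Set.Finite.of_injOn (f := fun j : s => j.1) (fun j hj => hj)
      Subtype.val_injective.injOn hfin
  obtain ⟨Dc₁, hDc₁⟩ := exists_cycle_of_family δ hδ (fun j : s => ξ j.1) (fun j => f j.1)
    (fun j => hf0 j.1) hlf₁
  obtain ⟨Θ, hΘ⟩ : ∃ Θ : AlgebraicCycle X ℤ, ∀ x, Θ x = m₁ x - D₁ x := by
    refine ⟨m₁ - Dc₁, fun x => ?_⟩
    rw [Function.locallyFinsuppWithin.coe_sub, Pi.sub_apply, hDc₁ x, hD₁]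
  have hΘ' : ∀ x, Θ x = m₂ x + D₂ x := by
    intro x
    rw [hΘ x]
    have := hsplit x
    omega
  have hD₁k : ∀ x : X, δ x ≠ k → D₁ x = 0 := by
    intro x hx
    rw [hD₁]
    apply finsum_eq_zero_of_forall_eq_zero
    intro j
    unfold Cyc.divFun
    by_cases hc : ξ j.1 ⤳ x ∧ δ x + 1 = δ (ξ j.1)
    · exfalso
      apply hx
      have h1 : δ (ξ j.1) = k + 1 := hξδ j.1
      omega
    · rw [dif_neg hc]
  -- the cycle on the intersection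
  have hcond : ∀ z : ↥(pullback i₁ i₂), i₁ (pullback.fst i₁ i₂ z) = i₂ (pullback.snd i₁ i₂ z) := by
    intro z
    have h3 := congrArg (fun φ : pullback i₁ i₂ ⟶ X => (φ : ↥(pullback i₁ i₂) → X) z)
      (pullback.condition (f := i₁) (g := i₂))
    exact h3
  have hinjq : Function.Injective (pullback.fst i₁ i₂ ≫ i₁ : pullback i₁ i₂ ⟶ X) :=
    injective_of_closedImmersion _
  obtain ⟨β, hβ⟩ := exists_pullback_cycle (pullback.fst i₁ i₂ ≫ i₁) hinjq Θ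
  have hβ' : ∀ z : ↥(pullback i₁ i₂), β z = Θ (i₁ (pullback.fst i₁ i₂ z)) := fun z => hβ z
  have hr₁ : Set.range (pullback.fst i₁ i₂) = (i₁ : X₁ → X) ⁻¹' Set.range i₂ :=
    Scheme.Pullback.range_fst i₁ i₂
  have hr₂ : Set.range (pullback.snd i₁ i₂) = (i₂ : X₂ → X) ⁻¹' Set.range i₁ :=
    Scheme.Pullback.range_snd i₁ i₂
  refine ⟨β, ?_, ?_, ?_⟩
  · intro z hz
    rw [hβ' z, hΘ, hm₁y, hD₁k _ hz, h₁ _ hz, sub_zero]
  · -- on `X₁`
    refine ⟨s, η₁, g₁, ?_, hg₁0, ?_, ?_⟩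
    · intro j
      show δ (i₁ (η₁ j)) = k + 1
      rw [hη₁ j]
      exact hξδ j.1
    · intro y
      obtain ⟨W, hWo, hxW, hfin⟩ := hlf (i₁ y)
      refine ⟨(i₁ : X₁ → X) ⁻¹' W, hWo.preimage i₁.continuous, hxW, ?_⟩
      refine Set.Finite.of_injOn (f := fun j : s => j.1) ?_ Subtype.val_injective.injOn hfin
      rintro j ⟨z, hz, hzW⟩
      have hsp : η₁ j ⤳ z := specializes_iff_mem_closure.mpr hz
      have hsp' : ξ j.1 ⤳ i₁ z := by
        rw [← hη₁ j]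
        exact hsp.map i₁.continuous
      exact ⟨i₁ z, specializes_iff_mem_closure.mp hsp', hzW⟩
    · intro y
      rw [Function.locallyFinsuppWithin.coe_sub, Pi.sub_apply, ← hD₁y y]
      by_cases hy : y ∈ Set.range (pullback.fst i₁ i₂)
      · obtain ⟨z, rfl⟩ := hy
        rw [map_closedImmersion_apply (pullback.fst i₁ i₂) _ _ β z rfl, hβ' z, hΘ, hm₁y]
        ring
      · rw [map_apply_notMem_range (pullback.fst i₁ i₂) _ _ β y hy, sub_zero]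
        have hx : i₁ y ∉ Set.range i₂ := by
          intro hmem
          apply hy
          rw [hr₁]
          exact hmem
        have e1 := hΘ (i₁ y)
        have e2 := hΘ' (i₁ y)
        rw [hm₂0 _ hx, hD₂0 _ hx, hm₁y] at *
        omega
  · -- on `X₂`
    refine ⟨(sᶜ : Set ι), η₂, fun j => (g₂ j)⁻¹, ?_, fun j => inv_ne_zero (hg₂0 j), ?_, ?_⟩
    · intro j
      show δ (i₂ (η₂ j)) = k + 1
      rw [hη₂ j]
      exact hξδ j.1
    · intro y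
      obtain ⟨W, hWo, hxW, hfin⟩ := hlf (i₂ y)
      refine ⟨(i₂ : X₂ → X) ⁻¹' W, hWo.preimage i₂.continuous, hxW, ?_⟩
      refine Set.Finite.of_injOn (f := fun j : (sᶜ : Set ι) => j.1) ?_
        Subtype.val_injective.injOn hfin
      rintro j ⟨z, hz, hzW⟩
      have hsp : η₂ j ⤳ z := specializes_iff_mem_closure.mpr hz
      have hsp' : ξ j.1 ⤳ i₂ z := by
        rw [← hη₂ j]
        exact hsp.map i₂.continuous
      exact ⟨i₂ z, specializes_iff_mem_closure.mp hsp', hzW⟩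
    · intro y
      have hneg : (∑ᶠ j : (sᶜ : Set ι), Cyc.divFun (fun x => δ (i₂ x)) (η₂ j) (g₂ j)⁻¹ y) =
          - D₂ (i₂ y) := by
        rw [hD₂y y, ← finsum_neg_distrib]
        exact finsum_congr (fun j => divFun_inv _ (η₂ j) (g₂ j) (hg₂0 j) y)
      rw [Function.locallyFinsuppWithin.coe_sub, Pi.sub_apply, hneg]
      by_cases hy : y ∈ Set.range (pullback.snd i₁ i₂)
      · obtain ⟨z, rfl⟩ := hy
        have hw : (fun z => δ (i₁ (pullback.fst i₁ i₂ z))) z =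
            (fun x => δ (i₂ x)) (pullback.snd i₁ i₂ z) := by
          show δ (i₁ (pullback.fst i₁ i₂ z)) = δ (i₂ (pullback.snd i₁ i₂ z))
          rw [hcond z]
        rw [map_closedImmersion_apply (pullback.snd i₁ i₂) _ _ β z hw, hβ' z, hcond z, hΘ',
          hm₂y]
        ring
      · rw [map_apply_notMem_range (pullback.snd i₁ i₂) _ _ β y hy, sub_zero]
        have hx : i₂ y ∉ Set.range i₁ := by
          intro hmem
          apply hy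
          rw [hr₂]
          exact hmem
        have e1 := hΘ (i₂ y)
        have e2 := hΘ' (i₂ y)
        rw [hm₁0 _ hx, hD₁0 _ hx, hm₂y] at *
        omega

end Groth.Agent.Lead.CycCl
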