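import Mathlib
import Groth.Prelude.Def_IntMult
import Groth.Agent.Lib.Lead.IntMultCM
import Groth.Agent.Lib.Lead.RLR5
import Groth.Agent.Lib.Lead.RLR2
import Groth.Agent.Lib.Helper9.RegLocExt
import Groth.Agent.Lib.Helper14.SmoothReg

/-!
# Intersection multiplicity one: transversal intersections in a regular local ring

If `I_V + I_W = 𝔪` in a regular local ring `A` and `dim A ≤ dim A/I_V + dim A/I_W`, then `A/I_V` and
`A/I_W` are regular, `I_V` is generated by part of a regular system of parameters, and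
`χ(A/I_W, A/I_V) = 1`.
-/

set_option autoImplicit false

open CategoryTheory CategoryTheory.Limits AlgebraicGeometry Opposite TopologicalSpace
open scoped Pointwise

universe u

namespace Groth.Agent.Lead.IntMultReg

open RingTheory.Sequence IsLocalRing Groth.Agent.Lead.RLR

/-! ### Algebra -/

section Algebra

variable {R : Type u} [CommRing R]

theorem spanFinrank_sup_le [IsNoetherianRing R] (J₁ J₂ : Ideal R) :
    (J₁ ⊔ J₂).spanFinrank ≤ J₁.spanFinrank + J₂.spanFinrank := by
  have h1 : Submodule.FG (J₁ : Submodule R R) := IsNoetherian.noetherian J₁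
  have h2 : Submodule.FG (J₂ : Submodule R R) := IsNoetherian.noetherian J₂
  have e : J₁ ⊔ J₂ = Submodule.span R (Submodule.generators J₁ ∪ Submodule.generators J₂) := by
    rw [Submodule.span_union, Submodule.span_generators, Submodule.span_generators]
  rw [e]
  calc (Submodule.span R (Submodule.generators J₁ ∪ Submodule.generators J₂)).spanFinrank
      ≤ (Submodule.generators J₁ ∪ Submodule.generators J₂).ncard :=
        Submodule.spanFinrank_span_le_ncard_of_finite
          ((Submodule.FG.finite_generators h1).union (Submodule.FG.finite_generators h2))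
    _ ≤ (Submodule.generators J₁).ncard + (Submodule.generators J₂).ncard :=
        Set.ncard_union_le _ _
    _ = J₁.spanFinrank + J₂.spanFinrank := by
        rw [Submodule.FG.generators_ncard h1, Submodule.FG.generators_ncard h2]

theorem core [IsRegularLocalRing R] (IV IW JV JW : Ideal R) (cV eV cW eW : ℕ)
    (hJV : JV ≤ IV) (hJW : JW ≤ IW) (hV : IV ≤ maximalIdeal R) (hW : IW ≤ maximalIdeal R)
    [IsRegularLocalRing (R ⧸ JV)] [IsRegularLocalRing (R ⧸ JW)]
    (hdimV : ringKrullDim (R ⧸ JV) = eV) (hdimW : ringKrullDim (R ⧸ JW) = eW)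
    (hcV : JV.spanFinrank ≤ cV) (hcW : JW.spanFinrank ≤ cW)
    (hceV : cV + eV = (maximalIdeal R).spanFinrank)
    (hceW : cW + eW = (maximalIdeal R).spanFinrank)
    (hIVle : IV ≤ JV ⊔ maximalIdeal R ^ 2) (hIWle : IW ≤ JW ⊔ maximalIdeal R ^ 2)
    (hsum : maximalIdeal R ≤ IV ⊔ IW)
    (hdim : ringKrullDim R ≤ ringKrullDim (R ⧸ IV) + ringKrullDim (R ⧸ IW)) :
    IV = JV ∧ IW = JW ∧ cV = eW := by
  have hJVm : JV ≤ maximalIdeal R := hJV.trans hV
  have hJWm : JW ≤ maximalIdeal R := hJW.trans hW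
  have hN : maximalIdeal R ≤ JV ⊔ JW := by
    apply Submodule.le_of_le_smul_of_le_jacobson_bot (I := maximalIdeal R)
      (IsNoetherian.noetherian _)
      (le_of_eq (IsLocalRing.jacobson_eq_maximalIdeal ⊥ bot_ne_top).symm)
    calc maximalIdeal R ≤ IV ⊔ IW := hsum
      _ ≤ (JV ⊔ maximalIdeal R ^ 2) ⊔ (JW ⊔ maximalIdeal R ^ 2) := sup_le_sup hIVle hIWle
      _ ≤ (JV ⊔ JW) ⊔ maximalIdeal R • maximalIdeal R := by
          rw [smul_eq_mul, ← sq]
          exact sup_le (sup_le (le_sup_of_le_left le_sup_left) le_sup_right)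
            (sup_le (le_sup_of_le_left le_sup_right) le_sup_right)
  have hmeq : maximalIdeal R = JV ⊔ JW := le_antisymm hN (sup_le hJVm hJWm)
  have hd_le : (maximalIdeal R).spanFinrank ≤ cV + cW := by
    conv_lhs => rw [hmeq]
    exact (spanFinrank_sup_le JV JW).trans (add_le_add hcV hcW)
  have hd : ringKrullDim R = (((maximalIdeal R).spanFinrank : ℕ) : WithBot ℕ∞) :=
    (IsRegularLocalRing.spanFinrank_maximalIdeal).symm
  have haV : ringKrullDim (R ⧸ IV) ≤ (eV : WithBot ℕ∞) := by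
    rw [← hdimV]
    exact ringKrullDim_le_of_surjective (Ideal.Quotient.factor hJV)
      (Ideal.Quotient.factor_surjective hJV)
  have haW : ringKrullDim (R ⧸ IW) ≤ (eW : WithBot ℕ∞) := by
    rw [← hdimW]
    exact ringKrullDim_le_of_surjective (Ideal.Quotient.factor hJW)
      (Ideal.Quotient.factor_surjective hJW)
  haveI : Nontrivial (R ⧸ IV) := Ideal.Quotient.nontrivial_iff.mpr
    (ne_top_of_le_ne_top (maximalIdeal.isMaximal R).ne_top hV)
  haveI : Nontrivial (R ⧸ IW) := Ideal.Quotient.nontrivial_iff.mpr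
    (ne_top_of_le_ne_top (maximalIdeal.isMaximal R).ne_top hW)
  obtain ⟨a, ha, hae⟩ := exists_nat_of_le ringKrullDim_nonneg_of_nontrivial haV
  obtain ⟨b, hb, hbe⟩ := exists_nat_of_le ringKrullDim_nonneg_of_nontrivial haW
  rw [hd, ha, hb] at hdim
  have hdim' : (maximalIdeal R).spanFinrank ≤ a + b := by exact_mod_cast hdim
  have ha' : a = eV := by omega
  have hb' : b = eW := by omega
  have hcb : cV = eW := by omega
  haveI : IsDomain (R ⧸ JV) := isDomain (R ⧸ JV)
  haveI : IsDomain (R ⧸ JW) := isDomain (R ⧸ JW)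
  have hIV : IV = JV := eq_of_le_of_ringKrullDim_le hJV (n := eV) (le_of_eq hdimV)
    (by rw [ha, ha'])
  have hIW : IW = JW := eq_of_le_of_ringKrullDim_le hJW (n := eW) (le_of_eq hdimW)
    (by rw [hb, hb'])
  exact ⟨hIV, hIW, hcb⟩

theorem transversal [IsRegularLocalRing R] (IV IW : Ideal R) (hV : IV ≤ maximalIdeal R)
    (hW : IW ≤ maximalIdeal R) (hsum : maximalIdeal R ≤ IV ⊔ IW)
    (hdim : ringKrullDim R ≤ ringKrullDim (R ⧸ IV) + ringKrullDim (R ⧸ IW)) :
    ∃ (c e : ℕ) (z : Fin (c + e) → R), ringKrullDim R = ((c + e : ℕ) : WithBot ℕ∞) ∧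
      Ideal.span (Set.range z) = maximalIdeal R ∧
      IV = Ideal.span (Set.range fun i : Fin c => z (Fin.castAdd e i)) ∧
      ringKrullDim (R ⧸ IW) = (c : WithBot ℕ∞) ∧
      IsRegularLocalRing (R ⧸ IV) ∧ IsRegularLocalRing (R ⧸ IW) := by
  obtain ⟨cV, eV, zV, hceV, hzV, hzVI, hIVle⟩ := exists_generators_adapted IV hV
  obtain ⟨cW, eW, zW, hceW, hzW, hzWI, hIWle⟩ := exists_generators_adapted IW hW
  have hJV : Ideal.span (Set.range fun i : Fin cV => zV (Fin.castAdd eV i)) ≤ IV :=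
    Ideal.span_le.2 (by rintro _ ⟨i, rfl⟩; exact hzVI i)
  have hJW : Ideal.span (Set.range fun i : Fin cW => zW (Fin.castAdd eW i)) ≤ IW :=
    Ideal.span_le.2 (by rintro _ ⟨i, rfl⟩; exact hzWI i)
  haveI : IsLocalRing (R ⧸ Ideal.span (Set.range fun i : Fin cV => zV (Fin.castAdd eV i))) :=
    isLocalRing_quotient
      (ne_top_of_le_ne_top (maximalIdeal.isMaximal R).ne_top (hJV.trans hV))
  haveI : IsLocalRing (R ⧸ Ideal.span (Set.range fun i : Fin cW => zW (Fin.castAdd eW i))) :=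
    isLocalRing_quotient
      (ne_top_of_le_ne_top (maximalIdeal.isMaximal R).ne_top (hJW.trans hW))
  obtain ⟨hregV, hdimV⟩ := isRegularLocalRing_quotient_span_range zV hzV hceV.symm
  obtain ⟨hregW, hdimW⟩ := isRegularLocalRing_quotient_span_range zW hzW hceW.symm
  have hcV : (Ideal.span (Set.range fun i : Fin cV => zV (Fin.castAdd eV i))).spanFinrank ≤ cV :=
    (Submodule.spanFinrank_span_le_ncard_of_finite (Set.finite_range _)).trans (ncard_range_le _)
  have hcW : (Ideal.span (Set.range fun i : Fin cW => zW (Fin.castAdd eW i))).spanFinrank ≤ cW :=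
    (Submodule.spanFinrank_span_le_ncard_of_finite (Set.finite_range _)).trans (ncard_range_le _)
  obtain ⟨hIV, hIW, hcb⟩ := core IV IW _ _ cV eV cW eW hJV hJW hV hW hdimV hdimW hcV hcW
    hceV hceW hIVle hIWle hsum hdim
  refine ⟨cV, eV, zV, ?_, hzV, hIV, ?_, ?_, ?_⟩
  · rw [← IsRegularLocalRing.spanFinrank_maximalIdeal, ← hceV]
  · rw [hIW, hdimW, hcb]
  · rw [hIV]; exact hregV
  · rw [hIW]; exact hregW

theorem isCohenMacaulayLocalRing_of_isRegularLocalRing (B : Type u) [CommRing B]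
    [IsRegularLocalRing B] : LocCoh.IsCohenMacaulayLocalRing B :=
  { supportDim_eq_depth := Groth.Agent.Helper9.RegLocExt.isCM_self }

theorem isRegular_prefix [IsRegularLocalRing R] {c e : ℕ} (z : Fin (c + e) → R)
    (hd : ringKrullDim R = ((c + e : ℕ) : WithBot ℕ∞))
    (hz : Ideal.span (Set.range z) = maximalIdeal R) :
    IsRegular R (List.ofFn fun i : Fin c => z (Fin.castAdd e i)) := by
  have h1 := isRegular_ofFn hd z hz
  apply IsRegular.of_isWeaklyRegular_of_mem_maximalIdeal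
  · intro r hr
    rw [List.mem_ofFn] at hr
    obtain ⟨i, rfl⟩ := hr
    rw [← hz]
    exact Ideal.subset_span ⟨_, rfl⟩
  · have h2 := h1.toIsWeaklyRegular
    rw [List.ofFn_add, isWeaklyRegular_append_iff] at h2
    exact h2.1

end Algebra

/-! ### Geometry -/

section Geometry

variable {X : Scheme.{u}}

open Groth.Agent.Helper28.IdealExt Groth.Agent.Lead.IntMultCart Groth.Agent.Lead.IntMultCM

/-- a smooth scheme over a regular ring has regular local rings (the argument of helper12's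
`WeilE.isRegularLocalRing_stalk_of_smooth`, repeated here to keep the import closure small). -/
theorem isRegularLocalRing_stalk_of_smooth (R : Type u) [CommRing R] [IsRegularRing R]
    (f : X ⟶ Spec (CommRingCat.of R)) [Smooth f] (x : X) :
    IsRegularLocalRing (X.presheaf.stalk x) := by
  obtain ⟨V, hV, hxV⟩ : ∃ V : X.Opens, IsAffineOpen V ∧ x ∈ V := by
    obtain ⟨_, ⟨V, hV, rfl⟩, hxV, -⟩ :=
      X.isBasis_affineOpens.exists_subset_of_mem_open (Set.mem_univ x) isOpen_univ
    exact ⟨V, hV, hxV⟩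
  let φ : CommRingCat.of R ⟶ Γ(X, V) :=
    (Scheme.ΓSpecIso (CommRingCat.of R)).inv ≫ f.appLE ⊤ V le_top
  have hsm : φ.hom.Smooth := by
    rw [CommRingCat.hom_comp, RingHom.Smooth.respectsIso.cancel_left_isIso]
    exact HasRingHomProperty.appLE (P := @Smooth) f inferInstance ⟨⊤, isAffineOpen_top _⟩
      ⟨V, hV⟩ le_top
  letI := φ.hom.toAlgebra
  haveI : Algebra.Smooth R Γ(X, V) := hsm
  haveI : IsRegularRing Γ(X, V) := Groth.Agent.Helper14.SmoothReg.isRegularRing_of_smooth R _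
  let q := hV.primeIdealOf ⟨x, hxV⟩
  letI : Algebra Γ(X, V) (X.presheaf.stalk x) :=
    TopCat.Presheaf.algebra_section_stalk X.presheaf (⟨x, hxV⟩ : V)
  haveI : IsLocalization.AtPrime (X.presheaf.stalk x) q.asIdeal :=
    hV.isLocalization_stalk ⟨x, hxV⟩
  exact IsRegularLocalRing.of_ringEquiv (IsLocalization.algEquiv q.asIdeal.primeCompl
    (Localization.AtPrime q.asIdeal) (X.presheaf.stalk x)).toRingEquiv

theorem ringKrullDim_le_add (K : Type u) [Field K] (f : X ⟶ Spec (CommRingCat.of K))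
    [LocallyOfFiniteType f] [IsIntegral X] (IV IW : X.IdealSheafData)
    [IsIntegral IV.subscheme] [IsIntegral IW.subscheme] (n r s : ℕ)
    (hn : topologicalKrullDim X = n) (hr : topologicalKrullDim IV.support = r)
    (hs : topologicalKrullDim IW.support = s)
    (hprop : IntMult.ProperInt (IV.support : Set X) (IW.support : Set X) n r s) (ξ : X)
    (hξV : ξ ∈ IV.support) (hξW : ξ ∈ IW.support) :
    ringKrullDim (X.presheaf.stalk ξ) ≤
      ringKrullDim (X.presheaf.stalk ξ ⧸ stalkIdeal IV ξ) +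
        ringKrullDim (X.presheaf.stalk ξ ⧸ stalkIdeal IW ξ) := by
  haveI : IsLocallyNoetherian X := LocallyOfFiniteType.isLocallyNoetherian f
  obtain ⟨δ, hδdef⟩ : ∃ δ : X → ℤ, δ = Groth.Agent.Helper14.DimClosure.trdegFun f := ⟨_, rfl⟩
  have hδ : Cyc.IsDimFun X δ := by
    rw [hδdef]; exact Groth.Agent.Helper14.DimClosure.isDimFun_trdegFun K f
  have hnn : ∀ t, 0 ≤ δ t := by
    intro t; rw [hδdef]; exact Groth.Agent.Helper14.DimClosure.trdegFun_nonneg f t
  have hcl : ∀ η : X, topologicalKrullDim ↥(closure ({η} : Set X)) =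
      (((δ η).toNat : ℕ) : WithBot ℕ∞) := by
    intro η; rw [hδdef]; exact Groth.Agent.Helper14.DimClosure.dim_closure_eq K f η
  have hmono : ∀ {a b : X}, a ⤳ b → δ b ≤ δ a := fun h =>
    Groth.Agent.Helper8.JD.delta_le_of_specializes δ hδ h
  obtain ⟨ηV, hηV⟩ := exists_isGenericPoint_support IV
  obtain ⟨ηW, hηW⟩ := exists_isGenericPoint_support IW
  have hr' : (((δ ηV).toNat : ℕ) : WithBot ℕ∞) = r := by
    rw [← hcl ηV, hηV.def]; exact hr
  have hs' : (((δ ηW).toNat : ℕ) : WithBot ℕ∞) = s := by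
    rw [← hcl ηW, hηW.def]; exact hs
  have hn' : (((δ (genericPoint X)).toNat : ℕ) : WithBot ℕ∞) = n := by
    rw [← hcl (genericPoint X), (genericPoint_spec X).def, ← hn]
    exact IsHomeomorph.topologicalKrullDim_eq _ (Homeomorph.Set.univ X).isHomeomorph
  obtain ⟨hle, h2⟩ := hprop ⟨ξ, hξV, hξW⟩
  have ht : (((δ ξ).toNat : ℕ) : WithBot ℕ∞) ≤ ((r + s - n : ℕ) : WithBot ℕ∞) := by
    rw [← hcl ξ]
    refine le_trans (Groth.Agent.Helper8.JD.topDim_mono ?_) h2
    exact closure_minimal (Set.singleton_subset_iff.2 ⟨hξV, hξW⟩)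
      (IV.support.isClosed.inter IW.support.isClosed)
  have dV : ringKrullDim (X.presheaf.stalk ξ ⧸ stalkIdeal IV ξ) =
      (((δ ηV - δ ξ).toNat : ℕ) : WithBot ℕ∞) := by
    rw [ringKrullDim_quot_stalkIdeal]
    exact Groth.Agent.Helper8.JD.topDim_gen δ hδ (IV.support : Set X) IV.support.isClosed ξ
      ηV hηV.mem (hηV.specializes hξV) (fun η hη _ => hmono (hηV.specializes hη))
  have dW : ringKrullDim (X.presheaf.stalk ξ ⧸ stalkIdeal IW ξ) =
      (((δ ηW - δ ξ).toNat : ℕ) : WithBot ℕ∞) := by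
    rw [ringKrullDim_quot_stalkIdeal]
    exact Groth.Agent.Helper8.JD.topDim_gen δ hδ (IW.support : Set X) IW.support.isClosed ξ
      ηW hηW.mem (hηW.specializes hξW) (fun η hη _ => hmono (hηW.specializes hη))
  have dX : ringKrullDim (X.presheaf.stalk ξ) =
      (((δ (genericPoint X) - δ ξ).toNat : ℕ) : WithBot ℕ∞) := by
    have h1 := ringKrullDim_quot_stalkIdeal (⊥ : X.IdealSheafData) ξ
    rw [stalkIdeal_bot] at h1
    rw [← ringKrullDim_eq_of_ringEquiv (RingEquiv.quotientBot (X.presheaf.stalk ξ)), h1]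
    exact Groth.Agent.Helper8.JD.topDim_gen δ hδ ((⊥ : X.IdealSheafData).support : Set X)
      (⊥ : X.IdealSheafData).support.isClosed ξ (genericPoint X)
      (by rw [Scheme.IdealSheafData.support_bot]; trivial)
      (genericPoint_specializes ξ) (fun η _ _ => hmono (genericPoint_specializes η))
  rw [dV, dW, dX]
  have e1 : (δ ηV).toNat = r := by exact_mod_cast hr'
  have e2 : (δ ηW).toNat = s := by exact_mod_cast hs'
  have e3 : (δ (genericPoint X)).toNat = n := by exact_mod_cast hn'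
  have e4 : (δ ξ).toNat ≤ r + s - n := by exact_mod_cast ht
  have hVξ : δ ξ ≤ δ ηV := hmono (hηV.specializes hξV)
  have hWξ : δ ξ ≤ δ ηW := hmono (hηW.specializes hξW)
  have hXξ : δ ξ ≤ δ (genericPoint X) := hmono (genericPoint_specializes ξ)
  have p1 := hnn ξ
  have p2 := hnn ηV
  have p3 := hnn ηW
  have p4 := hnn (genericPoint X)
  have goal : (δ (genericPoint X) - δ ξ).toNat ≤ (δ ηV - δ ξ).toNat + (δ ηW - δ ξ).toNat := by
    omega
  exact_mod_cast goal

theorem main (K : Type u) [Field K] (X : Scheme.{u}) (f : X ⟶ Spec (CommRingCat.of K))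
    [Smooth f] [IsIntegral X] (IV IW : X.IdealSheafData)
    [IsIntegral IV.subscheme] [IsIntegral IW.subscheme] (n r s : ℕ)
    (hn : topologicalKrullDim X = n) (hr : topologicalKrullDim IV.support = r)
    (hs : topologicalKrullDim IW.support = s)
    (hprop : IntMult.ProperInt (IV.support : Set X) (IW.support : Set X) n r s) (ξ : X)
    (hξV : ξ ∈ IV.support) (hξW : ξ ∈ IW.support)
    (hmax : ∀ ξ' : X, ξ' ∈ IV.support → ξ' ∈ IW.support → ξ' ⤳ ξ → ξ' = ξ)
    (h1 : Module.length (X.presheaf.stalk ξ) (↑(X.presheaf.stalk ξ) ⧸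
      (IntMult.stalkIdeal IV ξ ⊔ IntMult.stalkIdeal IW ξ)) = 1) :
    IntMult.mult IV IW ξ = 1 ∧
      IsRegularLocalRing (↑(X.presheaf.stalk ξ) ⧸ IntMult.stalkIdeal IV ξ) ∧
      IsRegularLocalRing (↑(X.presheaf.stalk ξ) ⧸ IntMult.stalkIdeal IW ξ) := by
  haveI : LocallyOfFiniteType f := inferInstance
  haveI : IsLocallyNoetherian X := LocallyOfFiniteType.isLocallyNoetherian f
  haveI hA : IsRegularLocalRing (X.presheaf.stalk ξ) := isRegularLocalRing_stalk_of_smooth K f ξ
  have hV : stalkIdeal IV ξ ≤ maximalIdeal (X.presheaf.stalk ξ) :=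
    (mem_support_iff_stalkIdeal_le IV ξ).1 hξV
  have hW : stalkIdeal IW ξ ≤ maximalIdeal (X.presheaf.stalk ξ) :=
    (mem_support_iff_stalkIdeal_le IW ξ).1 hξW
  have h1' : Module.length (X.presheaf.stalk ξ) (↑(X.presheaf.stalk ξ) ⧸
      (stalkIdeal IV ξ ⊔ stalkIdeal IW ξ)) = 1 := h1
  have hsum : maximalIdeal (X.presheaf.stalk ξ) ≤ stalkIdeal IV ξ ⊔ stalkIdeal IW ξ := by
    have hs1 : IsSimpleModule (X.presheaf.stalk ξ) (↑(X.presheaf.stalk ξ) ⧸
        (stalkIdeal IV ξ ⊔ stalkIdeal IW ξ)) := Module.length_eq_one_iff.1 h1'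
    have hco : IsCoatom (stalkIdeal IV ξ ⊔ stalkIdeal IW ξ) := isSimpleModule_iff_isCoatom.1 hs1
    have hmax' : (stalkIdeal IV ξ ⊔ stalkIdeal IW ξ).IsMaximal := Ideal.isMaximal_def.2 hco
    exact le_of_eq (IsLocalRing.eq_maximalIdeal hmax').symm
  have hdim := ringKrullDim_le_add K f IV IW n r s hn hr hs hprop ξ hξV hξW
  obtain ⟨c, e, z, hd, hz, hIV, hdW, hregV, hregW⟩ :=
    transversal (stalkIdeal IV ξ) (stalkIdeal IW ξ) hV hW hsum hdim
  have hreg := isRegular_prefix z hd hz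
  have hCM : LocCoh.IsCohenMacaulayLocalRing (↑(X.presheaf.stalk ξ) ⧸ IntMult.stalkIdeal IW ξ) :=
    @isCohenMacaulayLocalRing_of_isRegularLocalRing _ _ hregW
  have hm := Groth.Agent.Lead.IntMultCM.main K X f IV IW n r s hn hr hs hprop ξ hξV hξW hmax c
    (fun i => z (Fin.castAdd e i)) hIV hreg hCM
  refine ⟨?_, hregV, hregW⟩
  have h2 : Module.length (X.presheaf.stalk ξ) (↑(X.presheaf.stalk ξ) ⧸
      (IntMult.stalkIdeal IW ξ ⊔ IntMult.stalkIdeal IV ξ)) = 1 := by
    rw [sup_comm]; exact h1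
  rw [h2] at hm
  simpa using hm

end Geometry

end Groth.Agent.Lead.IntMultReg
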