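import Mathlib
import Groth.Prelude.Def_IntMult
import Groth.Agent.Lib.Lead.IntMultReg
import Groth.Agent.Lib.Helper3.RegImm2
import Groth.Agent.Lib.Helper14.SubschemeStalk

/-!
# Multiplicity one for closed subschemes (cycle-level statement)

`main`: for closed subschemes `Y, Z` of a nonsingular variety `X` and a point `τ` of the expected
δ-dimension at which `Y ×_X Z` has length one, the coefficient of `τ` in `[Y]_r · [Z]_s` is `1` and
`Y`, `Z` are regular at `τ`.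
-/

set_option autoImplicit false

open CategoryTheory CategoryTheory.Limits AlgebraicGeometry Opposite TopologicalSpace
open scoped Pointwise

universe u

namespace Groth.Agent.Lead.IntMultOne

open RingTheory.Sequence IsLocalRing Groth.Agent.Lead.RLR
open Groth.Agent.Helper28.IdealExt Groth.Agent.Lead.IntMultCart Groth.Agent.Lead.IntMultCM
  Groth.Agent.Lead.IntMultReg Groth.Agent.Lead.SecOrd

/-! ### Algebra -/

theorem length_eq_of_surjective_ringHom {A C : Type u} [CommRing A] [CommRing C] (ψ : A →+* C)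
    (hψ : Function.Surjective ψ) :
    Module.length C C = Module.length A (A ⧸ RingHom.ker ψ) := by
  letI : Algebra A C := ψ.toAlgebra
  have h1 : Module.length A C = Module.length C C :=
    Module.length_eq_of_surjective (S := A) (R := C) (M := C) hψ
  have h2 : Module.length A (A ⧸ RingHom.ker (Algebra.ofId A C)) = Module.length A C :=
    (Ideal.quotientKerAlgEquivOfSurjective (f := Algebra.ofId A C) hψ).toLinearEquiv.length_eq
  rw [← h1, ← h2]
  rfl

theorem length_quot_maximalIdeal (B : Type u) [CommRing B] [IsLocalRing B] :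
    Module.length B (B ⧸ maximalIdeal B) = 1 :=
  Module.length_eq_one_iff.2 (isSimpleModule_iff_isCoatom.2
    (Ideal.isMaximal_def.1 (maximalIdeal.isMaximal B)))

theorem eq_maximalIdeal_of_length_eq_one {B : Type u} [CommRing B] [IsLocalRing B] (I : Ideal B)
    (h : Module.length B (B ⧸ I) = 1) : I = maximalIdeal B := by
  have hs1 : IsSimpleModule B (B ⧸ I) := Module.length_eq_one_iff.1 h
  have hco : IsCoatom I := isSimpleModule_iff_isCoatom.1 hs1
  exact IsLocalRing.eq_maximalIdeal (Ideal.isMaximal_def.2 hco)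

theorem chi_congr {A : Type u} [CommRing A] {I I' J J' : Ideal A} (hI : I = I') (hJ : J = J') :
    IntMult.chi A (A ⧸ I) (A ⧸ J) = IntMult.chi A (A ⧸ I') (A ⧸ J') := by
  subst hI
  subst hJ
  rfl

/-! ### Geometry -/

section Geometry

variable {X : Scheme.{u}}

theorem ker_stalkMap_eq_stalkIdeal {Z : Scheme.{u}} (i : Z ⟶ X) [IsClosedImmersion i] (z : Z) :
    RingHom.ker (i.stalkMap z).hom = stalkIdeal i.ker (i z) := by
  obtain ⟨_, ⟨V, hV, rfl⟩, hxV, -⟩ :=
    X.isBasis_affineOpens.exists_subset_of_mem_open (Set.mem_univ (i z)) isOpen_univ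
  rw [stalkIdeal_eq i.ker ⟨V, hV⟩ (i z) hxV]
  exact Groth.Agent.Helper3.RegImm2.ker_stalkMap_closedImmersion i z ⟨V, hV⟩ hxV

theorem length_stalk_closedImmersion {Z : Scheme.{u}} (i : Z ⟶ X) [IsClosedImmersion i] (z : Z) :
    Module.length (Z.presheaf.stalk z) (Z.presheaf.stalk z) =
      Module.length (X.presheaf.stalk (i z))
        (X.presheaf.stalk (i z) ⧸ stalkIdeal i.ker (i z)) := by
  rw [← ker_stalkMap_eq_stalkIdeal]
  exact length_eq_of_surjective_ringHom (i.stalkMap z).hom (Scheme.Hom.stalkMap_surjective i z)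

theorem subschemeFun_apply_closedImmersion {Z : Scheme.{u}} (δ : X → ℤ) (k : ℤ) (i : Z ⟶ X)
    [IsClosedImmersion i] (z : Z) (hk : δ (i z) = k) :
    Cyc.subschemeFun δ k i (i z) =
      ((Module.length (Z.presheaf.stalk z) (Z.presheaf.stalk z)).toNat : ℤ) := by
  have hinj : Function.Injective i := i.isClosedEmbedding.injective
  have hset : {z' : Z | i z' = i z} = {z} := by
    ext z'
    simp only [Set.mem_setOf_eq, Set.mem_singleton_iff]
    exact ⟨fun h => hinj h, fun h => by rw [h]⟩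
  unfold Cyc.subschemeFun
  rw [if_pos hk, hset, finsum_mem_singleton]

theorem exists_of_subschemeFun_ne_zero {Z : Scheme.{u}} (δ : X → ℤ) (k : ℤ) (i : Z ⟶ X) (x : X)
    (h : Cyc.subschemeFun δ k i x ≠ 0) : δ x = k ∧ ∃ z, i z = x := by
  unfold Cyc.subschemeFun at h
  by_cases hk : δ x = k
  · refine ⟨hk, ?_⟩
    by_contra hne
    push Not at hne
    apply h
    rw [if_pos hk]
    have hempty : {z : Z | i z = x} = ∅ := by
      ext z
      simp [hne z]
    rw [hempty, finsum_mem_empty]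
  · rw [if_neg hk] at h
    exact absurd rfl h

theorem mem_support_ker_iff {Y : Scheme.{u}} (i : Y ⟶ X) [IsClosedImmersion i] (t : X) :
    t ∈ i.ker.support ↔ t ∈ Set.range i := by
  rw [← SetLike.mem_coe, Scheme.Hom.support_ker, i.isClosedEmbedding.isClosed_range.closure_eq]

theorem ker_stalkMap_fst_comp {Y Z : Scheme.{u}} (ιY : Y ⟶ X) (ιZ : Z ⟶ X)
    [IsClosedImmersion ιY] [IsClosedImmersion ιZ] (w : ↥(pullback ιY ιZ)) :
    RingHom.ker ((pullback.fst ιY ιZ ≫ ιY).stalkMap w).hom =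
      stalkIdeal ιY.ker ((pullback.fst ιY ιZ ≫ ιY) w) ⊔
        stalkIdeal ιZ.ker ((pullback.fst ιY ιZ ≫ ιY) w) := by
  have hsurj : Function.Surjective (ιY.stalkMap (pullback.fst ιY ιZ w)).hom :=
    Scheme.Hom.stalkMap_surjective ιY _
  have h2 : RingHom.ker ((pullback.fst ιY ιZ).stalkMap w).hom =
      (stalkIdeal ιZ.ker (ιY (pullback.fst ιY ιZ w))).map
        (ιY.stalkMap (pullback.fst ιY ιZ w)).hom := by
    rw [ker_stalkMap_eq_stalkIdeal, Scheme.IdealSheafData.ker_fst_of_isClosedImmersion,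
      stalkIdeal_comap]
  have h3 : RingHom.ker (ιY.stalkMap (pullback.fst ιY ιZ w)).hom =
      stalkIdeal ιY.ker (ιY (pullback.fst ιY ιZ w)) := ker_stalkMap_eq_stalkIdeal ιY _
  have key : RingHom.ker (ιY.stalkMap (pullback.fst ιY ιZ w) ≫
      (pullback.fst ιY ιZ).stalkMap w).hom =
      stalkIdeal ιY.ker (ιY (pullback.fst ιY ιZ w)) ⊔
        stalkIdeal ιZ.ker (ιY (pullback.fst ιY ιZ w)) := by
    rw [CommRingCat.hom_comp, ← RingHom.comap_ker, h2,
      Ideal.comap_map_of_surjective _ hsurj, ← RingHom.ker_eq_comap_bot, h3, sup_comm]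
  rw [Scheme.Hom.stalkMap_comp]
  exact key

/-- the stalk at `τ` of the ideal sheaf of the closure of a generization `ξ` of `τ` is the prime of
`ξ` in `O_{X,τ}`. -/
theorem stalkIdeal_ptIdeal {ξ τ : X} (h : ξ ⤳ τ) :
    stalkIdeal (IntMult.ptIdeal ξ) τ = RingHom.ker (Cyc.specMap τ ξ h) := by
  obtain ⟨_, ⟨U, hU, rfl⟩, hτU, -⟩ :=
    X.isBasis_affineOpens.exists_subset_of_mem_open (Set.mem_univ τ) isOpen_univ
  have hξU : ξ ∈ U := h.mem_open U.2 hτU
  rw [stalkIdeal_eq _ ⟨U, hU⟩ τ hτU]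
  unfold IntMult.ptIdeal
  rw [Groth.Agent.Helper14.SubschemeStalk.ideal_vanishingIdeal_closure hU
    ⟨closure {ξ}, isClosed_closure⟩ ξ rfl hξU]
  letI : Algebra Γ(X, U) (X.presheaf.stalk τ) := (X.presheaf.germ U τ hτU).hom.toAlgebra
  haveI : IsLocalization.AtPrime (X.presheaf.stalk τ) (hU.primeIdealOf ⟨τ, hτU⟩).asIdeal :=
    hU.isLocalization_stalk ⟨τ, hτU⟩
  have hcomap : Ideal.comap (X.presheaf.germ U τ hτU).hom (RingHom.ker (Cyc.specMap τ ξ h)) =
      (hU.primeIdealOf ⟨ξ, hξU⟩).asIdeal := by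
    rw [ker_specMap h, Ideal.comap_comap, ← CommRingCat.hom_comp,
      TopCat.Presheaf.germ_stalkSpecializes, hU.primeIdealOf_eq_map_closedPoint]
    rfl
  rw [← hcomap]
  exact IsLocalization.map_comap (hU.primeIdealOf ⟨τ, hτU⟩).asIdeal.primeCompl
    (X.presheaf.stalk τ) _

theorem coe_support_ptIdeal (ξ : X) :
    ((IntMult.ptIdeal ξ).support : Set X) = closure {ξ} := by
  unfold IntMult.ptIdeal
  rw [Scheme.IdealSheafData.coe_support_vanishingIdeal]
  rfl

/-- dimension of `O_{X,τ}/𝔭_ξ` for `ξ ⤳ τ` via a dimension function -/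
theorem ringKrullDim_quot_ker_specMap [IsLocallyNoetherian X] (δ : X → ℤ)
    (hδ : Cyc.IsDimFun X δ) {ξ τ : X} (h : ξ ⤳ τ) :
    ringKrullDim (X.presheaf.stalk τ ⧸ RingHom.ker (Cyc.specMap τ ξ h)) =
      (((δ ξ - δ τ).toNat : ℕ) : WithBot ℕ∞) := by
  rw [← stalkIdeal_ptIdeal h, ringKrullDim_quot_stalkIdeal]
  exact Groth.Agent.Helper8.JD.topDim_gen δ hδ ((IntMult.ptIdeal ξ).support : Set X)
    (IntMult.ptIdeal ξ).support.isClosed τ ξ
    (by rw [coe_support_ptIdeal]; exact subset_closure rfl) h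
    (fun η hη _ => by
      rw [coe_support_ptIdeal] at hη
      exact Groth.Agent.Helper8.JD.delta_le_of_specializes δ hδ
        (specializes_iff_mem_closure.2 hη))

theorem length_quot_stalkIdeal_eq_one (I : X.IdealSheafData) {ξ τ : X} (h : ξ ⤳ τ)
    (hI : stalkIdeal I τ = RingHom.ker (Cyc.specMap τ ξ h)) :
    Module.length (X.presheaf.stalk ξ) (X.presheaf.stalk ξ ⧸ stalkIdeal I ξ) = 1 := by
  have h1 : stalkIdeal I ξ = maximalIdeal (X.presheaf.stalk ξ) := by
    rw [← stalkIdeal_map_spec I h, hI, ker_specMap h]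
    letI : Algebra (X.presheaf.stalk τ) (X.presheaf.stalk ξ) :=
      (X.presheaf.stalkSpecializes h).hom.toAlgebra
    haveI : (Ideal.comap (X.presheaf.stalkSpecializes h).hom
      (IsLocalRing.maximalIdeal (X.presheaf.stalk ξ))).IsPrime := Ideal.comap_isPrime _ _
    haveI hloc := Groth.Agent.Helper23.RegPull.isLocalization_stalkSpecializes X h
    exact IsLocalization.map_comap (Ideal.comap (X.presheaf.stalkSpecializes h).hom
      (IsLocalRing.maximalIdeal (X.presheaf.stalk ξ))).primeCompl (X.presheaf.stalk ξ) _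
  rw [h1]
  exact length_quot_maximalIdeal _

/-- the local statement in terms of ideal sheaves -/
theorem lemmaA (K : Type u) [Field K] (f : X ⟶ Spec (CommRingCat.of K)) [Smooth f]
    [IsIntegral X] (δ : X → ℤ) (hX : Cyc.IsSetup X δ) (n : ℤ) (hn : δ (genericPoint X) = n)
    (IV IW : X.IdealSheafData) (r s : ℤ)
    (hV : ∀ t : X, t ∈ IV.support → δ t ≤ r) (hW : ∀ t : X, t ∈ IW.support → δ t ≤ s)
    (τ : X) (hτ : δ τ = r + s - n) (ξ η : X) (hξV : ξ ∈ IV.support) (hηW : η ∈ IW.support)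
    (hξr : δ ξ = r) (hηs : δ η = s) (hξτ : ξ ⤳ τ) (hητ : η ⤳ τ)
    (hlen : Module.length (X.presheaf.stalk τ)
      (X.presheaf.stalk τ ⧸ (stalkIdeal IV τ ⊔ stalkIdeal IW τ)) = 1) :
    stalkIdeal IV τ = RingHom.ker (Cyc.specMap τ ξ hξτ) ∧
    stalkIdeal IW τ = RingHom.ker (Cyc.specMap τ η hητ) ∧
    IsRegularLocalRing (X.presheaf.stalk τ ⧸ stalkIdeal IV τ) ∧
    IsRegularLocalRing (X.presheaf.stalk τ ⧸ stalkIdeal IW τ) ∧
    IntMult.chi (X.presheaf.stalk τ) (X.presheaf.stalk τ ⧸ stalkIdeal IW τ)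
      (X.presheaf.stalk τ ⧸ stalkIdeal IV τ) = 1 := by
  haveI : IsLocallyNoetherian X := hX.1
  have hδ : Cyc.IsDimFun X δ := hX.2.2
  have hmono : ∀ {a b : X}, a ⤳ b → δ b ≤ δ a := fun h =>
    Groth.Agent.Helper8.JD.delta_le_of_specializes δ hδ h
  haveI hA : IsRegularLocalRing (X.presheaf.stalk τ) := isRegularLocalRing_stalk_of_smooth K f τ
  have hsupeq : stalkIdeal IV τ ⊔ stalkIdeal IW τ = maximalIdeal (X.presheaf.stalk τ) :=
    eq_maximalIdeal_of_length_eq_one _ hlen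
  have hsum : maximalIdeal (X.presheaf.stalk τ) ≤ stalkIdeal IV τ ⊔ stalkIdeal IW τ :=
    le_of_eq hsupeq.symm
  have hVm : stalkIdeal IV τ ≤ maximalIdeal (X.presheaf.stalk τ) := by
    rw [← hsupeq]; exact le_sup_left
  have hWm : stalkIdeal IW τ ≤ maximalIdeal (X.presheaf.stalk τ) := by
    rw [← hsupeq]; exact le_sup_right
  have dV : ringKrullDim (X.presheaf.stalk τ ⧸ stalkIdeal IV τ) =
      (((δ ξ - δ τ).toNat : ℕ) : WithBot ℕ∞) := by
    rw [ringKrullDim_quot_stalkIdeal]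
    exact Groth.Agent.Helper8.JD.topDim_gen δ hδ (IV.support : Set X) IV.support.isClosed τ
      ξ hξV hξτ (fun t ht _ => by rw [hξr]; exact hV t ht)
  have dW : ringKrullDim (X.presheaf.stalk τ ⧸ stalkIdeal IW τ) =
      (((δ η - δ τ).toNat : ℕ) : WithBot ℕ∞) := by
    rw [ringKrullDim_quot_stalkIdeal]
    exact Groth.Agent.Helper8.JD.topDim_gen δ hδ (IW.support : Set X) IW.support.isClosed τ
      η hηW hητ (fun t ht _ => by rw [hηs]; exact hW t ht)
  have dX : ringKrullDim (X.presheaf.stalk τ) =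
      (((δ (genericPoint X) - δ τ).toNat : ℕ) : WithBot ℕ∞) := by
    have h1 := ringKrullDim_quot_stalkIdeal (⊥ : X.IdealSheafData) τ
    rw [stalkIdeal_bot] at h1
    rw [← ringKrullDim_eq_of_ringEquiv (RingEquiv.quotientBot (X.presheaf.stalk τ)), h1]
    exact Groth.Agent.Helper8.JD.topDim_gen δ hδ ((⊥ : X.IdealSheafData).support : Set X)
      (⊥ : X.IdealSheafData).support.isClosed τ (genericPoint X)
      (by rw [Scheme.IdealSheafData.support_bot]; trivial)
      (genericPoint_specializes τ) (fun η _ _ => hmono (genericPoint_specializes η))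
  have hdim : ringKrullDim (X.presheaf.stalk τ) ≤
      ringKrullDim (X.presheaf.stalk τ ⧸ stalkIdeal IV τ) +
        ringKrullDim (X.presheaf.stalk τ ⧸ stalkIdeal IW τ) := by
    rw [dV, dW, dX]
    have goal : (δ (genericPoint X) - δ τ).toNat ≤ (δ ξ - δ τ).toNat + (δ η - δ τ).toNat := by
      rw [hn, hξr, hηs, hτ]
      omega
    exact_mod_cast goal
  obtain ⟨c, e, z, hd, hz, hIV, hdW, hregV, hregW⟩ :=
    transversal (stalkIdeal IV τ) (stalkIdeal IW τ) hVm hWm hsum hdim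
  haveI := hregV
  haveI := hregW
  haveI : IsDomain (X.presheaf.stalk τ ⧸ stalkIdeal IV τ) := isDomain _
  haveI : IsDomain (X.presheaf.stalk τ ⧸ stalkIdeal IW τ) := isDomain _
  have eV : stalkIdeal IV τ = RingHom.ker (Cyc.specMap τ ξ hξτ) := by
    have hle : stalkIdeal IV τ ≤ RingHom.ker (Cyc.specMap τ ξ hξτ) :=
      (stalkIdeal_le_ker_iff IV hξτ).2 hξV
    exact (eq_of_le_of_ringKrullDim_le hle (n := (δ ξ - δ τ).toNat) (le_of_eq dV)
      (le_of_eq (ringKrullDim_quot_ker_specMap δ hδ hξτ).symm)).symm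
  have eW : stalkIdeal IW τ = RingHom.ker (Cyc.specMap τ η hητ) := by
    have hle : stalkIdeal IW τ ≤ RingHom.ker (Cyc.specMap τ η hητ) :=
      (stalkIdeal_le_ker_iff IW hητ).2 hηW
    exact (eq_of_le_of_ringKrullDim_le hle (n := (δ η - δ τ).toNat) (le_of_eq dW)
      (le_of_eq (ringKrullDim_quot_ker_specMap δ hδ hητ).symm)).symm
  refine ⟨eV, eW, hregV, hregW, ?_⟩
  have hreg := isRegular_prefix z hd hz
  haveI hCM : LocCoh.IsCohenMacaulayLocalRing (X.presheaf.stalk τ ⧸ stalkIdeal IW τ) :=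
    isCohenMacaulayLocalRing_of_isRegularLocalRing _
  have hof : Ideal.ofList (List.ofFn fun i : Fin c => z (Fin.castAdd e i)) =
      stalkIdeal IV τ := by
    rw [hIV]
    unfold Ideal.ofList
    congr 1
    ext x
    simp [List.mem_ofFn]
  have hlen' : (List.ofFn fun i : Fin c => z (Fin.castAdd e i)).length = c := List.length_ofFn
  have hsupeq' : stalkIdeal IW τ ⊔ stalkIdeal IV τ = maximalIdeal (X.presheaf.stalk τ) := by
    rw [sup_comm]; exact hsupeq
  have h0 : ringKrullDim (X.presheaf.stalk τ ⧸ (stalkIdeal IW τ ⊔ stalkIdeal IV τ)) ≤ 0 := by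
    rw [hsupeq']
    exact le_of_eq (ringKrullDim_eq_zero_of_isField
      ((Ideal.Quotient.maximal_ideal_iff_isField_quotient _).1
        (maximalIdeal.isMaximal (X.presheaf.stalk τ))))
  have key := main_alg (stalkIdeal IW τ) (List.ofFn fun i : Fin c => z (Fin.castAdd e i)) hreg
    (by rw [hlen', hdW]) (by rw [hof]; exact h0)
  rw [hof, hsupeq', length_quot_maximalIdeal] at key
  rw [key]
  rfl

/-- S1954 -/
theorem main (K : Type u) [Field K] (X : Scheme.{u}) (f : X ⟶ Spec (CommRingCat.of K))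
    [Smooth f] [IsIntegral X] (δ : X → ℤ) (hX : Cyc.IsSetup X δ) (n : ℤ)
    (hn : δ (genericPoint X) = n) (Y Z : Scheme.{u}) (ιY : Y ⟶ X) (ιZ : Z ⟶ X)
    [IsClosedImmersion ιY] [IsClosedImmersion ιZ] (r s : ℤ) (hY : ∀ y : Y, δ (ιY y) ≤ r)
    (hZ : ∀ z : Z, δ (ιZ z) ≤ s) (τ : X) (hτ : δ τ = r + s - n)
    (hξ : ∃ ξ η : X, Cyc.subschemeFun δ r ιY ξ ≠ 0 ∧ Cyc.subschemeFun δ s ιZ η ≠ 0 ∧
      ξ ⤳ τ ∧ η ⤳ τ)
    (hmult : Cyc.subschemeFun δ (r + s - n) (pullback.fst ιY ιZ ≫ ιY) τ = 1) :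
    IntMult.interProd δ n (Cyc.subschemeFun δ r ιY) (Cyc.subschemeFun δ s ιZ) τ = 1 ∧
      (∀ y : Y, ιY y = τ → IsRegularLocalRing (Y.presheaf.stalk y)) ∧
      (∀ z : Z, ιZ z = τ → IsRegularLocalRing (Z.presheaf.stalk z)) := by
  classical
  obtain ⟨-, w, hw⟩ := exists_of_subschemeFun_ne_zero δ (r + s - n)
    (pullback.fst ιY ιZ ≫ ιY) τ (by rw [hmult]; exact one_ne_zero)
  subst hw
  -- the length hypothesis
  have h1 := subschemeFun_apply_closedImmersion δ (r + s - n) (pullback.fst ιY ιZ ≫ ιY) w hτ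
  rw [hmult] at h1
  have h2 : (Module.length ((pullback ιY ιZ).presheaf.stalk w)
      ((pullback ιY ιZ).presheaf.stalk w)).toNat = 1 := by exact_mod_cast h1.symm
  have h3 : Module.length ((pullback ιY ιZ).presheaf.stalk w)
      ((pullback ιY ιZ).presheaf.stalk w) = 1 := by
    have := (ENat.toNat_eq_iff one_ne_zero).1 h2
    exact_mod_cast this
  have h4 := length_eq_of_surjective_ringHom ((pullback.fst ιY ιZ ≫ ιY).stalkMap w).hom
    (Scheme.Hom.stalkMap_surjective _ w)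
  rw [ker_stalkMap_fst_comp, h3] at h4
  -- supports
  have hV : ∀ t : X, t ∈ ιY.ker.support → δ t ≤ r := by
    intro t ht
    obtain ⟨y, rfl⟩ := (mem_support_ker_iff ιY t).1 ht
    exact hY y
  have hW : ∀ t : X, t ∈ ιZ.ker.support → δ t ≤ s := by
    intro t ht
    obtain ⟨z, rfl⟩ := (mem_support_ker_iff ιZ t).1 ht
    exact hZ z
  obtain ⟨ξ, η, hαξ, hβη, hξτ, hητ⟩ := hξ
  -- the general consequence of lemmaA for a pair of points
  have hA : ∀ ξ' η' : X, Cyc.subschemeFun δ r ιY ξ' ≠ 0 → Cyc.subschemeFun δ s ιZ η' ≠ 0 →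
      ∀ (h1 : ξ' ⤳ (pullback.fst ιY ιZ ≫ ιY) w) (h2 : η' ⤳ (pullback.fst ιY ιZ ≫ ιY) w),
      stalkIdeal ιY.ker ((pullback.fst ιY ιZ ≫ ιY) w) =
        RingHom.ker (Cyc.specMap ((pullback.fst ιY ιZ ≫ ιY) w) ξ' h1) ∧
      stalkIdeal ιZ.ker ((pullback.fst ιY ιZ ≫ ιY) w) =
        RingHom.ker (Cyc.specMap ((pullback.fst ιY ιZ ≫ ιY) w) η' h2) ∧
      IsRegularLocalRing (X.presheaf.stalk ((pullback.fst ιY ιZ ≫ ιY) w) ⧸
        stalkIdeal ιY.ker ((pullback.fst ιY ιZ ≫ ιY) w)) ∧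
      IsRegularLocalRing (X.presheaf.stalk ((pullback.fst ιY ιZ ≫ ιY) w) ⧸
        stalkIdeal ιZ.ker ((pullback.fst ιY ιZ ≫ ιY) w)) ∧
      IntMult.chi (X.presheaf.stalk ((pullback.fst ιY ιZ ≫ ιY) w))
        (X.presheaf.stalk ((pullback.fst ιY ιZ ≫ ιY) w) ⧸
          stalkIdeal ιZ.ker ((pullback.fst ιY ιZ ≫ ιY) w))
        (X.presheaf.stalk ((pullback.fst ιY ιZ ≫ ιY) w) ⧸
          stalkIdeal ιY.ker ((pullback.fst ιY ιZ ≫ ιY) w)) = 1 := by
    intro ξ' η' hα hβ h1 h2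
    obtain ⟨hδξ, y₁, hy₁⟩ := exists_of_subschemeFun_ne_zero δ r ιY ξ' hα
    obtain ⟨hδη, z₁, hz₁⟩ := exists_of_subschemeFun_ne_zero δ s ιZ η' hβ
    exact lemmaA K f δ hX n hn ιY.ker ιZ.ker r s hV hW _ hτ ξ' η'
      ((mem_support_ker_iff ιY ξ').2 ⟨y₁, hy₁⟩) ((mem_support_ker_iff ιZ η').2 ⟨z₁, hz₁⟩)
      hδξ hδη h1 h2 h4.symm
  obtain ⟨eV, eW, hregV, hregW, hchi⟩ := hA ξ η hαξ hβη hξτ hητ
  refine ⟨?_, ?_, ?_⟩
  · -- the coefficient
    obtain ⟨hδξ, y₁, hy₁⟩ := exists_of_subschemeFun_ne_zero δ r ιY ξ hαξ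
    obtain ⟨hδη, z₁, hz₁⟩ := exists_of_subschemeFun_ne_zero δ s ιZ η hβη
    have hαξ1 : Cyc.subschemeFun δ r ιY ξ = 1 := by
      subst hy₁
      rw [subschemeFun_apply_closedImmersion δ r ιY y₁ hδξ, length_stalk_closedImmersion ιY y₁,
        length_quot_stalkIdeal_eq_one ιY.ker hξτ eV]
      rfl
    have hβη1 : Cyc.subschemeFun δ s ιZ η = 1 := by
      subst hz₁
      rw [subschemeFun_apply_closedImmersion δ s ιZ z₁ hδη, length_stalk_closedImmersion ιZ z₁,
        length_quot_stalkIdeal_eq_one ιZ.ker hητ eW]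
      rfl
    have hm1 : IntMult.mult (IntMult.ptIdeal ξ) (IntMult.ptIdeal η)
        ((pullback.fst ιY ιZ ≫ ιY) w) = 1 := by
      have e1 : stalkIdeal (IntMult.ptIdeal ξ) ((pullback.fst ιY ιZ ≫ ιY) w) =
          stalkIdeal ιY.ker ((pullback.fst ιY ιZ ≫ ιY) w) :=
        (stalkIdeal_ptIdeal hξτ).trans eV.symm
      have e2 : stalkIdeal (IntMult.ptIdeal η) ((pullback.fst ιY ιZ ≫ ιY) w) =
          stalkIdeal ιZ.ker ((pullback.fst ιY ιZ ≫ ιY) w) :=
        (stalkIdeal_ptIdeal hητ).trans eW.symm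
      unfold IntMult.mult
      exact (chi_congr e2 e1).trans hchi
    unfold IntMult.interProd
    rw [finsum_eq_single _ (⟨(ξ, η), hξτ, hητ, by rw [hδξ, hδη, hτ]⟩ :
      {p : X × X // p.1 ⤳ (pullback.fst ιY ιZ ≫ ιY) w ∧ p.2 ⤳ (pullback.fst ιY ιZ ≫ ιY) w ∧
        δ p.1 + δ p.2 - n = δ ((pullback.fst ιY ιZ ≫ ιY) w)})]
    · show Cyc.subschemeFun δ r ιY ξ * Cyc.subschemeFun δ s ιZ η *
        IntMult.mult (IntMult.ptIdeal ξ) (IntMult.ptIdeal η) _ = 1
      rw [hαξ1, hβη1, hm1]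
      norm_num
    · intro p hp
      by_cases hp1 : Cyc.subschemeFun δ r ιY p.1.1 = 0
      · rw [hp1]; simp
      by_cases hp2 : Cyc.subschemeFun δ s ιZ p.1.2 = 0
      · rw [hp2]; simp
      exfalso
      apply hp
      obtain ⟨eV', eW', -, -, -⟩ := hA p.1.1 p.1.2 hp1 hp2 p.2.1 p.2.2.1
      have e1 : p.1.1 = ξ := eq_of_ker_specMap_eq p.2.1 hξτ (eV'.symm.trans eV)
      have e2 : p.1.2 = η := eq_of_ker_specMap_eq p.2.2.1 hητ (eW'.symm.trans eW)
      exact Subtype.ext (Prod.ext e1 e2)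
  · intro y hy
    have h := hregV
    rw [← hy] at h
    have e : (X.presheaf.stalk (ιY y) ⧸ RingHom.ker (ιY.stalkMap y).hom) ≃+* Y.presheaf.stalk y :=
      RingHom.quotientKerEquivOfSurjective (Scheme.Hom.stalkMap_surjective ιY y)
    rw [← ker_stalkMap_eq_stalkIdeal] at h
    exact @IsRegularLocalRing.of_ringEquiv _ _ h _ _ e
  · intro z hz
    have h := hregW
    rw [← hz] at h
    have e : (X.presheaf.stalk (ιZ z) ⧸ RingHom.ker (ιZ.stalkMap z).hom) ≃+* Z.presheaf.stalk z :=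
      RingHom.quotientKerEquivOfSurjective (Scheme.Hom.stalkMap_surjective ιZ z)
    rw [← ker_stalkMap_eq_stalkIdeal] at h
    exact @IsRegularLocalRing.of_ringEquiv _ _ h _ _ e

end Geometry

end Groth.Agent.Lead.IntMultOne
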