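import Groth.Agent.Lib.Lead.CycCl2
import Groth.Agent.Lib.Lead.IntMultOne
import Groth.Agent.Lib.Helper14.DimFormulaLocal
import Groth.Agent.Lib.Helper13.PbInv
import Groth.Agent.Lib.Helper13.InvQCoh
import Groth.Agent.Lib.Helper13.FlatBC2
import Groth.Agent.Lib.Helper23.RegMero1

/-!
# Closed immersions and cycles: subscheme cycles, restriction of invertible modules
-/

set_option autoImplicit false
set_option maxHeartbeats 400000
set_option linter.style.haveILetI false
set_option linter.unusedSectionVars false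
universe u
open CategoryTheory CategoryTheory.Limits AlgebraicGeometry Opposite TopologicalSpace

namespace Groth.Agent.Lead.CycCl

open Groth.Agent.Lead.SecOrd Groth.Agent.Helper13.Inv Groth.Agent.Helper23.RegMero
open Groth.Agent.Helper18.Rec

variable {X Y : Scheme.{u}}

/-! ### Maximal points -/

theorem finite_maximal_points (T : Type*) [TopologicalSpace T] [NoetherianSpace T]
    [QuasiSober T] : {η : T | ∀ ζ : T, ζ ⤳ η → ζ = η}.Finite := by
  have hfin := TopologicalSpace.NoetherianSpace.finite_irreducibleComponents (α := T)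
  have key : ∀ η : T, (∀ ζ : T, ζ ⤳ η → ζ = η) →
      closure ({η} : Set T) = irreducibleComponent η := by
    intro η hη
    obtain ⟨ζ, hζ⟩ := QuasiSober.sober (isIrreducible_irreducibleComponent (x := η))
      isClosed_irreducibleComponent
    have h1 : ζ ⤳ η := by
      rw [specializes_iff_mem_closure, hζ.def]; exact mem_irreducibleComponent
    have h2 : ζ = η := hη ζ h1
    rw [← h2] at hζ ⊢
    rw [h2] at hζ
    rw [h2]
    exact hζ.def
  refine Set.Finite.of_injOn (f := fun η : T => irreducibleComponent η) ?_ ?_ hfin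
  · intro η _; exact irreducibleComponent_mem_irreducibleComponents η
  · intro η hη η' hη' heq
    simp only at heq
    have h1 : closure ({η} : Set T) = closure {η'} := by rw [key η hη, key η' hη', heq]
    have : η' ⤳ η := by
      rw [specializes_iff_mem_closure, ← h1]; exact subset_closure rfl
    exact (hη η' this).symm

theorem isLocallyNoetherian_of_closedImmersion (j : Y ⟶ X) [IsClosedImmersion j]
    [IsLocallyNoetherian X] : IsLocallyNoetherian Y :=
  LocallyOfFiniteType.isLocallyNoetherian j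

theorem finite_maximal_mem_affine (j : Y ⟶ X) [IsClosedImmersion j] [IsLocallyNoetherian X]
    {V : X.Opens} (hV : IsAffineOpen V) :
    {η : Y | j η ∈ V ∧ ∀ ζ : Y, ζ ⤳ η → ζ = η}.Finite := by
  haveI : IsLocallyNoetherian Y := isLocallyNoetherian_of_closedImmersion j
  obtain ⟨U, hU⟩ : ∃ U : Y.Opens, U = j ⁻¹ᵁ V := ⟨_, rfl⟩
  have hUaff : IsAffineOpen U := by rw [hU]; exact hV.preimage j
  haveI : IsNoetherianRing Γ(Y, U) := IsLocallyNoetherian.component_noetherian ⟨U, hUaff⟩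
  haveI : NoetherianSpace U := noetherianSpace_of_isAffineOpen U hUaff
  haveI : QuasiSober U := U.isOpenEmbedding'.quasiSober
  have hfin := finite_maximal_points U
  refine (hfin.image Subtype.val).subset ?_
  rintro η ⟨hηV, hη⟩
  have hηU : η ∈ U := by rw [hU]; exact hηV
  refine ⟨⟨η, hηU⟩, ?_, rfl⟩
  intro ζ hζ
  have h1 : ζ.1 ⤳ η := (subtype_specializes_iff ζ ⟨η, hηU⟩).mp hζ
  exact Subtype.ext (hη ζ.1 h1)

theorem isDimFun_closedImmersion (j : Y ⟶ X) [IsClosedImmersion j] (δ : X → ℤ)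
    (hδ : Cyc.IsDimFun X δ) : Cyc.IsDimFun Y (fun y => δ (j y)) := by
  intro x y hxy hne
  have h' : j x ⤳ j y := (specializes_iff_closedImmersion j x y).mpr hxy
  have hne' : j x ≠ j y := fun h => hne (injective_of_closedImmersion j h)
  obtain ⟨h1, h2⟩ := hδ (j x) (j y) h' hne'
  refine ⟨h1, fun himm => h2 ?_⟩
  intro z hxz hzy
  obtain ⟨z', rfl⟩ := mem_range_of_specializes j x z hxz
  rcases himm z' ((specializes_iff_closedImmersion j x z').mp hxz)
    ((specializes_iff_closedImmersion j z' y).mp hzy) with h | h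
  · left; rw [h]
  · right; rw [h]

theorem isSetup_closedImmersion (j : Y ⟶ X) [IsClosedImmersion j] (δ : X → ℤ)
    (hX : Cyc.IsSetup X δ) : Cyc.IsSetup Y (fun y => δ (j y)) := by
  obtain ⟨hN, hUC, hδ⟩ := hX
  haveI := hN
  refine ⟨isLocallyNoetherian_of_closedImmersion j, fun y => ?_,
    isDimFun_closedImmersion j δ hδ⟩
  exact Groth.Agent.Helper14.DimFormulaLocal.isUniversallyCatenary_of_surjective
    (j.stalkMap y).hom (j.stalkMap_surjective y) (hUC (j y))

/-- The fundamental cycle of a closed subscheme is a cycle. -/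
theorem exists_subscheme_cycle (j : Y ⟶ X) [IsClosedImmersion j] (δ : X → ℤ)
    (hX : Cyc.IsSetup X δ) (k : ℤ) (hY : ∀ y : Y, δ (j y) ≤ k) :
    ∃ α : AlgebraicCycle X ℤ, ⇑α = Cyc.subschemeFun δ k j ∧ α ∈ Cyc.Zk X δ k := by
  classical
  obtain ⟨hN, hUC, hδ⟩ := hX
  haveI := hN
  obtain ⟨D, hD⟩ : ∃ D : X → ℤ, D = Cyc.subschemeFun δ k j := ⟨_, rfl⟩
  have hsupp : ∀ x : X, D x ≠ 0 → δ x = k ∧ ∃ η : Y, j η = x ∧ ∀ ζ : Y, ζ ⤳ η → ζ = η := by
    intro x hx
    rw [hD] at hx
    obtain ⟨hk, η, rfl⟩ := Groth.Agent.Lead.IntMultOne.exists_of_subschemeFun_ne_zero δ k j x hx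
    refine ⟨hk, η, rfl, fun ζ hζ => ?_⟩
    by_contra hne
    have h' : j ζ ⤳ j η := (specializes_iff_closedImmersion j ζ η).mpr hζ
    have hne' : j ζ ≠ j η := fun h => hne (injective_of_closedImmersion j h)
    have := (hδ (j ζ) (j η) h' hne').1
    have := hY ζ
    omega
  have hDsupp : ∀ z ∈ (Set.univ : Set X), ∃ t ∈ nhds z, Set.Finite (t ∩ Function.support D) := by
    intro z _
    obtain ⟨V, hV, hzV⟩ := exists_affine_nhd z
    refine ⟨V, V.isOpen.mem_nhds hzV, ?_⟩
    refine ((finite_maximal_mem_affine j hV).image (fun η => j η)).subset ?_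
    rintro x ⟨hxV, hx⟩
    obtain ⟨-, η, rfl, hη⟩ := hsupp x hx
    exact ⟨η, ⟨hxV, hη⟩, rfl⟩
  refine ⟨{ toFun := D
            supportWithinDomain' := Set.subset_univ _
            supportLocallyFiniteWithinDomain' := hDsupp }, ?_, ?_⟩
  · show D = _
    exact hD
  · intro x hx
    show D x = 0
    by_contra h0
    exact hx (hsupp x h0).1


/-! ### Pulling back local generators -/

open Groth.Agent.Helper13.FlatBC Groth.Agent.Helper13.Qcqs

theorem isGenOn_pullRes (j : Y ⟶ X) (L : X.Modules) (hL : PicF.IsInvertible L) {V : X.Opens}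
    (hV : IsAffineOpen V) (e : Γ(L, V)) (he : IsGenOn L e) {U : Y.Opens} (hU : IsAffineOpen U)
    (hUV : U ≤ j ⁻¹ᵁ V) :
    IsGenOn ((Scheme.Modules.pullback j).obj L) (pullRes j L hUV e) := by
  haveI : L.IsQuasicoherent := isQuasicoherent_of_isInvertible L hL
  have hLY : PicF.IsInvertible ((Scheme.Modules.pullback j).obj L) :=
    Groth.Agent.Helper13.PbInv.isInvertible_pullback j L hL
  haveI : ((Scheme.Modules.pullback j).obj L).IsQuasicoherent :=
    isQuasicoherent_of_isInvertible _ hLY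
  obtain ⟨b, hb⟩ : ∃ b, b = pullRes j L hUV e := ⟨_, rfl⟩
  rw [← hb]
  have hspan : Submodule.span Γ(X, V) ({e} : Set Γ(L, V)) = ⊤ := by
    rw [eq_top_iff]
    intro m _
    obtain ⟨a, ha⟩ := he.exists_smul_eq m
    rw [ha]
    exact Submodule.smul_mem _ _ (Submodule.subset_span rfl)
  have hspan' : Submodule.span Γ(Y, U)
      ({b} : Set Γ((Scheme.Modules.pullback j).obj L, U)) = ⊤ := by
    have := span_pullRes j L hU hV hUV {e} hspan
    rw [Set.image_singleton] at this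
    rw [hb]; exact this
  intro y hy
  have hsurj : Function.Surjective (fun r : Y.presheaf.stalk y =>
      r • ((Scheme.Modules.pullback j).obj L).presheaf.germ U y hy b) := by
    intro m
    obtain ⟨g, hyg, t, hgt⟩ := Groth.Agent.Helper13.QCoh.exists_germ_smul_eq
      ((Scheme.Modules.pullback j).obj L) hU y hy m
    have htb : t ∈ Submodule.span Γ(Y, U)
        ({b} : Set Γ((Scheme.Modules.pullback j).obj L, U)) := by rw [hspan']; trivial
    obtain ⟨r, rfl⟩ := Submodule.mem_span_singleton.mp htb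
    have hunit : IsUnit (Y.presheaf.germ U y hy g) := (Y.mem_basicOpen g y hy).mp hyg
    obtain ⟨c, hc⟩ := hunit
    refine ⟨(↑c⁻¹ : Y.presheaf.stalk y) * Y.presheaf.germ U y hy r, ?_⟩
    show ((↑c⁻¹ : Y.presheaf.stalk y) * Y.presheaf.germ U y hy r) • _ = m
    rw [mul_smul, ← Groth.Agent.Helper13.QCoh.germ_smul, ← hgt, ← hc, smul_smul, Units.inv_mul,
      one_smul]
  obtain ⟨W, hyW, e', he'⟩ := (isInvertible_iff_exists_isGen _).mp hLY y
  have hgen' := he' y hyW
  obtain ⟨c, hc⟩ := hgen'.2 (((Scheme.Modules.pullback j).obj L).presheaf.germ U y hy b)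
  obtain ⟨d, hd⟩ := hsurj (((Scheme.Modules.pullback j).obj L).presheaf.germ W y hyW e')
  simp only at hc hd
  have hdc : d * c = 1 := by
    apply hgen'.1
    show (d * c) • _ = (1 : Y.presheaf.stalk y) • _
    rw [mul_smul, hc, hd, one_smul]
  refine ⟨?_, hsurj⟩
  intro a a' haa
  simp only at haa
  rw [← hc, smul_smul, smul_smul] at haa
  have h2 : a * c = a' * c := hgen'.1 haa
  calc a = a * (c * d) := by rw [mul_comm c d, hdc, mul_one]
    _ = a' * (c * d) := by rw [← mul_assoc, h2, mul_assoc]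
    _ = a' := by rw [mul_comm c d, hdc, mul_one]

theorem germ_appLE (j : Y ⟶ X) {V : X.Opens} {U : Y.Opens} (e : U ≤ j ⁻¹ᵁ V) (η : Y)
    (hη : η ∈ U) (b : Γ(X, V)) :
    Y.presheaf.germ U η hη ((j.appLE V U e).hom b) =
      (j.stalkMap η).hom (X.presheaf.germ V (j η) (e hη) b) := by
  show Y.presheaf.germ U η hη (j.appLE V U e b) =
    j.stalkMap η (X.presheaf.germ V (j η) (e hη) b)
  rw [Scheme.Hom.germ_stalkMap_apply, Scheme.Hom.appLE, CommRingCat.comp_apply,
    TopCat.Presheaf.germ_res_apply]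

theorem residueFieldMap_residue (j : Y ⟶ X) (η : Y) (φ : X.presheaf.stalk (j η)) :
    (j.residueFieldMap η).hom ((X.residue (j η)).hom φ) =
      (Y.residue η).hom ((j.stalkMap η).hom φ) := by
  exact congrArg (fun ψ => ψ.hom φ) (AlgebraicGeometry.Scheme.residue_residueFieldMap j η)

theorem germ_pullRes_res (j : Y ⟶ X) (L : X.Modules) {V V' : X.Opens} (hV : V' ≤ V)
    (e : Γ(L, V)) {U U' : Y.Opens} (h : U ≤ j ⁻¹ᵁ V) (h' : U' ≤ j ⁻¹ᵁ V') (η : Y) (hη : η ∈ U)
    (hη' : η ∈ U') :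
    ((Scheme.Modules.pullback j).obj L).presheaf.germ U' η hη' (pullRes j L h' (res L hV e)) =
      ((Scheme.Modules.pullback j).obj L).presheaf.germ U η hη (pullRes j L h e) := by
  have hη'' : η ∈ U ⊓ U' := ⟨hη, hη'⟩
  have e1 := TopCat.Presheaf.germ_res_apply ((Scheme.Modules.pullback j).obj L).presheaf
    (homOfLE (inf_le_right : U ⊓ U' ≤ U')) η hη'' (pullRes j L h' (res L hV e))
  have e2 := TopCat.Presheaf.germ_res_apply ((Scheme.Modules.pullback j).obj L).presheaf
    (homOfLE (inf_le_left : U ⊓ U' ≤ U)) η hη'' (pullRes j L h e)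
  rw [← e1, ← e2]
  congr 1
  have f1 := res_pullRes j L h' (inf_le_right : U ⊓ U' ≤ U') (res L hV e)
  have f2 := res_pullRes j L h (inf_le_left : U ⊓ U' ≤ U) e
  rw [res_def] at f1 f2
  rw [f1, f2, pullRes_res]

theorem germ_pullRes_of_germ_eq (j : Y ⟶ X) (L : X.Modules) {V₁ V₂ : X.Opens} (e₁ : Γ(L, V₁))
    (e₂ : Γ(L, V₂)) {U₁ U₂ : Y.Opens} (h₁ : U₁ ≤ j ⁻¹ᵁ V₁) (h₂ : U₂ ≤ j ⁻¹ᵁ V₂) (η : Y)
    (hη₁ : η ∈ U₁) (hη₂ : η ∈ U₂) (c : X.presheaf.stalk (j η))
    (hc : L.presheaf.germ V₁ (j η) (h₁ hη₁) e₁ = c • L.presheaf.germ V₂ (j η) (h₂ hη₂) e₂) :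
    ((Scheme.Modules.pullback j).obj L).presheaf.germ U₁ η hη₁ (pullRes j L h₁ e₁) =
      (j.stalkMap η).hom c •
        ((Scheme.Modules.pullback j).obj L).presheaf.germ U₂ η hη₂ (pullRes j L h₂ e₂) := by
  obtain ⟨V₃, hV₃, c₀, rfl⟩ := TopCat.Presheaf.exists_germ_eq X.presheaf c
  obtain ⟨V', hV'def⟩ : ∃ V' : X.Opens, V' = V₁ ⊓ V₂ ⊓ V₃ := ⟨_, rfl⟩
  have hV' : j η ∈ V' := by rw [hV'def]; exact ⟨⟨h₁ hη₁, h₂ hη₂⟩, hV₃⟩
  have l1 : V' ≤ V₁ := by rw [hV'def]; exact inf_le_left.trans inf_le_left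
  have l2 : V' ≤ V₂ := by rw [hV'def]; exact inf_le_left.trans inf_le_right
  have l3 : V' ≤ V₃ := by rw [hV'def]; exact inf_le_right
  have hgerm : L.presheaf.germ V' (j η) hV' (res L l1 e₁) =
      L.presheaf.germ V' (j η) hV' (resO l3 c₀ • res L l2 e₂) := by
    rw [Groth.Agent.Helper13.QCoh.germ_smul, res_def, res_def, resO_def,
      TopCat.Presheaf.germ_res_apply, TopCat.Presheaf.germ_res_apply,
      TopCat.Presheaf.germ_res_apply]
    exact hc
  obtain ⟨V₄, hV₄, i1, i2, heq⟩ := TopCat.Presheaf.germ_eq L.presheaf (j η) hV' hV' _ _ hgerm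
  have l4 : V₄ ≤ V' := i1.le
  have heq' : res L (l4.trans l1) e₁ = resO (l4.trans l3) c₀ • res L (l4.trans l2) e₂ := by
    have hi1 : i1 = homOfLE l4 := Subsingleton.elim _ _
    have hi2 : i2 = homOfLE l4 := Subsingleton.elim _ _
    rw [hi1, hi2] at heq
    have q1 : L.presheaf.map (homOfLE l4).op (res L l1 e₁) = res L (l4.trans l1) e₁ :=
      Groth.Agent.Helper13.Qcqs.res_res L l1 l4 e₁
    have q2 : L.presheaf.map (homOfLE l4).op (resO l3 c₀ • res L l2 e₂) =
        resO (l4.trans l3) c₀ • res L (l4.trans l2) e₂ := by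
      have := res_smul L l4 (resO l3 c₀) (res L l2 e₂)
      rw [res_def] at this
      rw [this, Groth.Agent.Helper13.Qcqs.res_res]
      rw [resO_resO]
    rw [← q1, ← q2]
    exact heq
  have hη₄ : η ∈ j ⁻¹ᵁ V₄ := hV₄
  have k4 : j ⁻¹ᵁ V₄ ≤ j ⁻¹ᵁ V₄ := le_refl _
  rw [← germ_pullRes_res j L (l4.trans l1) e₁ h₁ k4 η hη₁ hη₄,
    ← germ_pullRes_res j L (l4.trans l2) e₂ h₂ k4 η hη₂ hη₄, heq', pullRes_smul,
    Groth.Agent.Helper13.QCoh.germ_smul, germ_appLE]
  congr 2
  rw [resO_def]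
  exact TopCat.Presheaf.germ_res_apply X.presheaf (homOfLE (l4.trans l3)) (j η) hV₄ c₀

end Groth.Agent.Lead.CycCl
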