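import Groth.Agent.Lib.Lead.CycCl3
import Groth.Agent.Lib.Lead.SecOrd20

/-!
# Restriction of rational sections of an invertible module to a closed subscheme
-/

set_option autoImplicit false
set_option maxHeartbeats 400000
set_option linter.style.haveILetI false
set_option linter.unusedSectionVars false
universe u
open CategoryTheory CategoryTheory.Limits AlgebraicGeometry Opposite TopologicalSpace

namespace Groth.Agent.Lead.CycCl

open Groth.Agent.Lead.SecOrd Groth.Agent.Helper13.Inv Groth.Agent.Helper23.RegMero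
open Groth.Agent.Helper18.Rec Groth.Agent.Helper13.FlatBC Groth.Agent.Helper13.Qcqs

variable {X Y : Scheme.{u}}

/-- `σ ∈ L(j η)` restricts to `t ∈ (j^*L)(η)` (computed in some chart). -/
def IsTransport (j : Y ⟶ X) (L : X.Modules) (η : Y)
    (t : Cyc.secFibre ((Scheme.Modules.pullback j).obj L) η) (σ : Cyc.secFibre L (j η)) : Prop :=
  ∃ (V : X.Opens) (_ : IsAffineOpen V) (e : Γ(L, V)) (_ : IsGenOn L e) (U : Y.Opens)
    (_ : IsAffineOpen U) (hUV : U ≤ j ⁻¹ᵁ V) (hη : η ∈ U) (φ : X.presheaf.stalk (j η)),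
    t = Submodule.Quotient.mk ((j.stalkMap η).hom φ •
      ((Scheme.Modules.pullback j).obj L).presheaf.germ U η hη (pullRes j L hUV e)) ∧
    σ = Submodule.Quotient.mk (φ • L.presheaf.germ V (j η) (hUV hη) e)

theorem exists_isTransport (j : Y ⟶ X) [IsClosedImmersion j] (L : X.Modules)
    (hL : PicF.IsInvertible L) (η y : Y) (h : η ⤳ y)
    (t : Cyc.secFibre ((Scheme.Modules.pullback j).obj L) η) :
    ∃ σ : Cyc.secFibre L (j η), IsTransport j L η t σ ∧
      ∀ h' : j η ⤳ j y, Cyc.secOrdAt ((Scheme.Modules.pullback j).obj L) η y h t =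
        Cyc.secOrdAt L (j η) (j y) h' σ := by
  obtain ⟨W, hyW, e₀, he₀⟩ := (isInvertible_iff_exists_isGen L).mp hL (j y)
  obtain ⟨_, ⟨V, hV, rfl⟩, hyV, hVW⟩ := X.isBasis_affineOpens.exists_subset_of_mem_open
    (show j y ∈ (W : Set X) from hyW) W.2
  have hVW' : V ≤ W := hVW
  obtain ⟨e, hedef⟩ : ∃ e : Γ(L, V), e = L.presheaf.map (homOfLE hVW').op e₀ := ⟨_, rfl⟩
  have he : IsGenOn L e := by
    rw [hedef]
    exact IsGenOn.res (L := L) (e := e₀) (fun z hz => he₀ z hz) hVW'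
  obtain ⟨_, ⟨U, hU, rfl⟩, hyU, hUV⟩ := Y.isBasis_affineOpens.exists_subset_of_mem_open
    (show y ∈ ((j ⁻¹ᵁ V : Y.Opens) : Set Y) from hyV) (j ⁻¹ᵁ V).2
  have hUV' : U ≤ j ⁻¹ᵁ V := hUV
  have hηU : η ∈ U := h.mem_open U.isOpen hyU
  have hgen := isGenOn_pullRes j L hL hV e he hU hUV'
  obtain ⟨m, rfl⟩ := Submodule.Quotient.mk_surjective _ t
  obtain ⟨a, ha⟩ := (hgen η hηU).2 m
  simp only at ha
  obtain ⟨φ, hφ⟩ := j.stalkMap_surjective η a
  refine ⟨Submodule.Quotient.mk (φ • L.presheaf.germ V (j η) (hUV' hηU) e),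
    ⟨V, hV, e, he, U, hU, hUV', hηU, φ, ?_, rfl⟩, ?_⟩
  · show _ = Submodule.Quotient.mk ((j.stalkMap η).hom φ • _)
    have : (j.stalkMap η).hom φ = a := hφ
    rw [this, ha]
  · intro h'
    have e1 := secOrdAt_of_isGen' ((Scheme.Modules.pullback j).obj L) h hyU
      (pullRes j L hUV' e) (hgen y hyU) (hgen η (spz_mem h hyU)) a
    have e2 := secOrdAt_of_isGen' L h' (hUV' hyU) e (he _ (hUV' hyU))
      (he _ (spz_mem h' (hUV' hyU))) φ
    rw [ha] at e1
    rw [e1, e2, ← ordAt_closedImmersion j y η h h', residueFieldMap_residue]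
    have : (j.stalkMap η).hom φ = a := hφ
    rw [this]

theorem isTransport_unique (j : Y ⟶ X) (L : X.Modules) (hL : PicF.IsInvertible L) (η : Y)
    (t : Cyc.secFibre ((Scheme.Modules.pullback j).obj L) η) (σ₁ σ₂ : Cyc.secFibre L (j η))
    (h₁ : IsTransport j L η t σ₁) (h₂ : IsTransport j L η t σ₂) : σ₁ = σ₂ := by
  obtain ⟨V₁, hV₁, e₁, he₁, U₁, hU₁, hUV₁, hη₁, φ₁, ht₁, rfl⟩ := h₁
  obtain ⟨V₂, hV₂, e₂, he₂, U₂, hU₂, hUV₂, hη₂, φ₂, ht₂, rfl⟩ := h₂
  obtain ⟨c, hc⟩ := (he₂ (j η) (hUV₂ hη₂)).2 (L.presheaf.germ V₁ (j η) (hUV₁ hη₁) e₁)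
  simp only at hc
  have hb := germ_pullRes_of_germ_eq j L e₁ e₂ hUV₁ hUV₂ η hη₁ hη₂ c hc.symm
  have hgen₂ := isGenOn_pullRes j L hL hV₂ e₂ he₂ hU₂ hUV₂ η hη₂
  have h0 : (Submodule.Quotient.mk ((j.stalkMap η).hom (φ₁ * c - φ₂) •
      ((Scheme.Modules.pullback j).obj L).presheaf.germ U₂ η hη₂ (pullRes j L hUV₂ e₂)) :
      Cyc.secFibre ((Scheme.Modules.pullback j).obj L) η) = 0 := by
    rw [map_sub, map_mul, sub_smul, mul_smul, ← hb, Submodule.Quotient.mk_sub, ← ht₁, ← ht₂,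
      sub_self]
  have h1 := (mk_smul_eq_zero_iff ((Scheme.Modules.pullback j).obj L) η _ hgen₂ _).mp h0
  have h2 : (X.residue (j η)).hom (φ₁ * c - φ₂) = 0 := by
    rw [← residueFieldMap_residue] at h1
    exact (map_eq_zero_iff _ (j.residueFieldMap η).hom.injective).mp h1
  have h3 := (mk_smul_eq_zero_iff L (j η) _ (he₂ (j η) (hUV₂ hη₂)) _).mpr h2
  rw [sub_smul, mul_smul, hc, Submodule.Quotient.mk_sub, sub_eq_zero] at h3
  exact h3

theorem isTransport_eq_zero_iff (j : Y ⟶ X) (L : X.Modules) (hL : PicF.IsInvertible L) (η : Y)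
    (t : Cyc.secFibre ((Scheme.Modules.pullback j).obj L) η) (σ : Cyc.secFibre L (j η))
    (h : IsTransport j L η t σ) : σ = 0 ↔ t = 0 := by
  obtain ⟨V, hV, e, he, U, hU, hUV, hη, φ, rfl, rfl⟩ := h
  have hgen := isGenOn_pullRes j L hL hV e he hU hUV η hη
  rw [mk_smul_eq_zero_iff L (j η) _ (he (j η) (hUV hη)) φ,
    mk_smul_eq_zero_iff ((Scheme.Modules.pullback j).obj L) η _ hgen _,
    ← residueFieldMap_residue]
  exact (map_eq_zero_iff _ (j.residueFieldMap η).hom.injective).symm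

/-- The order of a rational section of `j^*L` along a specialization in `Y` is the order of its
transport to `X`. -/
theorem secOrdAt_of_isTransport (j : Y ⟶ X) [IsClosedImmersion j] (L : X.Modules)
    (hL : PicF.IsInvertible L) (η y : Y) (h : η ⤳ y) (h' : j η ⤳ j y)
    (t : Cyc.secFibre ((Scheme.Modules.pullback j).obj L) η) (σ : Cyc.secFibre L (j η))
    (hσ : IsTransport j L η t σ) :
    Cyc.secOrdAt ((Scheme.Modules.pullback j).obj L) η y h t =
      Cyc.secOrdAt L (j η) (j y) h' σ := by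
  obtain ⟨σ', hσ', heq⟩ := exists_isTransport j L hL η y h t
  rw [isTransport_unique j L hL η t σ σ' hσ hσ']
  exact heq h'

end Groth.Agent.Lead.CycCl
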