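import Groth.Agent.Lib.Lead.SecOrd17

/-!
# Independence of `c₁(L) ∩ α` of the chosen rational sections, up to rational equivalence
-/

set_option autoImplicit false
universe u v
open CategoryTheory CategoryTheory.Limits AlgebraicGeometry Opposite TopologicalSpace
open Groth.Agent.Helper13.Inv Groth.Agent.Helper13.WeakAss TensorProduct

namespace Groth.Agent.Lead.SecOrd

variable {X : Scheme.{u}}

theorem ratio_indep2 (L : X.Modules) (ξ : X)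
    (l l' : L.presheaf.stalk ξ)
    (hl : Function.Bijective (fun r : X.presheaf.stalk ξ => r • l))
    (a a' b b' : X.presheaf.stalk ξ)
    (hs1 : (Submodule.Quotient.mk (a • l) : Cyc.secFibre L ξ) = Submodule.Quotient.mk (a' • l'))
    (h10 : (Submodule.Quotient.mk (a • l) : Cyc.secFibre L ξ) ≠ 0)
    (hs2 : (Submodule.Quotient.mk (b • l) : Cyc.secFibre L ξ) = Submodule.Quotient.mk (b' • l'))
    (h20 : (Submodule.Quotient.mk (b • l) : Cyc.secFibre L ξ) ≠ 0) :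
    (X.residue ξ).hom a / (X.residue ξ).hom b =
      (X.residue ξ).hom a' / (X.residue ξ).hom b' := by
  obtain ⟨u, hu⟩ := hl.2 l'
  have hu' : u • l = l' := hu
  have ha : (X.residue ξ).hom a = (X.residue ξ).hom a' * (X.residue ξ).hom u := by
    have h1 := residue_eq_of_mk_eq L ξ l hl a (a' * u) (by rw [hs1, ← hu', smul_smul])
    rw [h1, map_mul]
  have hb : (X.residue ξ).hom b = (X.residue ξ).hom b' * (X.residue ξ).hom u := by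
    have h1 := residue_eq_of_mk_eq L ξ l hl b (b' * u) (by rw [hs2, ← hu', smul_smul])
    rw [h1, map_mul]
  have ha0 := residue_ne_zero_of_mk_ne_zero L ξ l hl a h10
  have hb0 := residue_ne_zero_of_mk_ne_zero L ξ l hl b h20
  rw [ha] at ha0
  rw [hb] at hb0
  have hu0 : (X.residue ξ).hom u ≠ 0 := right_ne_zero_of_mul ha0
  have hb'0 : (X.residue ξ).hom b' ≠ 0 := left_ne_zero_of_mul hb0
  rw [ha, hb, div_eq_div_iff (mul_ne_zero hb'0 hu0) hb'0]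
  ring

theorem exists_ratio2 (L : X.Modules) (hL : PicF.IsInvertible L)
    (ξ : X) (s₁ : Cyc.secFibre L ξ) (hs₁ : s₁ ≠ 0) (s₂ : Cyc.secFibre L ξ) (hs₂ : s₂ ≠ 0) :
    ∃ f : X.residueField ξ, f ≠ 0 ∧ ∀ (x : X) (h : ξ ⤳ x),
      Cyc.secOrdAt L ξ x h s₁ - Cyc.secOrdAt L ξ x h s₂ = Cyc.ordAt x ξ h f := by
  obtain ⟨v₁, rfl⟩ := Submodule.Quotient.mk_surjective _ s₁
  obtain ⟨v₂, rfl⟩ := Submodule.Quotient.mk_surjective _ s₂
  have loc : ∀ (x : X) (h : ξ ⤳ x), ∃ (W : X.Opens) (hx : x ∈ W) (e : Γ(L, W))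
      (a b : X.presheaf.stalk ξ),
      (∀ (z : X) (hz : z ∈ W), IsGen L e z hz) ∧
      v₁ = a • L.presheaf.germ W ξ (spz_mem h hx) e ∧
      v₂ = b • L.presheaf.germ W ξ (spz_mem h hx) e := by
    intro x h
    obtain ⟨W, hx, e, hg⟩ := (isInvertible_iff_exists_isGen L).1 hL x
    obtain ⟨a, ha⟩ := (hg _ (spz_mem h hx)).2 v₁
    obtain ⟨b, hb⟩ := (hg _ (spz_mem h hx)).2 v₂
    exact ⟨W, hx, e, a, b, hg, ha.symm, hb.symm⟩
  obtain ⟨W₀, hξ₀, e₀, a₀, b₀, hg₀, h1₀, h2₀⟩ := loc ξ specializes_rfl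
  have ha₀ : (X.residue ξ).hom a₀ ≠ 0 :=
    residue_ne_zero_of_mk_ne_zero L ξ _ (hg₀ ξ hξ₀) a₀ (by rw [← h1₀]; exact hs₁)
  have hb₀ : (X.residue ξ).hom b₀ ≠ 0 :=
    residue_ne_zero_of_mk_ne_zero L ξ _ (hg₀ ξ hξ₀) b₀ (by rw [← h2₀]; exact hs₂)
  refine ⟨(X.residue ξ).hom a₀ / (X.residue ξ).hom b₀, div_ne_zero ha₀ hb₀, ?_⟩
  intro x h
  obtain ⟨W, hx, e, a, b, hg, h1, h2⟩ := loc x h
  have hξW : ξ ∈ W := spz_mem h hx
  have ha : (X.residue ξ).hom a ≠ 0 :=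
    residue_ne_zero_of_mk_ne_zero L ξ _ (hg ξ hξW) a (by rw [← h1]; exact hs₁)
  have hb : (X.residue ξ).hom b ≠ 0 :=
    residue_ne_zero_of_mk_ne_zero L ξ _ (hg ξ hξW) b (by rw [← h2]; exact hs₂)
  have hratio : (X.residue ξ).hom a₀ / (X.residue ξ).hom b₀ =
      (X.residue ξ).hom a / (X.residue ξ).hom b := by
    refine ratio_indep2 L ξ (L.presheaf.germ W₀ ξ hξ₀ e₀) (L.presheaf.germ W ξ hξW e)
      (hg₀ ξ hξ₀) a₀ a b₀ b ?_ ?_ ?_ ?_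
    · rw [← h1₀, ← h1]
    · rw [← h1₀]; exact hs₁
    · rw [← h2₀, ← h2]
    · rw [← h2₀]; exact hs₂
  rw [hratio]
  have e1 := secOrdAt_of_isGen' L h hx e (hg x hx) (hg ξ hξW) a
  have e2 := secOrdAt_of_isGen' L h hx e (hg x hx) (hg ξ hξW) b
  rw [← h1] at e1
  rw [← h2] at e2
  rw [e1, e2]
  unfold Cyc.ordAt
  rw [ordFrac_div' _ _ ha hb]

/-- `c₁(L) ∩ α` does not depend on the chosen rational sections, up to rational equivalence. -/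
theorem main_c1_indep (X : Scheme.{u}) (δ : X → ℤ) (L : X.Modules)
    (hL : PicF.IsInvertible L) (k : ℤ) (α : AlgebraicCycle X ℤ)
    (hα : α ∈ Cyc.Zk X δ (k + 1))
    (s₁ : (ξ : X) → Cyc.secFibre L ξ) (hs₁ : ∀ ξ, s₁ ξ ≠ 0)
    (s₂ : (ξ : X) → Cyc.secFibre L ξ) (hs₂ : ∀ ξ, s₂ ξ ≠ 0)
    (γ₁ γ₂ : AlgebraicCycle X ℤ) (hγ₁ : ⇑γ₁ = Cyc.c1CapFun δ L ⇑α s₁)
    (hγ₂ : ⇑γ₂ = Cyc.c1CapFun δ L ⇑α s₂) :
    Cyc.RatEquiv δ k γ₁ γ₂ := by
  classical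
  have hex := fun ξ => exists_ratio2 L hL ξ (s₁ ξ) (hs₁ ξ) (s₂ ξ) (hs₂ ξ)
  choose f hf0 hf using hex
  show Cyc.RatEquivZero δ k (γ₁ - γ₂)
  apply ratEquivZero_of_eq δ k α hα f hf0
  intro x
  have hfin : {ξ : X | α ξ ≠ 0 ∧ ξ ⤳ x}.Finite := by
    obtain ⟨t, ht, hfin⟩ := α.supportLocallyFiniteWithinDomain x (Set.mem_univ x)
    obtain ⟨U, hUt, hUo, hxU⟩ := mem_nhds_iff.mp ht
    refine hfin.subset ?_
    rintro ξ ⟨hξ, hsp⟩
    exact ⟨hUt (hsp.mem_open hUo hxU), hξ⟩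
  have hsd : ∀ (s : (ξ : X) → Cyc.secFibre L ξ),
      Function.HasFiniteSupport (fun ξ : X => α ξ * Cyc.secDivFun δ L ξ (s ξ) x) := by
    intro s
    refine hfin.subset ?_
    intro ξ hξ
    refine ⟨fun h0 => hξ (by show α ξ * _ = 0; rw [h0, zero_mul]), ?_⟩
    by_contra hsp
    apply hξ
    show α ξ * Cyc.secDivFun δ L ξ (s ξ) x = 0
    unfold Cyc.secDivFun
    rw [dif_neg (fun h => hsp h.1), mul_zero]
  have e2 := finsum_sub_distrib (hsd s₁) (hsd s₂)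
  have e3 : (∑ᶠ ξ : X, (α ξ * Cyc.secDivFun δ L ξ (s₁ ξ) x -
      α ξ * Cyc.secDivFun δ L ξ (s₂ ξ) x)) =
      ∑ᶠ ξ : X, α ξ * Cyc.divFun δ ξ (f ξ) x := by
    refine finsum_congr (fun ξ => ?_)
    rw [← mul_sub]
    congr 1
    unfold Cyc.secDivFun Cyc.divFun
    by_cases h : ξ ⤳ x ∧ δ x + 1 = δ ξ
    · rw [dif_pos h, dif_pos h, dif_pos h]
      exact hf ξ x h.1
    · rw [dif_neg h, dif_neg h, dif_neg h]
      ring
  rw [Function.locallyFinsuppWithin.coe_sub, Pi.sub_apply, hγ₁, hγ₂]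
  show (∑ᶠ ξ : X, α ξ * Cyc.secDivFun δ L ξ (s₁ ξ) x) -
      (∑ᶠ ξ : X, α ξ * Cyc.secDivFun δ L ξ (s₂ ξ) x) = _
  rw [← e2]
  exact e3

theorem gysinChoice_ne_zero (L : X.Modules) (s : L.presheaf.obj (Opposite.op ⊤))
    (w : (ξ : X) → Cyc.secFibre L ξ) (hw : ∀ ξ, w ξ ≠ 0) (ξ : X) :
    Cyc.gysinChoice L s w ξ ≠ 0 := by
  classical
  unfold Cyc.gysinChoice
  by_cases h : (Submodule.Quotient.mk ((L.presheaf.germ ⊤ ξ trivial) s) : Cyc.secFibre L ξ) ≠ 0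
  · rw [if_pos h]
    exact h
  · rw [if_neg h]
    exact hw ξ

end Groth.Agent.Lead.SecOrd
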