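import Groth.Agent.Lib.Lead.CycCl4
import Groth.Agent.Lib.Lead.SecOrd18

/-!
# `c₁(L) ∩ [Y]_{k+1} ∼ ι_*[Z(s)]_k` (S1924)
-/

set_option autoImplicit false
set_option maxHeartbeats 400000
set_option linter.style.haveILetI false
set_option linter.unusedSectionVars false
universe u
open CategoryTheory CategoryTheory.Limits AlgebraicGeometry Opposite TopologicalSpace

namespace Groth.Agent.Lead.CycCl

open Groth.Agent.Lead.SecOrd Groth.Agent.Helper13.Inv Groth.Agent.Helper23.RegMero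
open Groth.Agent.Helper18.Rec Groth.Agent.Helper13.FlatBC Groth.Agent.Helper13.Qcqs

variable {X Y : Scheme.{u}}

theorem finsum_eq_finsum_comp_of_injective {A B : Type*} {M : Type*} [AddCommMonoid M]
    (g : B → A) (hg : Function.Injective g) (F : A → M)
    (h : Function.support F ⊆ Set.range g) : ∑ᶠ a, F a = ∑ᶠ b, F (g b) := by
  rw [← finsum_mem_range hg, ← finsum_mem_univ F]
  exact finsum_mem_inter_support_eq' F _ _ (fun x hx => ⟨fun _ => h hx, fun _ => trivial⟩)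

theorem subschemeFun_id_eq (ι : Y ⟶ X) [IsClosedImmersion ι] (δ : X → ℤ) (k : ℤ) (η : Y) :
    Cyc.subschemeFun (fun y => δ (ι y)) k (𝟙 Y) η = Cyc.subschemeFun δ k ι (ι η) := by
  rw [subschemeFun_id]
  by_cases hk : δ (ι η) = k
  · rw [if_pos hk, Groth.Agent.Lead.IntMultOne.subschemeFun_apply_closedImmersion δ k ι η hk]
  · rw [if_neg hk]
    unfold Cyc.subschemeFun
    rw [if_neg hk]

theorem main_c1Cap_subscheme (X Y : Scheme.{u}) (δ : X → ℤ) (hX : Cyc.IsSetup X δ)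
    (L : X.Modules) (hL : PicF.IsInvertible L) (ι : Y ⟶ X) [IsClosedImmersion ι] (k : ℤ)
    (hY : ∀ y : Y, δ (ι y) ≤ k + 1)
    (s : ((Scheme.Modules.pullback ι).obj L).presheaf.obj (Opposite.op ⊤))
    (hZ : ∀ y : Y, (((Scheme.Modules.pullback ι).obj L).presheaf.germ ⊤ y trivial) s ∈
      IsLocalRing.maximalIdeal (Y.presheaf.stalk y) •
        (⊤ : Submodule (Y.presheaf.stalk y)
          (((Scheme.Modules.pullback ι).obj L).presheaf.stalk y)) → δ (ι y) ≤ k)
    (hreg : ∀ y : Y, δ (ι y) = k → Function.Injective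
      (fun a : Y.presheaf.stalk y =>
        a • (((Scheme.Modules.pullback ι).obj L).presheaf.germ ⊤ y trivial) s))
    (v : (ξ : X) → Cyc.secFibre L ξ) (hv : ∀ ξ, v ξ ≠ 0) (γ : AlgebraicCycle X ℤ)
    (hγ : ⇑γ = Cyc.c1CapFun δ L (Cyc.subschemeFun δ (k + 1) ι) v) (ζ : AlgebraicCycle Y ℤ)
    (hζ : ⇑ζ = Cyc.zeroSectionFun (fun y => δ (ι y)) k ((Scheme.Modules.pullback ι).obj L) s) :
    Cyc.RatEquiv δ k γ (AlgebraicCycle.map ι (fun y => δ (ι y)) δ ζ) := by
  classical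
  have hinj : Function.Injective ι := injective_of_closedImmersion ι
  have hYs : Cyc.IsSetup Y (fun y => δ (ι y)) := isSetup_closedImmersion ι δ hX
  have hLY : PicF.IsInvertible ((Scheme.Modules.pullback ι).obj L) :=
    Groth.Agent.Helper13.PbInv.isInvertible_pullback ι L hL
  have hfund := main_fundamental Y (fun y => δ (ι y)) hYs ((Scheme.Modules.pullback ι).obj L)
    hLY k hY s hreg
  obtain ⟨α, hαfun, hα⟩ := exists_subscheme_cycle ι δ hX (k + 1) hY
  -- the rational sections on `Y` given by `s`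
  obtain ⟨t, ht⟩ : ∃ t : (η : Y) → Cyc.secFibre ((Scheme.Modules.pullback ι).obj L) η,
      t = fun η => Submodule.Quotient.mk
        ((((Scheme.Modules.pullback ι).obj L).presheaf.germ ⊤ η trivial) s) := ⟨_, rfl⟩
  have htne : ∀ η : Y, δ (ι η) = k + 1 → t η ≠ 0 := by
    intro η hk h0
    rw [ht] at h0
    have := hZ η ((Submodule.Quotient.mk_eq_zero _).mp h0)
    omega
  have hσex := fun η : Y => exists_isTransport ι L hL η η specializes_rfl (t η)
  choose σ hσ _ using hσex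
  have hσne : ∀ η : Y, δ (ι η) = k + 1 → σ η ≠ 0 := fun η hk h0 =>
    htne η hk ((isTransport_eq_zero_iff ι L hL η (t η) (σ η) (hσ η)).mp h0)
  -- the rational functions
  have hgex : ∀ ξ : X, ∃ g : X.residueField ξ, g ≠ 0 ∧ ∀ η : Y, ι η = ξ → δ ξ = k + 1 →
      ∀ (y : Y) (h : η ⤳ y) (h' : ξ ⤳ ι y),
        Cyc.secOrdAt L ξ (ι y) h' (v ξ) -
          Cyc.secOrdAt ((Scheme.Modules.pullback ι).obj L) η y h (t η) =
          Cyc.ordAt (ι y) ξ h' g := by
    intro ξ
    by_cases hex : ∃ η : Y, ι η = ξ ∧ δ ξ = k + 1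
    · obtain ⟨η, rfl, hk⟩ := hex
      obtain ⟨f, hf0, hf⟩ := exists_ratio2 L hL (ι η) (v (ι η)) (hv _) (σ η) (hσne η hk)
      refine ⟨f, hf0, ?_⟩
      intro η' hη' _ y h h'
      have hηη : η' = η := hinj hη'
      subst hηη
      rw [secOrdAt_of_isTransport ι L hL η' y h h' (t η') (σ η') (hσ η')]
      exact hf (ι y) h'
    · exact ⟨1, one_ne_zero, fun η hη hk => absurd ⟨η, hη, hk⟩ hex⟩
  choose g hg0 hg using hgex
  show Cyc.RatEquivZero δ k (γ - AlgebraicCycle.map ι (fun y => δ (ι y)) δ ζ)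
  apply ratEquivZero_of_eq δ k α hα g hg0
  intro x
  have hαsupp : ∀ ξ : X, α ξ ≠ 0 → δ ξ = k + 1 ∧ ξ ∈ Set.range ι := by
    intro ξ hξ
    have h1 : Cyc.subschemeFun δ (k + 1) ι ξ ≠ 0 := by rw [← hαfun]; exact hξ
    obtain ⟨hk, z, hz⟩ := Groth.Agent.Lead.IntMultOne.exists_of_subschemeFun_ne_zero δ (k + 1) ι ξ h1
    exact ⟨hk, z, hz⟩
  rw [Function.locallyFinsuppWithin.coe_sub, Pi.sub_apply, hγ, ← hαfun]
  by_cases hx : x ∈ Set.range ι
  · obtain ⟨y, rfl⟩ := hx
    rw [map_closedImmersion_apply ι (fun y => δ (ι y)) δ ζ y rfl, hζ, hfund]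
    show (∑ᶠ ξ : X, α ξ * Cyc.secDivFun δ L ξ (v ξ) (ι y)) -
      (∑ᶠ η : Y, Cyc.subschemeFun (fun y => δ (ι y)) (k + 1) (𝟙 Y) η *
        Cyc.secDivFun (fun y => δ (ι y)) ((Scheme.Modules.pullback ι).obj L) η
          (Submodule.Quotient.mk
            ((((Scheme.Modules.pullback ι).obj L).presheaf.germ ⊤ η trivial) s)) y) = _
    have hS1 : (∑ᶠ ξ : X, α ξ * Cyc.secDivFun δ L ξ (v ξ) (ι y)) =
        ∑ᶠ η : Y, α (ι η) * Cyc.secDivFun δ L (ι η) (v (ι η)) (ι y) := by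
      refine finsum_eq_finsum_comp_of_injective ι hinj _ ?_
      intro ξ hξ
      refine (hαsupp ξ (fun h0 => hξ ?_)).2
      show α ξ * _ = 0
      rw [h0, zero_mul]
    have hS3 : (∑ᶠ ξ : X, α ξ * Cyc.divFun δ ξ (g ξ) (ι y)) =
        ∑ᶠ η : Y, α (ι η) * Cyc.divFun δ (ι η) (g (ι η)) (ι y) := by
      refine finsum_eq_finsum_comp_of_injective ι hinj _ ?_
      intro ξ hξ
      refine (hαsupp ξ (fun h0 => hξ ?_)).2
      show α ξ * _ = 0
      rw [h0, zero_mul]
    have hS2 : (∑ᶠ η : Y, Cyc.subschemeFun (fun y => δ (ι y)) (k + 1) (𝟙 Y) η *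
        Cyc.secDivFun (fun y => δ (ι y)) ((Scheme.Modules.pullback ι).obj L) η
          (Submodule.Quotient.mk
            ((((Scheme.Modules.pullback ι).obj L).presheaf.germ ⊤ η trivial) s)) y) =
        ∑ᶠ η : Y, α (ι η) * Cyc.secDivFun (fun y => δ (ι y))
          ((Scheme.Modules.pullback ι).obj L) η (t η) y := by
      refine finsum_congr (fun η => ?_)
      rw [subschemeFun_id_eq ι δ (k + 1) η, hαfun, ht]
    rw [hS1, hS2, hS3]
    have hfin : {η : Y | α (ι η) ≠ 0 ∧ η ⤳ y}.Finite := by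
      obtain ⟨T, hT, hfin⟩ := α.supportLocallyFiniteWithinDomain (ι y) (Set.mem_univ _)
      obtain ⟨U, hUt, hUo, hxU⟩ := mem_nhds_iff.mp hT
      refine Set.Finite.of_injOn (f := fun η => ι η) ?_ hinj.injOn hfin
      rintro η ⟨hη, hsp⟩
      have hsp' : ι η ⤳ ι y := (specializes_iff_closedImmersion ι η y).mpr hsp
      exact ⟨hUt (hsp'.mem_open hUo hxU), hη⟩
    have hsd1 : Function.HasFiniteSupport
        (fun η : Y => α (ι η) * Cyc.secDivFun δ L (ι η) (v (ι η)) (ι y)) := by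
      refine hfin.subset ?_
      intro η hη
      refine ⟨fun h0 => hη (by show α (ι η) * _ = 0; rw [h0, zero_mul]), ?_⟩
      by_contra hsp
      apply hη
      show α (ι η) * Cyc.secDivFun δ L (ι η) (v (ι η)) (ι y) = 0
      unfold Cyc.secDivFun
      rw [dif_neg (fun h => hsp ((specializes_iff_closedImmersion ι η y).mp h.1)), mul_zero]
    have hsd2 : Function.HasFiniteSupport
        (fun η : Y => α (ι η) * Cyc.secDivFun (fun y => δ (ι y))
          ((Scheme.Modules.pullback ι).obj L) η (t η) y) := by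
      refine hfin.subset ?_
      intro η hη
      refine ⟨fun h0 => hη (by show α (ι η) * _ = 0; rw [h0, zero_mul]), ?_⟩
      by_contra hsp
      apply hη
      show α (ι η) * Cyc.secDivFun (fun y => δ (ι y))
          ((Scheme.Modules.pullback ι).obj L) η (t η) y = 0
      unfold Cyc.secDivFun
      rw [dif_neg (fun h => hsp h.1), mul_zero]
    rw [← finsum_sub_distrib hsd1 hsd2]
    refine finsum_congr (fun η => ?_)
    rw [← mul_sub]
    by_cases hα0 : α (ι η) = 0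
    · rw [hα0, zero_mul, zero_mul]
    · have hk : δ (ι η) = k + 1 := (hαsupp (ι η) hα0).1
      congr 1
      unfold Cyc.secDivFun Cyc.divFun
      by_cases h : η ⤳ y ∧ δ (ι y) + 1 = δ (ι η)
      · have h' : ι η ⤳ ι y ∧ δ (ι y) + 1 = δ (ι η) :=
          ⟨(specializes_iff_closedImmersion ι η y).mpr h.1, h.2⟩
        rw [dif_pos h', dif_pos h, dif_pos h']
        exact hg (ι η) η rfl hk y h.1 h'.1
      · have h' : ¬ (ι η ⤳ ι y ∧ δ (ι y) + 1 = δ (ι η)) :=
          fun h' => h ⟨(specializes_iff_closedImmersion ι η y).mp h'.1, h'.2⟩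
        rw [dif_neg h', dif_neg h, dif_neg h']
        ring
  · rw [map_apply_notMem_range ι (fun y => δ (ι y)) δ ζ x hx, sub_zero]
    have h1 : ∀ ξ : X, α ξ * Cyc.secDivFun δ L ξ (v ξ) x = 0 := by
      intro ξ
      by_cases hα0 : α ξ = 0
      · rw [hα0, zero_mul]
      · obtain ⟨-, η, rfl⟩ := hαsupp ξ hα0
        unfold Cyc.secDivFun
        rw [dif_neg, mul_zero]
        rintro ⟨hsp, -⟩
        exact hx (mem_range_of_specializes ι η x hsp)
    have h2 : ∀ ξ : X, α ξ * Cyc.divFun δ ξ (g ξ) x = 0 := by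
      intro ξ
      by_cases hα0 : α ξ = 0
      · rw [hα0, zero_mul]
      · obtain ⟨-, η, rfl⟩ := hαsupp ξ hα0
        rw [divFun_eq_zero_of_notMem_range ι δ η (g (ι η)) x hx, mul_zero]
    show (∑ᶠ ξ : X, α ξ * Cyc.secDivFun δ L ξ (v ξ) x) = _
    rw [finsum_eq_zero_of_forall_eq_zero h1, finsum_eq_zero_of_forall_eq_zero h2]

end Groth.Agent.Lead.CycCl
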