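import Groth.Agent.Lib.Lead.CycCl5

/-!
# `i^* i_* α ∼ c₁(i^*L) ∩ α` (S6465)
-/

set_option autoImplicit false
set_option maxHeartbeats 400000
set_option linter.style.haveILetI false
set_option linter.unusedSectionVars false
universe u
open CategoryTheory CategoryTheory.Limits AlgebraicGeometry Opposite TopologicalSpace

namespace Groth.Agent.Lead.CycCl

open Groth.Agent.Lead.SecOrd Groth.Agent.Helper13.Inv Groth.Agent.Helper23.RegMero
open Groth.Agent.Helper18.Rec Groth.Agent.Helper13.FlatBC Groth.Agent.Helper13.Qcqs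

variable {X Y : Scheme.{u}}

theorem main_gysin_map_self (X D : Scheme.{u}) (δ : X → ℤ) (L : X.Modules)
    (hL : PicF.IsInvertible L) (s : L.presheaf.obj (Opposite.op ⊤)) (i : D ⟶ X)
    [IsClosedImmersion i] (k : ℤ) (α : AlgebraicCycle D ℤ)
    (hα : α ∈ Cyc.Zk D (fun d => δ (i d)) k) (w : (ξ : X) → Cyc.secFibre L ξ)
    (hw : ∀ ξ, w ξ ≠ 0) (t : (d : D) → Cyc.secFibre ((Scheme.Modules.pullback i).obj L) d)
    (ht : ∀ d, t d ≠ 0) (ζ₁ ζ₂ : AlgebraicCycle D ℤ)
    (h₁ : ∀ d, ζ₁ d = Cyc.c1CapFun δ L ⇑(AlgebraicCycle.map i (fun d => δ (i d)) δ α)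
      (Cyc.gysinChoice L s w) (i d))
    (h₂ : ⇑ζ₂ = Cyc.c1CapFun (fun d => δ (i d)) ((Scheme.Modules.pullback i).obj L) ⇑α t) :
    Cyc.RatEquiv (fun d => δ (i d)) (k - 1) ζ₁ ζ₂ := by
  classical
  have hinj : Function.Injective i := injective_of_closedImmersion i
  have hσex := fun η : D => exists_isTransport i L hL η η specializes_rfl (t η)
  choose σ hσ _ using hσex
  have hσne : ∀ η : D, σ η ≠ 0 := fun η h0 =>
    ht η ((isTransport_eq_zero_iff i L hL η (t η) (σ η) (hσ η)).mp h0)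
  have hfex := fun η : D => exists_ratio2 L hL (i η) (Cyc.gysinChoice L s w (i η))
    (gysinChoice_ne_zero L s w hw (i η)) (σ η) (hσne η)
  choose f hf0 hf using hfex
  show Cyc.RatEquivZero (fun d => δ (i d)) (k - 1) (ζ₁ - ζ₂)
  have hα' : α ∈ Cyc.Zk D (fun d => δ (i d)) (k - 1 + 1) := by rw [sub_add_cancel]; exact hα
  apply ratEquivZero_of_eq (fun d => δ (i d)) (k - 1) α hα'
    (fun η => (i.residueFieldMap η).hom (f η))
    (fun η => (map_ne_zero_iff _ (i.residueFieldMap η).hom.injective).mpr (hf0 η))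
  intro d
  rw [Function.locallyFinsuppWithin.coe_sub, Pi.sub_apply, h₁ d, h₂]
  show (∑ᶠ ξ : X, (AlgebraicCycle.map i (fun d => δ (i d)) δ α) ξ *
      Cyc.secDivFun δ L ξ (Cyc.gysinChoice L s w ξ) (i d)) -
    (∑ᶠ η : D, α η * Cyc.secDivFun (fun d => δ (i d)) ((Scheme.Modules.pullback i).obj L) η
      (t η) d) = _
  have hS1 : (∑ᶠ ξ : X, (AlgebraicCycle.map i (fun d => δ (i d)) δ α) ξ *
      Cyc.secDivFun δ L ξ (Cyc.gysinChoice L s w ξ) (i d)) =
      ∑ᶠ η : D, α η * Cyc.secDivFun δ L (i η) (Cyc.gysinChoice L s w (i η)) (i d) := by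
    rw [finsum_eq_finsum_comp_of_injective i hinj _ ?_]
    · refine finsum_congr (fun η => ?_)
      rw [map_closedImmersion_apply i (fun d => δ (i d)) δ α η rfl]
    · intro ξ hξ
      by_contra hnr
      apply hξ
      show _ * _ = 0
      rw [map_apply_notMem_range i (fun d => δ (i d)) δ α ξ hnr, zero_mul]
  rw [hS1]
  have hfin : {η : D | α η ≠ 0 ∧ η ⤳ d}.Finite := by
    obtain ⟨T, hT, hfin⟩ := α.supportLocallyFiniteWithinDomain d (Set.mem_univ _)
    obtain ⟨U, hUt, hUo, hxU⟩ := mem_nhds_iff.mp hT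
    refine hfin.subset ?_
    rintro η ⟨hη, hsp⟩
    exact ⟨hUt (hsp.mem_open hUo hxU), hη⟩
  have hsd1 : Function.HasFiniteSupport
      (fun η : D => α η * Cyc.secDivFun δ L (i η) (Cyc.gysinChoice L s w (i η)) (i d)) := by
    refine hfin.subset ?_
    intro η hη
    refine ⟨fun h0 => hη (by show α η * _ = 0; rw [h0, zero_mul]), ?_⟩
    by_contra hsp
    apply hη
    show α η * Cyc.secDivFun δ L (i η) (Cyc.gysinChoice L s w (i η)) (i d) = 0
    unfold Cyc.secDivFun
    rw [dif_neg (fun h => hsp ((specializes_iff_closedImmersion i η d).mp h.1)), mul_zero]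
  have hsd2 : Function.HasFiniteSupport
      (fun η : D => α η * Cyc.secDivFun (fun d => δ (i d))
        ((Scheme.Modules.pullback i).obj L) η (t η) d) := by
    refine hfin.subset ?_
    intro η hη
    refine ⟨fun h0 => hη (by show α η * _ = 0; rw [h0, zero_mul]), ?_⟩
    by_contra hsp
    apply hη
    show α η * Cyc.secDivFun (fun d => δ (i d))
        ((Scheme.Modules.pullback i).obj L) η (t η) d = 0
    unfold Cyc.secDivFun
    rw [dif_neg (fun h => hsp h.1), mul_zero]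
  rw [← finsum_sub_distrib hsd1 hsd2]
  refine finsum_congr (fun η => ?_)
  rw [← mul_sub]
  congr 1
  unfold Cyc.secDivFun Cyc.divFun
  by_cases h : η ⤳ d ∧ δ (i d) + 1 = δ (i η)
  · have h' : i η ⤳ i d ∧ δ (i d) + 1 = δ (i η) :=
      ⟨(specializes_iff_closedImmersion i η d).mpr h.1, h.2⟩
    rw [dif_pos h', dif_pos h, dif_pos h,
      secOrdAt_of_isTransport i L hL η d h.1 h'.1 (t η) (σ η) (hσ η),
      ordAt_closedImmersion i d η h.1 h'.1]
    exact hf η (i d) h'.1
  · have h' : ¬ (i η ⤳ i d ∧ δ (i d) + 1 = δ (i η)) :=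
      fun h' => h ⟨(specializes_iff_closedImmersion i η d).mp h'.1, h'.2⟩
    rw [dif_neg h', dif_neg h, dif_neg h]
    ring

end Groth.Agent.Lead.CycCl
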