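import Mathlib
import Groth.Prelude
import Groth.Agent.Lib.Helper8.LCDT2
import Groth.Agent.Lib.Helper7.HullFin
import Groth.Agent.S11591
import Groth.Agent.S1763

/-!
# Finiteness of the ideal transform of `A ⧸ p` from the finiteness of the height-one hull (lead)
-/

set_option autoImplicit false
set_option linter.style.haveILetI false
set_option linter.unusedSectionVars false

universe u

open Groth.Agent.Helper17

namespace Groth.Agent.Lead.DTFin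

section Ev

variable {A : Type u} [CommRing A] (I p : Ideal A) [hpp : p.IsPrime]

/-- the fraction `f(a₀ⁿ)/a₀ⁿ` attached to `f : Iⁿ → A ⧸ p`. -/
noncomputable def ev (a₀ : A) (ha : a₀ ∈ I) (n : ℕ) :
    (↥(I ^ n) →ₗ[A] (A ⧸ p)) →ₗ[A] FractionRing (A ⧸ p) :=
  (LinearMap.mulLeft A
      (((algebraMap (A ⧸ p) (FractionRing (A ⧸ p)) (Ideal.Quotient.mk p a₀))⁻¹) ^ n)) ∘ₗ
    ((IsScalarTower.toAlgHom A (A ⧸ p) (FractionRing (A ⧸ p))).toLinearMap ∘ₗ
      LinearMap.applyₗ (⟨a₀ ^ n, Ideal.pow_mem_pow ha n⟩ : ↥(I ^ n)))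

theorem ev_apply (a₀ : A) (ha : a₀ ∈ I) (n : ℕ) (f : ↥(I ^ n) →ₗ[A] (A ⧸ p)) :
    ev I p a₀ ha n f =
      ((algebraMap (A ⧸ p) (FractionRing (A ⧸ p)) (Ideal.Quotient.mk p a₀))⁻¹) ^ n *
        algebraMap (A ⧸ p) (FractionRing (A ⧸ p)) (f ⟨a₀ ^ n, Ideal.pow_mem_pow ha n⟩) := rfl

theorem mul_ev (a₀ : A) (ha : a₀ ∈ I) (ha' : a₀ ∉ p) (n : ℕ) (f : ↥(I ^ n) →ₗ[A] (A ⧸ p))
    (b : A) (hb : b ∈ I ^ n) :
    algebraMap (A ⧸ p) (FractionRing (A ⧸ p)) (Ideal.Quotient.mk p b) * ev I p a₀ ha n f =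
      algebraMap (A ⧸ p) (FractionRing (A ⧸ p)) (f ⟨b, hb⟩) := by
  have hne : algebraMap (A ⧸ p) (FractionRing (A ⧸ p)) (Ideal.Quotient.mk p a₀) ≠ 0 := by
    intro h0
    have h1 : Ideal.Quotient.mk p a₀ = 0 :=
      (IsFractionRing.injective (A ⧸ p) (FractionRing (A ⧸ p)))
        (h0.trans (map_zero _).symm)
    exact ha' (Ideal.Quotient.eq_zero_iff_mem.1 h1)
  have key : Ideal.Quotient.mk p b * f ⟨a₀ ^ n, Ideal.pow_mem_pow ha n⟩ =
      (Ideal.Quotient.mk p a₀) ^ n * f ⟨b, hb⟩ := by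
    have h1 : b • (⟨a₀ ^ n, Ideal.pow_mem_pow ha n⟩ : ↥(I ^ n)) = a₀ ^ n • (⟨b, hb⟩ : ↥(I ^ n)) := by
      apply Subtype.ext
      show b * a₀ ^ n = a₀ ^ n * b
      ring
    have h2 := congrArg f h1
    rw [map_smul, map_smul] at h2
    have h3 : ∀ (c : A) (y : A ⧸ p), c • y = Ideal.Quotient.mk p c * y := by
      intro c y
      rw [Algebra.smul_def]
      rfl
    rw [h3, h3, map_pow] at h2
    exact h2
  rw [ev_apply]
  have key' := congrArg (algebraMap (A ⧸ p) (FractionRing (A ⧸ p))) key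
  rw [map_mul, map_mul, map_pow] at key'
  rw [mul_left_comm, key', ← mul_assoc, ← mul_pow, inv_mul_cancel₀ hne, one_pow, one_mul]

theorem ev_injective (a₀ : A) (ha : a₀ ∈ I) (ha' : a₀ ∉ p) (n : ℕ) :
    Function.Injective (ev I p a₀ ha n) := by
  rw [injective_iff_map_eq_zero]
  intro f hf
  ext ⟨b, hb⟩
  have h1 := mul_ev I p a₀ ha ha' n f b hb
  rw [hf, mul_zero] at h1
  have h2 : f ⟨b, hb⟩ = 0 :=
    (IsFractionRing.injective (A ⧸ p) (FractionRing (A ⧸ p))) (h1.symm.trans (map_zero _).symm)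
  rw [h2]
  rfl

theorem ev_incl (a₀ : A) (ha : a₀ ∈ I) (ha' : a₀ ∉ p) {n m : ℕ} (h : n ≤ m)
    (f : ↥(I ^ n) →ₗ[A] (A ⧸ p)) :
    ev I p a₀ ha m (f ∘ₗ incl I h) = ev I p a₀ ha n f := by
  have hne : algebraMap (A ⧸ p) (FractionRing (A ⧸ p)) (Ideal.Quotient.mk p (a₀ ^ m)) ≠ 0 := by
    intro h0
    have h1 : Ideal.Quotient.mk p (a₀ ^ m) = 0 :=
      (IsFractionRing.injective (A ⧸ p) (FractionRing (A ⧸ p)))
        (h0.trans (map_zero _).symm)
    exact ha' (hpp.mem_of_pow_mem m (Ideal.Quotient.eq_zero_iff_mem.1 h1))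
  have hm : a₀ ^ m ∈ I ^ m := Ideal.pow_mem_pow ha m
  have h1 := mul_ev I p a₀ ha ha' m (f ∘ₗ incl I h) (a₀ ^ m) hm
  have h2 := mul_ev I p a₀ ha ha' n f (a₀ ^ m) (Ideal.pow_le_pow_right h hm)
  have h3 : (f ∘ₗ incl I h) ⟨a₀ ^ m, hm⟩ = f ⟨a₀ ^ m, Ideal.pow_le_pow_right h hm⟩ := rfl
  rw [h3, ← h2] at h1
  exact mul_left_cancel₀ hne h1

theorem ev_mem_hull (a₀ : A) (ha : a₀ ∈ I) (ha' : a₀ ∉ p)
    (hht : ∀ (P : Ideal (A ⧸ p)) [P.IsPrime], P.height = 1 →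
      ¬ I.map (Ideal.Quotient.mk p) ≤ P)
    (n : ℕ) (f : ↥(I ^ n) →ₗ[A] (A ⧸ p)) :
    ev I p a₀ ha n f ∈ EGA4.heightOneHull (A ⧸ p) := by
  intro P _ hP1
  have h1 := hht P hP1
  rw [Ideal.map_le_iff_le_comap] at h1
  obtain ⟨b, hbI, hbP⟩ := SetLike.not_le_iff_exists.mp h1
  have hbn : b ^ n ∈ I ^ n := Ideal.pow_mem_pow hbI n
  refine ⟨Ideal.Quotient.mk p (b ^ n), ?_, f ⟨b ^ n, hbn⟩, ?_⟩
  · rw [map_pow]
    intro hmem
    exact hbP (Ideal.IsPrime.mem_of_pow_mem inferInstance n hmem)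
  · exact (mul_ev I p a₀ ha ha' n f (b ^ n) hbn).symm

end Ev

section Fin

variable {A : Type u} [CommRing A] [IsNoetherianRing A] (I p : Ideal A) [hpp : p.IsPrime]

/-- **Finiteness of the ideal transform** `D_I(A ⧸ p)` when `A ⧸ p` has a finite height-one hull
and `I(A ⧸ p)` lies in no prime of height one. -/
theorem finite_DT_quot (hIp : ¬ I ≤ p) (hfin : EGA4.HeightOneHullFinite (A ⧸ p))
    (hht : ∀ (P : Ideal (A ⧸ p)) [P.IsPrime], P.height = 1 →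
      ¬ I.map (Ideal.Quotient.mk p) ≤ P) :
    Module.Finite A (LocCoh.DT I (A ⧸ p)) := by
  classical
  obtain ⟨a₀, ha, ha'⟩ := SetLike.not_le_iff_exists.mp hIp
  obtain ⟨B', hB', hB'fin⟩ := hfin
  haveI := hB'fin
  haveI : Module.Finite A ↥B' := Module.Finite.trans (A ⧸ p) ↥B'
  let N₁ : Submodule A (FractionRing (A ⧸ p)) := (Subalgebra.toSubmodule B').restrictScalars A
  haveI : Module.Finite A ↥N₁ := (inferInstance : Module.Finite A ↥B')
  haveI : IsNoetherian A ↥N₁ := isNoetherian_of_isNoetherianRing_of_finite A _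
  let S_ : ℕ → Submodule A (FractionRing (A ⧸ p)) := fun n => LinearMap.range (ev I p a₀ ha n)
  have hSle : ∀ n, S_ n ≤ N₁ := by
    rintro n _ ⟨f, rfl⟩
    show ev I p a₀ ha n f ∈ (B' : Set (FractionRing (A ⧸ p)))
    rw [hB']
    exact ev_mem_hull I p a₀ ha ha' hht n f
  have hmono : ∀ n m : ℕ, n ≤ m → S_ n ≤ S_ m := by
    rintro n m h _ ⟨f, rfl⟩
    exact ⟨f ∘ₗ incl I h, ev_incl I p a₀ ha ha' h f⟩
  let Q : ℕ → Submodule A ↥N₁ := fun n => Submodule.comap N₁.subtype (S_ n)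
  have hSQ : ∀ n, S_ n = Submodule.map N₁.subtype (Q n) := by
    intro n
    rw [Submodule.map_comap_subtype, inf_eq_right.mpr (hSle n)]
  obtain ⟨_, ⟨N, rfl⟩, hmax⟩ := WellFounded.has_min
    (wellFounded_gt : WellFounded (α := Submodule A ↥N₁) (· > ·)) (Set.range Q) ⟨_, ⟨0, rfl⟩⟩
  have hstab : ∀ m : ℕ, N ≤ m → S_ m ≤ S_ N := by
    intro m hm
    have h1 : Q N ≤ Q m := Submodule.comap_mono (hmono N m hm)
    have h2 : Q m = Q N := by
      by_contra hne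
      exact hmax (Q m) ⟨m, rfl⟩ (lt_of_le_of_ne h1 (Ne.symm hne))
    rw [hSQ m, hSQ N, h2]
  -- finiteness of `Hom(I^N, A ⧸ p)`
  let evN : (↥(I ^ N) →ₗ[A] (A ⧸ p)) →ₗ[A] ↥N₁ :=
    LinearMap.codRestrict N₁ (ev I p a₀ ha N) (fun f => hSle N ⟨f, rfl⟩)
  have hevN : Function.Injective evN := by
    intro f g hfg
    apply ev_injective I p a₀ ha ha' N
    exact congrArg Subtype.val hfg
  haveI : Module.Finite A (↥(I ^ N) →ₗ[A] (A ⧸ p)) := Module.Finite.of_injective evN hevN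
  refine Module.Finite.of_surjective (cls I (A ⧸ p) N) ?_
  intro x
  obtain ⟨n, f, rfl⟩ := cls_surjective I (A ⧸ p) x
  have hn : n ≤ max n N := le_max_left _ _
  have hN : N ≤ max n N := le_max_right _ _
  have h1 : ev I p a₀ ha (max n N) (f ∘ₗ incl I hn) ∈ S_ N := hstab _ hN ⟨_, rfl⟩
  obtain ⟨g, hg⟩ := h1
  refine ⟨g, ?_⟩
  have h2 : g ∘ₗ incl I hN = f ∘ₗ incl I hn := by
    apply ev_injective I p a₀ ha ha' (max n N)
    rw [ev_incl I p a₀ ha ha' hN g]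
    exact hg
  rw [← cls_restrict I (A ⧸ p) hN g, h2, cls_restrict I (A ⧸ p) hn f]

/-- finiteness of `H¹_I(A ⧸ p)`. -/
theorem finite_H1_quot (hIp : ¬ I ≤ p) (hfin : EGA4.HeightOneHullFinite (A ⧸ p))
    (hht : ∀ (P : Ideal (A ⧸ p)) [P.IsPrime], P.height = 1 →
      ¬ I.map (Ideal.Quotient.mk p) ≤ P) :
    Module.Finite A (LocCoh.H I 1 (A ⧸ p)) := by
  haveI := finite_DT_quot I p hIp hfin hht
  obtain ⟨e⟩ := Groth.Agent.S11591.result A I (A ⧸ p)
  exact Module.Finite.equiv e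

theorem two_le_height_of_le_orderHeight (P : Ideal (A ⧸ p)) [hP : P.IsPrime]
    (hpq : (⟨p, hpp⟩ : PrimeSpectrum A) ≤ ⟨P.comap (Ideal.Quotient.mk p), inferInstance⟩)
    (h2 : (2 : ℕ∞) ≤ Order.height
      (⟨⟨P.comap (Ideal.Quotient.mk p), inferInstance⟩, hpq⟩ :
        Set.Ici (⟨p, hpp⟩ : PrimeSpectrum A))) :
    (2 : ℕ∞) ≤ P.height := by
  have hset : PrimeSpectrum.zeroLocus (p : Set A) = Set.Ici (⟨p, hpp⟩ : PrimeSpectrum A) := by
    ext x
    exact Iff.rfl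
  let e := p.primeSpectrumQuotientOrderIsoZeroLocus.trans (OrderIso.setCongr _ _ hset)
  have he : e ⟨P, hP⟩ = ⟨⟨P.comap (Ideal.Quotient.mk p), inferInstance⟩, hpq⟩ :=
    Subtype.ext (PrimeSpectrum.ext rfl)
  have h3 : P.height = Order.height (⟨P, hP⟩ : PrimeSpectrum (A ⧸ p)) :=
    PrimeSpectrum.height_eq_orderHeight ⟨P, hP⟩
  rw [h3, ← Order.height_orderIso e, he]
  exact h2

/-- **Finiteness of `H¹_I(M)` over a universally catenary Nagata ring** when the closed set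
`V(I)` has codimension at least two in the closure of every associated point of `M` outside it. -/
theorem finite_H1_of_nagata (hN : CAlg.IsNagata A) (hU : CAlg.IsUniversallyCatenary A)
    (M : Type u) [AddCommGroup M] [Module A M] [Module.Finite A M]
    (h : ∀ (p q : PrimeSpectrum A) (hpq : p ≤ q), p.asIdeal ∈ associatedPrimes A M →
      ¬ I ≤ p.asIdeal → I ≤ q.asIdeal → (2 : ℕ∞) ≤ Order.height (⟨q, hpq⟩ : Set.Ici p)) :
    Module.Finite A (LocCoh.H I 1 M) := by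
  refine (Groth.Agent.S1763.result A I M).2 ?_
  intro p hp hIp
  haveI hpp : p.IsPrime := hp.isPrime
  have hft : Algebra.FiniteType A (A ⧸ p) :=
    Algebra.FiniteType.of_surjective (Algebra.ofId A (A ⧸ p)) Ideal.Quotient.mk_surjective
  have hcat : CAlg.IsUniversallyCatenary (A ⧸ p) := by
    refine ⟨inferInstance, ?_⟩
    intro S _ _ hS
    letI : Algebra A S := ((algebraMap (A ⧸ p) S).comp (algebraMap A (A ⧸ p))).toAlgebra
    haveI : IsScalarTower A (A ⧸ p) S := IsScalarTower.of_algebraMap_eq (fun _ => rfl)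
    exact hU.2 S (Algebra.FiniteType.trans hft hS)
  have hN1 : Module.Finite (A ⧸ p) (integralClosure (A ⧸ p) (FractionRing (A ⧸ p))) :=
    hN.2 p (FractionRing (A ⧸ p)) inferInstance
  have hfin := Groth.Agent.Helper7.HullFin.s2666 (A ⧸ p) hcat hN1
  apply finite_H1_quot I p hIp hfin
  intro P hP hP1 hIP
  have hpq : (⟨p, hpp⟩ : PrimeSpectrum A) ≤ ⟨P.comap (Ideal.Quotient.mk p), inferInstance⟩ := by
    intro a ha
    show Ideal.Quotient.mk p a ∈ P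
    rw [Ideal.Quotient.eq_zero_iff_mem.2 ha]
    exact P.zero_mem
  have h2 := h ⟨p, hpp⟩ ⟨P.comap (Ideal.Quotient.mk p), inferInstance⟩ hpq hp hIp
    (Ideal.map_le_iff_le_comap.1 hIP)
  have h3 := two_le_height_of_le_orderHeight p P hpq h2
  rw [hP1] at h3
  exact absurd h3 (by norm_num)

end Fin

end Groth.Agent.Lead.DTFin
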