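import Mathlib
import Groth.Prelude.Def_CurvBase
import Groth.Agent.Lib.Lead.EulerK0
import Groth.Agent.Lib.Lead.EffDeg
import Groth.Agent.Lib.Lead.DegTensor
import Groth.Agent.Lib.Lead.IntNumDimOne
import Groth.Agent.Lib.Helper13.K0Length
import Groth.Agent.Lib.Helper13.ClosureSheaf

/-!
# The degree of a locally free module as a sum over the one-dimensional components (lead)
-/

set_option autoImplicit false
universe u
open CategoryTheory CategoryTheory.Limits AlgebraicGeometry Opposite TopologicalSpace

namespace Groth.Agent.Lead.DegComponents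

open Groth.Agent.Lead.EulerK0 Groth.Agent.Lead.EffDeg Groth.Agent.Lead.DegTensor
open Groth.Agent.Lead.IntNumDimOne

variable (k : Type u) [Field k] {X : Scheme.{u}} [X.Over (Spec (CommRingCat.of k))]
  [IsProper (X ↘ Spec (CommRingCat.of k))]

/-- the degree of the restriction of `E` to the closed subscheme of `I`. -/
noncomputable def degOn (E : X.Modules) (n : ℕ) (I : X.IdealSheafData) : ℤ :=
  @Curv2.deg k _ I.subscheme ⟨I.subschemeι ≫ (X ↘ Spec (CommRingCat.of k))⟩
    ((Scheme.Modules.pullback I.subschemeι).obj E) n

theorem psi_quot_eq (E : X.Modules) (n : ℕ) (hE : FlatMod.IsFinLocFreeOfRank n E)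
    (I : X.IdealSheafData) :
    Curv2.euler k X (CohB1.tensorMod (ClSub.quotMod I) E) - n * Curv2.euler k X (ClSub.quotMod I) =
      degOn k E n I := by
  letI : I.subscheme.Over (Spec (CommRingCat.of k)) :=
    ⟨I.subschemeι ≫ (X ↘ (Spec (CommRingCat.of k)))⟩
  have e1 := euler_quot_tensor_rank k I.subschemeι rfl n E hE
  haveI : (Coh.structureModule I.subscheme).IsQuasicoherent :=
    (isCoh_structureModule (X := I.subscheme)).1
  have e2 := euler_push' k I.subschemeι rfl (Coh.structureModule I.subscheme)
  change Curv2.euler k X (CohB1.tensorMod (ClSub.quotMod I) E) = _ at e1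
  change Curv2.euler k X (ClSub.quotMod I) = _ at e2
  unfold degOn Curv2.deg
  rw [e1, e2]

open Groth.Agent.Helper13.StalkBasis Groth.Agent.Helper13.TensorFinLocFree in
theorem length_structureModule_stalk [IsNoetherian X] (x : X) :
    Module.length (X.presheaf.stalk x) ((Coh.structureModule X).presheaf.stalk x) =
      Module.length (X.presheaf.stalk x) (X.presheaf.stalk x) := by
  have hO1 : FlatMod.IsFinLocFreeOfRank 1 (Coh.structureModule X) :=
    isFinLocFreeOfRank_one_of_isInvertible _ Groth.Agent.Helper13.Inv.isInvertible_structureModule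
  obtain ⟨V, s, hx, hb⟩ :=
    Groth.Agent.Helper13.K0Tensor.exists_isBasisAt_of_rank (Coh.structureModule X) 1 hO1 x
  exact ((basisOf (Coh.structureModule X) s x hx (hb x hx)).equivFun.trans
    (LinearEquiv.funUnique (Fin 1) (X.presheaf.stalk x) (X.presheaf.stalk x))).length_eq

theorem deg_eq_finsum_points [IsNoetherian X] (hdim : topologicalKrullDim X ≤ 1) (n : ℕ)
    (E : X.Modules) (hE : FlatMod.IsFinLocFreeOfRank n E)
    [DecidablePred fun x : X =>
      topologicalKrullDim ↥(closure ({x} : Set X)) = ((1 : ℕ) : WithBot ℕ∞)] :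
    Curv2.deg k X E n = ∑ᶠ x : X,
      if topologicalKrullDim ↥(closure ({x} : Set X)) = ((1 : ℕ) : WithBot ℕ∞) then
        ((Module.length (X.presheaf.stalk x)
          ((Coh.structureModule X).presheaf.stalk x)).toNat : ℤ) *
          degOn k E n (IntMult.ptIdeal x)
      else 0 := by
  have hO : Coh.IsCoh (Coh.structureModule X) := isCoh_structureModule
  have hEc : Coh.IsCoh E := isCoh_of_iso (Groth.Agent.Helper13.Tensor.rid E)
    (Groth.Agent.Helper13.K0Tensor.isCoh_tensor E n hE _ hO)
  have hd : topologicalKrullDim ↥(CohB1.support (Coh.structureModule X)) ≤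
      ((1 : ℕ) : WithBot ℕ∞) := by
    rw [Nat.cast_one]
    exact (topologicalKrullDim_subspace_le X _).trans hdim
  have hm := Groth.Agent.Helper13.K0Length.main (fun M : X.Modules => Coh.IsCoh M)
    (fun _ => Iff.rfl) 1 (Coh.structureModule X) hO hd
  have hfin := Groth.Agent.Helper13.K0Tensor.finite_support_term
    (fun M : X.Modules => Coh.IsCoh M) 1 (Coh.structureModule X) hO hd
  have h0 := psi_eq_zero_of_mem_filtLt_one k E n hE _ hm
  rw [map_sub, psi_clSub k E n hE _ hO, map_finsum _ hfin] at h0
  have e₂ := euler_iso k (Groth.Agent.Helper13.Tensor.lid E) (isCoh_tensor_right E n hE _ hO) hEc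
  rw [e₂] at h0
  have hterm : ∀ x : X, psi k E n hE
      (if topologicalKrullDim ↥(closure ({x} : Set X)) = ((1 : ℕ) : WithBot ℕ∞) then
        (Module.length (X.presheaf.stalk x)
          ((Coh.structureModule X).presheaf.stalk x)).toNat •
          KZero.clSub (fun M : X.Modules => Coh.IsCoh M) (Cyc.closureStructureSheaf x)
        else 0) =
      if topologicalKrullDim ↥(closure ({x} : Set X)) = ((1 : ℕ) : WithBot ℕ∞) then
        ((Module.length (X.presheaf.stalk x)
          ((Coh.structureModule X).presheaf.stalk x)).toNat : ℤ) *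
          degOn k E n (IntMult.ptIdeal x)
      else 0 := by
    intro x
    split_ifs with hx
    · rw [map_nsmul, psi_clSub k E n hE _
        (Groth.Agent.Helper13.ClosureSheaf.isCoh_closureStructureSheaf x), nsmul_eq_mul]
      have e : Cyc.closureStructureSheaf x = ClSub.quotMod (IntMult.ptIdeal x) := rfl
      rw [e, psi_quot_eq k E n hE (IntMult.ptIdeal x)]
    · exact map_zero _
  rw [finsum_congr hterm] at h0
  unfold Curv2.deg
  linarith

theorem radical_irreducibleComponentIdeal [IsNoetherian X] (Z : Set X)
    (hZ : Z ∈ irreducibleComponents (X : Type u)) :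
    (X.irreducibleComponentIdeal Z hZ).radical = IntMult.ptIdeal hZ.1.genericPoint := by
  rw [← Scheme.IdealSheafData.vanishingIdeal_support]
  unfold IntMult.ptIdeal
  congr 1
  apply TopologicalSpace.Closeds.ext
  change Z = closure {hZ.1.genericPoint}
  exact (hZ.1.closure_genericPoint (isClosed_of_mem_irreducibleComponents Z hZ)).symm

theorem mem_irreducibleComponents_of_dim (hdim : topologicalKrullDim X ≤ 1) (x : X)
    (hx : topologicalKrullDim ↥(closure ({x} : Set X)) = ((1 : ℕ) : WithBot ℕ∞)) :
    closure ({x} : Set X) ∈ irreducibleComponents (X : Type u) := by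
  refine ⟨isIrreducible_singleton.closure, ?_⟩
  intro T hT hle
  -- `T` irreducible containing `closure {x}`; its closure has a generic point `y`
  by_contra hnot
  have hTc : IsIrreducible (closure T) := hT.closure
  obtain ⟨y, hy⟩ := QuasiSober.sober hTc isClosed_closure
  have hyx : y ⤳ x := by
    rw [specializes_iff_mem_closure, hy.def]
    exact subset_closure (hle (subset_closure rfl))
  have hne : closure ({x} : Set X) ≠ closure {y} := by
    intro h
    apply hnot
    rw [hy.def] at h
    rw [h]
    exact subset_closure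
  have d := Groth.Agent.Helper13.DimLemma.dim_closure_add_one_le hyx hne
  have d3 : topologicalKrullDim ↥(closure ({y} : Set X)) ≤ topologicalKrullDim X :=
    topologicalKrullDim_subspace_le X _
  rw [hx] at d
  have d4 : ((1 : ℕ) : WithBot ℕ∞) + 1 ≤ ((1 : ℕ) : WithBot ℕ∞) := by
    rw [Nat.cast_one]
    exact d.trans (d3.trans hdim)
  have d5 := Groth.Agent.Helper13.DimLemma.lt_of_add_one_le_coe d4
  exact absurd d5 (lt_irrefl _)

/-- the degree as a sum over the irreducible components of dimension one. -/
theorem deg_eq_finsum_components [IsNoetherian X] (hdim : topologicalKrullDim X ≤ 1) (n : ℕ)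
    (E : X.Modules) (hE : FlatMod.IsFinLocFreeOfRank n E) :
    Curv2.deg k X E n = ∑ᶠ Z : irreducibleComponents (X : Type u),
      (if topologicalKrullDim (Z.1 : Set X) = 1 then
        ((Module.length (X.presheaf.stalk Z.2.1.genericPoint)
          (X.presheaf.stalk Z.2.1.genericPoint)).toNat : ℤ) *
          degOn k E n (X.irreducibleComponentIdeal Z.1 Z.2).radical
      else 0) := by
  classical
  rw [deg_eq_finsum_points k hdim n E hE]
  let Φ : irreducibleComponents (X : Type u) → X := fun Z => Z.2.1.genericPoint
  have hcl : ∀ Z : irreducibleComponents (X : Type u), closure ({Φ Z} : Set X) = Z.1 := fun Z =>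
    Z.2.1.closure_genericPoint (isClosed_of_mem_irreducibleComponents Z.1 Z.2)
  have hΦ : Function.Injective Φ := by
    intro Z Z' h
    apply Subtype.ext
    rw [← hcl Z, ← hcl Z', h]
  have hsupp : Function.support (fun x : X =>
      if topologicalKrullDim ↥(closure ({x} : Set X)) = ((1 : ℕ) : WithBot ℕ∞) then
        ((Module.length (X.presheaf.stalk x)
          ((Coh.structureModule X).presheaf.stalk x)).toNat : ℤ) *
          degOn k E n (IntMult.ptIdeal x)
      else 0) ⊆ Set.range Φ := by
    intro x hx
    have hdx : topologicalKrullDim ↥(closure ({x} : Set X)) = ((1 : ℕ) : WithBot ℕ∞) := by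
      by_contra h
      exact hx (if_neg h)
    have hmem := mem_irreducibleComponents_of_dim hdim x hdx
    refine ⟨⟨closure {x}, hmem⟩, ?_⟩
    exact (hmem.1.isGenericPoint_genericPoint isClosed_closure).eq isGenericPoint_closure
  rw [← Set.indicator_eq_self.2 hsupp, ← finsum_mem_def, finsum_mem_range hΦ]
  refine finsum_congr (fun Z => ?_)
  have hrad := radical_irreducibleComponentIdeal Z.1 Z.2
  by_cases h : topologicalKrullDim (Z.1 : Set X) = 1
  · have h' : topologicalKrullDim ↥(closure ({Φ Z} : Set X)) = ((1 : ℕ) : WithBot ℕ∞) := by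
      rw [hcl Z, Nat.cast_one]
      exact h
    rw [if_pos h, if_pos h', length_structureModule_stalk, hrad]
  · have h' : ¬ topologicalKrullDim ↥(closure ({Φ Z} : Set X)) = ((1 : ℕ) : WithBot ℕ∞) := by
      rw [hcl Z, Nat.cast_one]
      exact h
    rw [if_neg h, if_neg h']

end Groth.Agent.Lead.DegComponents
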