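import Mathlib
import Groth.Prelude
import Groth.Agent.S7577
import Groth.Agent.S7581
import Groth.Agent.S12444

/-!
# Local dimension functions on catenary locally Noetherian sober spaces (lead)
-/

set_option autoImplicit false
set_option linter.style.haveILetI false
set_option linter.unusedSectionVars false

universe u

open TopologicalSpace Topology PtTop
open Groth.Agent.S7577 (cl gp cl_gp gp_cl cl_le_cl cl_lt_cl)

namespace Groth.Agent.Lead.DimFun

section Top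

variable {X : Type u} [TopologicalSpace X]

/-- In an open Noetherian subspace `V`, the trace of a closed set is covered by finitely many
irreducible closed subsets of `X` contained in the closed set. -/
theorem exists_finite_cover (V : Opens X) [NoetherianSpace V] (C : Set X) (hC : IsClosed C) :
    ∃ 𝒯 : Set (IrreducibleCloseds X), 𝒯.Finite ∧ (∀ T ∈ 𝒯, (T : Set X) ⊆ C) ∧
      ∀ x ∈ C, x ∈ V → ∃ T ∈ 𝒯, x ∈ (T : Set X) := by
  classical
  obtain ⟨S, hSf, hSc, hSi, hSU⟩ := NoetherianSpace.exists_finite_set_isClosed_irreducible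
    (hC.preimage (continuous_subtype_val (p := fun x => x ∈ V)))
  let φ : {t : Set V // t ∈ S} → IrreducibleCloseds X := fun t =>
    ⟨closure (Subtype.val '' t.1),
      ((hSi t.1 t.2).image _ continuous_subtype_val.continuousOn).closure, isClosed_closure⟩
  haveI : Finite {t : Set V // t ∈ S} := hSf.to_subtype
  refine ⟨Set.range φ, Set.finite_range φ, ?_, ?_⟩
  · rintro _ ⟨t, rfl⟩
    show closure (Subtype.val '' t.1) ⊆ C
    apply closure_minimal _ hC
    rintro _ ⟨y, hy, rfl⟩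
    have h1 : y ∈ ⋃₀ S := Set.mem_sUnion.2 ⟨t.1, t.2, hy⟩
    rw [← hSU] at h1
    exact h1
  · intro x hxC hxV
    have h1 : (⟨x, hxV⟩ : V) ∈ Subtype.val ⁻¹' C := hxC
    rw [hSU] at h1
    obtain ⟨t, htS, hxt⟩ := Set.mem_sUnion.1 h1
    exact ⟨φ ⟨t, htS⟩, ⟨⟨t, htS⟩, rfl⟩, subset_closure ⟨⟨x, hxV⟩, hxt, rfl⟩⟩

variable [QuasiSober X] [T0Space X]

theorem cl_le_iff (x : X) (T : IrreducibleCloseds X) : cl x ≤ T ↔ x ∈ (T : Set X) := by
  constructor
  · intro h
    exact h (subset_closure (Set.mem_singleton x))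
  · intro h
    show closure {x} ⊆ (T : Set X)
    exact closure_minimal (Set.singleton_subset_iff.2 h) T.isClosed

/-- the normalized codimension difference -/
noncomputable def dd (s : X) (T : IrreducibleCloseds X) (y : X) : ℤ :=
  ((PtTop.codim (cl s) (T : Set X)).toNat : ℤ) - ((PtTop.codim (cl y) (T : Set X)).toNat : ℤ)

theorem toNat_codim_add (hcat : IsCatenarySpace X) (x : X) (W T : IrreducibleCloseds X)
    (hx : x ∈ (W : Set X)) (hWT : W ≤ T) :
    (PtTop.codim (cl x) (T : Set X)).toNat =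
      (PtTop.codim (cl x) (W : Set X)).toNat + (PtTop.codim W (T : Set X)).toNat := by
  obtain ⟨hfin, hadd⟩ := Groth.Agent.S7581.forward hcat
  have hxW : cl x ≤ W := (cl_le_iff x W).2 hx
  rw [hadd (cl x) W T hxW hWT, ENat.toNat_add (hfin _ _ hxW) (hfin _ _ hWT)]

theorem dd_eq_of_le (hcat : IsCatenarySpace X) (s y : X) (W T : IrreducibleCloseds X)
    (hWT : W ≤ T) (hs : s ∈ (W : Set X)) (hy : y ∈ (W : Set X)) : dd s T y = dd s W y := by
  unfold dd
  rw [toNat_codim_add hcat s W T hs hWT, toNat_codim_add hcat y W T hy hWT]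
  push_cast
  ring

theorem dd_sub (hcat : IsCatenarySpace X) (s y z : X) (T : IrreducibleCloseds X)
    (hy : y ∈ (T : Set X)) (hyz : y ⤳ z) :
    dd s T y - dd s T z = ((PtTop.codim (cl z) ((cl y : IrreducibleCloseds X) : Set X)).toNat : ℤ) := by
  unfold dd
  have hz : z ∈ ((cl y : IrreducibleCloseds X) : Set X) := (cl_le_iff z (cl y)).1 (cl_le_cl.2 hyz)
  rw [toNat_codim_add hcat z (cl y) T hz ((cl_le_iff y T).2 hy)]
  push_cast
  ring

/-- **A catenary sober space has a dimension function near every point with a Noetherian open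
neighbourhood.** -/
theorem exists_dimensionFunction (hcat : IsCatenarySpace X) (s : X)
    (V : Opens X) (hsV : s ∈ V) [NoetherianSpace V] :
    ∃ U : Opens X, s ∈ U ∧ ∃ δ : U → ℤ, IsDimensionFunction δ := by
  classical
  obtain ⟨hfin, hadd⟩ := Groth.Agent.S7581.forward hcat
  obtain ⟨𝒯, h𝒯f, -, h𝒯c⟩ := exists_finite_cover V Set.univ isClosed_univ
  have hpair : ∀ a b : IrreducibleCloseds X, ∃ 𝒲 : Set (IrreducibleCloseds X), 𝒲.Finite ∧
      (∀ W ∈ 𝒲, (W : Set X) ⊆ (a : Set X) ∩ (b : Set X)) ∧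
      ∀ x ∈ (a : Set X) ∩ (b : Set X), x ∈ V → ∃ W ∈ 𝒲, x ∈ (W : Set X) :=
    fun a b => exists_finite_cover V _ (a.isClosed.inter b.isClosed)
  choose 𝒲 h𝒲f h𝒲s h𝒲c using hpair
  let Bad : Set (IrreducibleCloseds X) :=
    {T | (T ∈ 𝒯 ∨ ∃ a ∈ 𝒯, ∃ b ∈ 𝒯, T ∈ 𝒲 a b) ∧ s ∉ (T : Set X)}
  have hBadf : Bad.Finite := by
    apply Set.Finite.subset
      (h𝒯f.union (h𝒯f.biUnion fun a _ => h𝒯f.biUnion fun b _ => h𝒲f a b))
    rintro T ⟨h | ⟨a, ha, b, hb, hT⟩, -⟩
    · exact Or.inl h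
    · exact Or.inr (Set.mem_biUnion ha (Set.mem_biUnion hb hT))
  let B : Set X := ⋃ T ∈ Bad, (T : Set X)
  have hBc : IsClosed B := hBadf.isClosed_biUnion fun T _ => T.isClosed
  let U : Opens X := ⟨(V : Set X) ∩ Bᶜ, V.isOpen.inter hBc.isOpen_compl⟩
  have hsU : s ∈ U := ⟨hsV, fun hsB => by
    obtain ⟨T, hT, hsT⟩ := Set.mem_iUnion₂.1 hsB
    exact hT.2 hsT⟩
  have hUV : ∀ y : X, y ∈ U → y ∈ V := fun y hy => hy.1
  have hnotBad : ∀ y : X, y ∈ U → ∀ T : IrreducibleCloseds X,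
      (T ∈ 𝒯 ∨ ∃ a ∈ 𝒯, ∃ b ∈ 𝒯, T ∈ 𝒲 a b) → y ∈ (T : Set X) → s ∈ (T : Set X) := by
    intro y hy T hT hyT
    by_contra hsT
    exact hy.2 (Set.mem_iUnion₂.2 ⟨T, ⟨hT, hsT⟩, hyT⟩)
  have F1 : ∀ y : X, y ∈ U → ∃ a ∈ 𝒯, y ∈ (a : Set X) := fun y hy =>
    h𝒯c y trivial (hUV y hy)
  have F2 : ∀ y : X, y ∈ U → ∀ a ∈ 𝒯, y ∈ (a : Set X) → s ∈ (a : Set X) := fun y hy a ha hya =>
    hnotBad y hy a (Or.inl ha) hya
  -- independence of the component
  have F4 : ∀ y : X, y ∈ U → ∀ a ∈ 𝒯, ∀ b ∈ 𝒯, y ∈ (a : Set X) → y ∈ (b : Set X) →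
      dd s a y = dd s b y := by
    intro y hy a ha b hb hya hyb
    obtain ⟨W, hW, hyW⟩ := h𝒲c a b y ⟨hya, hyb⟩ (hUV y hy)
    have hsW : s ∈ (W : Set X) := hnotBad y hy W (Or.inr ⟨a, ha, b, hb, hW⟩) hyW
    have hWa : W ≤ a := fun x hx => (h𝒲s a b W hW hx).1
    have hWb : W ≤ b := fun x hx => (h𝒲s a b W hW hx).2
    rw [dd_eq_of_le hcat s y W a hWa hsW hyW, dd_eq_of_le hcat s y W b hWb hsW hyW]
  let δ : U → ℤ := fun y => dd s (Classical.choose (F1 y.1 y.2)) y.1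
  have hδ : ∀ (y : U) (a : IrreducibleCloseds X), a ∈ 𝒯 → (y : X) ∈ (a : Set X) →
      δ y = dd s a y.1 := by
    intro y a ha hya
    obtain ⟨h1, h2⟩ := Classical.choose_spec (F1 y.1 y.2)
    exact F4 y.1 y.2 _ h1 a ha h2 hya
  have hdiff : ∀ y z : U, y ⤳ z →
      δ y - δ z = ((PtTop.codim (cl z.1) ((cl y.1 : IrreducibleCloseds X) : Set X)).toNat : ℤ) := by
    intro y z hyz
    have hyz' : (y : X) ⤳ (z : X) := Topology.IsInducing.subtypeVal.specializes_iff.2 hyz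
    obtain ⟨a, ha, hya⟩ := F1 y.1 y.2
    have hza : (z : X) ∈ (a : Set X) := hyz'.mem_closed a.isClosed hya
    rw [hδ y a ha hya, hδ z a ha hza]
    exact dd_sub hcat s y.1 z.1 a hya hyz'
  refine ⟨U, hsU, δ, ?_, ?_⟩
  · intro y z hyz hne
    have hyz' : (y : X) ⤳ (z : X) := Topology.IsInducing.subtypeVal.specializes_iff.2 hyz
    have hne' : (y : X) ≠ (z : X) := fun h => hne (Subtype.ext h)
    have hlt : cl z.1 < cl y.1 := cl_lt_cl.2 ⟨hyz', hne'⟩
    have h1 : (1 : ℕ∞) ≤ PtTop.codim (cl z.1) ((cl y.1 : IrreducibleCloseds X) : Set X) := by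
      rw [Order.one_le_iff_pos]
      rw [pos_iff_ne_zero]
      intro h0
      have h2 := Groth.Agent.S7581.le_codim (cl z.1) (cl y.1)
        (RelSeries.singleton _ (cl z.1) |>.snoc (cl y.1) hlt) (by simp) (by simp)
      rw [h0] at h2
      simp at h2
    have h3 : 1 ≤ (PtTop.codim (cl z.1) ((cl y.1 : IrreducibleCloseds X) : Set X)).toNat := by
      rw [← ENat.toNat_one]
      exact ENat.toNat_le_toNat h1 (hfin _ _ hlt.le)
    have h4 := hdiff y z hyz
    omega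
  · rintro y z ⟨hyz, hne, himm⟩
    have hyz' : (y : X) ⤳ (z : X) := Topology.IsInducing.subtypeVal.specializes_iff.2 hyz
    have hne' : (y : X) ≠ (z : X) := fun h => hne (Subtype.ext h)
    have hlt : cl z.1 < cl y.1 := cl_lt_cl.2 ⟨hyz', hne'⟩
    have hcov : cl z.1 ⋖ cl y.1 := by
      refine ⟨hlt, fun c hzc hcy => ?_⟩
      rw [← cl_gp c] at hzc hcy
      obtain ⟨h1, h1'⟩ := cl_lt_cl.1 hzc
      obtain ⟨h2, h2'⟩ := cl_lt_cl.1 hcy
      have hcU : gp c ∈ U := h1.mem_open U.isOpen z.2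
      rcases himm ⟨gp c, hcU⟩ (Topology.IsInducing.subtypeVal.specializes_iff.1 h2)
        (Topology.IsInducing.subtypeVal.specializes_iff.1 h1) with h | h
      · exact h2' (congrArg Subtype.val h).symm
      · exact h1' (congrArg Subtype.val h)
    have h1 := Groth.Agent.S7581.codim_covBy _ _ hcov
    have h4 := hdiff y z hyz
    rw [h1, ENat.toNat_one] at h4
    push_cast at h4
    linarith

end Top

end Groth.Agent.Lead.DimFun
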