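import Mathlib
import Groth.Prelude.Def_ShStab
import Groth.Agent.Lib.Lead.ShStabHom
import Groth.Agent.Lib.Lead.ShStabPure
import Groth.Agent.Lib.Helper18.TopPartLE

/-!
# Gieseker (semi)stability = ℓ-(semi)stability for ℓ = d  (S15217, S15218)
-/

set_option autoImplicit false
open CategoryTheory CategoryTheory.Limits AlgebraicGeometry Polynomial
universe u

namespace Groth.Agent.Lead.EllSelf

open StabCat Groth.Agent.Lead.StabPoly Groth.Agent.Lead.ShStabHom Groth.Agent.Lead.ShStabPure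
open Groth.Agent.Helper25.ShStabFormal

theorem topPart_self (d : ℕ) (P : ℚ[X]) (h : P.natDegree ≤ d) : topPart d d P = P := by
  ext i
  rw [Groth.Agent.Helper18.TopPartLE.coeff_topPart]
  split_ifs with hi
  · rfl
  · simp only [Finset.mem_Icc, not_and, not_le] at hi
    have hlt : d < i := hi (by omega)
    exact (Polynomial.coeff_eq_zero_of_natDegree_lt (lt_of_le_of_lt h hlt)).symm

theorem eventually_pos_of_enn (p : ℚ[X]) (hp : p ≠ 0) (h : ENN p) :
    ∃ N : ℕ, ∀ m : ℕ, N ≤ m → 0 < p.eval (m : ℚ) := by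
  obtain ⟨N, hN⟩ := h
  have hfin : {m : ℕ | p.eval (m : ℚ) = 0}.Finite := by
    have hsub : {m : ℕ | p.eval (m : ℚ) = 0} ⊆
        (fun m : ℕ => (m : ℚ)) ⁻¹' (p.roots.toFinset : Set ℚ) := by
      intro m hm
      simp only [Set.mem_preimage, Finset.mem_coe, Multiset.mem_toFinset]
      exact (Polynomial.mem_roots hp).mpr hm
    exact Set.Finite.subset
      (Set.Finite.preimage (Nat.cast_injective.injOn) (Finset.finite_toSet _)) hsub
  obtain ⟨B, hB⟩ := hfin.bddAbove
  refine ⟨max N (B + 1), fun m hm => ?_⟩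
  have h1 : 0 ≤ p.eval (m : ℚ) := hN m (le_trans (le_max_left _ _) hm)
  have h2 : p.eval (m : ℚ) ≠ 0 := by
    intro h0
    have h3 : m ≤ B := hB h0
    have h4 : B + 1 ≤ m := le_trans (le_max_right _ _) hm
    omega
  exact lt_of_le_of_ne h1 (Ne.symm h2)

variable (k : Type u) [Field k] (X : Scheme.{u}) [X.Over (Spec (CommRingCat.of k))]
  [IsProper (X ↘ Spec (CommRingCat.of k))]

/-- data attached to a nonzero coherent submodule of a pure coherent module -/
theorem sub_data (L : X.Modules) (hL : CohB1.IsAmple L) (hSP : SPHyp k X L) (d : ℕ)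
    (E : X.Modules) (hc : Coh.IsCoh E) (hp : ShStab.IsPure X E d)
    (F : X.Modules) (ι : F ⟶ E) [Mono ι] (hF : Coh.IsCoh F) (hFnz : ¬ IsZero F)
    (pF pE : ℚ[X]) (hpF : ShStab.IsHilbPoly k X L F pF) (hpE : ShStab.IsHilbPoly k X L E pE) :
    pF.natDegree ≤ d ∧ pE.natDegree ≤ d ∧ 0 < alpha d pF ∧ alpha d pF ≤ alpha d pE ∧
      ENN (pE - pF) ∧ Coh.IsCoh (cokernel ι) ∧
      ShStab.IsHilbPoly k X L (cokernel ι) (pE - pF) := by
  obtain ⟨pF', dF⟩ := pdata_of_sub k X L hL E d hp F ι hF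
  obtain ⟨pE', dE⟩ := pdata_of_sub k X L hL E d hp E (𝟙 E) hc
  have e1 : pF' = pF := hilbPoly_unique k X L _ _ _ dF.hp hpF
  have e2 : pE' = pE := hilbPoly_unique k X L _ _ _ dE.hp hpE
  subst e1 e2
  have hdimF := hp F ι inferInstance hF hFnz
  have hpos : 0 < alpha d pF' := hSP F d hF hdimF pF' hpF
  obtain ⟨hQ, hpQ⟩ := Groth.Agent.Helper6.HilbDeg.isHilbPoly_cokernel k X L hL.1 hF hc ι
    pF' pE' hpF hpE
  have hennQ : ENN (pE' - pF') := enn_of_isHilbPoly k X L hL _ hQ _ hpQ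
  have hdegQ : (pE' - pF').natDegree ≤ d :=
    le_trans (Polynomial.natDegree_sub_le _ _) (max_le dE.deg dF.deg)
  have hcoef : 0 ≤ (pE' - pF').coeff d :=
    coeff_nonneg_of_eventually_nonneg (pE' - pF') d hdegQ hennQ
  have haQ : 0 ≤ alpha d (pE' - pF') := by
    unfold StabCat.alpha
    exact mul_nonneg (Nat.cast_nonneg _) hcoef
  rw [alpha_sub] at haQ
  exact ⟨dF.deg, dE.deg, hpos, by linarith, hennQ, hQ, hpQ⟩

theorem not_isZero_cokernel_of_not_isIso {F E : X.Modules} (ι : F ⟶ E) [Mono ι]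
    (hni : ¬ IsIso ι) : ¬ IsZero (cokernel ι) := by
  intro hz
  haveI : Epi ι := Preadditive.epi_of_isZero_cokernel ι hz
  exact hni (isIso_of_mono_of_epi ι)

theorem main15217 (L : X.Modules) (hL : CohB1.IsAmple L) (hSP : SPHyp k X L) (d : ℕ)
    (E : X.Modules)
    (hfwd : ShStab.IsSemistable k X L E d → ShStab.IsEllSemistable k X L E d d) :
    ShStab.IsSemistable k X L E d ↔ ShStab.IsEllSemistable k X L E d d := by
  refine ⟨hfwd, ?_⟩
  rintro ⟨hc, hnz, hp, hell⟩
  refine ⟨hc, hnz, hp, ?_⟩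
  intro F ι hm hF hFnz hni pF pE hpF hpE
  haveI := hm
  obtain ⟨dF, dE, hpos, hle, hennQ, -, -⟩ :=
    sub_data k X L hL hSP d E hc hp F ι hF hFnz pF pE hpF hpE
  rcases lt_or_eq_of_le hle with hlt | heq
  · have h := hell F ι hm hF pF pE hpF hpE hpos hlt
    rwa [topPart_self d pF dF, topPart_self d pE dE] at h
  · obtain ⟨N, hN⟩ := hennQ
    refine ⟨N, fun m hm' => ?_⟩
    have h1 := hN m hm'
    rw [Polynomial.eval_sub] at h1
    rw [Polynomial.eval_smul, Polynomial.eval_smul, smul_eq_mul, smul_eq_mul, ← heq]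
    exact mul_le_mul_of_nonneg_left (by linarith) hpos.le

theorem main15218 (L : X.Modules) (hL : CohB1.IsAmple L) (hZ : ZHyp k X L)
    (hSP : SPHyp k X L) (d : ℕ) (E : X.Modules) :
    ShStab.IsStable k X L E d ↔ ShStab.IsEllStable k X L E d d := by
  constructor
  · rintro ⟨hc, hnz, hp, hst⟩
    refine ⟨hc, hnz, hp, ?_⟩
    intro F ι hm hF pF pE hpF hpE h0 hlt
    haveI := hm
    have hFnz : ¬ IsZero F := by
      intro hz
      have h1 := isHilbPoly_zero_of_isZero k X L F hz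
      have h2 : (0 : ℚ[X]) = pF := hilbPoly_unique k X L _ _ _ h1 hpF
      rw [← h2, alpha_zero] at h0
      exact lt_irrefl _ h0
    have hni : ¬ IsIso ι := by
      intro hi
      have h1 : ShStab.IsHilbPoly k X L E pF := isHilbPoly_of_iso k X L (asIso ι) pF hpF
      have h2 : pF = pE := hilbPoly_unique k X L _ _ _ h1 hpE
      rw [h2] at hlt
      exact lt_irrefl _ hlt
    obtain ⟨dF, dE, -, -, -, -, -⟩ :=
      sub_data k X L hL hSP d E hc hp F ι hF hFnz pF pE hpF hpE
    have h := hst F ι hm hF hFnz hni pF pE hpF hpE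
    rwa [topPart_self d pF dF, topPart_self d pE dE]
  · rintro ⟨hc, hnz, hp, hell⟩
    refine ⟨hc, hnz, hp, ?_⟩
    intro F ι hm hF hFnz hni pF pE hpF hpE
    haveI := hm
    obtain ⟨dF, dE, hpos, hle, hennQ, hQ, hpQ⟩ :=
      sub_data k X L hL hSP d E hc hp F ι hF hFnz pF pE hpF hpE
    rcases lt_or_eq_of_le hle with hlt | heq
    · have h := hell F ι hm hF pF pE hpF hpE hpos hlt
      rwa [topPart_self d pF dF, topPart_self d pE dE] at h
    · have hne : pE - pF ≠ 0 := by
        intro h0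
        rw [h0] at hpQ
        exact not_isZero_cokernel_of_not_isIso X ι hni (hZ _ hQ hpQ)
      obtain ⟨N, hN⟩ := eventually_pos_of_enn (pE - pF) hne hennQ
      refine ⟨N, fun m hm' => ?_⟩
      have h1 := hN m hm'
      rw [Polynomial.eval_sub] at h1
      rw [Polynomial.eval_smul, Polynomial.eval_smul, smul_eq_mul, smul_eq_mul, ← heq]
      exact mul_lt_mul_of_pos_left (by linarith) hpos

/-- self-contained version of `main15217` (no external forward direction needed) -/
theorem main15217' (L : X.Modules) (hL : CohB1.IsAmple L) (hSP : SPHyp k X L) (d : ℕ)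
    (E : X.Modules) :
    ShStab.IsSemistable k X L E d ↔ ShStab.IsEllSemistable k X L E d d := by
  refine main15217 k X L hL hSP d E ?_
  rintro ⟨hc, hnz, hp, hss⟩
  refine ⟨hc, hnz, hp, ?_⟩
  intro F ι hm hF pF pE hpF hpE h0 hlt
  haveI := hm
  have hFnz : ¬ IsZero F := by
    intro hz
    have h1 := isHilbPoly_zero_of_isZero k X L F hz
    have h2 : (0 : ℚ[X]) = pF := hilbPoly_unique k X L _ _ _ h1 hpF
    rw [← h2, alpha_zero] at h0
    exact lt_irrefl _ h0
  have hni : ¬ IsIso ι := by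
    intro hi
    have h1 : ShStab.IsHilbPoly k X L E pF := isHilbPoly_of_iso k X L (asIso ι) pF hpF
    have h2 : pF = pE := hilbPoly_unique k X L _ _ _ h1 hpE
    rw [h2] at hlt
    exact lt_irrefl _ hlt
  obtain ⟨dF, dE, -, -, -, -, -⟩ :=
    sub_data k X L hL hSP d E hc hp F ι hF hFnz pF pE hpF hpE
  have h := hss F ι hm hF hFnz hni pF pE hpF hpE
  rwa [topPart_self d pF dF, topPart_self d pE dE]

end Groth.Agent.Lead.EllSelf
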