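import Mathlib
import Groth.Agent.Lib.Lead.DegComponents

/-!
# `χ(F ⊗ E) − n χ(F)` as a sum over the one-dimensional components, for coherent `F`
-/

set_option autoImplicit false
universe u
open CategoryTheory CategoryTheory.Limits AlgebraicGeometry Opposite TopologicalSpace

namespace Groth.Agent.Lead.EulerComponents

open Groth.Agent.Lead.EulerK0 Groth.Agent.Lead.EffDeg Groth.Agent.Lead.DegTensor
open Groth.Agent.Lead.IntNumDimOne Groth.Agent.Lead.DegComponents

/-- if all irreducible components have dimension `≤ 1` then so does the space -/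
theorem dim_le_one_of_components {T : Type*} [TopologicalSpace T]
    (h : ∀ Z ∈ irreducibleComponents T, topologicalKrullDim ↥Z ≤ 1) :
    topologicalKrullDim T ≤ 1 := by
  unfold topologicalKrullDim
  rw [Order.krullDim_le_one_iff]
  intro B
  by_contra hcon
  rw [not_or] at hcon
  obtain ⟨hmin, hmax⟩ := hcon
  rw [isMin_iff_forall_not_lt] at hmin
  rw [isMax_iff_forall_not_lt] at hmax
  push Not at hmin hmax
  obtain ⟨A, hAB⟩ := hmin
  obtain ⟨C, hBC⟩ := hmax
  obtain ⟨W, hW, hCW⟩ := exists_mem_irreducibleComponents_subset_of_isIrreducible (C : Set T)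
    C.isIrreducible
  have hAB' : (A : Set T) ⊆ B := hAB.le
  have hBC' : (B : Set T) ⊆ C := hBC.le
  have hneAB : (A : Set T) ≠ B := fun e => hAB.ne (IrreducibleCloseds.ext e)
  have hneBC : (B : Set T) ≠ C := fun e => hBC.ne (IrreducibleCloseds.ext e)
  have d1 := Groth.Agent.Helper13.DimLemma.topologicalKrullDim_add_one_le A.isClosed hAB' hneAB
    B.isIrreducible
  have d2 := Groth.Agent.Helper13.DimLemma.topologicalKrullDim_add_one_le B.isClosed hBC' hneBC
    C.isIrreducible
  have d3 : topologicalKrullDim ↥(C : Set T) ≤ 1 :=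
    (Groth.Agent.Helper13.DimLemma.dim_subset_le hCW).trans (h W hW)
  have d0 : (0 : WithBot ℕ∞) ≤ topologicalKrullDim ↥(A : Set T) := by
    obtain ⟨a, ha⟩ := A.isIrreducible.nonempty
    haveI : Nonempty (IrreducibleCloseds ↥(A : Set T)) :=
      ⟨⟨closure {⟨a, ha⟩}, isIrreducible_singleton.closure, isClosed_closure⟩⟩
    unfold topologicalKrullDim
    exact Order.krullDim_nonneg
  have e1 : (0 : WithBot ℕ∞) + 1 + 1 ≤ 1 :=
    ((add_le_add (add_le_add d0 le_rfl) le_rfl).trans ((add_le_add d1 le_rfl).trans d2)).trans d3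
  have e2 : ((2 : ℕ) : WithBot ℕ∞) ≤ ((1 : ℕ) : WithBot ℕ∞) := by
    have : (0 : WithBot ℕ∞) + 1 + 1 = ((2 : ℕ) : WithBot ℕ∞) := by norm_num
    rw [this] at e1
    exact_mod_cast e1
  have e3 : (2 : ℕ) ≤ 1 := by exact_mod_cast e2
  omega

variable (k : Type u) [Field k] {X : Scheme.{u}} [X.Over (Spec (CommRingCat.of k))]
  [IsProper (X ↘ Spec (CommRingCat.of k))]

theorem euler_tensor_eq_finsum_points [IsNoetherian X] (hdim : topologicalKrullDim X ≤ 1) (n : ℕ)
    (E : X.Modules) (hE : FlatMod.IsFinLocFreeOfRank n E) (F : X.Modules) (hF : Coh.IsCoh F)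
    [DecidablePred fun x : X =>
      topologicalKrullDim ↥(closure ({x} : Set X)) = ((1 : ℕ) : WithBot ℕ∞)] :
    Curv2.euler k X (CohB1.tensorMod F E) - n * Curv2.euler k X F = ∑ᶠ x : X,
      if topologicalKrullDim ↥(closure ({x} : Set X)) = ((1 : ℕ) : WithBot ℕ∞) then
        ((Module.length (X.presheaf.stalk x) (F.presheaf.stalk x)).toNat : ℤ) *
          degOn k E n (IntMult.ptIdeal x)
      else 0 := by
  have hd : topologicalKrullDim ↥(CohB1.support F) ≤ ((1 : ℕ) : WithBot ℕ∞) := by
    rw [Nat.cast_one]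
    exact (topologicalKrullDim_subspace_le X _).trans hdim
  have hm := Groth.Agent.Helper13.K0Length.main (fun M : X.Modules => Coh.IsCoh M)
    (fun _ => Iff.rfl) 1 F hF hd
  have hfin := Groth.Agent.Helper13.K0Tensor.finite_support_term
    (fun M : X.Modules => Coh.IsCoh M) 1 F hF hd
  have h0 := psi_eq_zero_of_mem_filtLt_one k E n hE _ hm
  rw [map_sub, psi_clSub k E n hE _ hF, map_finsum _ hfin] at h0
  have hterm : ∀ x : X, psi k E n hE
      (if topologicalKrullDim ↥(closure ({x} : Set X)) = ((1 : ℕ) : WithBot ℕ∞) then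
        (Module.length (X.presheaf.stalk x) (F.presheaf.stalk x)).toNat •
          KZero.clSub (fun M : X.Modules => Coh.IsCoh M) (Cyc.closureStructureSheaf x)
        else 0) =
      if topologicalKrullDim ↥(closure ({x} : Set X)) = ((1 : ℕ) : WithBot ℕ∞) then
        ((Module.length (X.presheaf.stalk x) (F.presheaf.stalk x)).toNat : ℤ) *
          degOn k E n (IntMult.ptIdeal x)
      else 0 := by
    intro x
    split_ifs with hx
    · rw [map_nsmul, psi_clSub k E n hE _
        (Groth.Agent.Helper13.ClosureSheaf.isCoh_closureStructureSheaf x), nsmul_eq_mul]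
      have e : Cyc.closureStructureSheaf x = ClSub.quotMod (IntMult.ptIdeal x) := rfl
      rw [e, psi_quot_eq k E n hE (IntMult.ptIdeal x)]
    · exact map_zero _
  rw [finsum_congr hterm] at h0
  linarith

theorem euler_tensor_eq_finsum_components [IsNoetherian X] (hdim : topologicalKrullDim X ≤ 1)
    (n : ℕ) (E : X.Modules) (hE : FlatMod.IsFinLocFreeOfRank n E) (F : X.Modules)
    (hF : Coh.IsCoh F) :
    Curv2.euler k X (CohB1.tensorMod F E) - n * Curv2.euler k X F =
      ∑ᶠ Z : irreducibleComponents (X : Type u),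
      (if topologicalKrullDim (Z.1 : Set X) = 1 then
        ((Module.length (X.presheaf.stalk Z.2.1.genericPoint)
          (F.presheaf.stalk Z.2.1.genericPoint)).toNat : ℤ) *
          degOn k E n (X.irreducibleComponentIdeal Z.1 Z.2).radical
      else 0) := by
  classical
  rw [euler_tensor_eq_finsum_points k hdim n E hE F hF]
  let Φ : irreducibleComponents (X : Type u) → X := fun Z => Z.2.1.genericPoint
  have hcl : ∀ Z : irreducibleComponents (X : Type u), closure ({Φ Z} : Set X) = Z.1 := fun Z =>
    Z.2.1.closure_genericPoint (isClosed_of_mem_irreducibleComponents Z.1 Z.2)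
  have hΦ : Function.Injective Φ := by
    intro Z Z' h
    apply Subtype.ext
    rw [← hcl Z, ← hcl Z', h]
  have hsupp : Function.support (fun x : X =>
      if topologicalKrullDim ↥(closure ({x} : Set X)) = ((1 : ℕ) : WithBot ℕ∞) then
        ((Module.length (X.presheaf.stalk x) (F.presheaf.stalk x)).toNat : ℤ) *
          degOn k E n (IntMult.ptIdeal x)
      else 0) ⊆ Set.range Φ := by
    intro x hx
    have hdx : topologicalKrullDim ↥(closure ({x} : Set X)) = ((1 : ℕ) : WithBot ℕ∞) := by
      by_contra h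
      exact hx (if_neg h)
    have hmem := mem_irreducibleComponents_of_dim hdim x hdx
    refine ⟨⟨closure {x}, hmem⟩, ?_⟩
    exact (hmem.1.isGenericPoint_genericPoint isClosed_closure).eq isGenericPoint_closure
  rw [← Set.indicator_eq_self.2 hsupp, ← finsum_mem_def, finsum_mem_range hΦ]
  refine finsum_congr (fun Z => ?_)
  have hrad := radical_irreducibleComponentIdeal Z.1 Z.2
  by_cases h : topologicalKrullDim (Z.1 : Set X) = 1
  · have h' : topologicalKrullDim ↥(closure ({Φ Z} : Set X)) = ((1 : ℕ) : WithBot ℕ∞) := by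
      rw [hcl Z, Nat.cast_one]
      exact h
    rw [if_pos h, if_pos h', hrad]
  · have h' : ¬ topologicalKrullDim ↥(closure ({Φ Z} : Set X)) = ((1 : ℕ) : WithBot ℕ∞) := by
      rw [hcl Z, Nat.cast_one]
      exact h
    rw [if_neg h, if_neg h']

/-- the form of S17659 -/
theorem euler_tensor_components [IsNoetherian X]
    (hdim : ∀ Z ∈ irreducibleComponents (X : Type u), topologicalKrullDim Z = 1)
    (n : ℕ) (E : X.Modules) (hE : FlatMod.IsFinLocFreeOfRank n E) (F : X.Modules)
    (hF : Coh.IsCoh F) :
    Curv2.euler k X (CohB1.tensorMod E F) =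
      (∑ᶠ Z : irreducibleComponents (X : Type u),
        ((Module.length (X.presheaf.stalk Z.2.1.genericPoint)
          (F.presheaf.stalk Z.2.1.genericPoint)).toNat : ℤ) *
          degOn k E n (X.irreducibleComponentIdeal Z.1 Z.2).radical) +
        (n : ℤ) * Curv2.euler k X F := by
  have hd1 : topologicalKrullDim X ≤ 1 :=
    dim_le_one_of_components (fun Z hZ => (hdim Z hZ).le)
  have key := euler_tensor_eq_finsum_components k hd1 n E hE F hF
  have c1 := isCoh_tensor_right E n hE F hF
  have c2 := Groth.Agent.Helper13.K0Tensor.isCoh_tensor E n hE F hF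
  rw [euler_iso k (Groth.Agent.Helper13.Tensor.braid E F) c2 c1]
  have hsum : (∑ᶠ Z : irreducibleComponents (X : Type u),
      (if topologicalKrullDim (Z.1 : Set X) = 1 then
        ((Module.length (X.presheaf.stalk Z.2.1.genericPoint)
          (F.presheaf.stalk Z.2.1.genericPoint)).toNat : ℤ) *
          degOn k E n (X.irreducibleComponentIdeal Z.1 Z.2).radical
      else 0)) =
      ∑ᶠ Z : irreducibleComponents (X : Type u),
        ((Module.length (X.presheaf.stalk Z.2.1.genericPoint)
          (F.presheaf.stalk Z.2.1.genericPoint)).toNat : ℤ) *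
          degOn k E n (X.irreducibleComponentIdeal Z.1 Z.2).radical :=
    finsum_congr (fun Z => if_pos (hdim Z.1 Z.2))
  rw [hsum] at key
  linarith

end Groth.Agent.Lead.EulerComponents
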