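import Groth.Agent.Lib.Lead.HomSh10

/-!
# Sections of torsion-free modules on reduced schemes are determined at the generic points (lead)
-/

set_option autoImplicit false
universe u
open CategoryTheory CategoryTheory.Limits AlgebraicGeometry Opposite TopologicalSpace
open IsLocalRing
open Groth.Agent.Helper13.QCoh Groth.Agent.Helper13.QCohLoc

namespace Groth.Agent.Lead.TFDense

open Groth.Agent.Lead.HomSh

/-- in a reduced ring, an element outside all minimal primes is regular. -/
theorem isRegular_of_notMem_minimalPrimes {A : Type u} [CommRing A] [IsReduced A] (f : A)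
    (hf : ∀ p ∈ minimalPrimes A, f ∉ p) : IsRegular f := by
  have key : ∀ g : A, f * g = 0 → g = 0 := by
    intro g hg
    have hmem : g ∈ sInf (⊥ : Ideal A).minimalPrimes := by
      rw [Ideal.mem_sInf]
      intro p hp
      haveI : p.IsPrime := hp.1.1
      have h1 : f * g ∈ p := by rw [hg]; exact p.zero_mem
      rcases Ideal.IsPrime.mem_or_mem inferInstance h1 with h2 | h2
      · exact absurd h2 (hf p hp)
      · exact h2
    rw [Ideal.sInf_minimalPrimes, Ideal.mem_radical_iff] at hmem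
    obtain ⟨n, hn⟩ := hmem
    exact IsReduced.eq_zero g ⟨n, hn⟩
  rw [isRegular_iff_eq_zero_of_mul]
  exact ⟨key, fun g hg => key g (by rw [mul_comm]; exact hg)⟩

variable {X : Scheme.{u}}

/-- on a reduced scheme, the local ring at the point of a minimal prime of an affine open is a
field. -/
theorem isField_stalk_of_minimalPrime [IsReduced X] {V : X.Opens} (hV : IsAffineOpen V)
    (η : X) (hηV : η ∈ V)
    (hp : (hV.primeIdealOf ⟨η, hηV⟩).asIdeal ∈ minimalPrimes Γ(X, V)) :
    IsField (X.presheaf.stalk η) := by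
  letI := TopCat.Presheaf.algebra_section_stalk X.presheaf (⟨η, hηV⟩ : V)
  haveI hloc : IsLocalization.AtPrime (X.presheaf.stalk η) (hV.primeIdealOf ⟨η, hηV⟩).asIdeal :=
    hV.isLocalization_stalk ⟨η, hηV⟩
  rw [← PrimeSpectrum.subsingleton_iff_isField_of_isReduced]
  exact IsLocalization.subsingleton_primeSpectrum_of_mem_minimalPrimes _ hp _

/-- **A section of a torsion-free quasi-coherent module on a reduced locally Noetherian scheme
whose germs at the points with a field as local ring vanish is zero.** -/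
theorem eq_zero_of_germ_eq_zero_of_isField [IsReduced X] [IsLocallyNoetherian X] (F : X.Modules)
    [F.IsQuasicoherent] (hTF : TorSh.IsTorsionFree F) {V : X.Opens} (s : Γ(F, V))
    (h : ∀ (η : X) (hη : η ∈ V), IsField (X.presheaf.stalk η) → F.presheaf.germ V η hη s = 0) :
    s = 0 := by
  apply sec_ext'
  intro y
  rw [map_zero]
  obtain ⟨V', hV', hyV', hV'V0⟩ := exists_isAffineOpen_mem_and_subset (x := y.1) (U := V) y.2
  have hV'V : V' ≤ V := hV'V0
  haveI : IsNoetherianRing Γ(X, V') := IsLocallyNoetherian.component_noetherian ⟨V', hV'⟩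
  obtain ⟨s', hs'⟩ : ∃ s' : Γ(F, V'), s' = F.presheaf.map (homOfLE hV'V).op s := ⟨_, rfl⟩
  obtain ⟨I, hIdef⟩ : ∃ I : Ideal Γ(X, V'),
      I = LinearMap.ker (LinearMap.toSpanSingleton Γ(X, V') Γ(F, V') s') := ⟨_, rfl⟩
  have hImem : ∀ g : Γ(X, V'), g ∈ I ↔ g • s' = 0 := by
    intro g
    rw [hIdef, LinearMap.mem_ker, LinearMap.toSpanSingleton_apply]
  have hI : ∀ p ∈ minimalPrimes Γ(X, V'), ¬ I ≤ p := by
    intro p hp hIp
    haveI hpp : p.IsPrime := hp.1.1
    obtain ⟨η, hηdef⟩ : ∃ η : X, η = hV'.fromSpec ⟨p, hpp⟩ := ⟨_, rfl⟩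
    have hηV' : η ∈ V' := by
      rw [hηdef, ← SetLike.mem_coe, ← hV'.range_fromSpec]
      exact ⟨_, rfl⟩
    have hpη : hV'.primeIdealOf ⟨η, hηV'⟩ = ⟨p, hpp⟩ := by
      subst hηdef
      exact Groth.Agent.Helper13.FlatOver.primeIdealOf_fromSpec' hV' _ hηV'
    have hfield : IsField (X.presheaf.stalk η) := by
      apply isField_stalk_of_minimalPrime hV' η hηV'
      rw [hpη]
      exact hp
    have h0 := h η (hV'V hηV') hfield
    have h0' : F.presheaf.germ V' η hηV' s' = 0 := by
      rw [hs', TopCat.Presheaf.germ_res_apply]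
      exact h0
    obtain ⟨g, hηg, hg⟩ := exists_smul_eq_zero_of_germ_eq_zero F hV' η hηV' s' h0'
    have hgp : g ∈ p := hIp ((hImem g).2 hg)
    rw [mem_basicOpen_iff' hV' η hηV' g, hpη] at hηg
    exact hηg hgp
  have hfin : (minimalPrimes Γ(X, V')).Finite := minimalPrimes.finite_of_isNoetherianRing _
  obtain ⟨f, hfI, hf⟩ : ∃ f ∈ I, ∀ p ∈ minimalPrimes Γ(X, V'), f ∉ p := by
    by_contra hcon
    push Not at hcon
    have hsub : (I : Set Γ(X, V')) ⊆ ⋃ p ∈ minimalPrimes Γ(X, V'), (p : Set Γ(X, V')) := by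
      intro f hf
      obtain ⟨p, hp, hfp⟩ := hcon f hf
      exact Set.mem_biUnion hp hfp
    obtain ⟨p, hp, hIp⟩ := (Ideal.subset_union_prime_finite hfin ⊥ ⊥
      (fun p hp _ _ => hp.1.1)).1 hsub
    exact hI p hp hIp
  have hfreg : IsRegular f := isRegular_of_notMem_minimalPrimes f hf
  have hgreg : IsRegular (X.presheaf.germ V' y.1 hyV' f) := by
    letI := TopCat.Presheaf.algebra_section_stalk X.presheaf (⟨y.1, hyV'⟩ : V')
    haveI hloc : IsLocalization.AtPrime (X.presheaf.stalk y.1)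
        (hV'.primeIdealOf ⟨y.1, hyV'⟩).asIdeal := hV'.isLocalization_stalk ⟨y.1, hyV'⟩
    rw [isRegular_iff_mem_nonZeroDivisors]
    apply IsLocalization.map_nonZeroDivisors_le (hV'.primeIdealOf ⟨y.1, hyV'⟩).asIdeal.primeCompl
      (X.presheaf.stalk y.1)
    exact ⟨f, isRegular_iff_mem_nonZeroDivisors.1 hfreg, rfl⟩
  have hsm : IsSMulRegular (F.presheaf.stalk y.1) (X.presheaf.germ V' y.1 hyV' f) :=
    (hTF y.1).isSMulRegular hgreg
  have e1 : F.presheaf.germ V y.1 y.2 s = F.presheaf.germ V' y.1 hyV' s' := by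
    rw [hs', TopCat.Presheaf.germ_res_apply]
  rw [e1]
  apply hsm
  dsimp only
  rw [smul_zero, ← Mero.germ_smul, (hImem f).1 hfI, map_zero]

end Groth.Agent.Lead.TFDense
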