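import Groth.Agent.Lib.Lead.HomSh7
import Groth.Agent.Lib.Lead.TFDense
import Groth.Agent.Lib.Lead.IsoDepth
import Groth.Agent.Lib.Lead.FreeLoc
import Groth.Agent.Lib.Helper13.DirImgFull
import Groth.Agent.Lib.Helper13.LocFree2
import Groth.Agent.S6875
import Groth.Agent.S16485
import Groth.Agent.S16081
import Groth.Prelude.Def_Pi1

/-!
# Extending a generic map `G_η → F_η` to `G ⟶ F^**` on a normal integral scheme
-/

set_option autoImplicit false
universe u
open CategoryTheory CategoryTheory.Limits AlgebraicGeometry Opposite TopologicalSpace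
open RefHull IsLocalRing
open Groth.Agent.Helper13.QCoh Groth.Agent.Helper13.QCohLoc Groth.Agent.Helper13.LocFree
open Groth.Agent.Helper13.FinType Groth.Agent.Lead.HomSh

namespace Groth.Agent.Lead.ExtDD

section Alg

/-- over a principal ideal domain the evaluation map of a finite module into its bidual is
surjective. -/
theorem surjective_eval_of_pid (R : Type u) [CommRing R] [IsDomain R] [IsPrincipalIdealRing R]
    (M : Type u) [AddCommGroup M] [Module R M] [Module.Finite R M] :
    Function.Surjective (Module.Dual.eval R M) := by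
  haveI : Module.IsTorsionFree R (M ⧸ Submodule.torsion R M) :=
    Submodule.QuotientTorsion.instIsTorsionFree
  haveI : Module.Free R (M ⧸ Submodule.torsion R M) := Module.free_of_finite_type_torsion_free'
  intro φ
  let π : M →ₗ[R] (M ⧸ Submodule.torsion R M) := (Submodule.torsion R M).mkQ
  let φ' : Module.Dual R (Module.Dual R (M ⧸ Submodule.torsion R M)) :=
    φ.comp (Module.Dual.transpose π)
  obtain ⟨m', hm'⟩ := (Module.bijective_dual_eval R (M ⧸ Submodule.torsion R M)).2 φ'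
  obtain ⟨m, rfl⟩ := (Submodule.torsion R M).mkQ_surjective m'
  refine ⟨m, ?_⟩
  apply LinearMap.ext
  intro θ
  have hθ : Submodule.torsion R M ≤ LinearMap.ker θ := by
    intro t ht
    rw [Submodule.mem_torsion_iff] at ht
    obtain ⟨a, ha⟩ := ht
    rw [LinearMap.mem_ker]
    have h1 : (a : R) * θ t = 0 := by
      have h2 : θ ((a : R) • t) = (a : R) • θ t := map_smul θ (a : R) t
      have h3 : (a : R) • t = 0 := ha
      rw [h3, map_zero] at h2
      rw [← smul_eq_mul]
      exact h2.symm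
    exact (mul_eq_zero.1 h1).resolve_left (nonZeroDivisors.ne_zero a.2)
  let θ' : Module.Dual R (M ⧸ Submodule.torsion R M) := (Submodule.torsion R M).liftQ θ hθ
  have h2 : θ'.comp π = θ := (Submodule.torsion R M).liftQ_mkQ θ hθ
  have h3 : Module.Dual.eval R (M ⧸ Submodule.torsion R M) (π m) θ' = φ' θ' := by
    rw [hm']
  rw [Module.Dual.eval_apply] at h3
  rw [Module.Dual.eval_apply]
  have h4 : φ' θ' = φ (θ'.comp π) := rfl
  rw [h4, h2] at h3
  rw [← h3]
  exact (LinearMap.congr_fun h2 m).symm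

/-- the surjective version of `bijective_eval_iff`. -/
theorem surjective_of_surjective_eval {O : Type u} [CommRing O] {Fx Dx Ox : Type u}
    [AddCommGroup Fx] [Module O Fx] [AddCommGroup Dx] [Module O Dx] [AddCommGroup Ox] [Module O Ox]
    (u : Ox ≃ₗ[O] O) (E : Dx →ₗ[O] (Fx →ₗ[O] Ox)) (hE : Function.Bijective E)
    (B : Fx →ₗ[O] (Dx →ₗ[O] Ox)) (hB : ∀ v θ, B v θ = E θ v)
    (h : Function.Surjective (Module.Dual.eval O Fx)) : Function.Surjective B := by
  let Λ : Dx ≃ₗ[O] Module.Dual O Fx :=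
    (LinearEquiv.ofBijective E hE).trans (LinearEquiv.congrRight u)
  let T : (Dx →ₗ[O] Ox) ≃ₗ[O] Module.Dual O (Module.Dual O Fx) := LinearEquiv.arrowCongr Λ u
  have hT : ∀ v, T (B v) = Module.Dual.eval O Fx v := by
    intro v
    apply LinearMap.ext
    intro ξ
    obtain ⟨θ, rfl⟩ := Λ.surjective ξ
    rw [LinearEquiv.arrowCongr_apply, LinearEquiv.symm_apply_apply, hB, Module.Dual.eval_apply]
    rfl
  intro ξ
  obtain ⟨v, hv⟩ := h (T ξ)
  exact ⟨v, T.injective ((hT v).trans hv)⟩

theorem eq_one_of_le_one_of_not_le_zero {d : WithBot ℕ∞} (h1 : d ≤ 1) (h0 : ¬ d ≤ 0) : d = 1 := by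
  induction d using WithBot.recBotCoe with
  | bot => exact absurd bot_le h0
  | coe n =>
    have h1' : n ≤ (1 : ℕ∞) := WithBot.coe_le_coe.1 h1
    have h0' : n ≠ 0 := by
      rintro rfl
      exact h0 le_rfl
    have h2 : (1 : ℕ∞) ≤ n := Order.one_le_iff_pos.2 (pos_iff_ne_zero.2 h0')
    have h3 : n = 1 := le_antisymm h1' h2
    rw [h3]
    rfl

end Alg

variable {X : Scheme.{u}}

/-- surjectivity of the stalk of the biduality map from surjectivity of the evaluation map of the
stalk. -/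
theorem surjective_stalkMap_bidualMap (F : X.Modules)
    [SheafOfModules.IsFinitePresentation (R := X.ringCatSheaf) F]
    [SheafOfModules.IsFinitePresentation (R := X.ringCatSheaf) (dual F)] (x : X)
    (h : Function.Surjective
      (Module.Dual.eval (X.presheaf.stalk x) (F.presheaf.stalk x))) :
    Function.Surjective (stalkMapₗ (bidualMap F) x) := by
  have hE : Function.Bijective (evalStalk F (Coh.structureModule X) x) :=
    Groth.Agent.S16485.result X F _ inferInstance x
  have hE' : Function.Bijective (evalStalk (dual F) (Coh.structureModule X) x) :=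
    Groth.Agent.S16485.result X (dual F) _ inferInstance x
  have h1 := surjective_of_surjective_eval (Groth.Agent.Helper13.WeakAss.unitStalkEquiv x)
    (evalStalk F (Coh.structureModule X) x) hE (bidualAt F x) (fun v θ => rfl) h
  intro ξ
  obtain ⟨v, hv⟩ := h1 (evalStalk (dual F) (Coh.structureModule X) x ξ)
  refine ⟨v, hE'.1 ?_⟩
  rw [evalStalk_stalkMap_bidualMap]
  exact hv

/-- the stalks of a bidual are reflexive. -/
theorem isReflexiveAt_ddual [IsLocallyNoetherian X] (F : X.Modules) (hF : Coh.IsCoh F) (x : X)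
    [IsDomain (X.presheaf.stalk x)] :
    Module.IsReflexive (X.presheaf.stalk x) ((ddual F).presheaf.stalk x) := by
  have hO : Coh.IsCoh (Coh.structureModule X) := isCoh_structureModule
  have hD : Coh.IsCoh (dual F) := isCoh_homSh hF hO
  haveI : (dual F).IsQuasicoherent := hD.1
  haveI : SheafOfModules.IsFiniteType (R := X.ringCatSheaf) (dual F) := hD.2
  haveI : (Coh.structureModule X).IsQuasicoherent := hO.1
  haveI : SheafOfModules.IsFiniteType (R := X.ringCatSheaf) (Coh.structureModule X) := hO.2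
  haveI : Module.Finite (X.presheaf.stalk x) ((dual F).presheaf.stalk x) :=
    finite_stalk_of_isFiniteType (dual F) x
  haveI : Module.Finite (X.presheaf.stalk x) ((Coh.structureModule X).presheaf.stalk x) :=
    finite_stalk_of_isFiniteType (Coh.structureModule X) x
  haveI : Module.IsReflexive (X.presheaf.stalk x) ((Coh.structureModule X).presheaf.stalk x) :=
    Module.equiv (Groth.Agent.Helper13.WeakAss.unitStalkEquiv x).symm
  haveI : Module.IsReflexive (X.presheaf.stalk x)
      ((dual F).presheaf.stalk x →ₗ[X.presheaf.stalk x]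
        (Coh.structureModule X).presheaf.stalk x) :=
    Groth.Agent.S6875.result (X.presheaf.stalk x) ((dual F).presheaf.stalk x)
      ((Coh.structureModule X).presheaf.stalk x)
  have hbij := Groth.Agent.S16485.result X (dual F) (Coh.structureModule X)
    (isFinitePresentation_of_isCoh hD) x
  exact Module.equiv (LinearEquiv.ofBijective
    (RefHull.evalStalk (dual F) (Coh.structureModule X) x) hbij).symm

section Spec

variable [IsIntegral X]

theorem gen_spz (x : X) : genericPoint X ⤳ x :=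
  (genericPoint_spec X).specializes (Set.mem_univ x)

theorem gen_mem {W : X.Opens} {x : X} (hx : x ∈ W) : genericPoint X ∈ W :=
  (gen_spz x).mem_open W.isOpen hx

theorem spec_germ (M : X.Modules) {W : X.Opens} (x : X) (hx : x ∈ W) (s : Γ(M, W)) :
    (M.presheaf.stalkSpecializes (gen_spz x)).hom (M.presheaf.germ W x hx s) =
      M.presheaf.germ W (genericPoint X) (gen_mem hx) s := by
  have h := TopCat.Presheaf.germ_stalkSpecializes M.presheaf hx (gen_spz x)
  rw [← h]
  rfl

theorem specO_germ {W : X.Opens} (x : X) (hx : x ∈ W) (s : Γ(X, W)) :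
    (X.presheaf.stalkSpecializes (gen_spz x)).hom (X.presheaf.germ W x hx s) =
      X.presheaf.germ W (genericPoint X) (gen_mem hx) s := by
  have h := TopCat.Presheaf.germ_stalkSpecializes X.presheaf hx (gen_spz x)
  rw [← h]
  rfl

theorem spec_stalkMap {M N : X.Modules} (φ : M ⟶ N) (x : X) (v : M.presheaf.stalk x) :
    (N.presheaf.stalkSpecializes (gen_spz x)).hom (stalkMapₗ φ x v) =
      stalkMapₗ φ (genericPoint X) ((M.presheaf.stalkSpecializes (gen_spz x)).hom v) := by
  obtain ⟨W, hxW, s, rfl⟩ := TopCat.Presheaf.exists_germ_eq M.presheaf v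
  rw [stalkMapₗ_germ, spec_germ, spec_germ, stalkMapₗ_germ]

theorem spec_smul (M : X.Modules) (x : X) (r : X.presheaf.stalk x) (v : M.presheaf.stalk x) :
    (M.presheaf.stalkSpecializes (gen_spz x)).hom (r • v) =
      (X.presheaf.stalkSpecializes (gen_spz x)).hom r •
        (M.presheaf.stalkSpecializes (gen_spz x)).hom v := by
  obtain ⟨Ua, ha, a, rfl⟩ := TopCat.Presheaf.exists_germ_eq X.presheaf r
  obtain ⟨Uv, hv, s, rfl⟩ := TopCat.Presheaf.exists_germ_eq M.presheaf v
  rw [← TopCat.Presheaf.germ_res_apply X.presheaf (homOfLE (inf_le_left : Ua ⊓ Uv ≤ Ua)) x ⟨ha, hv⟩,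
    ← TopCat.Presheaf.germ_res_apply M.presheaf (homOfLE (inf_le_right : Ua ⊓ Uv ≤ Uv)) x ⟨ha, hv⟩,
    ← Mero.germ_smul, spec_germ, spec_germ, specO_germ, Mero.germ_smul]

theorem evalStalk_spec (G F' : X.Modules) (x : X) (ε : (homSh G F').presheaf.stalk x)
    (g : G.presheaf.stalk x) :
    evalStalk G F' (genericPoint X)
        (((homSh G F').presheaf.stalkSpecializes (gen_spz x)).hom ε)
        ((G.presheaf.stalkSpecializes (gen_spz x)).hom g) =
      (F'.presheaf.stalkSpecializes (gen_spz x)).hom (evalStalk G F' x ε g) := by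
  obtain ⟨W₁, h₁, γ, rfl⟩ := TopCat.Presheaf.exists_germ_eq (homSh G F').presheaf ε
  obtain ⟨W₂, h₂, m, rfl⟩ := TopCat.Presheaf.exists_germ_eq G.presheaf g
  rw [← TopCat.Presheaf.germ_res_apply (homSh G F').presheaf
      (homOfLE (inf_le_left : W₁ ⊓ W₂ ≤ W₁)) x ⟨h₁, h₂⟩ γ,
    ← TopCat.Presheaf.germ_res_apply G.presheaf
      (homOfLE (inf_le_right : W₁ ⊓ W₂ ≤ W₂)) x ⟨h₁, h₂⟩ m,
    spec_germ, spec_germ, evalStalk_germ, evalStalk_germ, ← germ_evalSec, ← germ_evalSec,
    spec_germ]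

/-- sections of a torsion-free quasi-coherent module on an integral scheme are determined by their
germ at the generic point. -/
theorem sec_eq_of_germ_genericPoint [IsLocallyNoetherian X] (E : X.Modules) [E.IsQuasicoherent]
    (hTF : TorSh.IsTorsionFree E) {W : X.Opens} (hη : genericPoint X ∈ W) (s s' : Γ(E, W))
    (h : E.presheaf.germ W (genericPoint X) hη s = E.presheaf.germ W (genericPoint X) hη s') :
    s = s' := by
  have h0 : s - s' = 0 := by
    apply Groth.Agent.Lead.TFDense.eq_zero_of_germ_eq_zero_of_isField E hTF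
    intro η' hη' hfield
    have hbot : IsLocalRing.maximalIdeal (X.presheaf.stalk η') = ⊥ :=
      IsLocalRing.isField_iff_maximalIdeal_eq.1 hfield
    obtain ⟨_, ⟨V, hV, rfl⟩, hη'V, -⟩ :=
      X.isBasis_affineOpens.exists_subset_of_mem_open (Set.mem_univ η') isOpen_univ
    have heq : η' = genericPoint X :=
      Groth.Agent.Lead.IsoDepth.eq_genericPoint_of_maximalIdeal_eq_bot hV ⟨η', hη'V⟩ hbot
    subst heq
    rw [map_sub, h, sub_self]
  exact sub_eq_zero.1 h0

theorem spec_injective [IsLocallyNoetherian X] (E : X.Modules) [E.IsQuasicoherent]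
    (hTF : TorSh.IsTorsionFree E) (x : X) :
    Function.Injective (E.presheaf.stalkSpecializes (gen_spz x)).hom := by
  intro v w hvw
  obtain ⟨W₁, h₁, s₁, rfl⟩ := TopCat.Presheaf.exists_germ_eq E.presheaf v
  obtain ⟨W₂, h₂, s₂, rfl⟩ := TopCat.Presheaf.exists_germ_eq E.presheaf w
  rw [spec_germ, spec_germ] at hvw
  have hres : E.presheaf.map (homOfLE (inf_le_left : W₁ ⊓ W₂ ≤ W₁)).op s₁ =
      E.presheaf.map (homOfLE (inf_le_right : W₁ ⊓ W₂ ≤ W₂)).op s₂ := by
    apply sec_eq_of_germ_genericPoint E hTF (W := W₁ ⊓ W₂) ⟨gen_mem h₁, gen_mem h₂⟩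
    rw [TopCat.Presheaf.germ_res_apply, TopCat.Presheaf.germ_res_apply]
    exact hvw
  rw [← TopCat.Presheaf.germ_res_apply E.presheaf (homOfLE (inf_le_left : W₁ ⊓ W₂ ≤ W₁)) x
    ⟨h₁, h₂⟩ s₁, hres, TopCat.Presheaf.germ_res_apply]

/-- **sections of a reflexive module on a normal integral scheme**: a generic germ lying in all
the stalks at the points of codimension one is the germ of a global section. -/
theorem exists_global_section [IsLocallyNoetherian X]
    (hn : ∀ x : X, IsIntegrallyClosed (X.presheaf.stalk x))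
    (E : X.Modules) (hE : Coh.IsCoh E) (hrefl : IsReflexive E)
    (e : E.presheaf.stalk (genericPoint X))
    (h : ∀ x : X, ringKrullDim (X.presheaf.stalk x) = 1 →
      e ∈ Set.range (E.presheaf.stalkSpecializes (gen_spz x)).hom) :
    ∃ s : Γ(E, ⊤), E.presheaf.germ ⊤ (genericPoint X) trivial s = e := by
  haveI : E.IsQuasicoherent := hE.1
  have hTF := isTorsionFree_of_isReflexive_sheaf E hE hrefl
  have hloc : ∀ x : X, e ∈ Set.range (E.presheaf.stalkSpecializes (gen_spz x)).hom →
      ∃ (W : X.Opens) (_ : x ∈ W) (hη : genericPoint X ∈ W) (s : Γ(E, W)),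
        E.presheaf.germ W (genericPoint X) hη s = e := by
    rintro x ⟨ex, rfl⟩
    obtain ⟨W, hxW, s, rfl⟩ := TopCat.Presheaf.exists_germ_eq E.presheaf ex
    exact ⟨W, hxW, gen_mem hxW, s, (spec_germ E x hxW s).symm⟩
  let 𝒲 : Set X.Opens := {W | ∃ (hη : genericPoint X ∈ W) (s : Γ(E, W)),
    E.presheaf.germ W (genericPoint X) hη s = e}
  have hmemV : ∀ y : X, y ∈ sSup 𝒲 ↔ ∃ W ∈ 𝒲, y ∈ W := fun y => TopologicalSpace.Opens.mem_sSup
  have hηV : genericPoint X ∈ sSup 𝒲 := by
    obtain ⟨W, hW, s, hs⟩ := TopCat.Presheaf.exists_germ_eq E.presheaf e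
    exact (hmemV _).2 ⟨W, ⟨hW, s, hs⟩, hW⟩
  have hch : ∀ y : (sSup 𝒲 : X.Opens), ∃ (W : X.Opens) (_ : y.1 ∈ W) (hη : genericPoint X ∈ W)
      (s : Γ(E, W)), E.presheaf.germ W (genericPoint X) hη s = e := by
    intro y
    obtain ⟨W, ⟨hη, s, hs⟩, hyW⟩ := (hmemV y.1).1 y.2
    exact ⟨W, hyW, hη, s, hs⟩
  choose Wc hyWc hηc sc hsc using hch
  have hWV : ∀ y : (sSup 𝒲 : X.Opens), Wc y ≤ sSup 𝒲 := fun y => le_sSup ⟨hηc y, sc y, hsc y⟩
  obtain ⟨n, hn'⟩ := exists_glue E (sSup 𝒲)
    (fun y => E.presheaf.germ (Wc y) y.1 (hyWc y) (sc y)) (by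
    intro y
    refine ⟨Wc y, hyWc y, homOfLE (hWV y), sc y, fun z => ?_⟩
    show E.presheaf.germ (Wc y) z.1 z.2 (sc y) =
      E.presheaf.germ (Wc ⟨z.1, hWV y z.2⟩) z.1 (hyWc ⟨z.1, hWV y z.2⟩) (sc ⟨z.1, hWV y z.2⟩)
    have hres : E.presheaf.map
        (homOfLE (inf_le_left : Wc y ⊓ Wc ⟨z.1, hWV y z.2⟩ ≤ Wc y)).op (sc y) =
        E.presheaf.map (homOfLE (inf_le_right :
          Wc y ⊓ Wc ⟨z.1, hWV y z.2⟩ ≤ Wc ⟨z.1, hWV y z.2⟩)).op (sc ⟨z.1, hWV y z.2⟩) := by
      apply sec_eq_of_germ_genericPoint E hTF (W := Wc y ⊓ Wc ⟨z.1, hWV y z.2⟩)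
        ⟨hηc y, hηc ⟨z.1, hWV y z.2⟩⟩
      rw [TopCat.Presheaf.germ_res_apply, TopCat.Presheaf.germ_res_apply, hsc, hsc]
    rw [← TopCat.Presheaf.germ_res_apply E.presheaf
      (homOfLE (inf_le_left : Wc y ⊓ Wc ⟨z.1, hWV y z.2⟩ ≤ Wc y)) z.1
      ⟨z.2, hyWc ⟨z.1, hWV y z.2⟩⟩ (sc y), hres, TopCat.Presheaf.germ_res_apply])
  have h2 : ∀ x : X, x ∈ (⊤ : X.Opens) → x ∉ sSup 𝒲 →
      (2 : WithBot ℕ∞) ≤ ringKrullDim (X.presheaf.stalk x) := by
    intro x _ hxV
    by_contra hcon
    have h1 := le_one_of_not_two_le hcon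
    apply hxV
    by_cases h0 : ringKrullDim (X.presheaf.stalk x) ≤ 0
    · haveI : Ring.KrullDimLE 0 (X.presheaf.stalk x) :=
        Ring.krullDimLE_iff.mpr (by exact_mod_cast h0)
      have hfield : IsField (X.presheaf.stalk x) := Ring.KrullDimLE.isField_of_isDomain
      have hbot : IsLocalRing.maximalIdeal (X.presheaf.stalk x) = ⊥ :=
        IsLocalRing.isField_iff_maximalIdeal_eq.1 hfield
      obtain ⟨_, ⟨V', hV', rfl⟩, hxV', -⟩ :=
        X.isBasis_affineOpens.exists_subset_of_mem_open (Set.mem_univ x) isOpen_univ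
      have heq : x = genericPoint X :=
        Groth.Agent.Lead.IsoDepth.eq_genericPoint_of_maximalIdeal_eq_bot hV' ⟨x, hxV'⟩ hbot
      rw [heq]
      exact hηV
    · have hd := eq_one_of_le_one_of_not_le_zero h1 h0
      obtain ⟨W, hxW, hη, s, hs⟩ := hloc x (h x hd)
      exact (hmemV x).2 ⟨W, ⟨hη, s, hs⟩, hxW⟩
  have hbij := normal_of_isReflexive hn E hE hrefl ⊤ (sSup 𝒲) le_top h2
  obtain ⟨s, hs⟩ := hbij.2 n
  refine ⟨s, ?_⟩
  rw [← TopCat.Presheaf.germ_res_apply E.presheaf (homOfLE (le_top : sSup 𝒲 ≤ ⊤))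
    (genericPoint X) hηV s, hs]
  exact (hn' ⟨genericPoint X, hηV⟩).trans (hsc ⟨genericPoint X, hηV⟩)

end Spec

end Groth.Agent.Lead.ExtDD
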