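import Mathlib
import Groth.Agent.Lib.Lead.FE2

/-!
# Transport of fibre local rings of the completion along a quotient map
-/

set_option autoImplicit false
set_option linter.style.haveILetI false
set_option linter.unusedSectionVars false

universe u

open TensorProduct LocCoh IsLocalRing FSch

namespace Groth.Agent.Lead.FE

open Groth.Agent.Lead.Depth Groth.Agent.Lead.Fib Groth.Agent.Lead.Cat Groth.Agent.Lead.CQ

/-- For a surjection `g : A → C` of Noetherian local rings, the fibre local rings of `C → Ĉ` are
(isomorphic to) fibre local rings of `A → Â`: same dimension and depth. -/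
theorem FL_transport
    (A : Type u) [CommRing A] [IsNoetherianRing A] [IsLocalRing A]
    (C : Type u) [CommRing C] [IsNoetherianRing C] [IsLocalRing C]
    (g : A →+* C) (hg : Function.Surjective g) (p : Ideal C) [p.IsPrime]
    (r : Ideal (AdicCompletion (maximalIdeal C) C)) [r.IsPrime] [r.LiesOver p] :
    ∃ (P : Ideal A) (_ : P.IsPrime) (Q : Ideal (AdicCompletion (maximalIdeal A) A))
      (_ : Q.IsPrime) (_ : Q.LiesOver P),
      (maximalIdeal (FL p r)).height = (maximalIdeal (FL P Q)).height ∧
        LocCoh.depth (FL p r) (FL p r) = LocCoh.depth (FL P Q) (FL P Q) := by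
  haveI hBN : IsNoetherianRing (AdicCompletion (maximalIdeal A) A) :=
    Groth.Agent.S0543.result A (maximalIdeal A)
  haveI hCN : IsNoetherianRing (AdicCompletion (maximalIdeal C) C) :=
    Groth.Agent.S0543.result C (maximalIdeal C)
  have hK : (maximalIdeal A).map g = maximalIdeal C :=
    IsLocalRing.map_maximalIdeal_of_surjective g hg
  have hψs := complMap_surjective (maximalIdeal A) (maximalIdeal C) g hg hK
  have hψk := ker_complMap (maximalIdeal A) (maximalIdeal C) g hg hK
  have hψof := complMap_algebraMap A C g hK.le
  generalize complMap (maximalIdeal A) (maximalIdeal C) g hK.le = ψ at hψs hψk hψof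
  haveI hPp : (p.comap g).IsPrime := Ideal.comap_isPrime g p
  haveI hrtp : (r.comap ψ).IsPrime := Ideal.comap_isPrime ψ r
  haveI hover : (r.comap ψ).LiesOver (p.comap g) := by
    constructor
    ext a
    rw [Ideal.under_def, Ideal.mem_comap, Ideal.mem_comap, Ideal.mem_comap, hψof,
      Ideal.mem_of_liesOver r p]
  refine ⟨p.comap g, hPp, r.comap ψ, hrtp, hover, ?_⟩
  -- the isomorphism of fibre local rings
  have hJA : (p.comap g).map (algebraMap A (Localization.AtPrime (r.comap ψ))) =
      ((p.comap g).map (algebraMap A (AdicCompletion (maximalIdeal A) A))).map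
        (algebraMap (AdicCompletion (maximalIdeal A) A) (Localization.AtPrime (r.comap ψ))) := by
    rw [Ideal.map_map, ← IsScalarTower.algebraMap_eq]
  have hJC : p.map (algebraMap C (Localization.AtPrime r)) =
      (p.map (algebraMap C (AdicCompletion (maximalIdeal C) C))).map
        (algebraMap (AdicCompletion (maximalIdeal C) C) (Localization.AtPrime r)) := by
    rw [Ideal.map_map, ← IsScalarTower.algebraMap_eq]
  have hpmap : p.map (algebraMap C (AdicCompletion (maximalIdeal C) C)) =
      ((p.comap g).map (algebraMap A (AdicCompletion (maximalIdeal A) A))).map ψ := by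
    have hPp' : (p.comap g).map g = p := Ideal.map_comap_of_surjective g hg p
    conv_lhs => rw [← hPp']
    rw [Ideal.map_map, Ideal.map_map]
    congr 1
    refine RingHom.ext fun a => ?_
    simp only [RingHom.comp_apply]
    exact (hψof a).symm
  have hcomap : (p.map (algebraMap C (AdicCompletion (maximalIdeal C) C))).comap ψ =
      (p.comap g).map (algebraMap A (AdicCompletion (maximalIdeal A) A)) := by
    rw [hpmap, Ideal.comap_map_of_surjective ψ hψs, sup_eq_left, ← RingHom.ker_eq_comap_bot, hψk]
    apply Ideal.map_mono
    intro a ha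
    rw [Ideal.mem_comap, (RingHom.mem_ker).mp ha]
    exact zero_mem _
  let φ : Localization.AtPrime (r.comap ψ) →+* Localization.AtPrime r :=
    Localization.localRingHom (r.comap ψ) r ψ rfl
  have hφs : Function.Surjective φ := by
    intro z
    obtain ⟨c, s, rfl⟩ := IsLocalization.exists_mk'_eq r.primeCompl z
    obtain ⟨b, rfl⟩ := hψs c
    obtain ⟨t, ht⟩ := hψs s.1
    have htr : t ∈ (r.comap ψ).primeCompl := by
      show t ∉ r.comap ψ
      rw [Ideal.mem_comap, ht]
      exact s.2
    refine ⟨IsLocalization.mk' _ b ⟨t, htr⟩, ?_⟩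
    rw [Localization.localRingHom_mk']
    congr 1
    exact Subtype.ext ht
  let θ : Localization.AtPrime (r.comap ψ) →+* FL p r :=
    (Ideal.Quotient.mk (p.map (algebraMap C (Localization.AtPrime r)))).comp φ
  have hθs : Function.Surjective θ := Ideal.Quotient.mk_surjective.comp hφs
  have hker : RingHom.ker θ =
      (p.comap g).map (algebraMap A (Localization.AtPrime (r.comap ψ))) := by
    apply le_antisymm
    · intro z hz
      obtain ⟨b, t, rfl⟩ := IsLocalization.exists_mk'_eq (r.comap ψ).primeCompl z
      rw [RingHom.mem_ker, RingHom.comp_apply, Ideal.Quotient.eq_zero_iff_mem,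
        Localization.localRingHom_mk', hJC,
        IsLocalization.mk'_mem_map_algebraMap_iff r.primeCompl] at hz
      obtain ⟨s, hs, hsb⟩ := hz
      obtain ⟨s', rfl⟩ := hψs s
      rw [← map_mul] at hsb
      have h1 : s' * b ∈ (p.comap g).map (algebraMap A (AdicCompletion (maximalIdeal A) A)) := by
        rw [← hcomap]
        exact hsb
      rw [hJA, IsLocalization.mk'_mem_map_algebraMap_iff (r.comap ψ).primeCompl]
      exact ⟨s', hs, h1⟩
    · rw [Ideal.map_le_iff_le_comap]
      intro a ha
      rw [Ideal.mem_comap, RingHom.mem_ker, RingHom.comp_apply, Ideal.Quotient.eq_zero_iff_mem]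
      have h1 : φ (algebraMap A (Localization.AtPrime (r.comap ψ)) a) =
          algebraMap C (Localization.AtPrime r) (g a) := by
        rw [IsScalarTower.algebraMap_apply A (AdicCompletion (maximalIdeal A) A)
          (Localization.AtPrime (r.comap ψ)), Localization.localRingHom_to_map, hψof,
          ← IsScalarTower.algebraMap_apply]
      rw [h1]
      exact Ideal.mem_map_of_mem _ ha
  let e : FL (p.comap g) (r.comap ψ) ≃+* FL p r :=
    (Ideal.quotEquivOfEq hker.symm).trans (RingHom.quotientKerEquivOfSurjective hθs)
  have hh : ((maximalIdeal (FL p r)).height : WithBot ℕ∞) =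
      (maximalIdeal (FL (p.comap g) (r.comap ψ))).height := by
    rw [IsLocalRing.maximalIdeal_height_eq_ringKrullDim,
      IsLocalRing.maximalIdeal_height_eq_ringKrullDim]
    exact (ringKrullDim_eq_of_ringEquiv e).symm
  refine ⟨WithBot.coe_injective hh, (depth_self_eq_of_ringEquiv e).symm⟩

end Groth.Agent.Lead.FE
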