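import Mathlib
import Groth.Prelude.Def_Pic
import Groth.Prelude.Def_FlatMod2
import Groth.Agent.Lib.Lead.InvHom2
import Groth.Agent.Lib.Helper13.LocFree
import Groth.Agent.Lib.Helper13.LocFree4

/-!
# Finite locally free modules and restriction to an open `U` with `O_X ≅ j_* O_U` (lead)
-/

set_option autoImplicit false
set_option linter.style.haveILetI false

universe u

open CategoryTheory AlgebraicGeometry Opposite TopologicalSpace
open Groth.Agent.Helper13.QCoh Groth.Agent.Helper13.FinType Groth.Agent.Helper13.LocFree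

namespace Groth.Agent.Lead.FLFUnit

theorem bijective_modmap_of_eq {X : Scheme.{u}} (E : X.Modules) {A A' B B' : X.Opens}
    (hA : A' = A) (hB : B' = B) (hle : B ≤ A) (hle' : B' ≤ A')
    (h : Function.Bijective (E.presheaf.map (homOfLE hle).op)) :
    Function.Bijective (E.presheaf.map (homOfLE hle').op) := by
  subst hA hB
  exact h

/-- restriction maps of a free module follow those of the structure sheaf. -/
theorem bijective_map_of_iso_freeMod {Z : Scheme.{u}} {n : ℕ} (M : Z.Modules)
    (e : M ≅ FlatMod.freeMod Z n) {A A' : Z.Opens} (hle : A' ≤ A)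
    (hO : Function.Bijective (Z.presheaf.map (homOfLE hle).op)) :
    Function.Bijective (M.presheaf.map (homOfLE hle).op) := by
  let coord : ∀ B : Z.Opens, Γ(M, B) → (Fin n → Γ(Z, B)) :=
    fun B t => coordOfSec n B (e.hom.app B t)
  have hcoord : ∀ B, Function.Bijective (coord B) := fun B =>
    (secEquiv n B).symm.bijective.comp (appLinearEquiv e B).bijective
  have hnat : ∀ t : Γ(M, A), coord A' (M.presheaf.map (homOfLE hle).op t) =
      fun i => Z.presheaf.map (homOfLE hle).op (coord A t i) := by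
    intro t
    funext i
    have := congr($((e.hom ≫ π n i).mapPresheaf.naturality (homOfLE hle).op) t)
    exact this
  constructor
  · intro s s' hss
    apply (hcoord A).1
    funext i
    apply hO.1
    have h1 := congrFun (hnat s) i
    have h2 := congrFun (hnat s') i
    rw [← h1, ← h2, hss]
  · intro t'
    choose c hc using fun i => hO.2 (coord A' t' i)
    obtain ⟨s, hs⟩ := (hcoord A).2 c
    refine ⟨s, (hcoord A').1 ?_⟩
    rw [hnat, hs]
    funext i
    exact hc i

/-- transport to an open subscheme on which the module is free. -/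
theorem bijective_map_of_restrict_iso_freeMod {X : Scheme.{u}} {n : ℕ} (E : X.Modules)
    (W₀ : X.Opens) (e : E.restrict W₀.ι ≅ FlatMod.freeMod (W₀ : Scheme.{u}) n)
    {B B' : X.Opens} (hB : B ≤ W₀) (hle : B' ≤ B)
    (hO : Function.Bijective (X.presheaf.map (homOfLE hle).op)) :
    Function.Bijective (E.presheaf.map (homOfLE hle).op) := by
  have hB' : B' ≤ W₀ := hle.trans hB
  have e1 : W₀.ι ''ᵁ (W₀.ι ⁻¹ᵁ B) = B := by
    rw [Scheme.Hom.image_preimage_eq_opensRange_inf, Scheme.Opens.opensRange_ι]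
    exact inf_eq_right.2 hB
  have e2 : W₀.ι ''ᵁ (W₀.ι ⁻¹ᵁ B') = B' := by
    rw [Scheme.Hom.image_preimage_eq_opensRange_inf, Scheme.Opens.opensRange_ι]
    exact inf_eq_right.2 hB'
  have hle₀ : W₀.ι ⁻¹ᵁ B' ≤ W₀.ι ⁻¹ᵁ B := fun x hx => hle hx
  have hO' : Function.Bijective ((W₀ : Scheme.{u}).presheaf.map (homOfLE hle₀).op) :=
    Groth.Agent.Lead.InvHom.bijective_map_of_eq X e1 e2 hle (W₀.ι.image_mono hle₀) hO
  have h1 := bijective_map_of_iso_freeMod (E.restrict W₀.ι) e hle₀ hO'
  exact bijective_modmap_of_eq E e1.symm e2.symm (W₀.ι.image_mono hle₀) hle h1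

section Main

variable (X : Scheme.{u}) (U : X.Opens)
  (h : ∀ V : X.Opens, Function.Bijective (X.presheaf.map (homOfLE (inf_le_left : V ⊓ U ≤ V)).op))

include h in
/-- the unit `E → j_* j^* E` is an isomorphism for finite locally free `E`. -/
theorem isIso_unit_of_isFinLocFree (E : X.Modules) (hE : FlatMod.IsFinLocFree E) :
    IsIso ((Scheme.Modules.restrictAdjunction U.ι).unit.app E) := by
  let B : Set X.Opens := {W | ∃ (W₀ : X.Opens) (n : ℕ), W ≤ W₀ ∧
    Nonempty (E.restrict W₀.ι ≅ FlatMod.freeMod (W₀ : Scheme.{u}) n)}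
  have hB : Opens.IsBasis B := by
    rw [Opens.isBasis_iff_nbhd]
    intro N x hx
    obtain ⟨W₀, n, hxW₀, he⟩ := hE x
    exact ⟨W₀ ⊓ N, ⟨W₀, n, inf_le_left, he⟩, ⟨hxW₀, hx⟩, inf_le_right⟩
  refine isIso_of_app_bijective_of_isBasis _ hB ?_
  rintro W ⟨W₀, n, hWW₀, ⟨e⟩⟩
  rw [Scheme.Modules.restrictAdjunction_unit_app_app]
  have hW' : U.ι ''ᵁ U.ι ⁻¹ᵁ W = W ⊓ U := by
    rw [Scheme.Hom.image_preimage_eq_opensRange_inf, Scheme.Opens.opensRange_ι, inf_comm]
  exact bijective_map_of_restrict_iso_freeMod E W₀ e hWW₀ (U.ι.image_preimage_le W)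
    (Groth.Agent.Lead.InvHom.bijective_res_of_eq X U h W _ hW' _)

include h in
/-- a finite locally free module is the direct image of its restriction. -/
theorem nonempty_iso_pushforward (E : X.Modules) (hE : FlatMod.IsFinLocFree E)
    (F : (U : Scheme.{u}).Modules) (e : E.restrict U.ι ≅ F) :
    Nonempty (E ≅ (Scheme.Modules.pushforward U.ι).obj F) := by
  haveI : IsIso ((Scheme.Modules.restrictAdjunction U.ι).unit.app E) :=
    isIso_unit_of_isFinLocFree X U h E hE
  exact ⟨asIso ((Scheme.Modules.restrictAdjunction U.ι).unit.app E) ≪≫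
    (Scheme.Modules.pushforward U.ι).mapIso e⟩

end Main

end Groth.Agent.Lead.FLFUnit
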