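import Mathlib
import Groth.Agent.Lib.Helper1.LocalCriterion

/-!
# A flatness criterion over an Artinian local base: the local core

Let `A` be a local ring with nilpotent maximal ideal, `L` a local `A`-algebra such that
`L` has no socle, `L_red` has a regular sequence of length two in its maximal ideal, and such that
flatness over `A` with reduced fibre holds on the punctured spectrum of `L` (encoded by the
torsion statements `E1`, `E2`).  Then `L` is flat over `A` and `L / m_A L` is reduced.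
-/

set_option autoImplicit false
set_option linter.style.haveILetI false
set_option linter.unusedSectionVars false

universe u

open IsLocalRing TensorProduct

namespace Groth.Agent.Lead.FamF

section Core

variable {A : Type u} [CommRing A] [IsLocalRing A] {L : Type u} [CommRing L] [IsLocalRing L]
  [Algebra A L]

/-- `L/I` has no socle. -/
def NoSocle (I : Ideal L) : Prop :=
  ∀ z : L, (∀ x ∈ maximalIdeal L, x * z ∈ I) → z ∈ I

theorem NoSocle.of_pow {I : Ideal L} (h : NoSocle I) :
    ∀ (n : ℕ) (z : L), (∀ y ∈ maximalIdeal L ^ n, y * z ∈ I) → z ∈ I := by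
  intro n
  induction n with
  | zero =>
    intro z hz
    have h1 := hz 1 (by rw [pow_zero, Ideal.one_eq_top]; exact Submodule.mem_top)
    rwa [one_mul] at h1
  | succ n ih =>
    intro z hz
    apply h
    intro x hx
    apply ih
    intro y hy
    have hyx : y * x ∈ maximalIdeal L ^ (n + 1) := by
      rw [pow_succ]
      exact Ideal.mul_mem_mul hy hx
    have h1 := hz (y * x) hyx
    rwa [mul_assoc] at h1

theorem map_maximalIdeal_le_nilradical (hnil : IsNilpotent (maximalIdeal A)) :
    (maximalIdeal A).map (algebraMap A L) ≤ nilradical L := by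
  obtain ⟨k, hk⟩ := hnil
  intro w hw
  rw [mem_nilradical]
  refine ⟨k, ?_⟩
  have h1 : w ^ k ∈ ((maximalIdeal A).map (algebraMap A L)) ^ k := Ideal.pow_mem_pow hw k
  rw [← Ideal.map_pow, hk, Ideal.zero_eq_bot, Ideal.map_bot, Ideal.mem_bot] at h1
  exact h1

theorem algebraMap_mul_mem_map {J : Ideal A} {ε : A}
    (hmε : ∀ x ∈ maximalIdeal A, x * ε ∈ J) {w : L}
    (hw : w ∈ (maximalIdeal A).map (algebraMap A L)) :
    algebraMap A L ε * w ∈ J.map (algebraMap A L) := by
  have hspan : Ideal.span {algebraMap A L ε} = (Ideal.span {ε}).map (algebraMap A L) := by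
    rw [Ideal.map_span, Set.image_singleton]
  have h1 : Ideal.span {algebraMap A L ε} * (maximalIdeal A).map (algebraMap A L) ≤
      J.map (algebraMap A L) := by
    rw [hspan, ← Ideal.map_mul]
    apply Ideal.map_mono
    rw [Ideal.span_singleton_mul_le_iff]
    intro z hz
    rw [mul_comm]
    exact hmε z hz
  exact h1 (Ideal.mul_mem_mul (Ideal.mem_span_singleton_self _) hw)

theorem mem_of_pow_mul_mem {N : Ideal L} {a : L} (h : ∀ x, a * x ∈ N → x ∈ N) :
    ∀ (n : ℕ) (x : L), a ^ n * x ∈ N → x ∈ N := by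
  intro n
  induction n with
  | zero =>
    intro x hx
    rwa [pow_zero, one_mul] at hx
  | succ n ih =>
    intro x hx
    apply ih
    apply h
    rw [← mul_assoc, ← pow_succ']
    exact hx

theorem step (hnil : IsNilpotent (maximalIdeal A))
    {a b : L} (ha : a ∈ maximalIdeal L) (hb : b ∈ maximalIdeal L)
    (hareg : ∀ x, a * x ∈ nilradical L → x ∈ nilradical L)
    (hbreg : ∀ x, b * x ∈ nilradical L ⊔ Ideal.span {a} → x ∈ nilradical L ⊔ Ideal.span {a})
    (E1 : ∀ (J : Ideal A) (ε : A), ε ∉ J → ∀ c : L,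
      algebraMap A L ε * c ∈ J.map (algebraMap A L) →
        ∃ n : ℕ, ∀ y ∈ maximalIdeal L ^ n, y * c ∈ (maximalIdeal A).map (algebraMap A L))
    (E2 : ∀ x ∈ nilradical L, ∃ n : ℕ, ∀ y ∈ maximalIdeal L ^ n,
      y * x ∈ (maximalIdeal A).map (algebraMap A L))
    (J : Ideal A) (ε : A) (hεJ : ε ∉ J) (hmε : ∀ x ∈ maximalIdeal A, x * ε ∈ J)
    (hT : NoSocle (J.map (algebraMap A L))) :
    (∀ c : L, algebraMap A L ε * c ∈ J.map (algebraMap A L) ↔ c ∈ nilradical L) ∧
      NoSocle ((J ⊔ Ideal.span {ε}).map (algebraMap A L)) := by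
  have hN1 : ∀ c : L, algebraMap A L ε * c ∈ J.map (algebraMap A L) ↔ c ∈ nilradical L := by
    intro c
    constructor
    · intro hc
      obtain ⟨n, hn⟩ := E1 J ε hεJ c hc
      have h1 : a ^ n * c ∈ nilradical L :=
        map_maximalIdeal_le_nilradical hnil (hn _ (Ideal.pow_mem_pow ha n))
      exact mem_of_pow_mul_mem hareg n c h1
    · intro hc
      obtain ⟨n, hn⟩ := E2 c hc
      apply hT.of_pow n
      intro y hy
      have h1 := algebraMap_mul_mem_map hmε (hn y hy)
      have e : y * (algebraMap A L ε * c) = algebraMap A L ε * (y * c) := by ring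
      rw [e]
      exact h1
  refine ⟨hN1, ?_⟩
  have hmap : (J ⊔ Ideal.span {ε}).map (algebraMap A L) =
      J.map (algebraMap A L) ⊔ Ideal.span {algebraMap A L ε} := by
    rw [Ideal.map_sup, Ideal.map_span, Set.image_singleton]
  rw [hmap]
  intro z hz
  have hdec : ∀ x ∈ maximalIdeal L, ∃ j ∈ J.map (algebraMap A L), ∃ t : L,
      x * z = j + t * algebraMap A L ε := by
    intro x hx
    obtain ⟨j, hj, w, hw, hjw⟩ := Submodule.mem_sup.mp (hz x hx)
    obtain ⟨t, rfl⟩ := Ideal.mem_span_singleton'.mp hw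
    exact ⟨j, hj, t, hjw.symm⟩
  obtain ⟨j1, hj1, u, hu⟩ := hdec a ha
  obtain ⟨j2, hj2, v, hv⟩ := hdec b hb
  have h1 : algebraMap A L ε * (b * u - a * v) ∈ J.map (algebraMap A L) := by
    have e : algebraMap A L ε * (b * u - a * v) = a * j2 - b * j1 := by
      linear_combination a * hv - b * hu
    rw [e]
    exact Ideal.sub_mem _ (Ideal.mul_mem_left _ _ hj2) (Ideal.mul_mem_left _ _ hj1)
  have h2 : b * u - a * v ∈ nilradical L := (hN1 _).mp h1
  have h3 : b * u ∈ nilradical L ⊔ Ideal.span {a} := by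
    have e : b * u = (b * u - a * v) + v * a := by ring
    rw [e]
    exact Submodule.add_mem_sup h2 (Ideal.mem_span_singleton'.mpr ⟨v, rfl⟩)
  obtain ⟨ν, hν, w', hw', hνw⟩ := Submodule.mem_sup.mp (hbreg u h3)
  obtain ⟨w, rfl⟩ := Ideal.mem_span_singleton'.mp hw'
  have hεν : algebraMap A L ε * ν ∈ J.map (algebraMap A L) := (hN1 ν).mpr hν
  have haz' : a * (z - algebraMap A L ε * w) ∈ J.map (algebraMap A L) := by
    have e : a * (z - algebraMap A L ε * w) = j1 + algebraMap A L ε * ν := by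
      linear_combination hu - algebraMap A L ε * hνw
    rw [e]
    exact Ideal.add_mem _ hj1 hεν
  have hz' : z - algebraMap A L ε * w ∈ J.map (algebraMap A L) := by
    apply hT
    intro x hx
    obtain ⟨j, hj, t, ht⟩ := hdec x hx
    have hs1 : algebraMap A L ε * (a * (t - x * w)) ∈ J.map (algebraMap A L) := by
      have e : algebraMap A L ε * (a * (t - x * w)) =
          x * (a * (z - algebraMap A L ε * w)) - a * j := by
        linear_combination (-a) * ht
      rw [e]
      exact Ideal.sub_mem _ (Ideal.mul_mem_left _ _ haz') (Ideal.mul_mem_left _ _ hj)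
    have hs2 : a * (t - x * w) ∈ nilradical L := (hN1 _).mp hs1
    have hs3 : t - x * w ∈ nilradical L := hareg _ hs2
    have hs4 : algebraMap A L ε * (t - x * w) ∈ J.map (algebraMap A L) := (hN1 _).mpr hs3
    have e : x * (z - algebraMap A L ε * w) = j + algebraMap A L ε * (t - x * w) := by
      linear_combination ht
    rw [e]
    exact Ideal.add_mem _ hj hs4
  have e : z = (z - algebraMap A L ε * w) + w * algebraMap A L ε := by ring
  rw [e]
  exact Submodule.add_mem_sup hz' (Ideal.mem_span_singleton'.mpr ⟨w, rfl⟩)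

theorem exists_socle (hnil : IsNilpotent (maximalIdeal A)) (J : Ideal A)
    (hJ : J ≤ maximalIdeal A) (hne : J ≠ maximalIdeal A) :
    ∃ ε ∈ maximalIdeal A, ε ∉ J ∧ ∀ x ∈ maximalIdeal A, x * ε ∈ J := by
  classical
  obtain ⟨N, hN⟩ := hnil
  have hex : ∃ k, maximalIdeal A ^ k ≤ J := ⟨N, by rw [hN, Ideal.zero_eq_bot]; exact bot_le⟩
  have hk1 : ¬ maximalIdeal A ^ 1 ≤ J := by
    rw [pow_one]
    intro h
    exact hne (le_antisymm hJ h)
  have hk0 : ¬ maximalIdeal A ^ 0 ≤ J := by
    rw [pow_zero, Ideal.one_eq_top]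
    intro h
    exact (maximalIdeal.isMaximal A).ne_top (top_le_iff.mp (h.trans hJ))
  have hk2 : 2 ≤ Nat.find hex := by
    by_contra hlt
    have h01 : Nat.find hex = 0 ∨ Nat.find hex = 1 := by omega
    rcases h01 with h0 | h1
    · have h := Nat.find_spec hex
      rw [h0] at h
      exact hk0 h
    · have h := Nat.find_spec hex
      rw [h1] at h
      exact hk1 h
  have hnot : ¬ maximalIdeal A ^ (Nat.find hex - 1) ≤ J :=
    Nat.find_min hex (by omega)
  obtain ⟨ε, hε, hεJ⟩ := SetLike.not_le_iff_exists.mp hnot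
  refine ⟨ε, Ideal.pow_le_self (by omega) hε, hεJ, ?_⟩
  intro x hx
  apply Nat.find_spec hex
  have hk : Nat.find hex = (Nat.find hex - 1) + 1 := by omega
  rw [hk, pow_succ']
  exact Ideal.mul_mem_mul hx hε

theorem max_arg [IsNoetherianRing A] (Q : Ideal A → Prop) (h0 : Q ⊥)
    (hstep : ∀ J : Ideal A, J ≤ maximalIdeal A → J ≠ maximalIdeal A → Q J →
      ∃ J' : Ideal A, J < J' ∧ J' ≤ maximalIdeal A ∧ Q J') : Q (maximalIdeal A) := by
  obtain ⟨M, ⟨hM1, hM2⟩, hmax⟩ := set_has_maximal_iff_noetherian.mpr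
    (inferInstance : IsNoetherian A A) {J : Ideal A | J ≤ maximalIdeal A ∧ Q J}
    ⟨⊥, bot_le, h0⟩
  by_cases hM : M = maximalIdeal A
  · rw [← hM]; exact hM2
  · obtain ⟨J', hlt, hle, hQ⟩ := hstep M hM1 hM hM2
    exact absurd hlt (hmax J' ⟨hle, hQ⟩)

theorem lid_rTensor_mem (J : Ideal A) (η : J ⊗[A] L) :
    TensorProduct.lid A L ((Submodule.subtype J).rTensor L η) ∈ J.map (algebraMap A L) := by
  induction η using TensorProduct.induction_on with
  | zero => simp
  | tmul x l =>
    rw [LinearMap.rTensor_tmul, TensorProduct.lid_tmul, Algebra.smul_def]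
    exact Ideal.mul_mem_right _ _ (Ideal.mem_map_of_mem _ x.2)
  | add x y hx hy =>
    rw [map_add, map_add]
    exact Ideal.add_mem _ hx hy

theorem injective_bot :
    Function.Injective ((Submodule.subtype (⊥ : Ideal A)).rTensor L) := by
  have h0 : ∀ ξ : ↥(⊥ : Ideal A) ⊗[A] L, ξ = 0 := by
    intro ξ
    induction ξ using TensorProduct.induction_on with
    | zero => rfl
    | tmul x l =>
      have hx : x = 0 := Subtype.ext ((Submodule.mem_bot A).mp x.2)
      rw [hx, TensorProduct.zero_tmul]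
    | add x y hx hy => rw [hx, hy, add_zero]
  intro ξ1 ξ2 _
  rw [h0 ξ1, h0 ξ2]

theorem injective_step (J : Ideal A) (ε : A) (hmε : ∀ x ∈ maximalIdeal A, x * ε ∈ J)
    (hN1 : ∀ c : L, algebraMap A L ε * c ∈ J.map (algebraMap A L) →
      c ∈ (maximalIdeal A).map (algebraMap A L))
    (hinj : Function.Injective ((Submodule.subtype J).rTensor L)) :
    Function.Injective ((Submodule.subtype (J ⊔ Ideal.span {ε})).rTensor L) := by
  have hle : J ≤ J ⊔ Ideal.span {ε} := le_sup_left
  have hεmem : ε ∈ J ⊔ Ideal.span {ε} := Ideal.mem_sup_right (Ideal.mem_span_singleton_self ε)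
  have hdec : ∀ ξ : ↥(J ⊔ Ideal.span {ε}) ⊗[A] L, ∃ (η : J ⊗[A] L) (c : L),
      ξ = (Submodule.inclusion hle).rTensor L η +
        (⟨ε, hεmem⟩ : ↥(J ⊔ Ideal.span {ε})) ⊗ₜ[A] c := by
    intro ξ
    induction ξ using TensorProduct.induction_on with
    | zero => exact ⟨0, 0, by simp⟩
    | tmul x l =>
      obtain ⟨j, hj, w, hw, hjw⟩ := Submodule.mem_sup.mp x.2
      obtain ⟨r, rfl⟩ := Ideal.mem_span_singleton'.mp hw
      refine ⟨(⟨j, hj⟩ : J) ⊗ₜ[A] l, r • l, ?_⟩
      have hx : x = Submodule.inclusion hle ⟨j, hj⟩ +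
          r • (⟨ε, hεmem⟩ : ↥(J ⊔ Ideal.span {ε})) := by
        apply Subtype.ext
        simp only [Submodule.coe_add, Submodule.coe_inclusion, Submodule.coe_smul, smul_eq_mul]
        exact hjw.symm
      rw [LinearMap.rTensor_tmul, TensorProduct.tmul_smul, TensorProduct.smul_tmul',
        ← TensorProduct.add_tmul, ← hx]
    | add x y hx hy =>
      obtain ⟨η1, c1, h1⟩ := hx
      obtain ⟨η2, c2, h2⟩ := hy
      refine ⟨η1 + η2, c1 + c2, ?_⟩
      rw [h1, h2, map_add, TensorProduct.tmul_add]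
      abel
  have hcomp : ∀ η' : J ⊗[A] L, (Submodule.subtype (J ⊔ Ideal.span {ε})).rTensor L
      ((Submodule.inclusion hle).rTensor L η') = (Submodule.subtype J).rTensor L η' := by
    intro η'
    rw [← LinearMap.comp_apply, ← LinearMap.rTensor_comp]
    rfl
  intro ξ1 ξ2 h12
  rw [← sub_eq_zero]
  have hξ : (Submodule.subtype (J ⊔ Ideal.span {ε})).rTensor L (ξ1 - ξ2) = 0 := by
    rw [map_sub, h12, sub_self]
  obtain ⟨η, c, hηc⟩ := hdec (ξ1 - ξ2)
  rw [hηc] at hξ ⊢
  have h1 : TensorProduct.lid A L ((Submodule.subtype J).rTensor L η) +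
      algebraMap A L ε * c = 0 := by
    have h := congrArg (TensorProduct.lid A L) hξ
    rw [map_add, hcomp, map_add, map_zero, LinearMap.rTensor_tmul, TensorProduct.lid_tmul,
      Algebra.smul_def] at h
    exact h
  have h2 : algebraMap A L ε * c ∈ J.map (algebraMap A L) := by
    have e : algebraMap A L ε * c =
        -(TensorProduct.lid A L ((Submodule.subtype J).rTensor L η)) := by
      linear_combination h1
    rw [e]
    exact (J.map (algebraMap A L)).neg_mem (lid_rTensor_mem J η)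
  have hc := hN1 c h2
  have hc' : c ∈ (maximalIdeal A) • (⊤ : Submodule A L) := by
    rw [Ideal.smul_top_eq_map]
    exact hc
  have hrange : (⟨ε, hεmem⟩ : ↥(J ⊔ Ideal.span {ε})) ⊗ₜ[A] c ∈
      LinearMap.range ((Submodule.inclusion hle).rTensor L) := by
    refine Submodule.smul_induction_on hc' ?_ ?_
    · intro r hr n _
      refine ⟨(⟨r * ε, hmε r hr⟩ : J) ⊗ₜ[A] n, ?_⟩
      have e : Submodule.inclusion hle ⟨r * ε, hmε r hr⟩ =
          r • (⟨ε, hεmem⟩ : ↥(J ⊔ Ideal.span {ε})) := by
        apply Subtype.ext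
        simp
      rw [LinearMap.rTensor_tmul, e, TensorProduct.smul_tmul]
    · intro x y hx hy
      rw [TensorProduct.tmul_add]
      exact Submodule.add_mem _ hx hy
  obtain ⟨η2, hη2⟩ := hrange
  rw [← hη2, ← map_add] at hξ ⊢
  rw [hcomp] at hξ
  have h3 := hinj (hξ.trans (map_zero _).symm)
  rw [h3, map_zero]

/-- The local core. -/
theorem local_main [IsNoetherianRing A] (hnil : IsNilpotent (maximalIdeal A))
    (H1 : NoSocle (⊥ : Ideal L))
    {a b : L} (ha : a ∈ maximalIdeal L) (hb : b ∈ maximalIdeal L)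
    (hareg : ∀ x, a * x ∈ nilradical L → x ∈ nilradical L)
    (hbreg : ∀ x, b * x ∈ nilradical L ⊔ Ideal.span {a} → x ∈ nilradical L ⊔ Ideal.span {a})
    (E1 : ∀ (J : Ideal A) (ε : A), ε ∉ J → ∀ c : L,
      algebraMap A L ε * c ∈ J.map (algebraMap A L) →
        ∃ n : ℕ, ∀ y ∈ maximalIdeal L ^ n, y * c ∈ (maximalIdeal A).map (algebraMap A L))
    (E2 : ∀ x ∈ nilradical L, ∃ n : ℕ, ∀ y ∈ maximalIdeal L ^ n,
      y * x ∈ (maximalIdeal A).map (algebraMap A L)) :
    Module.Flat A L ∧ (maximalIdeal A).map (algebraMap A L) = nilradical L := by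
  have hlt : ∀ (J : Ideal A) (ε : A), ε ∉ J → J < J ⊔ Ideal.span {ε} := by
    intro J ε hεJ
    refine lt_of_le_of_ne le_sup_left (fun h => hεJ ?_)
    rw [h]
    exact Ideal.mem_sup_right (Ideal.mem_span_singleton_self ε)
  have hT : NoSocle ((maximalIdeal A).map (algebraMap A L)) := by
    apply max_arg (fun J => NoSocle (J.map (algebraMap A L)))
    · rw [Ideal.map_bot]; exact H1
    · intro J hJ hne hQ
      obtain ⟨ε, hεm, hεJ, hmε⟩ := exists_socle hnil J hJ hne
      exact ⟨J ⊔ Ideal.span {ε}, hlt J ε hεJ,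
        sup_le hJ ((Ideal.span_singleton_le_iff_mem _).mpr hεm),
        (step hnil ha hb hareg hbreg E1 E2 J ε hεJ hmε hQ).2⟩
  have hle : nilradical L ≤ (maximalIdeal A).map (algebraMap A L) := by
    intro x hx
    obtain ⟨n, hn⟩ := E2 x hx
    exact hT.of_pow n x hn
  have heq : (maximalIdeal A).map (algebraMap A L) = nilradical L :=
    le_antisymm (map_maximalIdeal_le_nilradical hnil) hle
  refine ⟨?_, heq⟩
  have hP : NoSocle ((maximalIdeal A).map (algebraMap A L)) ∧
      Function.Injective ((Submodule.subtype (maximalIdeal A)).rTensor L) := by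
    apply max_arg (fun J => NoSocle (J.map (algebraMap A L)) ∧
      Function.Injective ((Submodule.subtype J).rTensor L))
    · exact ⟨by rw [Ideal.map_bot]; exact H1, injective_bot⟩
    · rintro J hJ hne ⟨hQ, hinj⟩
      obtain ⟨ε, hεm, hεJ, hmε⟩ := exists_socle hnil J hJ hne
      obtain ⟨hN1, hT'⟩ := step hnil ha hb hareg hbreg E1 E2 J ε hεJ hmε hQ
      exact ⟨J ⊔ Ideal.span {ε}, hlt J ε hεJ,
        sup_le hJ ((Ideal.span_singleton_le_iff_mem _).mpr hεm), hT',
        injective_step J ε hmε (fun c hc => hle ((hN1 c).mp hc)) hinj⟩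
  letI : Field (A ⧸ maximalIdeal A) := Ideal.Quotient.field (maximalIdeal A)
  haveI : Module.Flat (A ⧸ maximalIdeal A) ((A ⧸ maximalIdeal A) ⊗[A] L) := inferInstance
  exact Groth.Agent.Helper1.flat_of_isNilpotent (maximalIdeal A) hnil hP.2

end Core

end Groth.Agent.Lead.FamF
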