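import Mathlib
import Groth.Prelude.Def_EGA4b
import Groth.Agent.Lib.Lead.FamF1
import Groth.Agent.Lib.Lead.Flat3
import Groth.Agent.Lib.Lead.Fib1
import Groth.Agent.Lib.Lead.FEq1

/-!
# Flatness over an Artinian local base from `(S₁)`, `(S₂)` of the reduction and codimension one

Globalization of `FamF1.local_main`: for an Artinian local ring `A` and a Noetherian `A`-algebra
`B` satisfying `(S₁)`, with `B_red` satisfying `(S₂)`, such that `B_q` is flat over `A` with reduced
fibre for all primes `q` of height `≤ 1`, the same holds at all primes; hence `B` is flat over `A`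
and `B / m_A B` is reduced.
-/

set_option autoImplicit false
set_option linter.style.haveILetI false
set_option linter.unusedSectionVars false

universe u v

open IsLocalRing TensorProduct LocCoh

namespace Groth.Agent.Lead.FamF

/-! ### Arithmetic in `ℕ∞` -/

theorem le_one_or_two_le (x : ℕ∞) : x ≤ 1 ∨ 2 ≤ x := by
  induction x using ENat.recTopCoe with
  | top => right; exact le_top
  | coe n =>
    rcases Nat.lt_or_ge n 2 with h | h
    · left; exact_mod_cast (by omega : n ≤ 1)
    · right; exact_mod_cast h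

theorem enat_le_of_add_one_le {x : ℕ∞} {n : ℕ} (h : x + 1 ≤ ((n + 1 : ℕ) : ℕ∞)) :
    x ≤ (n : ℕ∞) := by
  induction x using ENat.recTopCoe with
  | top =>
    exfalso
    rw [top_add] at h
    exact absurd (top_le_iff.mp h) (ENat.coe_ne_top _)
  | coe m =>
    have h' : m + 1 ≤ n + 1 := by exact_mod_cast h
    exact_mod_cast (by omega : m ≤ n)

/-! ### Finite expressions and the flat colon lemma -/

theorem exists_sum_of_mem_smul_top {A : Type u} [CommRing A] {M : Type v} [AddCommGroup M]
    [Module A M] (J : Ideal A) {x : M} (hx : x ∈ J • (⊤ : Submodule A M)) :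
    ∃ (ι : Type) (_ : Fintype ι) (j : ι → A) (m : ι → M),
      (∀ i, j i ∈ J) ∧ x = ∑ i, j i • m i := by
  refine Submodule.smul_induction_on hx ?_ ?_
  · intro r hr n _
    exact ⟨Unit, inferInstance, fun _ => r, fun _ => n, fun _ => hr, by simp⟩
  · rintro x y ⟨ι1, _, j1, m1, hj1, rfl⟩ ⟨ι2, _, j2, m2, hj2, rfl⟩
    refine ⟨ι1 ⊕ ι2, inferInstance, Sum.elim j1 j2, Sum.elim m1 m2, ?_, ?_⟩
    · rintro (i | i)
      · exact hj1 i
      · exact hj2 i
    · rw [Fintype.sum_sum_type]
      simp only [Sum.elim_inl, Sum.elim_inr]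

theorem flat_colon {A : Type u} [CommRing A] [IsLocalRing A] {M : Type v} [AddCommGroup M]
    [Module A M] [Module.Flat A M] (J : Ideal A) (ε : A) (hε : ε ∉ J) (y : M)
    (hy : ε • y ∈ J • (⊤ : Submodule A M)) : y ∈ maximalIdeal A • (⊤ : Submodule A M) := by
  classical
  obtain ⟨ι, _, j, m, hj, hsum⟩ := exists_sum_of_mem_smul_top J hy
  have hrel : ∑ o : Option ι, (Option.elim o ε j) • (Option.elim o y (fun i => -(m i))) = 0 := by
    rw [Fintype.sum_option]
    simp only [Option.elim_none, Option.elim_some, smul_neg, Finset.sum_neg_distrib]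
    rw [hsum]
    exact add_neg_cancel _
  obtain ⟨k, a, z, hz, ha⟩ := Module.Flat.isTrivialRelation_of_sum_smul_eq_zero
    (f := fun o : Option ι => Option.elim o ε j)
    (x := fun o : Option ι => Option.elim o y (fun i => -(m i))) hrel
  have hy' : y = ∑ l, a none l • z l := hz none
  have hmem : ∀ l, a none l ∈ maximalIdeal A := by
    intro l
    by_contra hnot
    have hunit : IsUnit (a none l) := by
      by_contra h
      exact hnot ((IsLocalRing.mem_maximalIdeal _).mpr h)
    have h1 := ha l
    rw [Fintype.sum_option] at h1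
    simp only [Option.elim_none, Option.elim_some] at h1
    have h2 : ε * a none l ∈ J := by
      have e : ε * a none l = -∑ i, j i * a (some i) l := by linear_combination h1
      rw [e]
      exact J.neg_mem (J.sum_mem fun i _ => J.mul_mem_right _ (hj i))
    exact hε ((Ideal.mul_unit_mem_iff_mem J hunit).mp h2)
  rw [hy']
  exact Submodule.sum_mem _ fun l _ => Submodule.smul_mem_smul (hmem l) Submodule.mem_top

theorem flat_colon_algebra {A : Type u} [CommRing A] [IsLocalRing A] {M : Type v} [CommRing M]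
    [Algebra A M] [Module.Flat A M] (J : Ideal A) (ε : A) (hε : ε ∉ J) (y : M)
    (hy : algebraMap A M ε * y ∈ J.map (algebraMap A M)) :
    y ∈ (maximalIdeal A).map (algebraMap A M) := by
  have h3 : ε • y ∈ J • (⊤ : Submodule A M) := by
    rw [Ideal.smul_top_eq_map, Algebra.smul_def]
    exact hy
  have h4 := flat_colon J ε hε y h3
  rw [Ideal.smul_top_eq_map] at h4
  exact h4

/-! ### Localizations at primes -/

section Loc

variable {B : Type u} [CommRing B]

theorem exists_mul_mem_of_algebraMap_mem (p : Ideal B) [p.IsPrime] (I : Ideal B) (β : B)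
    (h : algebraMap B (Localization.AtPrime p) β ∈
      I.map (algebraMap B (Localization.AtPrime p))) :
    ∃ d, d ∉ p ∧ d * β ∈ I := by
  rw [IsLocalization.mem_map_algebraMap_iff p.primeCompl (Localization.AtPrime p)] at h
  obtain ⟨x, hs⟩ := h
  rw [← map_mul, IsLocalization.eq_iff_exists p.primeCompl (Localization.AtPrime p)] at hs
  obtain ⟨c, hc⟩ := hs
  refine ⟨(c : B) * (x.2 : B), ?_, ?_⟩
  · exact Ideal.mem_primeCompl_iff.mp (p.primeCompl.mul_mem c.2 x.2.2)
  · have e : (c : B) * (x.2 : B) * β = (c : B) * (x.1 : B) := by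
      rw [← hc]; ring
    rw [e]
    exact I.mul_mem_left _ x.1.2

theorem exists_pow_mul_mem [IsNoetherianRing B] (q : Ideal B) [q.IsPrime]
    (I' : Ideal (Localization.AtPrime q)) (c : Localization.AtPrime q)
    (h : ∀ (p : Ideal B) [p.IsPrime], p < q →
      ∃ d, d ∉ p ∧ algebraMap B (Localization.AtPrime q) d * c ∈ I') :
    ∃ n : ℕ, ∀ y ∈ maximalIdeal (Localization.AtPrime q) ^ n, y * c ∈ I' := by
  have hrad : maximalIdeal (Localization.AtPrime q) ≤ (Submodule.colon I' {c}).radical := by
    rw [Ideal.radical_eq_sInf]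
    apply le_sInf
    rintro J ⟨hKJ, hJ⟩
    haveI := hJ
    by_cases hJq : J.under B = q
    · rw [Localization.AtPrime.eq_maximalIdeal_iff_under_eq.mp hJq]
    · exfalso
      have hle : J.under B ≤ q := by
        have h2 : J.under B ≤ (maximalIdeal (Localization.AtPrime q)).under B :=
          Ideal.comap_mono (le_maximalIdeal hJ.ne_top)
        exact h2.trans (le_of_eq Localization.AtPrime.under_maximalIdeal)
      have hlt : J.under B < q := lt_of_le_of_ne hle hJq
      haveI : (J.under B).IsPrime :=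
        Ideal.comap_isPrime (algebraMap B (Localization.AtPrime q)) J
      obtain ⟨d, hd, hdc⟩ := h (J.under B) hlt
      have h3 : algebraMap B (Localization.AtPrime q) d ∈ Submodule.colon I' {c} :=
        Submodule.mem_colon_singleton.mpr (by rw [smul_eq_mul]; exact hdc)
      exact hd (Ideal.mem_comap.mpr (hKJ h3))
  obtain ⟨n, hn⟩ := Ideal.exists_pow_le_of_le_radical_of_fg hrad (IsNoetherian.noetherian _)
  refine ⟨n, fun y hy => ?_⟩
  have h4 := Submodule.mem_colon_singleton.mp (hn hy)
  rwa [smul_eq_mul] at h4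

theorem surjective_localRingHom {R S : Type u} [CommRing R] [CommRing S] (f : R →+* S)
    (hf : Function.Surjective f) (I : Ideal R) [I.IsPrime] (P : Ideal S) [P.IsPrime]
    (hIP : I = P.comap f) : Function.Surjective (Localization.localRingHom I P f hIP) := by
  subst hIP
  exact RingHom.surjective_localRingHom_of_surjective f hf P

theorem height_le_of_height_map_mk_le {K : Ideal B} (hK : K ≤ nilradical B) :
    ∀ (n : ℕ) (q : Ideal B) [q.IsPrime],
      (q.map (Ideal.Quotient.mk K)).height ≤ (n : ℕ∞) → q.height ≤ (n : ℕ∞) := by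
  have hKle : ∀ (p : Ideal B) [p.IsPrime], K ≤ p := fun p _ => hK.trans (nilradical_le_prime p)
  intro n
  induction n with
  | zero =>
    intro q _ h
    rw [Ideal.height_le_iff]
    intro p' hp' hlt
    exfalso
    haveI := hp'
    haveI : (p'.map (Ideal.Quotient.mk K)).IsPrime := FEq.map_mk_isPrime (hKle p')
    haveI : (q.map (Ideal.Quotient.mk K)).IsPrime := FEq.map_mk_isPrime (hKle q)
    have h1 := Ideal.height_add_one_le_of_lt_of_isPrime (FEq.map_mk_lt_map_mk (hKle p') hlt)
    have h2 : (1 : ℕ∞) ≤ ((0 : ℕ) : ℕ∞) := le_trans le_add_self (h1.trans h)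
    simp at h2
  | succ n ih =>
    intro q _ h
    rw [Ideal.height_le_iff]
    intro p' hp' hlt
    haveI := hp'
    haveI : (p'.map (Ideal.Quotient.mk K)).IsPrime := FEq.map_mk_isPrime (hKle p')
    haveI : (q.map (Ideal.Quotient.mk K)).IsPrime := FEq.map_mk_isPrime (hKle q)
    have h1 := Ideal.height_add_one_le_of_lt_of_isPrime (FEq.map_mk_lt_map_mk (hKle p') hlt)
    have h2 : (p'.map (Ideal.Quotient.mk K)).height ≤ (n : ℕ∞) :=
      enat_le_of_add_one_le (h1.trans h)
    exact lt_of_le_of_lt (ih p' h2) (by exact_mod_cast Nat.lt_succ_self n)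

/-- The comparison map `B_q → (B_red)_{q'}` and its properties. -/
theorem exists_red_hom (q : Ideal B) [q.IsPrime] (q' : Ideal (B ⧸ nilradical B)) [q'.IsPrime]
    (hcomap : q = q'.comap (Ideal.Quotient.mk (nilradical B))) :
    ∃ π : Localization.AtPrime q →+* Localization.AtPrime q', Function.Surjective π ∧
      (∀ x, π x ∈ maximalIdeal (Localization.AtPrime q') →
        x ∈ maximalIdeal (Localization.AtPrime q)) ∧
      (∀ x, π x = 0 ↔ x ∈ nilradical (Localization.AtPrime q)) := by
  haveI : IsReduced (B ⧸ nilradical B) :=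
    (Ideal.isRadical_iff_quotient_reduced _).mp (Ideal.radical_isRadical _)
  refine ⟨Localization.localRingHom q q' (Ideal.Quotient.mk (nilradical B)) hcomap,
    surjective_localRingHom _ Ideal.Quotient.mk_surjective q q' hcomap, ?_, ?_⟩
  · intro x hx
    rw [mem_maximalIdeal, mem_nonunits_iff] at hx ⊢
    exact fun hu => hx (hu.map _)
  · intro x
    constructor
    · intro hx
      obtain ⟨β, s, rfl⟩ := IsLocalization.exists_mk'_eq q.primeCompl x
      rw [Localization.localRingHom_mk', IsLocalization.mk'_eq_zero_iff] at hx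
      obtain ⟨m, hm⟩ := hx
      obtain ⟨t, ht⟩ := Ideal.Quotient.mk_surjective (m : B ⧸ nilradical B)
      have htq : t ∉ q := by
        intro h
        rw [hcomap] at h
        have h' : Ideal.Quotient.mk (nilradical B) t ∈ q' := Ideal.mem_comap.mp h
        rw [ht] at h'
        exact (Ideal.mem_primeCompl_iff.mp m.2) h'
      have h1 : t * β ∈ nilradical B := by
        rw [← Ideal.Quotient.eq_zero_iff_mem, map_mul, ht]
        exact hm
      have h2 : IsNilpotent (algebraMap B (Localization.AtPrime q) (t * β)) :=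
        (mem_nilradical.mp h1).map _
      rw [map_mul] at h2
      have hunit : IsUnit (algebraMap B (Localization.AtPrime q) t) :=
        IsLocalization.map_units (Localization.AtPrime q) (⟨t, htq⟩ : q.primeCompl)
      have h3 : algebraMap B (Localization.AtPrime q) β ∈ nilradical (Localization.AtPrime q) := by
        obtain ⟨k, hk⟩ := h2
        rw [mem_nilradical]
        refine ⟨k, ?_⟩
        rw [mul_pow] at hk
        exact (hunit.pow k).mul_right_eq_zero.mp hk
      rw [IsLocalization.mk'_eq_mul_mk'_one]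
      exact Ideal.mul_mem_right _ _ h3
    · intro hx
      have h1 : IsNilpotent (Localization.localRingHom q q' (Ideal.Quotient.mk (nilradical B))
          hcomap x) := (mem_nilradical.mp hx).map _
      exact h1.eq_zero

end Loc

/-! ### Lifting a regular pair along a surjection with nil kernel -/

theorem lift_regular_pair {L L' : Type u} [CommRing L] [CommRing L'] [IsLocalRing L]
    [IsLocalRing L'] (π : L →+* L') (hsurj : Function.Surjective π)
    (hloc : ∀ x, π x ∈ maximalIdeal L' → x ∈ maximalIdeal L)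
    (hker : ∀ x, π x = 0 ↔ x ∈ nilradical L)
    {a' b' : L'} (ha' : a' ∈ maximalIdeal L') (hb' : b' ∈ maximalIdeal L')
    (hareg' : ∀ x, a' * x = 0 → x = 0)
    (hbreg' : ∀ x, b' * x ∈ Ideal.span {a'} → x ∈ Ideal.span {a'}) :
    ∃ a ∈ maximalIdeal L, ∃ b ∈ maximalIdeal L,
      (∀ x, a * x ∈ nilradical L → x ∈ nilradical L) ∧
      ∀ x, b * x ∈ nilradical L ⊔ Ideal.span {a} → x ∈ nilradical L ⊔ Ideal.span {a} := by
  obtain ⟨a, rfl⟩ := hsurj a'
  obtain ⟨b, rfl⟩ := hsurj b'
  refine ⟨a, hloc a ha', b, hloc b hb', ?_, ?_⟩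
  · intro x hx
    rw [← hker] at hx ⊢
    rw [map_mul] at hx
    exact hareg' _ hx
  · intro x hx
    obtain ⟨ν, hν, w', hw', hνw⟩ := Submodule.mem_sup.mp hx
    obtain ⟨w, rfl⟩ := Ideal.mem_span_singleton'.mp hw'
    have h1 : π b * π x ∈ Ideal.span {π a} := by
      have e : π b * π x = π w * π a := by
        rw [← map_mul, ← map_mul, ← hνw, map_add, (hker ν).mpr hν, zero_add]
      rw [e]
      exact Ideal.mem_span_singleton'.mpr ⟨π w, rfl⟩
    obtain ⟨t', ht'⟩ := Ideal.mem_span_singleton'.mp (hbreg' _ h1)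
    obtain ⟨t, rfl⟩ := hsurj t'
    have h2 : x - t * a ∈ nilradical L := by
      rw [← hker, map_sub, map_mul, ht', sub_self]
    have e : x = (x - t * a) + t * a := by ring
    rw [e]
    exact Submodule.add_mem_sup h2 (Ideal.mem_span_singleton'.mpr ⟨t, rfl⟩)

/-! ### Depth: socle and regular pairs -/

theorem noSocle_bot_of_one_le_depth {L : Type u} [CommRing L] [IsLocalRing L]
    [IsNoetherianRing L] (h : (1 : ℕ∞) ≤ LocCoh.depth L L) : NoSocle (⊥ : Ideal L) := by
  have h' : ((1 : ℕ) : ℕ∞) ≤ LocCoh.idealDepth (maximalIdeal L) L := by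
    rw [Nat.cast_one]; exact h
  obtain ⟨rs, hlen, hreg, hmem⟩ := Depth.exists_of_le_idealDepth (maximalIdeal L) L
    (Depth.maximalIdeal_smul_top_ne_top L) 1 h'
  obtain ⟨x, rfl⟩ := List.length_eq_one_iff.mp hlen
  have hx : x ∈ maximalIdeal L := hmem x (by simp)
  have hxreg : IsSMulRegular L x :=
    ((RingTheory.Sequence.isWeaklyRegular_cons_iff L x []).mp hreg).1
  intro z hz
  have h0 : x * z = 0 := Ideal.mem_bot.mp (hz x hx)
  rw [Ideal.mem_bot]
  apply hxreg
  show x • z = x • (0 : L)
  rw [smul_zero, smul_eq_mul, h0]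

theorem exists_regular_pair {R : Type u} [CommRing R] [IsLocalRing R] [IsNoetherianRing R]
    (h : (2 : ℕ∞) ≤ LocCoh.depth R R) :
    ∃ a ∈ maximalIdeal R, ∃ b ∈ maximalIdeal R, (∀ x : R, a * x = 0 → x = 0) ∧
      ∀ x : R, b * x ∈ Ideal.span {a} → x ∈ Ideal.span {a} := by
  have h' : ((2 : ℕ) : ℕ∞) ≤ LocCoh.idealDepth (maximalIdeal R) R := by
    rw [Nat.cast_ofNat]; exact h
  obtain ⟨rs, hlen, hreg, hmem⟩ := Depth.exists_of_le_idealDepth (maximalIdeal R) R
    (Depth.maximalIdeal_smul_top_ne_top R) 2 h'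
  obtain ⟨a, b, rfl⟩ := List.length_eq_two.mp hlen
  obtain ⟨hareg, hreg2⟩ := (RingTheory.Sequence.isWeaklyRegular_cons_iff R a [b]).mp hreg
  have hbreg : IsSMulRegular (QuotSMulTop a R) b :=
    ((RingTheory.Sequence.isWeaklyRegular_cons_iff (QuotSMulTop a R) b []).mp hreg2).1
  refine ⟨a, hmem a (by simp), b, hmem b (by simp), ?_, ?_⟩
  · intro x hx
    apply hareg
    show a • x = a • (0 : R)
    rw [smul_zero, smul_eq_mul, hx]
  · intro x hx
    obtain ⟨t, ht⟩ := Ideal.mem_span_singleton'.mp hx
    have h0 : (Submodule.Quotient.mk (b * x) : QuotSMulTop a R) = 0 := by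
      rw [Submodule.Quotient.mk_eq_zero, Submodule.mem_smul_pointwise_iff_exists]
      exact ⟨t, Submodule.mem_top, by rw [smul_eq_mul, mul_comm]; exact ht⟩
    have h1 : b • (Submodule.Quotient.mk x : QuotSMulTop a R) = b • (0 : QuotSMulTop a R) := by
      rw [smul_zero, ← Submodule.Quotient.mk_smul, smul_eq_mul]
      exact h0
    have h2 : (Submodule.Quotient.mk x : QuotSMulTop a R) = 0 := hbreg h1
    rw [Submodule.Quotient.mk_eq_zero, Submodule.mem_smul_pointwise_iff_exists] at h2
    obtain ⟨t', _, ht'⟩ := h2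
    exact Ideal.mem_span_singleton'.mpr ⟨t', by rw [← ht', smul_eq_mul, mul_comm]⟩

theorem min_le_depth_of_hasSk {R : Type u} [CommRing R] [IsNoetherianRing R] (k : ℕ)
    (hSk : LocCoh.HasSk k R R) (p : Ideal R) [p.IsPrime] :
    min (k : ℕ∞) p.height ≤
      LocCoh.depth (Localization.AtPrime p) (Localization.AtPrime p) := by
  have h := (Depth.hasSk_self_iff k).mp hSk p
  rw [IsLocalization.AtPrime.ringKrullDim_eq_height p (Localization.AtPrime p)] at h
  exact (Fib.sk_iff k _ _).mp h

/-! ### Globalization -/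

section Global

variable {A : Type u} [CommRing A] [IsLocalRing A] {B : Type u} [CommRing B] [Algebra A B]

theorem map_map_algebraMap (p : Ideal B) [p.IsPrime] (K : Ideal A) :
    (K.map (algebraMap A B)).map (algebraMap B (Localization.AtPrime p)) =
      K.map (algebraMap A (Localization.AtPrime p)) := by
  rw [IsScalarTower.algebraMap_eq A B (Localization.AtPrime p), Ideal.map_map]

theorem map_le_nilradical (hnil : IsNilpotent (maximalIdeal A)) :
    (maximalIdeal A).map (algebraMap A B) ≤ nilradical B := by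
  obtain ⟨k, hk⟩ := hnil
  intro w hw
  rw [mem_nilradical]
  refine ⟨k, ?_⟩
  have h1 : w ^ k ∈ ((maximalIdeal A).map (algebraMap A B)) ^ k := Ideal.pow_mem_pow hw k
  rw [← Ideal.map_pow, hk, Ideal.zero_eq_bot, Ideal.map_bot, Ideal.mem_bot] at h1
  exact h1

theorem comap_eq_maximalIdeal (hnil : IsNilpotent (maximalIdeal A)) (q : Ideal B) [q.IsPrime] :
    q.comap (algebraMap A B) = maximalIdeal A := by
  obtain ⟨k, hk⟩ := hnil
  haveI hprime : (q.comap (algebraMap A B)).IsPrime := Ideal.comap_isPrime _ _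
  apply le_antisymm
  · exact le_maximalIdeal hprime.ne_top
  · intro x hx
    have h1 : x ^ k ∈ maximalIdeal A ^ k := Ideal.pow_mem_pow hx k
    rw [hk, Ideal.zero_eq_bot, Ideal.mem_bot] at h1
    apply Ideal.IsPrime.mem_of_pow_mem hprime k
    rw [h1]
    exact Ideal.zero_mem _

theorem locColon (p : Ideal B) [p.IsPrime] [Module.Flat A (Localization.AtPrime p)]
    (J : Ideal A) (ε : A) (hε : ε ∉ J) (β d0 : B) (hd0 : d0 ∉ p)
    (h : d0 * (algebraMap A B ε * β) ∈ J.map (algebraMap A B)) :
    ∃ d, d ∉ p ∧ d * β ∈ (maximalIdeal A).map (algebraMap A B) := by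
  have h1 : algebraMap B (Localization.AtPrime p) (d0 * (algebraMap A B ε * β)) ∈
      J.map (algebraMap A (Localization.AtPrime p)) := by
    rw [← map_map_algebraMap p J]
    exact Ideal.mem_map_of_mem _ h
  have hunit : IsUnit (algebraMap B (Localization.AtPrime p) d0) :=
    IsLocalization.map_units (Localization.AtPrime p) (⟨d0, hd0⟩ : p.primeCompl)
  have e : algebraMap B (Localization.AtPrime p) (d0 * (algebraMap A B ε * β)) =
      algebraMap B (Localization.AtPrime p) d0 *
        (algebraMap A (Localization.AtPrime p) ε * algebraMap B (Localization.AtPrime p) β) := by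
    rw [map_mul, map_mul, ← IsScalarTower.algebraMap_apply]
  rw [e] at h1
  have h2 : algebraMap A (Localization.AtPrime p) ε * algebraMap B (Localization.AtPrime p) β ∈
      J.map (algebraMap A (Localization.AtPrime p)) :=
    (Ideal.unit_mul_mem_iff_mem _ hunit).mp h1
  have h4 := flat_colon_algebra J ε hε _ h2
  rw [← map_map_algebraMap p] at h4
  exact exists_mul_mem_of_algebraMap_mem p _ β h4

theorem redLoc (p : Ideal B) [p.IsPrime]
    (hred : IsReduced (Localization.AtPrime p ⧸
      (maximalIdeal A).map (algebraMap A (Localization.AtPrime p))))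
    (β : B) (hβ : β ∈ nilradical B) :
    ∃ d, d ∉ p ∧ d * β ∈ (maximalIdeal A).map (algebraMap A B) := by
  haveI := hred
  have hnilp : IsNilpotent β := mem_nilradical.mp hβ
  have h1 : IsNilpotent (Ideal.Quotient.mk
      ((maximalIdeal A).map (algebraMap A (Localization.AtPrime p)))
      (algebraMap B (Localization.AtPrime p) β)) :=
    (hnilp.map (algebraMap B (Localization.AtPrime p))).map _
  have h2 := h1.eq_zero
  rw [Ideal.Quotient.eq_zero_iff_mem, ← map_map_algebraMap p] at h2
  exact exists_mul_mem_of_algebraMap_mem p _ β h2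

/-- Flat over `A` with reduced closed fibre at the prime `q`. -/
def Good (A : Type u) [CommRing A] [IsLocalRing A] (B : Type u) [CommRing B] [Algebra A B]
    (q : Ideal B) [q.IsPrime] : Prop :=
  Module.Flat A (Localization.AtPrime q) ∧
    IsReduced (Localization.AtPrime q ⧸
      (maximalIdeal A).map (algebraMap A (Localization.AtPrime q)))

theorem good_of_codim (q : Ideal B) [q.IsPrime]
    (hq : q.comap (algebraMap A B) = maximalIdeal A)
    (h : Module.Flat A (Localization.AtPrime q) ∧ IsReduced (EGA4.FibLocRing A B q)) :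
    Good A B q := by
  refine ⟨h.1, ?_⟩
  have h2 : IsReduced (Localization.AtPrime q ⧸
      (q.comap (algebraMap A B)).map (algebraMap A (Localization.AtPrime q))) := h.2
  rw [hq] at h2
  exact h2

theorem exists_pow_mul_mk'_mem [IsNoetherianRing B] (q : Ideal B) [q.IsPrime] (β : B)
    (s : q.primeCompl)
    (h : ∀ (p : Ideal B) [p.IsPrime], p < q →
      ∃ d, d ∉ p ∧ d * β ∈ (maximalIdeal A).map (algebraMap A B)) :
    ∃ n : ℕ, ∀ y ∈ maximalIdeal (Localization.AtPrime q) ^ n,
      y * IsLocalization.mk' (Localization.AtPrime q) β s ∈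
        (maximalIdeal A).map (algebraMap A (Localization.AtPrime q)) := by
  apply exists_pow_mul_mem q
  intro p _ hlt
  obtain ⟨d, hd, hdβ⟩ := h p hlt
  refine ⟨d, hd, ?_⟩
  rw [IsLocalization.mk'_eq_mul_mk'_one, ← mul_assoc, ← map_mul, ← map_map_algebraMap q]
  exact Ideal.mul_mem_right _ _ (Ideal.mem_map_of_mem _ hdβ)

theorem good_step [IsNoetherianRing A] [IsNoetherianRing B]
    (hnil : IsNilpotent (maximalIdeal A))
    (hS1 : LocCoh.HasSk 1 B B)
    (hS2 : LocCoh.HasSk 2 (B ⧸ nilradical B) (B ⧸ nilradical B))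
    (q : Ideal B) [q.IsPrime] (hq2 : 2 ≤ q.height)
    (ih : ∀ (p : Ideal B) [p.IsPrime], p < q → Good A B p) : Good A B q := by
  have hNq : nilradical B ≤ q := nilradical_le_prime q
  haveI hq'prime : (q.map (Ideal.Quotient.mk (nilradical B))).IsPrime := FEq.map_mk_isPrime hNq
  have hcomap : q = (q.map (Ideal.Quotient.mk (nilradical B))).comap
      (Ideal.Quotient.mk (nilradical B)) := (FEq.comap_map_mk hNq).symm
  have hd1 : (1 : ℕ∞) ≤ LocCoh.depth (Localization.AtPrime q) (Localization.AtPrime q) := by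
    have h := min_le_depth_of_hasSk 1 hS1 q
    have h1le : ((1 : ℕ) : ℕ∞) ≤ q.height := by
      rw [Nat.cast_one]
      exact le_trans one_le_two hq2
    rw [min_eq_left h1le, Nat.cast_one] at h
    exact h
  have hq'2 : (2 : ℕ∞) ≤ (q.map (Ideal.Quotient.mk (nilradical B))).height := by
    rcases le_one_or_two_le (q.map (Ideal.Quotient.mk (nilradical B))).height with h | h
    · exfalso
      have h1 : q.height ≤ ((1 : ℕ) : ℕ∞) :=
        height_le_of_height_map_mk_le (K := nilradical B) le_rfl 1 q
          (by rw [Nat.cast_one]; exact h)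
      have h3 : (2 : ℕ) ≤ 1 := by exact_mod_cast hq2.trans h1
      omega
    · exact h
  have hd2 : (2 : ℕ∞) ≤
      LocCoh.depth (Localization.AtPrime (q.map (Ideal.Quotient.mk (nilradical B))))
        (Localization.AtPrime (q.map (Ideal.Quotient.mk (nilradical B)))) := by
    have h := min_le_depth_of_hasSk 2 hS2 (q.map (Ideal.Quotient.mk (nilradical B)))
    have h2le : ((2 : ℕ) : ℕ∞) ≤ (q.map (Ideal.Quotient.mk (nilradical B))).height := by
      exact_mod_cast hq'2
    rw [min_eq_left h2le] at h
    exact_mod_cast h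
  obtain ⟨π, hsurj, hloc, hker⟩ :=
    exists_red_hom q (q.map (Ideal.Quotient.mk (nilradical B))) hcomap
  obtain ⟨a', ha', b', hb', hareg', hbreg'⟩ := exists_regular_pair hd2
  obtain ⟨a, ha, b, hb, hareg, hbreg⟩ :=
    lift_regular_pair π hsurj hloc hker ha' hb' hareg' hbreg'
  have H1 := noSocle_bot_of_one_le_depth hd1
  have E1 : ∀ (J : Ideal A) (ε : A), ε ∉ J → ∀ c : Localization.AtPrime q,
      algebraMap A (Localization.AtPrime q) ε * c ∈
        J.map (algebraMap A (Localization.AtPrime q)) →
      ∃ n : ℕ, ∀ y ∈ maximalIdeal (Localization.AtPrime q) ^ n,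
        y * c ∈ (maximalIdeal A).map (algebraMap A (Localization.AtPrime q)) := by
    intro J ε hε c hc
    obtain ⟨β, s, rfl⟩ := IsLocalization.exists_mk'_eq q.primeCompl c
    have h1 : algebraMap B (Localization.AtPrime q) (algebraMap A B ε * β) ∈
        (J.map (algebraMap A B)).map (algebraMap B (Localization.AtPrime q)) := by
      rw [map_map_algebraMap q J, map_mul, ← IsScalarTower.algebraMap_apply,
        ← IsLocalization.mk'_spec (Localization.AtPrime q) β s, ← mul_assoc]
      exact Ideal.mul_mem_right _ _ hc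
    obtain ⟨d0, hd0, hd0β⟩ := exists_mul_mem_of_algebraMap_mem q _ _ h1
    apply exists_pow_mul_mk'_mem q β s
    intro p _ hlt
    haveI : Module.Flat A (Localization.AtPrime p) := (ih p hlt).1
    exact locColon p J ε hε β d0 (fun h => hd0 (hlt.le h)) hd0β
  have E2 : ∀ x ∈ nilradical (Localization.AtPrime q), ∃ n : ℕ,
      ∀ y ∈ maximalIdeal (Localization.AtPrime q) ^ n,
        y * x ∈ (maximalIdeal A).map (algebraMap A (Localization.AtPrime q)) := by
    intro x hx
    obtain ⟨β, s, rfl⟩ := IsLocalization.exists_mk'_eq q.primeCompl x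
    have h1 : IsNilpotent (algebraMap B (Localization.AtPrime q) β) := by
      rw [← IsLocalization.mk'_spec (Localization.AtPrime q) β s]
      exact mem_nilradical.mp (Ideal.mul_mem_right _ _ hx)
    obtain ⟨k, hk⟩ := h1
    rw [← map_pow, IsLocalization.map_eq_zero_iff q.primeCompl (Localization.AtPrime q)] at hk
    obtain ⟨t, ht⟩ := hk
    have htβ : (t : B) * β ∈ nilradical B := by
      rw [mem_nilradical]
      refine ⟨k + 1, ?_⟩
      have e : ((t : B) * β) ^ (k + 1) = (t : B) ^ k * β * ((t : B) * β ^ k) := by ring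
      rw [e, ht, mul_zero]
    apply exists_pow_mul_mk'_mem q β s
    intro p hp hlt
    haveI := hp
    obtain ⟨d, hd, hdβ⟩ := redLoc p (ih p hlt).2 ((t : B) * β) htβ
    refine ⟨d * t, ?_, by rw [mul_assoc]; exact hdβ⟩
    intro hmem
    rcases hp.mem_or_mem hmem with h | h
    · exact hd h
    · exact (Ideal.mem_primeCompl_iff.mp t.2) (hlt.le h)
  obtain ⟨hflat, heq⟩ := local_main hnil H1 ha hb hareg hbreg E1 E2
  refine ⟨hflat, ?_⟩
  have hrad : ((maximalIdeal A).map (algebraMap A (Localization.AtPrime q))).IsRadical := by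
    rw [heq]
    exact Ideal.radical_isRadical _
  exact (Ideal.isRadical_iff_quotient_reduced _).mp hrad

theorem good_all [IsNoetherianRing A] [IsNoetherianRing B]
    (hnil : IsNilpotent (maximalIdeal A))
    (hS1 : LocCoh.HasSk 1 B B)
    (hS2 : LocCoh.HasSk 2 (B ⧸ nilradical B) (B ⧸ nilradical B))
    (hcodim : ∀ (q : Ideal B) [q.IsPrime], q.height ≤ 1 →
      Module.Flat A (Localization.AtPrime q) ∧ IsReduced (EGA4.FibLocRing A B q)) :
    ∀ (n : ℕ) (q : Ideal B) [q.IsPrime], q.height ≤ (n : ℕ∞) → Good A B q := by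
  intro n
  induction n using Nat.strong_induction_on with
  | _ n IH =>
    intro q _ hqn
    rcases le_one_or_two_le q.height with h | h
    · exact good_of_codim q (comap_eq_maximalIdeal hnil q) (hcodim q h)
    · apply good_step hnil hS1 hS2 q h
      intro p _ hlt
      have h1 := Ideal.height_add_one_le_of_lt_of_isPrime hlt
      have hn2 : 2 ≤ n := by
        have h3 : ((2 : ℕ) : ℕ∞) ≤ (n : ℕ∞) := by exact_mod_cast h.trans hqn
        exact_mod_cast h3
      have hn1 : n = (n - 1) + 1 := by omega
      have h3 : p.height + 1 ≤ (((n - 1) + 1 : ℕ) : ℕ∞) := by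
        rw [← hn1]
        exact h1.trans hqn
      exact IH (n - 1) (by omega) p (enat_le_of_add_one_le h3)

theorem good [IsNoetherianRing A] [IsNoetherianRing B]
    (hnil : IsNilpotent (maximalIdeal A))
    (hS1 : LocCoh.HasSk 1 B B)
    (hS2 : LocCoh.HasSk 2 (B ⧸ nilradical B) (B ⧸ nilradical B))
    (hcodim : ∀ (q : Ideal B) [q.IsPrime], q.height ≤ 1 →
      Module.Flat A (Localization.AtPrime q) ∧ IsReduced (EGA4.FibLocRing A B q))
    (q : Ideal B) [q.IsPrime] : Good A B q := by
  obtain ⟨n, hn⟩ := ENat.ne_top_iff_exists.mp (Ideal.height_ne_top_of_isPrime (I := q))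
  exact good_all hnil hS1 hS2 hcodim n q (le_of_eq hn.symm)

theorem flat_of_forall_flat
    (h : ∀ (P : Ideal B) [P.IsMaximal], Module.Flat A (Localization.AtPrime P)) :
    Module.Flat A B :=
  Module.flat_of_isLocalized_maximal B B (fun P _ => Localization.AtPrime P)
    (fun P _ => Algebra.linearMap B (Localization.AtPrime P)) h

theorem nilradical_le_map
    (h : ∀ (P : Ideal B) [P.IsMaximal], IsReduced (Localization.AtPrime P ⧸
      (maximalIdeal A).map (algebraMap A (Localization.AtPrime P)))) :
    nilradical B ≤ (maximalIdeal A).map (algebraMap A B) := by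
  intro β hβ
  by_contra hnot
  have hne : Submodule.colon ((maximalIdeal A).map (algebraMap A B)) {β} ≠ ⊤ := by
    intro htop
    apply hnot
    have h1 : (1 : B) ∈ Submodule.colon ((maximalIdeal A).map (algebraMap A B)) {β} := by
      rw [htop]; exact Submodule.mem_top
    have h2 := Submodule.mem_colon_singleton.mp h1
    rwa [one_smul] at h2
  obtain ⟨P, hP, hle⟩ := Ideal.exists_le_maximal _ hne
  haveI := hP
  obtain ⟨d, hd, hdβ⟩ := redLoc P (h P) β hβ
  apply hd
  apply hle
  exact Submodule.mem_colon_singleton.mpr (by rw [smul_eq_mul]; exact hdβ)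

end Global

/-! ### The two theorems -/

section Main

variable {A : Type u} [CommRing A] [IsArtinianRing A] [IsLocalRing A]
  (B : Type u) [CommRing B] [Algebra A B] [IsNoetherianRing B]

theorem isNilpotent_maximalIdeal : IsNilpotent (maximalIdeal A) := by
  have h := IsArtinianRing.isNilpotent_jacobson_bot (R := A)
  rwa [IsLocalRing.jacobson_eq_maximalIdeal ⊥ bot_ne_top] at h

theorem flat_main
    (hS1 : LocCoh.HasSk 1 B B)
    (hS2 : LocCoh.HasSk 2 (B ⧸ nilradical B) (B ⧸ nilradical B))
    (hcodim : ∀ (q : Ideal B) [q.IsPrime], q.height ≤ 1 →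
      Module.Flat A (Localization.AtPrime q) ∧ IsReduced (EGA4.FibLocRing A B q)) :
    Module.Flat A B :=
  flat_of_forall_flat
    (fun P _ => (good isNilpotent_maximalIdeal hS1 hS2 hcodim P).1)

theorem isReduced_main
    (hS1 : LocCoh.HasSk 1 B B)
    (hS2 : LocCoh.HasSk 2 (B ⧸ nilradical B) (B ⧸ nilradical B))
    (hcodim : ∀ (q : Ideal B) [q.IsPrime], q.height ≤ 1 →
      Module.Flat A (Localization.AtPrime q) ∧ IsReduced (EGA4.FibLocRing A B q)) :
    IsReduced (B ⧸ (maximalIdeal A).map (algebraMap A B)) := by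
  have hnil : IsNilpotent (maximalIdeal A) := isNilpotent_maximalIdeal
  have heq : (maximalIdeal A).map (algebraMap A B) = nilradical B :=
    le_antisymm (map_le_nilradical hnil)
      (nilradical_le_map (fun P _ => (good hnil hS1 hS2 hcodim P).2))
  have hrad : ((maximalIdeal A).map (algebraMap A B)).IsRadical := by
    rw [heq]
    exact Ideal.radical_isRadical _
  exact (Ideal.isRadical_iff_quotient_reduced _).mp hrad

end Main

end Groth.Agent.Lead.FamF
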