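import Mathlib
import Groth.Prelude.Def_FDesc
import Groth.Agent.Lib.Lead.EmbPts
import Groth.Agent.Lib.Helper13.InvTensor
import Groth.Agent.Lib.Helper13.InvQCoh

/-!
# Associated points and flatness (lead)

`maximalIdeal_isAssociatedPrime_of_flat`: `A → B` local, `A` Noetherian, `M` a `B`-module flat over
`A` with `𝔪_B ∈ Ass_B M`; then `𝔪_A ∈ Ass_A A`.

`eq_of_specializes_of_flat`: flat modules have their associated points over maximal points, when
the base has no embedded points.
-/

set_option autoImplicit false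
set_option linter.style.haveILetI false

universe u

open CategoryTheory AlgebraicGeometry Opposite TopologicalSpace IsLocalRing
open Groth.Agent.Helper13.QCoh Groth.Agent.Helper13.FinType Groth.Agent.Helper13.Inv

namespace Groth.Agent.Lead.FlatAss

section Alg

theorem maximalIdeal_isAssociatedPrime_of_flat {A B : Type u} [CommRing A] [CommRing B]
    [IsLocalRing A] [IsNoetherianRing A] [IsLocalRing B] [Algebra A B]
    [IsLocalHom (algebraMap A B)] (M : Type u) [AddCommGroup M] [Module A M] [Module B M]
    [IsScalarTower A B M] [Module.Flat A M]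
    (hM : IsAssociatedPrime (maximalIdeal B) M) : IsAssociatedPrime (maximalIdeal A) A := by
  by_contra hnot
  -- a regular element of `𝔪_A`
  have hex : ∃ t ∈ maximalIdeal A, IsSMulRegular A t := by
    by_contra hcon
    push Not at hcon
    obtain ⟨p, hp, hle⟩ :=
      Groth.Agent.Lead.Depth.exists_le_associatedPrime_of_forall_not_regular' A (maximalIdeal A) hcon
    have hpp : p.IsPrime := hp.isPrime
    have : p = maximalIdeal A :=
      le_antisymm (IsLocalRing.le_maximalIdeal hpp.ne_top) hle
    exact hnot (this ▸ hp)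
  obtain ⟨t, htm, htreg⟩ := hex
  have ht0 : t ∈ nonZeroDivisors A := by
    rw [mem_nonZeroDivisors_iff_right]
    intro a ha
    apply htreg
    simp only [smul_eq_mul, mul_zero]
    rw [mul_comm]
    exact ha
  obtain ⟨-, g, hg⟩ := hM
  have hg0 : g ≠ 0 := by
    rintro rfl
    have h1 : (1 : B) ∈ maximalIdeal B := by
      rw [hg]
      apply Ideal.le_radical
      rw [Submodule.mem_colon_singleton, smul_zero]
      exact Submodule.zero_mem _
    exact (IsLocalRing.maximalIdeal.isMaximal _).ne_top ((Ideal.eq_top_iff_one _).2 h1)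
  have htB : algebraMap A B t ∈ maximalIdeal B := by
    rw [IsLocalRing.mem_maximalIdeal, mem_nonunits_iff]
    intro hu
    have : IsUnit t := IsLocalHom.map_nonunit (f := algebraMap A B) t hu
    exact (IsLocalRing.mem_maximalIdeal t).1 htm this
  rw [hg] at htB
  obtain ⟨n, hn⟩ := htB
  rw [Submodule.mem_colon_singleton, Submodule.mem_bot] at hn
  have hn' : (t ^ n) • g = 0 := by
    rw [← hn, ← map_pow, algebraMap_smul]
  have hreg : IsSMulRegular M (t ^ n) :=
    Module.Flat.isSMulRegular_of_nonZeroDivisors (pow_mem ht0 n)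
  exact hg0 (hreg (by
    change t ^ n • g = t ^ n • (0 : M)
    rw [hn', smul_zero]))

end Alg

section Sch

variable {X Y : Scheme.{u}}

/-- Flat modules: associated points lie over maximal points when the base has no embedded
associated points. -/
theorem eq_of_specializes_of_flat (f : X ⟶ Y) [IsLocallyNoetherian Y]
    (hY : AssSch.NoEmbedded (Coh.structureModule Y)) (F : X.Modules)
    (hfl : FlatMod.IsFlatOver f F) (x : X) (hx : x ∈ AssSch.Ass F) (y : Y) (hy : y ⤳ f x) :
    y = f x := by
  have hO : PicF.IsInvertible (Coh.structureModule Y) := isInvertible_structureModule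
  haveI : (Coh.structureModule Y).IsQuasicoherent := isQuasicoherent_of_isInvertible _ hO
  -- `f x` is an associated point of `Y`
  have hA : IsAssociatedPrime (maximalIdeal (Y.presheaf.stalk (f x))) (Y.presheaf.stalk (f x)) := by
    letI alg : Algebra (Y.presheaf.stalk (f x)) (X.presheaf.stalk x) :=
      (f.stalkMap x).hom.toAlgebra
    letI := FlatMod.moduleStalkOver f F x
    haveI : IsScalarTower (Y.presheaf.stalk (f x)) (X.presheaf.stalk x) (F.presheaf.stalk x) :=
      IsScalarTower.of_algebraMap_smul (fun _ _ => rfl)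
    haveI : IsLocalHom (algebraMap (Y.presheaf.stalk (f x)) (X.presheaf.stalk x)) :=
      (inferInstance : IsLocalHom (f.stalkMap x).hom)
    haveI : Module.Flat (Y.presheaf.stalk (f x)) (F.presheaf.stalk x) := hfl x
    exact maximalIdeal_isAssociatedPrime_of_flat (F.presheaf.stalk x) hx
  have hfx : Curv2.IsAssPoint (Coh.structureModule Y) (f x) :=
    (LinearEquiv.isAssociatedPrime_iff (Groth.Agent.Helper13.WeakAss.unitStalkEquiv (f x))).2 hA
  -- all associated primes of the local ring at `f x` are maximal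
  have hAss := (Groth.Agent.Lead.EmbPts.forall_ass_eq_iff (Coh.structureModule Y) (f x)).2
    (fun y' hy' hsp => (hY (f x) hfx y' hy' hsp).symm)
  rw [LinearEquiv.AssociatedPrimes.eq (Groth.Agent.Helper13.WeakAss.unitStalkEquiv (f x))] at hAss
  -- the local ring at `f x` has a unique prime
  have huniq : ∀ P : Ideal (Y.presheaf.stalk (f x)), P.IsPrime →
      P = maximalIdeal (Y.presheaf.stalk (f x)) := by
    intro P hP
    obtain ⟨Q, hQmin, hQP⟩ :=
      Ideal.exists_minimalPrimes_le (bot_le : (⊥ : Ideal (Y.presheaf.stalk (f x))) ≤ P)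
    have hann : Module.annihilator (Y.presheaf.stalk (f x)) (Y.presheaf.stalk (f x)) = ⊥ :=
      Module.annihilator_eq_bot.mpr
        ((faithfulSMul_iff_algebraMap_injective _ _).mpr fun {a₁ a₂} a ↦ a)
    have hQass : Q ∈ associatedPrimes (Y.presheaf.stalk (f x)) (Y.presheaf.stalk (f x)) :=
      Module.associatedPrimes.minimalPrimes_annihilator_subset_associatedPrimes _ _
        (hann.symm ▸ hQmin)
    have hQ := hAss Q hQass
    exact le_antisymm (IsLocalRing.le_maximalIdeal hP.ne_top) (hQ ▸ hQP)
  -- an affine neighbourhood of `f x`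
  obtain ⟨_, ⟨V, hV, rfl⟩, hxV, -⟩ :=
    Y.isBasis_affineOpens.exists_subset_of_mem_open (Set.mem_univ (f x)) isOpen_univ
  have hV' : IsAffineOpen V := hV
  have hyV : y ∈ V := hy.mem_open V.isOpen hxV
  obtain ⟨x', hx'⟩ : ∃ x' : V, (x' : Y) = f x := ⟨⟨f x, hxV⟩, rfl⟩
  obtain ⟨y', hy'⟩ : ∃ y' : V, (y' : Y) = y := ⟨⟨y, hyV⟩, rfl⟩
  have hle : (hV'.primeIdealOf y').asIdeal ≤ (hV'.primeIdealOf x').asIdeal := by
    rw [← Groth.Agent.Lead.EmbPts.specializes_iff_primeIdealOf_le hV' y' x', hx', hy']
    exact hy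
  haveI hloc : IsLocalization.AtPrime (Y.presheaf.stalk (x' : Y)) (hV'.primeIdealOf x').asIdeal :=
    hV'.isLocalization_stalk x'
  have hdisj : Disjoint ((hV'.primeIdealOf x').asIdeal.primeCompl : Set Γ(Y, V))
      ((hV'.primeIdealOf y').asIdeal : Set Γ(Y, V)) := by
    rw [Set.disjoint_left]
    intro a ha hay
    exact ha (hle hay)
  have hPprime : ((hV'.primeIdealOf y').asIdeal.map
      (algebraMap Γ(Y, V) (Y.presheaf.stalk (x' : Y)))).IsPrime :=
    IsLocalization.isPrime_of_isPrime_disjoint (hV'.primeIdealOf x').asIdeal.primeCompl _ _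
      (hV'.primeIdealOf y').isPrime hdisj
  have hcomap : ((hV'.primeIdealOf y').asIdeal.map
      (algebraMap Γ(Y, V) (Y.presheaf.stalk (x' : Y)))).comap
      (algebraMap Γ(Y, V) (Y.presheaf.stalk (x' : Y))) = (hV'.primeIdealOf y').asIdeal :=
    IsLocalization.comap_map_of_isPrime_disjoint (hV'.primeIdealOf x').asIdeal.primeCompl _
      (hV'.primeIdealOf y').isPrime hdisj
  have huniq' : ∀ P : Ideal (Y.presheaf.stalk (x' : Y)), P.IsPrime →
      P = maximalIdeal (Y.presheaf.stalk (x' : Y)) := by
    rw [hx']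
    exact huniq
  have hPeq := huniq' _ hPprime
  rw [hPeq, Groth.Agent.Lead.EmbPts.comap_maximalIdeal_stalk hV' x'] at hcomap
  have hpe : hV'.primeIdealOf y' = hV'.primeIdealOf x' := PrimeSpectrum.ext hcomap.symm
  calc y = (y' : Y) := hy'.symm
    _ = hV'.fromSpec (hV'.primeIdealOf y') := (hV'.fromSpec_primeIdealOf y').symm
    _ = hV'.fromSpec (hV'.primeIdealOf x') := by rw [hpe]
    _ = (x' : Y) := hV'.fromSpec_primeIdealOf x'
    _ = f x := hx'

end Sch

end Groth.Agent.Lead.FlatAss
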