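import Mathlib
import Groth.Agent.Lib.Lead.Hartogs2

/-!
# Hartogs for coherent modules, relative version (lead)
-/

set_option autoImplicit false
set_option linter.style.haveILetI false

universe u

open CategoryTheory AlgebraicGeometry Opposite TopologicalSpace LocCoh IsLocalRing
open Groth.Agent.Helper13.QCoh Groth.Agent.Helper13.FinType Groth.Agent.Helper13.QCohLoc
  Groth.Agent.Helper13.LocFree

namespace Groth.Agent.Lead.Hartogs

open Groth.Agent.Lead.Depth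

variable {X : Scheme.{u}}

/-- **Hartogs for coherent modules, relative version**: the depth condition is only required at
the points of `V` outside `U`. -/
theorem bijective_res_rel [IsLocallyNoetherian X] (F : X.Modules) [F.IsQuasicoherent]
    [SheafOfModules.IsFiniteType (R := X.ringCatSheaf) F] (U V : X.Opens)
    (hdepth : ∀ x : X, x ∈ V → x ∉ U →
      2 ≤ LocCoh.depth (X.presheaf.stalk x) (F.presheaf.stalk x)) :
    Function.Bijective (F.presheaf.map (homOfLE (inf_le_left : V ⊓ U ≤ V)).op) := by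
  -- the affine case
  have haff : ∀ W : X.Opens, IsAffineOpen W → W ≤ V →
      Function.Bijective (F.presheaf.map (homOfLE (inf_le_left : W ⊓ U ≤ W)).op) := by
    intro W hW hWV
    haveI : IsNoetherianRing Γ(X, W) := IsLocallyNoetherian.component_noetherian ⟨W, hW⟩
    exact bijective_res_affine F W hW (W ⊓ U) inf_le_left
      (fun x hxW hxU => hdepth x (hWV hxW) (fun hx => hxU ⟨hxW, hx⟩))
  -- affine opens inside `V` cover `V`
  have hcov : ∀ V' : X.Opens, V' ≤ ⨆ W : {W : X.Opens // IsAffineOpen W ∧ W ≤ V'}, W.1 := by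
    intro V' x hx
    obtain ⟨W, hW, hxW, hWV⟩ := exists_isAffineOpen_mem_and_subset (x := x) (U := V') hx
    exact Opens.mem_iSup.2 ⟨⟨W, hW, hWV⟩, hxW⟩
  have hcovU : ∀ V' : X.Opens,
      V' ⊓ U ≤ ⨆ W : {W : X.Opens // IsAffineOpen W ∧ W ≤ V'}, W.1 ⊓ U := by
    intro V' x hx
    have := hcov V' hx.1
    rw [Opens.mem_iSup] at this
    obtain ⟨W, hxW⟩ := this
    exact Opens.mem_iSup.2 ⟨W, ⟨hxW, hx.2⟩⟩
  -- injectivity on every open
  have hinj : ∀ V' : X.Opens, V' ≤ V →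
      Function.Injective (F.presheaf.map (homOfLE (inf_le_left : V' ⊓ U ≤ V')).op) := by
    intro V' hV'V s t hst
    refine TopCat.Sheaf.eq_of_locally_eq' (⟨F.presheaf, F.isSheaf⟩ : TopCat.Sheaf Ab X)
      (fun W : {W : X.Opens // IsAffineOpen W ∧ W ≤ V'} => W.1) V'
      (fun W => homOfLE W.2.2) (hcov V') _ _ (fun W => ?_)
    apply (haff W.1 W.2.1 (W.2.2.trans hV'V)).1
    change F.presheaf.map (homOfLE (inf_le_left : W.1 ⊓ U ≤ W.1)).op
        (F.presheaf.map (homOfLE W.2.2).op s) =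
      F.presheaf.map (homOfLE (inf_le_left : W.1 ⊓ U ≤ W.1)).op
        (F.presheaf.map (homOfLE W.2.2).op t)
    have hWU : W.1 ⊓ U ≤ V' ⊓ U := inf_le_inf_right U W.2.2
    rw [map_map_eq F _ _ (homOfLE (hWU.trans inf_le_left)).op,
      map_map_eq F _ _ (homOfLE (hWU.trans inf_le_left)).op,
      ← map_map_eq F (homOfLE (inf_le_left : V' ⊓ U ≤ V')).op (homOfLE hWU).op
        (homOfLE (hWU.trans inf_le_left)).op s,
      ← map_map_eq F (homOfLE (inf_le_left : V' ⊓ U ≤ V')).op (homOfLE hWU).op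
        (homOfLE (hWU.trans inf_le_left)).op t, hst]
  refine ⟨hinj V le_rfl, fun g => ?_⟩
  -- local lifts
  have hloc : ∀ W : {W : X.Opens // IsAffineOpen W ∧ W ≤ V}, ∃ s : Γ(F, W.1),
      F.presheaf.map (homOfLE (inf_le_left : W.1 ⊓ U ≤ W.1)).op s =
        F.presheaf.map (homOfLE (inf_le_inf_right U W.2.2 : W.1 ⊓ U ≤ V ⊓ U)).op g :=
    fun W => (haff W.1 W.2.1 W.2.2).2 _
  choose s hs using hloc
  have hcompat : TopCat.Presheaf.IsCompatible F.presheaf
      (fun W : {W : X.Opens // IsAffineOpen W ∧ W ≤ V} => W.1) s := by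
    intro W W'
    apply hinj (W.1 ⊓ W'.1) (inf_le_left.trans W.2.2)
    change F.presheaf.map (homOfLE (inf_le_left : (W.1 ⊓ W'.1) ⊓ U ≤ W.1 ⊓ W'.1)).op
        (F.presheaf.map (homOfLE (inf_le_left : W.1 ⊓ W'.1 ≤ W.1)).op (s W)) =
      F.presheaf.map (homOfLE (inf_le_left : (W.1 ⊓ W'.1) ⊓ U ≤ W.1 ⊓ W'.1)).op
        (F.presheaf.map (homOfLE (inf_le_right : W.1 ⊓ W'.1 ≤ W'.1)).op (s W'))
    have h1 : (W.1 ⊓ W'.1) ⊓ U ≤ W.1 ⊓ U := inf_le_inf_right U inf_le_left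
    have h2 : (W.1 ⊓ W'.1) ⊓ U ≤ W'.1 ⊓ U := inf_le_inf_right U inf_le_right
    rw [map_map_eq F _ _ (homOfLE (h1.trans inf_le_left)).op,
      map_map_eq F _ _ (homOfLE (h2.trans inf_le_left)).op,
      ← map_map_eq F (homOfLE (inf_le_left : W.1 ⊓ U ≤ W.1)).op (homOfLE h1).op
        (homOfLE (h1.trans inf_le_left)).op (s W),
      ← map_map_eq F (homOfLE (inf_le_left : W'.1 ⊓ U ≤ W'.1)).op (homOfLE h2).op
        (homOfLE (h2.trans inf_le_left)).op (s W'), hs W, hs W',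
      map_map_eq F _ _ (homOfLE (h1.trans (inf_le_inf_right U W.2.2))).op,
      map_map_eq F _ _ (homOfLE (h1.trans (inf_le_inf_right U W.2.2))).op]
  obtain ⟨s₀, hs₀, -⟩ := TopCat.Sheaf.existsUnique_gluing'
    (⟨F.presheaf, F.isSheaf⟩ : TopCat.Sheaf Ab X)
    (fun W : {W : X.Opens // IsAffineOpen W ∧ W ≤ V} => W.1) V (fun W => homOfLE W.2.2) (hcov V)
    s hcompat
  refine ⟨s₀, ?_⟩
  refine TopCat.Sheaf.eq_of_locally_eq' (⟨F.presheaf, F.isSheaf⟩ : TopCat.Sheaf Ab X)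
    (fun W : {W : X.Opens // IsAffineOpen W ∧ W ≤ V} => W.1 ⊓ U) (V ⊓ U)
    (fun W => homOfLE (inf_le_inf_right U W.2.2)) (hcovU V) _ _ (fun W => ?_)
  change F.presheaf.map (homOfLE (inf_le_inf_right U W.2.2 : W.1 ⊓ U ≤ V ⊓ U)).op
      (F.presheaf.map (homOfLE (inf_le_left : V ⊓ U ≤ V)).op s₀) =
    F.presheaf.map (homOfLE (inf_le_inf_right U W.2.2 : W.1 ⊓ U ≤ V ⊓ U)).op g
  rw [← hs W, ← hs₀ W]
  change _ = F.presheaf.map (homOfLE (inf_le_left : W.1 ⊓ U ≤ W.1)).op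
    (F.presheaf.map (homOfLE W.2.2).op s₀)
  rw [map_map_eq F _ _ (homOfLE ((inf_le_left : W.1 ⊓ U ≤ W.1).trans W.2.2)).op,
    map_map_eq F _ _ (homOfLE ((inf_le_left : W.1 ⊓ U ≤ W.1).trans W.2.2)).op]


end Groth.Agent.Lead.Hartogs
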