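import Groth.Agent.Lib.Lead.HomSh5
import Groth.Agent.Lib.Lead.HartogsRel
import Groth.Agent.Lib.Lead.Fib2
import Groth.Agent.Lib.Lead.Hom16
import Groth.Prelude.Def_TorSh

/-!
# Reflexive coherent modules on normal schemes are torsion-free and normal (lead)
-/

set_option autoImplicit false
universe u
open CategoryTheory CategoryTheory.Limits AlgebraicGeometry Opposite TopologicalSpace
open RefHull IsLocalRing
open Groth.Agent.Helper13.QCoh Groth.Agent.Helper13.QCohLoc Groth.Agent.Helper13.LocFree
open Groth.Agent.Helper13.FinType Groth.Agent.Helper28.ReflDepth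
open Groth.Agent.Lead.Depth

namespace Groth.Agent.Lead.HomSh

section Alg

/-- a finite reflexive module over a Noetherian normal local domain of dimension `≥ 2` has
depth `≥ 2`. -/
theorem two_le_depth_of_isReflexive (T : Type u) [CommRing T] [IsLocalRing T] [IsNoetherianRing T]
    [IsDomain T] [IsIntegrallyClosed T] (hdim : (2 : WithBot ℕ∞) ≤ ringKrullDim T)
    (M : Type u) [AddCommGroup M] [Module T M] [Module.Finite T M] [Module.IsReflexive T M] :
    2 ≤ LocCoh.depth T M := by
  have hSk := (Groth.Agent.Lead.Fib.normal_RS T).2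
  have hmin := Groth.Agent.Lead.Fib.hasSk_self_local 2 hSk
  have hht : (2 : ℕ∞) ≤ (maximalIdeal T).height := by
    rw [← IsLocalRing.maximalIdeal_height_eq_ringKrullDim] at hdim
    exact WithBot.coe_le_coe.1 hdim
  have h3 : min ((2 : ℕ) : ℕ∞) (maximalIdeal T).height = 2 :=
    min_eq_left (by exact_mod_cast hht)
  rw [h3] at hmin
  have h4 : 2 ≤ LocCoh.idealDepth (maximalIdeal T) (Module.Dual T M →ₗ[T] T) :=
    two_le_idealDepth_hom (maximalIdeal T) (Module.Dual T M) hmin
  rw [depth_congr (Module.evalEquiv T M)]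
  exact h4

/-- a reflexive module over a domain is torsion-free. -/
theorem isTorsionFree_of_isReflexive (T : Type u) [CommRing T] [IsDomain T]
    (M : Type u) [AddCommGroup M] [Module T M] [Module.IsReflexive T M] :
    Module.IsTorsionFree T M := by
  constructor
  intro r hr m m' h
  apply (Module.bijective_dual_eval T M).1
  apply LinearMap.ext
  intro ξ
  rw [Module.Dual.eval_apply, Module.Dual.eval_apply]
  apply hr.1
  change r * ξ m = r * ξ m'
  rw [← smul_eq_mul, ← smul_eq_mul, ← map_smul, ← map_smul]
  exact congrArg ξ h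

end Alg

variable {X : Scheme.{u}}

/-- relative Hartogs with an arbitrary smaller open. -/
theorem bijective_res_rel' [IsLocallyNoetherian X] (F : X.Modules) [F.IsQuasicoherent]
    [SheafOfModules.IsFiniteType (R := X.ringCatSheaf) F] (V W : X.Opens) (hWV : W ≤ V)
    (hdepth : ∀ x : X, x ∈ V → x ∉ W →
      2 ≤ LocCoh.depth (X.presheaf.stalk x) (F.presheaf.stalk x)) :
    Function.Bijective (F.presheaf.map (homOfLE hWV).op) := by
  have key : ∀ (W' : X.Opens) (h : W' ≤ V), W' = V ⊓ W →
      Function.Bijective (F.presheaf.map (homOfLE h).op) := by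
    intro W' h e
    subst e
    exact Groth.Agent.Lead.Hartogs.bijective_res_rel F W V hdepth
  exact key W hWV (inf_eq_right.2 hWV).symm

/-- depth of the stalk of a coherent module at a point with reflexive stalk and normal local
ring of dimension `≥ 2`. -/
theorem two_le_depth_stalk_of_isReflexiveAt [IsIntegral X] [IsLocallyNoetherian X]
    (F : X.Modules) (hF : Coh.IsCoh F) (x : X)
    (hn : IsIntegrallyClosed (X.presheaf.stalk x)) (hr : IsReflexiveAt F x)
    (hdim : (2 : WithBot ℕ∞) ≤ ringKrullDim (X.presheaf.stalk x)) :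
    2 ≤ LocCoh.depth (X.presheaf.stalk x) (F.presheaf.stalk x) := by
  haveI : F.IsQuasicoherent := hF.1
  haveI : SheafOfModules.IsFiniteType (R := X.ringCatSheaf) F := hF.2
  haveI : Module.Finite (X.presheaf.stalk x) (F.presheaf.stalk x) :=
    finite_stalk_of_isFiniteType F x
  haveI : Module.IsReflexive (X.presheaf.stalk x) (F.presheaf.stalk x) := hr
  exact two_le_depth_of_isReflexive (X.presheaf.stalk x) hdim (F.presheaf.stalk x)

/-- **Reflexive coherent modules on a normal integral locally Noetherian scheme are normal.** -/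
theorem normal_of_isReflexive [IsIntegral X] [IsLocallyNoetherian X]
    (hn : ∀ x : X, IsIntegrallyClosed (X.presheaf.stalk x))
    (F : X.Modules) (hF : Coh.IsCoh F) (hrefl : IsReflexive F)
    (U V : X.Opens) (hVU : V ≤ U)
    (h2 : ∀ x : X, x ∈ U → x ∉ V → (2 : WithBot ℕ∞) ≤ ringKrullDim (X.presheaf.stalk x)) :
    Function.Bijective (F.presheaf.map (homOfLE hVU).op) := by
  haveI : F.IsQuasicoherent := hF.1
  haveI : SheafOfModules.IsFiniteType (R := X.ringCatSheaf) F := hF.2
  have hall := (isReflexive_iff_forall_isReflexiveAt F hF).1 hrefl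
  exact bijective_res_rel' F U V hVU (fun x hxU hxV =>
    two_le_depth_stalk_of_isReflexiveAt F hF x (hn x) (hall x) (h2 x hxU hxV))

theorem isTorsionFree_of_isReflexive_sheaf [IsIntegral X] [IsLocallyNoetherian X]
    (F : X.Modules) (hF : Coh.IsCoh F) (hrefl : IsReflexive F) : TorSh.IsTorsionFree F := by
  intro x
  haveI : Module.IsReflexive (X.presheaf.stalk x) (F.presheaf.stalk x) :=
    (isReflexive_iff_forall_isReflexiveAt F hF).1 hrefl x
  exact isTorsionFree_of_isReflexive (X.presheaf.stalk x) (F.presheaf.stalk x)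

end Groth.Agent.Lead.HomSh
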