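import Groth.Agent.Lib.Lead.ReflExt
import Groth.Agent.Lib.Lead.HomSh6
import Groth.Agent.Lib.Lead.FreeLoc
import Groth.Agent.Lib.Helper13.ExtQCoh
import Groth.Agent.Lib.Helper13.GenLocus
import Groth.Agent.Lib.Helper13.LocFree2
import Groth.Agent.S6875
import Groth.Agent.S16485
import Groth.Prelude.Def_Pi1
import Groth.Prelude.Def_FlatMod2
import Groth.Prelude.Def_CohB1

/-!
# The bidual of a finite type submodule of a flat module on a normal Noetherian scheme

`F^** ≅ j_* (F|_U)` for `U` the flat locus of `F`.
-/

set_option autoImplicit false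
universe u
open CategoryTheory CategoryTheory.Limits AlgebraicGeometry Opposite TopologicalSpace
open RefHull IsLocalRing
open Groth.Agent.Helper13.QCoh Groth.Agent.Helper13.QCohLoc Groth.Agent.Helper13.LocFree
open Groth.Agent.Helper13.FinType Groth.Agent.Lead.HomSh

namespace Groth.Agent.Lead.FlatLocDD

/-- a module over a principal ideal domain that embeds into a flat module is flat. -/
theorem flat_of_injective_of_flat {R : Type u} [CommRing R] [IsDomain R] [IsPrincipalIdealRing R]
    {M N : Type u} [AddCommGroup M] [Module R M] [AddCommGroup N] [Module R N] [Module.Flat R N]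
    (f : M →+ N) (hf : Function.Injective f) (hsmul : ∀ (r : R) (m : M), f (r • m) = r • f m) :
    Module.Flat R M := by
  rw [Module.Flat.flat_iff_torsion_eq_bot_of_isBezout, eq_bot_iff]
  intro m hm
  rw [Submodule.mem_torsion_iff] at hm
  obtain ⟨a, ha⟩ := hm
  have h1 : a • f m = 0 := by
    have h2 : f ((a : R) • m) = (a : R) • f m := hsmul a m
    have h3 : (a : R) • m = 0 := ha
    rw [h3, map_zero] at h2
    exact h2.symm
  have h2 : f m ∈ Submodule.torsion R N := (Submodule.mem_torsion_iff _).2 ⟨a, h1⟩
  rw [Module.Flat.torsion_eq_bot] at h2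
  have h3 : f m = 0 := (Submodule.mem_bot R).1 h2
  exact (Submodule.mem_bot R).2 (hf (by rw [h3, map_zero]))

theorem main (S : Scheme.{u}) [IsNoetherian S]
    (hS : Pi1.IsNormalScheme S) (A F : S.Modules) (hA : Coh.IsQCoh A) (hAfl : FlatMod.IsFlat A)
    (ι : F ⟶ A) [Mono ι] (hF : CohB1.IsFT F) (U : S.Opens)
    (hU : (U : Set S) = {s : S | FlatMod.IsFlatAt F s}) :
    ∃ e : RefHull.ddual F ≅ (Scheme.Modules.pushforward U.ι).obj (F.restrict U.ι),
      RefHull.bidualMap F ≫ e.hom = (Scheme.Modules.restrictAdjunction U.ι).unit.app F := by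
  haveI : A.IsQuasicoherent := hA
  haveI : SheafOfModules.IsFiniteType (R := S.ringCatSheaf) F := hF
  haveI : F.IsQuasicoherent := Groth.Agent.Helper13.Ext.isQuasicoherent_of_mono_of_isFiniteType ι
  have hFc : Coh.IsCoh F := ⟨inferInstance, hF⟩
  have hO : Coh.IsCoh (Coh.structureModule S) := isCoh_structureModule
  have hD : Coh.IsCoh (dual F) := isCoh_homSh hFc hO
  have hG : Coh.IsCoh (ddual F) := isCoh_homSh hD hO
  haveI : (dual F).IsQuasicoherent := hD.1
  haveI : SheafOfModules.IsFiniteType (R := S.ringCatSheaf) (dual F) := hD.2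
  haveI : (ddual F).IsQuasicoherent := hG.1
  haveI : SheafOfModules.IsFiniteType (R := S.ringCatSheaf) (ddual F) := hG.2
  haveI : (Coh.structureModule S).IsQuasicoherent := hO.1
  haveI : SheafOfModules.IsFiniteType (R := S.ringCatSheaf) (Coh.structureModule S) := hO.2
  -- the stalks of the bidual are reflexive
  have hGr : ∀ x : S, Module.IsReflexive (S.presheaf.stalk x) ((ddual F).presheaf.stalk x) := by
    intro x
    haveI := (hS x).1
    haveI : Module.Finite (S.presheaf.stalk x) ((dual F).presheaf.stalk x) :=
      finite_stalk_of_isFiniteType (dual F) x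
    haveI : Module.Finite (S.presheaf.stalk x) ((Coh.structureModule S).presheaf.stalk x) :=
      finite_stalk_of_isFiniteType (Coh.structureModule S) x
    haveI : Module.IsReflexive (S.presheaf.stalk x) ((Coh.structureModule S).presheaf.stalk x) :=
      Module.equiv (Groth.Agent.Helper13.WeakAss.unitStalkEquiv x).symm
    haveI : Module.IsReflexive (S.presheaf.stalk x)
        ((dual F).presheaf.stalk x →ₗ[S.presheaf.stalk x]
          (Coh.structureModule S).presheaf.stalk x) :=
      Groth.Agent.S6875.result (S.presheaf.stalk x) ((dual F).presheaf.stalk x)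
        ((Coh.structureModule S).presheaf.stalk x)
    have hbij := Groth.Agent.S16485.result S (dual F) (Coh.structureModule S)
      (isFinitePresentation_of_isCoh hD) x
    exact Module.equiv (LinearEquiv.ofBijective
      (RefHull.evalStalk (dual F) (Coh.structureModule S) x) hbij).symm
  -- depth at the points outside `U`
  have hdepth : ∀ x : S, x ∉ U →
      2 ≤ LocCoh.depth (S.presheaf.stalk x) ((ddual F).presheaf.stalk x) := by
    intro x hx
    haveI := (hS x).1
    haveI := (hS x).2
    have hdim : (2 : WithBot ℕ∞) ≤ ringKrullDim (S.presheaf.stalk x) := by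
      apply Groth.Agent.Lead.FreeLoc.two_le_of_not_le_one
      intro hle
      haveI := Groth.Agent.Lead.FreeLoc.isPrincipalIdealRing_of_dim_le_one (S.presheaf.stalk x) hle
      apply hx
      have hmem : x ∈ (U : Set S) := by
        rw [hU]
        show Module.Flat (S.presheaf.stalk x) (F.presheaf.stalk x)
        haveI : Module.Flat (S.presheaf.stalk x) (A.presheaf.stalk x) := hAfl x
        exact flat_of_injective_of_flat (stalkMap ι x).hom
          ((mono_iff_stalk_injective ι).1 inferInstance x) (fun r m => stalkMap_smul ι x r m)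
      exact hmem
    haveI : Module.Finite (S.presheaf.stalk x) ((ddual F).presheaf.stalk x) :=
      finite_stalk_of_isFiniteType (ddual F) x
    haveI := hGr x
    exact two_le_depth_of_isReflexive (S.presheaf.stalk x) hdim ((ddual F).presheaf.stalk x)
  haveI h1 : IsIso ((Scheme.Modules.restrictAdjunction U.ι).unit.app (ddual F)) :=
    Groth.Agent.Lead.ReflExt.isIso_unit_of_depth U _ hG hdepth
  haveI h2 : IsIso ((Scheme.Modules.restrictFunctor U.ι).map (bidualMap F)) := by
    rw [Groth.Agent.Helper13.GenLoc.isIso_restrict_iff]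
    intro x hx
    have hfl : Module.Flat (S.presheaf.stalk x) (F.presheaf.stalk x) := by
      have hx' : x ∈ (U : Set S) := hx
      rw [hU] at hx'
      exact hx'
    haveI : Module.Finite (S.presheaf.stalk x) (F.presheaf.stalk x) :=
      finite_stalk_of_isFiniteType F x
    haveI : Module.FinitePresentation (S.presheaf.stalk x) (F.presheaf.stalk x) :=
      Module.finitePresentation_of_finite _ _
    haveI : Module.Free (S.presheaf.stalk x) (F.presheaf.stalk x) :=
      Module.free_of_flat_of_isLocalRing
    have hr : IsReflexiveAt F x :=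
      (inferInstance : Module.IsReflexive (S.presheaf.stalk x) (F.presheaf.stalk x))
    haveI := isFinitePresentation_of_isCoh hFc
    haveI := isFinitePresentation_of_isCoh hD
    exact (isReflexiveAt_iff_bijective F x).1 hr
  refine ⟨asIso ((Scheme.Modules.restrictAdjunction U.ι).unit.app (ddual F)) ≪≫
    (Scheme.Modules.pushforward U.ι).mapIso
      (asIso ((Scheme.Modules.restrictFunctor U.ι).map (bidualMap F))).symm, ?_⟩
  have hnat : bidualMap F ≫ (Scheme.Modules.restrictAdjunction U.ι).unit.app (ddual F) =
      (Scheme.Modules.restrictAdjunction U.ι).unit.app F ≫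
        (Scheme.Modules.pushforward U.ι).map
          ((Scheme.Modules.restrictFunctor U.ι).map (bidualMap F)) :=
    (Scheme.Modules.restrictAdjunction U.ι).unit.naturality (bidualMap F)
  simp only [Iso.trans_hom, asIso_hom, Functor.mapIso_hom, Iso.symm_hom, asIso_inv]
  rw [← Category.assoc, hnat, Category.assoc, ← CategoryTheory.Functor.map_comp, IsIso.hom_inv_id,
    CategoryTheory.Functor.map_id]
  exact Category.comp_id _

end Groth.Agent.Lead.FlatLocDD
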