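import Mathlib
import Groth.Agent.Lib.Helper2.GenericFreeMain

/-!
# Generic freeness of cokernels

For a domain `R`, finite type maps `R → A → B`, a finite `B`-module `N` and a finitely generated
`A`-submodule `U ⊆ N`, the quotient `N ⧸ U` is generically free over `R`.
-/

set_option autoImplicit false
universe u

namespace Groth.Agent.Lead.GenFreeCoker

open Groth.Agent.Helper2.GenericFree

section transport
variable {R : Type u} [CommRing R]

/-- two quotients of the same module by the same kernel -/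
theorem gfree_transport {f : R} {P X Y : Type u} [AddCommGroup P] [Module R P]
    [AddCommGroup X] [Module R X] [AddCommGroup Y] [Module R Y]
    (π : P →ₗ[R] X) (hπ : Function.Surjective π) (g : P →ₗ[R] Y) (hg : Function.Surjective g)
    (hk : ∀ p, π p = 0 ↔ g p = 0) (h : GFree f X) : GFree f Y := by
  have hker : LinearMap.ker π = LinearMap.ker g := by
    ext p
    rw [LinearMap.mem_ker, LinearMap.mem_ker]
    exact hk p
  exact h.of_equiv ((LinearMap.quotKerEquivOfSurjective π hπ).symm.trans
    ((Submodule.quotEquivOfEq _ _ hker).trans (LinearMap.quotKerEquivOfSurjective g hg)))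

end transport

section step
variable {R A M : Type u} [CommRing R] [CommRing A] [Algebra R A]
  [AddCommGroup M] [Module A M] [Module R M] [IsScalarTower R A M] [IsDomain R]

/-- The inductive step of generic freeness, for a quotient by an `R`-submodule `V ⊆ M₀`. -/
theorem step_quot
    (hGF : ∀ (Q : Type u) [AddCommGroup Q] [Module A Q] [Module R Q] [IsScalarTower R A Q]
      [Module.Finite A Q], ∃ f : R, f ≠ 0 ∧ GFree f Q)
    (hACC : ∀ (M₀ : Type u) [AddCommGroup M₀] [Module A M₀] [Module.Finite A M₀]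
      (N : ℕ →o Submodule A M₀), ∃ i₀ : ℕ, ∀ i, i₀ ≤ i → ∀ x ∈ N i,
        ∃ r : R, r ≠ 0 ∧ (algebraMap R A r) • x ∈ N i₀)
    (T : M →ₗ[A] M) (M₀ : Submodule A M) (hfg : M₀.FG)
    (htop : ⨆ i, M₀.map (T ^ i) = ⊤)
    (V : Submodule R M) (hV : ∀ x ∈ V, x ∈ M₀)
    (X : Type u) [AddCommGroup X] [Module R X] (π₀ : ↥M₀ →ₗ[R] X)
    (hπ₀ : Function.Surjective π₀) (hker₀ : ∀ x : ↥M₀, π₀ x = 0 ↔ (x : M) ∈ V)
    (hX : ∃ f : R, f ≠ 0 ∧ GFree f X) :
    ∃ f : R, f ≠ 0 ∧ GFree f (M ⧸ V) := by
  classical
  haveI : Module.Finite A ↥M₀ := Module.Finite.iff_fg.mpr hfg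
  let K : ℕ → Submodule A ↥M₀ := fun i =>
    (Fil T M₀ i).comap ((T ^ (i + 1)) ∘ₗ M₀.subtype)
  have hK : ∀ i (x : ↥M₀), x ∈ K i ↔ (T ^ (i + 1)) (x : M) ∈ Fil T M₀ i := fun i x => Iff.rfl
  have hKmono : Monotone K := by
    apply monotone_nat_of_le_succ
    intro i x hx
    rw [hK] at hx ⊢
    rw [pow_succ' T (i + 1), Module.End.mul_apply]
    exact Fil_map_le T M₀ i (Submodule.mem_map_of_mem hx)
  obtain ⟨i₀, hi₀⟩ := hACC ↥M₀ ⟨K, hKmono⟩
  obtain ⟨f₀, hf₀0, hf₀⟩ := hX
  obtain ⟨f₁, hf₁0, hf₁⟩ := exists_common_le (fun i => ↥M₀ ⧸ K i) i₀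
    (fun i _ => hGF (↥M₀ ⧸ K i))
  refine ⟨f₀ * f₁, mul_ne_zero hf₀0 hf₁0, ?_⟩
  have hQ' : ∀ i, GFree (f₀ * f₁) (↥M₀ ⧸ K i) := by
    intro i
    rcases le_or_gt i i₀ with h | h
    · exact (hf₁ i h).mul' hf₀0
    · have hle : K i₀ ≤ K i := hKmono h.le
      refine ((hf₁ i₀ le_rfl).mul' hf₀0).of_surjective_torsion_ker
        ((Submodule.mapQ (K i₀) (K i) LinearMap.id hle).restrictScalars R) ?_ ?_
      · intro y
        obtain ⟨x, rfl⟩ := Submodule.mkQ_surjective _ y
        exact ⟨Submodule.Quotient.mk x, rfl⟩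
      · intro y hy
        obtain ⟨x, rfl⟩ := Submodule.mkQ_surjective _ y
        have hx : x ∈ K i := by
          have : (Submodule.Quotient.mk x : ↥M₀ ⧸ K i) = 0 := hy
          rwa [Submodule.Quotient.mk_eq_zero] at this
        obtain ⟨r, hr, hrx⟩ := hi₀ i h.le x hx
        refine ⟨r, hr, ?_⟩
        rw [Submodule.mkQ_apply, ← Submodule.Quotient.mk_smul, Submodule.Quotient.mk_eq_zero,
          ← algebraMap_smul A r x]
        exact hrx
  -- the filtration of `M ⧸ V`
  let N' : ℕ → Submodule R (M ⧸ V) := fun i => ((Fil T M₀ i).restrictScalars R).map V.mkQ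
  have hN'mem : ∀ i (y : M ⧸ V), y ∈ N' i ↔ ∃ z ∈ Fil T M₀ i, V.mkQ z = y := by
    intro i y
    exact Submodule.mem_map
  have hM₀Fil : ∀ i, M₀ ≤ Fil T M₀ i := fun i => Fil_mono T M₀ (Nat.zero_le i)
  have hkey : ∀ i (z : M), V.mkQ z ∈ N' i ↔ z ∈ Fil T M₀ i := by
    intro i z
    constructor
    · intro h
      obtain ⟨a, ha, hab⟩ := (hN'mem i _).mp h
      have h1 : a - z ∈ V := by
        rw [← Submodule.Quotient.eq]
        exact hab
      have h2 : a - z ∈ Fil T M₀ i := hM₀Fil i (hV _ h1)
      have h3 : z = a - (a - z) := by abel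
      rw [h3]
      exact Submodule.sub_mem _ ha h2
    · intro h
      exact (hN'mem i _).mpr ⟨z, h, rfl⟩
  let c : ∀ j, ↥M₀ →ₗ[R] ↥(N' j) := fun j =>
    LinearMap.codRestrict (N' j)
      (V.mkQ ∘ₗ ((T ^ j).restrictScalars R) ∘ₗ (M₀.subtype.restrictScalars R))
      (fun x => (hkey j _).mpr (map_pow_le_Fil T M₀ j (Submodule.mem_map_of_mem x.2)))
  have hc : ∀ j (x : ↥M₀), ((c j x : ↥(N' j)) : M ⧸ V) = V.mkQ ((T ^ j) (x : M)) :=
    fun j x => rfl
  refine GFree.of_filtration (f₀ * f₁) N' ?_ ?_ ?_ ?_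
  · intro i j hij
    exact Submodule.map_mono (fun x hx => Fil_mono T M₀ hij hx)
  · intro y
    obtain ⟨m, rfl⟩ := V.mkQ_surjective y
    have hm : m ∈ ⨆ i, M₀.map (T ^ i) := htop ▸ Submodule.mem_top
    have hle : ⨆ i, M₀.map (T ^ i) ≤ ⨆ i, Fil T M₀ i :=
      iSup_mono fun i => map_pow_le_Fil T M₀ i
    have h1 := hle hm
    rw [Submodule.mem_iSup_of_directed _ (Fil_mono T M₀).directed_le] at h1
    obtain ⟨i, hi⟩ := h1
    exact ⟨i, (hkey i m).mpr hi⟩
  · refine gfree_transport π₀ hπ₀ (c 0) ?_ ?_ (hf₀.mul hf₁0)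
    · rintro ⟨y, hy⟩
      obtain ⟨z, hz, rfl⟩ := (hN'mem 0 y).mp hy
      refine ⟨⟨z, hz⟩, ?_⟩
      apply Subtype.ext
      rw [hc]
      rfl
    · intro x
      rw [hker₀]
      have h1 : V.mkQ ((T ^ 0) (x : M)) = 0 ↔ (x : M) ∈ V := by
        rw [pow_zero, Module.End.one_apply, Submodule.mkQ_apply, Submodule.Quotient.mk_eq_zero]
      rw [← h1, ← hc 0 x]
      constructor
      · intro hx
        exact Subtype.ext hx
      · intro hx
        rw [hx]
        rfl
  · intro i
    refine gfree_transport ((K i).mkQ.restrictScalars R) ?_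
      (((N' i).comap (N' (i + 1)).subtype).mkQ ∘ₗ c (i + 1)) ?_ ?_ (hQ' i)
    · exact (K i).mkQ_surjective
    · intro y
      obtain ⟨⟨y, hy⟩, rfl⟩ := Submodule.mkQ_surjective _ y
      obtain ⟨z, hz, rfl⟩ := (hN'mem (i + 1) y).mp hy
      have hz' : z ∈ Fil T M₀ i ⊔ M₀.map (T ^ (i + 1)) := hz
      obtain ⟨a, ha, b, hb, hab⟩ := Submodule.mem_sup.mp hz'
      obtain ⟨x, hx, rfl⟩ := hb
      refine ⟨⟨x, hx⟩, ?_⟩
      show Submodule.Quotient.mk (c (i + 1) ⟨x, hx⟩) = Submodule.Quotient.mk ⟨V.mkQ z, hy⟩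
      rw [Submodule.Quotient.eq, Submodule.mem_comap]
      have h1 : (N' (i + 1)).subtype (c (i + 1) ⟨x, hx⟩ - ⟨V.mkQ z, hy⟩) = V.mkQ (-a) := by
        show V.mkQ ((T ^ (i + 1)) x) - V.mkQ z = V.mkQ (-a)
        rw [← map_sub, ← hab]
        congr 1
        abel
      rw [h1]
      exact (hkey i _).mpr (Submodule.neg_mem _ ha)
    · intro x
      show Submodule.Quotient.mk x = 0 ↔ Submodule.Quotient.mk (c (i + 1) x) = 0
      rw [Submodule.Quotient.mk_eq_zero, Submodule.Quotient.mk_eq_zero]
      exact (hkey i ((T ^ (i + 1)) (x : M))).symm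

end step

section main
variable {R A : Type u} [CommRing R] [IsDomain R] [CommRing A] [Algebra R A]
  [Algebra.FiniteType R A]

theorem aux (n : ℕ) :
    ∀ (S : Type u) [CommRing S] [Algebra A S] [Algebra R S] [IsScalarTower R A S]
      (s : Finset S), s.card ≤ n → Algebra.adjoin A (s : Set S) = ⊤ →
      ∀ (N : Type u) [AddCommGroup N] [Module S N] [Module A N] [Module R N]
        [IsScalarTower A S N] [IsScalarTower R A N] [IsScalarTower R S N] [Module.Finite S N]
        (U : Submodule A N), U.FG → ∃ f : R, f ≠ 0 ∧ GFree f (N ⧸ U.restrictScalars R) := by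
  classical
  induction n with
  | zero =>
    intro S _ _ _ _ s hs hadj N _ _ _ _ _ _ _ _ U hU
    have hs0 : s = ∅ := Finset.card_eq_zero.mp (Nat.le_zero.mp hs)
    rw [hs0, Finset.coe_empty, Algebra.adjoin_empty] at hadj
    have hsurj : Function.Surjective (algebraMap A S) :=
      Algebra.surjective_algebraMap_iff.mpr hadj.symm
    haveI : Module.Finite A S := Module.Finite.of_surjective (Algebra.linearMap A S) hsurj
    haveI : Module.Finite A N := Module.Finite.trans S N
    obtain ⟨f, hf0, hf⟩ := exists_gfree (R := R) A (N ⧸ U)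
    exact ⟨f, hf0, hf.of_equiv (Submodule.Quotient.restrictScalarsEquiv R U).symm⟩
  | succ n ih =>
    intro S _ _ _ _ s hs hadj N _ _ _ _ _ _ _ _ U hU
    rcases Nat.lt_or_ge s.card (n + 1) with h | h
    · exact ih S s (by omega) hadj N U hU
    have hcard : s.card = n + 1 := le_antisymm hs h
    obtain ⟨a, t, hat, rfl, htc⟩ := Finset.card_eq_succ.mp hcard
    set B : Subalgebra A S := Algebra.adjoin A (t : Set S) with hB
    let t' : Finset ↥B := t.subtype (· ∈ B)
    have ht'coe : (t' : Set ↥B) = ((↑) : ↥B → S) ⁻¹' (t : Set S) := by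
      ext x
      simp [t', Finset.mem_subtype]
    have ht'card : t'.card ≤ n := by
      rw [Finset.card_subtype, ← htc]
      exact Finset.card_filter_le _ _
    have ht'adj : Algebra.adjoin A (t' : Set ↥B) = ⊤ := by
      rw [ht'coe]
      exact Algebra.adjoin_adjoin_coe_preimage
    haveI hftA : Algebra.FiniteType A ↥B := ⟨⟨t', ht'adj⟩⟩
    haveI hftR : Algebra.FiniteType R ↥B :=
      Algebra.FiniteType.trans (inferInstance : Algebra.FiniteType R A) hftA
    let T : N →ₗ[↥B] N :=
      { toFun := fun m => a • m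
        map_add' := smul_add a
        map_smul' := fun b m => by
          show a • (b • m) = b • (a • m)
          rw [Subalgebra.smul_def, Subalgebra.smul_def]
          exact smul_comm a (b : S) m }
    have hT : ∀ m, T m = a • m := fun _ => rfl
    obtain ⟨G, hG⟩ := (inferInstance : Module.Finite S N).fg_top
    obtain ⟨GU, hGU⟩ := hU
    set M₀ : Submodule ↥B N := Submodule.span ↥B ((G ∪ GU : Finset N) : Set N) with hM₀
    have hUM₀ : ∀ x ∈ U, x ∈ M₀ := by
      intro x hx
      rw [← hGU] at hx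
      have h1 : Submodule.span A (GU : Set N) ≤ M₀.restrictScalars A :=
        Submodule.span_le.mpr (fun y hy => Submodule.subset_span (by
          rw [Finset.coe_union]; exact Or.inr hy))
      exact h1 hx
    haveI : Module.Finite ↥B ↥M₀ := Module.Finite.iff_fg.mpr ⟨G ∪ GU, rfl⟩
    let U' : Submodule A ↥M₀ := U.comap (M₀.subtype.restrictScalars A)
    have hU'mem : ∀ x : ↥M₀, x ∈ U' ↔ (x : N) ∈ U := fun x => Iff.rfl
    have hU'fg : U'.FG := by
      apply Submodule.fg_of_fg_map_injective (M₀.subtype.restrictScalars A)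
        (fun x y hxy => Subtype.ext hxy)
      have h1 : U'.map (M₀.subtype.restrictScalars A) = U := by
        ext x
        constructor
        · rintro ⟨y, hy, rfl⟩
          exact hy
        · intro hx
          exact ⟨⟨x, hUM₀ x hx⟩, hx, rfl⟩
      rw [h1]
      exact ⟨GU, hGU⟩
    have hIH := ih ↥B t' ht'card ht'adj ↥M₀ U' hU'fg
    refine step_quot (R := R) (A := ↥B) (M := N) (fun Q _ _ _ _ _ => exists_gfree ↥B Q)
      (fun M₁ _ _ _ N' => satACC N') T M₀ ⟨G ∪ GU, rfl⟩ ?_ (U.restrictScalars R) hUM₀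
      (↥M₀ ⧸ U'.restrictScalars R) (U'.restrictScalars R).mkQ (Submodule.mkQ_surjective _) ?_ hIH
    · -- exhaustiveness
      set W : Submodule ↥B N := ⨆ i, M₀.map (T ^ i) with hW
      have hWT : ∀ w ∈ W, a • w ∈ W := by
        intro w hw
        have h1 : W.map T ≤ W := by
          rw [hW, Submodule.map_iSup]
          refine iSup_le fun i => ?_
          rw [← Submodule.map_comp]
          have : T ∘ₗ T ^ i = T ^ (i + 1) := by rw [pow_succ' T i]; rfl
          rw [this]
          exact le_iSup (fun i => M₀.map (T ^ i)) (i + 1)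
        exact h1 (Submodule.mem_map_of_mem hw)
      have hWS : ∀ c : S, ∀ w ∈ W, c • w ∈ W := by
        intro c
        have hc : c ∈ Algebra.adjoin A ((insert a t : Finset S) : Set S) := hadj ▸ Algebra.mem_top
        induction hc using Algebra.adjoin_induction with
        | mem c hc =>
          intro w hw
          rw [Finset.coe_insert, Set.mem_insert_iff] at hc
          rcases hc with rfl | hc
          · exact hWT w hw
          · have : c • w = (⟨c, Algebra.subset_adjoin hc⟩ : ↥B) • w := rfl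
            rw [this]
            exact W.smul_mem _ hw
        | algebraMap r =>
          intro w hw
          have : algebraMap A S r • w = (algebraMap A ↥B r) • w := rfl
          rw [this]
          exact W.smul_mem _ hw
        | add c d _ _ hc hd =>
          intro w hw
          rw [add_smul]
          exact W.add_mem (hc w hw) (hd w hw)
        | mul c d _ _ hc hd =>
          intro w hw
          rw [mul_smul]
          exact hc _ (hd w hw)
      let W' : Submodule S N :=
        { carrier := W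
          add_mem' := W.add_mem
          zero_mem' := W.zero_mem
          smul_mem' := fun c w hw => hWS c w hw }
      have hGW : (G : Set N) ⊆ W' := by
        intro g hg
        have h1 : g ∈ M₀ := Submodule.subset_span (by
          rw [Finset.coe_union]; exact Or.inl hg)
        have h2 : M₀ ≤ W := by
          have := le_iSup (fun i => M₀.map (T ^ i)) 0
          simpa [pow_zero, Module.End.one_eq_id, Submodule.map_id] using this
        exact h2 h1
      have hW'top : W' = ⊤ := by
        rw [eq_top_iff, ← hG]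
        exact Submodule.span_le.mpr hGW
      rw [eq_top_iff]
      intro m _
      have : m ∈ W' := hW'top ▸ Submodule.mem_top
      exact this
    · intro x
      rw [Submodule.mkQ_apply, Submodule.Quotient.mk_eq_zero]
      exact Iff.rfl

/-- **Generic freeness of a cokernel.** -/
theorem exists_gfree_quot {B : Type u} [CommRing B] [Algebra A B] [Algebra R B]
    [IsScalarTower R A B] [Algebra.FiniteType A B]
    {N : Type u} [AddCommGroup N] [Module B N] [Module A N] [Module R N] [IsScalarTower A B N]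
    [IsScalarTower R A N] [Module.Finite B N] (U : Submodule A N) (hU : U.FG) :
    ∃ f : R, f ≠ 0 ∧ GFree f (N ⧸ U.restrictScalars R) := by
  haveI : IsScalarTower R B N := IsScalarTower.of_algebraMap_smul (fun r n => by
    rw [IsScalarTower.algebraMap_apply R A B, algebraMap_smul, algebraMap_smul])
  obtain ⟨s, hs⟩ := (inferInstance : Algebra.FiniteType A B).out
  exact aux s.card B s le_rfl hs N U hU

end main

end Groth.Agent.Lead.GenFreeCoker
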