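import Groth.Agent.Lib.Lead.SecOrd24
import Groth.Agent.Lib.Helper26.LenD
import Groth.Agent.Lib.Helper13.QCohLoc
import Groth.Agent.Lib.Helper13.LocFree2

/-!
# Stalks of a quasi-coherent module along a specialization

`F_x → F_ξ` is the localization at the prime of `ξ`; lengths of tensor products with a cyclic
quotient ring.
-/

set_option autoImplicit false
universe u
open CategoryTheory CategoryTheory.Limits AlgebraicGeometry Opposite TopologicalSpace
open scoped Pointwise TensorProduct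

namespace Groth.Agent.Lead.GysinSh

open Groth.Agent.Lead.SecOrd

/-- Length of `C ⊗_A M` for `C = A/(f₀)`. -/
theorem length_tensor_of_surjective {A C : Type u} [CommRing A] [CommRing C] (ψ : A →+* C)
    (hψ : Function.Surjective ψ) (f₀ : A) (hker : RingHom.ker ψ = Ideal.span {f₀})
    (M : Type u) [AddCommGroup M] [Module A M] :
    letI := ψ.toAlgebra
    Module.length C (C ⊗[A] M) = Module.length A (M ⧸ f₀ • (⊤ : Submodule A M)) := by
  letI := ψ.toAlgebra
  have hsurj : Function.Surjective (algebraMap A C) := hψ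
  have h1 : Module.length A (C ⊗[A] M) = Module.length C (C ⊗[A] M) :=
    Module.length_eq_of_surjective (S := A) (R := C) (M := C ⊗[A] M) hsurj
  rw [← h1]
  have hsurj' : Function.Surjective (Algebra.ofId A C) := hψ
  have hk : RingHom.ker (Algebra.ofId A C) = Ideal.span {f₀} := by
    rw [← hker]
    ext a
    rfl
  let e0 : (A ⧸ RingHom.ker (Algebra.ofId A C)) ≃ₐ[A] C :=
    Ideal.quotientKerAlgEquivOfSurjective hsurj'
  let e0' : (A ⧸ Ideal.span {f₀}) ≃ₗ[A] C :=
    (Submodule.quotEquivOfEq _ _ hk.symm).trans e0.toLinearEquiv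
  let e1 : C ⊗[A] M ≃ₗ[A] (A ⧸ Ideal.span {f₀}) ⊗[A] M :=
    TensorProduct.congr e0'.symm (LinearEquiv.refl A M)
  let e2 : (A ⧸ Ideal.span {f₀}) ⊗[A] M ≃ₗ[A] M ⧸ ((Ideal.span {f₀}) • (⊤ : Submodule A M)) :=
    TensorProduct.quotTensorEquivQuotSMul M (Ideal.span {f₀})
  let e3 : (M ⧸ ((Ideal.span {f₀}) • (⊤ : Submodule A M))) ≃ₗ[A] M ⧸ f₀ • (⊤ : Submodule A M) :=
    Submodule.quotEquivOfEq _ _ (Submodule.ideal_span_singleton_smul f₀ ⊤)
  exact ((e1.trans e2).trans e3).length_eq

/-- Length of a localized module computed over any model of the localized ring. -/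
theorem length_localizedModule_eq {B C : Type u} [CommRing B] [CommRing C] [Algebra B C]
    (q : Ideal B) [q.IsPrime] [IsLocalization.AtPrime C q]
    {M N : Type u} [AddCommGroup M] [Module B M] [AddCommGroup N] [Module B N] [Module C N]
    [IsScalarTower B C N] (φ : M →ₗ[B] N) [IsLocalizedModule q.primeCompl φ] :
    Module.length (Localization.AtPrime q) (LocalizedModule q.primeCompl M) =
      Module.length C N := by
  let ρ : Localization.AtPrime q ≃ₐ[B] C :=
    IsLocalization.algEquiv q.primeCompl (Localization.AtPrime q) C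
  letI algLC : Algebra (Localization.AtPrime q) C :=
    (ρ : Localization.AtPrime q →+* C).toAlgebra
  letI modL : Module (Localization.AtPrime q) N :=
    Module.compHom N (ρ : Localization.AtPrime q →+* C)
  haveI st1 : IsScalarTower (Localization.AtPrime q) C N :=
    IsScalarTower.of_algebraMap_smul (fun _ _ => rfl)
  haveI st2 : IsScalarTower B (Localization.AtPrime q) N := by
    refine ⟨fun b a n => ?_⟩
    change ρ (b • a) • n = b • (ρ a • n)
    rw [map_smul, smul_assoc]
  have e1 : LocalizedModule q.primeCompl M ≃ₗ[B] N := IsLocalizedModule.iso q.primeCompl φ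
  have e2 := e1.extendScalarsOfIsLocalization q.primeCompl (Localization.AtPrime q)
  rw [e2.length_eq]
  exact Module.length_eq_of_surjective (S := Localization.AtPrime q) (R := C) (M := N)
    ρ.surjective

theorem length_localizedModule_eq' {B C : Type u} [CommRing B] [CommRing C] [Algebra B C]
    (q q' : Ideal B) [q.IsPrime] [q'.IsPrime] (hqq : q = q') [IsLocalization.AtPrime C q']
    {M N : Type u} [AddCommGroup M] [Module B M] [AddCommGroup N] [Module B N] [Module C N]
    [IsScalarTower B C N] (φ : M →ₗ[B] N) [IsLocalizedModule q.primeCompl φ] :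
    Module.length (Localization.AtPrime q) (LocalizedModule q.primeCompl M) =
      Module.length C N := by
  subst hqq
  exact length_localizedModule_eq q φ

variable {X : Scheme.{u}}

theorem not_mem_ker_iff {ξ x : X} (h : ξ ⤳ x) (a : X.presheaf.stalk x) :
    a ∉ RingHom.ker (Cyc.specMap x ξ h) ↔ IsUnit ((X.presheaf.stalkSpecializes h).hom a) := by
  rw [ker_specMap h, Ideal.mem_comap, IsLocalRing.mem_maximalIdeal, mem_nonunits_iff, not_not]

/-- `O_ξ` as an algebra over `O_x`. -/
@[reducible] noncomputable def algSpec {ξ x : X} (h : ξ ⤳ x) :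
    Algebra (X.presheaf.stalk x) (X.presheaf.stalk ξ) :=
  (X.presheaf.stalkSpecializes h).hom.toAlgebra

/-- `F_ξ` as a module over `O_x`. -/
@[reducible] noncomputable def modSpec (F : X.Modules) {ξ x : X} (h : ξ ⤳ x) :
    Module (X.presheaf.stalk x) (F.presheaf.stalk ξ) :=
  Module.compHom (F.presheaf.stalk ξ) (X.presheaf.stalkSpecializes h).hom

theorem isScalarTower_spec (F : X.Modules) {ξ x : X} (h : ξ ⤳ x) :
    letI := algSpec h
    letI := modSpec F h
    IsScalarTower (X.presheaf.stalk x) (X.presheaf.stalk ξ) (F.presheaf.stalk ξ) := by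
  letI := algSpec h
  letI := modSpec F h
  exact IsScalarTower.of_algebraMap_smul (fun _ _ => rfl)

/-- `F_x → F_ξ` as an `O_x`-linear map. -/
noncomputable def specLin (F : X.Modules) {ξ x : X} (h : ξ ⤳ x) :
    letI := modSpec F h
    F.presheaf.stalk x →ₗ[X.presheaf.stalk x] F.presheaf.stalk ξ :=
  letI := modSpec F h
  { toFun := fun m => (F.presheaf.stalkSpecializes h).hom m
    map_add' := fun a b => map_add _ a b
    map_smul' := fun r m => spec_smul' F h r m }

theorem specLin_apply (F : X.Modules) {ξ x : X} (h : ξ ⤳ x) (m : F.presheaf.stalk x) :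
    letI := modSpec F h
    specLin F h m = (F.presheaf.stalkSpecializes h).hom m := rfl

theorem isUnit_germ_of_notMem {U : X.Opens} (hU : IsAffineOpen U) (z : U)
    (g : Γ(X, U)) (hg : g ∉ (hU.primeIdealOf z).asIdeal) :
    IsUnit (X.presheaf.germ U z z.2 g) := by
  haveI := hU.isLocalization_stalk z
  exact (IsLocalization.AtPrime.isUnit_to_map_iff (X.presheaf.stalk (z : X))
    (hU.primeIdealOf z).asIdeal g).mpr hg

/-- `F_x → F_ξ` is the localization at the prime of `ξ`. -/
theorem isLocalizedModule_specLin (F : X.Modules) [F.IsQuasicoherent] {ξ x : X} (h : ξ ⤳ x) :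
    letI := modSpec F h
    IsLocalizedModule (RingHom.ker (Cyc.specMap x ξ h)).primeCompl (specLin F h) := by
  letI := modSpec F h
  obtain ⟨_, ⟨U, hU, rfl⟩, hxU, -⟩ :=
    X.isBasis_affineOpens.exists_subset_of_mem_open (Set.mem_univ x) isOpen_univ
  have hξU : ξ ∈ U := spz_mem h hxU
  letI mx := Groth.Agent.Helper13.QCohLoc.modStalk F (⟨x, hxU⟩ : U)
  letI mξ := Groth.Agent.Helper13.QCohLoc.modStalk F (⟨ξ, hξU⟩ : U)
  have Lx := Groth.Agent.Helper13.QCohLoc.isLocalizedModule_germ F hU (⟨x, hxU⟩ : U)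
  have Lξ := Groth.Agent.Helper13.QCohLoc.isLocalizedModule_germ F hU (⟨ξ, hξU⟩ : U)
  refine ⟨?_, ?_, ?_⟩
  · rintro ⟨a, ha⟩
    rw [Module.End.isUnit_iff]
    have hu : IsUnit ((X.presheaf.stalkSpecializes h).hom a) := (not_mem_ker_iff h a).mp ha
    obtain ⟨u, hu⟩ := hu
    refine ⟨fun m₁ m₂ hm => ?_, fun m => ⟨(↑u⁻¹ : X.presheaf.stalk ξ) • m, ?_⟩⟩
    · have h1 : (u : X.presheaf.stalk ξ) • m₁ = (u : X.presheaf.stalk ξ) • m₂ := by
        rw [hu]
        exact hm
      have h2 := congrArg (fun z => (↑u⁻¹ : X.presheaf.stalk ξ) • z) h1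
      simpa [smul_smul] using h2
    · change (X.presheaf.stalkSpecializes h).hom a • ((↑u⁻¹ : X.presheaf.stalk ξ) • m) = m
      rw [← hu, smul_smul, Units.mul_inv, one_smul]
  · intro y
    obtain ⟨⟨σ, ⟨g, hg⟩⟩, hσ⟩ := Lξ.surj y
    have hσ' : X.presheaf.germ U ξ hξU g • y = F.presheaf.germ U ξ hξU σ := hσ
    have hgu : IsUnit (X.presheaf.germ U ξ hξU g) := isUnit_germ_of_notMem hU ⟨ξ, hξU⟩ g hg
    have hmem : X.presheaf.germ U x hxU g ∈ (RingHom.ker (Cyc.specMap x ξ h)).primeCompl := by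
      show X.presheaf.germ U x hxU g ∉ RingHom.ker (Cyc.specMap x ξ h)
      rw [not_mem_ker_iff h, specO_germ' h hxU]
      exact hgu
    refine ⟨⟨F.presheaf.germ U x hxU σ, ⟨X.presheaf.germ U x hxU g, hmem⟩⟩, ?_⟩
    change (X.presheaf.stalkSpecializes h).hom (X.presheaf.germ U x hxU g) • y =
      (F.presheaf.stalkSpecializes h).hom (F.presheaf.germ U x hxU σ)
    rw [specO_germ' h hxU, spec_germ' F h hxU, hσ']
  · intro m₁ m₂ hm
    have hm' : (F.presheaf.stalkSpecializes h).hom m₁ = (F.presheaf.stalkSpecializes h).hom m₂ :=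
      hm
    obtain ⟨⟨σ₁, ⟨g₁, hg₁⟩⟩, hσ₁⟩ := Lx.surj m₁
    obtain ⟨⟨σ₂, ⟨g₂, hg₂⟩⟩, hσ₂⟩ := Lx.surj m₂
    have hσ₁' : X.presheaf.germ U x hxU g₁ • m₁ = F.presheaf.germ U x hxU σ₁ := hσ₁
    have hσ₂' : X.presheaf.germ U x hxU g₂ • m₂ = F.presheaf.germ U x hxU σ₂ := hσ₂
    -- compare `g₂ σ₁` and `g₁ σ₂` at `ξ`
    have hξeq : F.presheaf.germ U ξ hξU (g₂ • σ₁) = F.presheaf.germ U ξ hξU (g₁ • σ₂) := by
      rw [Groth.Agent.Helper13.QCoh.germ_smul, Groth.Agent.Helper13.QCoh.germ_smul,
        ← spec_germ' F h hxU σ₁, ← spec_germ' F h hxU σ₂, ← hσ₁', ← hσ₂',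
        spec_smul', spec_smul', specO_germ' h hxU, specO_germ' h hxU, hm', smul_smul, smul_smul,
        mul_comm]
    obtain ⟨⟨c, hc⟩, hceq⟩ := Lξ.exists_of_eq
      (x₁ := g₂ • σ₁) (x₂ := g₁ • σ₂) hξeq
    have hceq' : c • (g₂ • σ₁) = c • (g₁ • σ₂) := hceq
    have hcu : IsUnit (X.presheaf.germ U ξ hξU c) := isUnit_germ_of_notMem hU ⟨ξ, hξU⟩ c hc
    have hg₁u : IsUnit (X.presheaf.germ U x hxU g₁) := isUnit_germ_of_notMem hU ⟨x, hxU⟩ g₁ hg₁
    have hg₂u : IsUnit (X.presheaf.germ U x hxU g₂) := isUnit_germ_of_notMem hU ⟨x, hxU⟩ g₂ hg₂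
    have hmem : X.presheaf.germ U x hxU c * (X.presheaf.germ U x hxU g₁ *
        X.presheaf.germ U x hxU g₂) ∈ (RingHom.ker (Cyc.specMap x ξ h)).primeCompl := by
      show _ ∉ RingHom.ker (Cyc.specMap x ξ h)
      rw [not_mem_ker_iff h, map_mul]
      refine IsUnit.mul ?_ ((hg₁u.mul hg₂u).map _)
      rw [specO_germ' h hxU]
      exact hcu
    refine ⟨⟨_, hmem⟩, ?_⟩
    change (X.presheaf.germ U x hxU c * (X.presheaf.germ U x hxU g₁ *
        X.presheaf.germ U x hxU g₂)) • m₁ = (X.presheaf.germ U x hxU c *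
        (X.presheaf.germ U x hxU g₁ * X.presheaf.germ U x hxU g₂)) • m₂
    have e1 : (X.presheaf.germ U x hxU c * (X.presheaf.germ U x hxU g₁ *
        X.presheaf.germ U x hxU g₂)) • m₁ = F.presheaf.germ U x hxU (c • (g₂ • σ₁)) := by
      rw [Groth.Agent.Helper13.QCoh.germ_smul, Groth.Agent.Helper13.QCoh.germ_smul, ← hσ₁',
        smul_smul, smul_smul]
      congr 1
      ring
    have e2 : (X.presheaf.germ U x hxU c * (X.presheaf.germ U x hxU g₁ *
        X.presheaf.germ U x hxU g₂)) • m₂ = F.presheaf.germ U x hxU (c • (g₁ • σ₂)) := by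
      rw [Groth.Agent.Helper13.QCoh.germ_smul, Groth.Agent.Helper13.QCoh.germ_smul, ← hσ₂',
        smul_smul, smul_smul]
      congr 1
      ring
    rw [e1, e2, hceq']

/-- The length of `F_ξ` is the length of the localization of `F_x` at the prime of `ξ`. -/
theorem length_stalk_generization (F : X.Modules) [F.IsQuasicoherent] {ξ x : X} (h : ξ ⤳ x) :
    Module.length (Localization.AtPrime (RingHom.ker (Cyc.specMap x ξ h)))
        (LocalizedModule (RingHom.ker (Cyc.specMap x ξ h)).primeCompl (F.presheaf.stalk x)) =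
      Module.length (X.presheaf.stalk ξ) (F.presheaf.stalk ξ) := by
  letI := algSpec h
  letI := modSpec F h
  haveI := isScalarTower_spec F h
  haveI := isLocalizedModule_specLin F h
  haveI : (Ideal.comap (X.presheaf.stalkSpecializes h).hom
    (IsLocalRing.maximalIdeal (X.presheaf.stalk ξ))).IsPrime := Ideal.comap_isPrime _ _
  haveI hloc := Groth.Agent.Helper23.RegPull.isLocalization_stalkSpecializes X h
  exact length_localizedModule_eq' (RingHom.ker (Cyc.specMap x ξ h)) _ (ker_specMap h)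
    (specLin F h)

/-- The prime of `ξ` lies in the support of `F_x` iff `F_ξ ≠ 0`. -/
theorem mem_support_iff_nontrivial (F : X.Modules) [F.IsQuasicoherent] {ξ x : X} (h : ξ ⤳ x) :
    (⟨RingHom.ker (Cyc.specMap x ξ h), inferInstance⟩ : PrimeSpectrum (X.presheaf.stalk x)) ∈
        Module.support (X.presheaf.stalk x) (F.presheaf.stalk x) ↔
      Nontrivial (F.presheaf.stalk ξ) := by
  letI := modSpec F h
  haveI := isLocalizedModule_specLin F h
  rw [Module.mem_support_iff]
  have e1 : LocalizedModule (RingHom.ker (Cyc.specMap x ξ h)).primeCompl (F.presheaf.stalk x)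
      ≃ₗ[X.presheaf.stalk x] F.presheaf.stalk ξ :=
    IsLocalizedModule.iso (RingHom.ker (Cyc.specMap x ξ h)).primeCompl (specLin F h)
  exact e1.toEquiv.nontrivial_congr

end Groth.Agent.Lead.GysinSh
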