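import Groth.Agent.Lib.Lead.GysinSh1

/-!
# The Gysin pullback of the cycle of a coherent module

`i^*[F]_{k+1} = [i^*F]_k` pointwise, for the zero scheme `i : D → X` of a section acting
injectively on `F`.
-/

set_option autoImplicit false
universe u
open CategoryTheory CategoryTheory.Limits AlgebraicGeometry Opposite TopologicalSpace
open Groth.Agent.Helper13.Inv
open scoped Pointwise TensorProduct

namespace Groth.Agent.Lead.GysinSh

open Groth.Agent.Lead.SecOrd

/-- The length formula for `M/f₀M` with `f₀` regular on `M` and `dim M ≤ 1`. -/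
theorem length_quot_eq_sum {A : Type u} [CommRing A] [IsNoetherianRing A] [IsLocalRing A]
    (M : Type u) [AddCommGroup M] [Module A M] [Module.Finite A M] (f₀ : A)
    (hinj : Function.Injective (fun m : M => f₀ • m))
    (h1 : ∀ q ∈ Module.support A M, ∀ p ∈ Module.support A M, q < p →
      p.asIdeal = IsLocalRing.maximalIdeal A) :
    ∃ S : Finset (PrimeSpectrum A),
      (∀ p, p ∈ S ↔ p ∈ Module.support A M ∧ p.asIdeal ≠ IsLocalRing.maximalIdeal A) ∧
      (∀ p ∈ S, f₀ ∉ p.asIdeal) ∧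
      ((Module.length A (M ⧸ f₀ • (⊤ : Submodule A M))).toNat : ℤ) =
        ∑ p ∈ S, ((Module.length (Localization.AtPrime p.asIdeal)
            (LocalizedModule p.asIdeal.primeCompl M)).toNat : ℤ) *
          ((Ring.ord (A ⧸ p.asIdeal) (Ideal.Quotient.mk p.asIdeal f₀)).toNat : ℤ) := by
  classical
  have hnot : ∀ p ∈ Module.support A M, p.asIdeal ≠ IsLocalRing.maximalIdeal A →
      f₀ ∉ p.asIdeal := by
    intro p hp hpm hf
    have hann : Module.annihilator A M ≤ p.asIdeal := Module.mem_support_iff_of_finite.mp hp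
    have hmin : p.asIdeal ∈ (Module.annihilator A M).minimalPrimes := by
      refine ⟨⟨p.isPrime, hann⟩, ?_⟩
      rintro q' ⟨hq'prime, hq'ann⟩ hq'p
      by_contra hnle
      have hq'supp : (⟨q', hq'prime⟩ : PrimeSpectrum A) ∈ Module.support A M :=
        Module.mem_support_iff_of_finite.mpr hq'ann
      have hle : (⟨q', hq'prime⟩ : PrimeSpectrum A) ≤ p := hq'p
      have hlt : (⟨q', hq'prime⟩ : PrimeSpectrum A) < p := by
        refine lt_of_le_of_ne hle ?_
        intro heq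
        apply hnle
        rw [← heq]
      exact hpm (h1 _ hq'supp p hp hlt)
    have hass : p.asIdeal ∈ associatedPrimes A M :=
      Module.associatedPrimes.minimalPrimes_annihilator_subset_associatedPrimes A M hmin
    have hmem : f₀ ∈ ⋃ q ∈ associatedPrimes A M, (q : Set A) := Set.mem_biUnion hass hf
    rw [biUnion_associatedPrimes_eq_compl_regular] at hmem
    exact hmem hinj
  have hsd1 : Module.supportDim A M ≤ 1 := by
    unfold Module.supportDim
    rw [Order.krullDim_le_one_iff]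
    rintro ⟨p, hp⟩
    by_cases hpm : p.asIdeal = IsLocalRing.maximalIdeal A
    · right
      rintro ⟨q, hq⟩ _
      show q.asIdeal ≤ p.asIdeal
      rw [hpm]
      exact IsLocalRing.le_maximalIdeal q.isPrime.ne_top
    · left
      rintro ⟨q, hq⟩ hle
      by_contra hnle
      have hlt : q < p := lt_of_le_not_ge hle hnle
      exact hpm (h1 q hq p hp hlt)
  have hQ : ∀ p ∈ Module.support A (M ⧸ f₀ • (⊤ : Submodule A M)),
      p.asIdeal = IsLocalRing.maximalIdeal A := by
    intro p hp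
    by_contra hpm
    have hpM : p ∈ Module.support A M :=
      Module.support_subset_of_surjective (f₀ • (⊤ : Submodule A M)).mkQ
        (Submodule.mkQ_surjective _) hp
    have hann : Module.annihilator A (M ⧸ f₀ • (⊤ : Submodule A M)) ≤ p.asIdeal :=
      Module.mem_support_iff_of_finite.mp hp
    apply hnot p hpM hpm
    apply hann
    rw [Module.mem_annihilator]
    intro y
    obtain ⟨m, rfl⟩ := Submodule.mkQ_surjective _ y
    rw [← map_smul]
    exact (Submodule.Quotient.mk_eq_zero _).mpr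
      (Submodule.smul_mem_pointwise_smul m f₀ ⊤ trivial)
  have hsd0 : Module.supportDim A (M ⧸ f₀ • (⊤ : Submodule A M)) ≤ 0 := by
    unfold Module.supportDim
    rw [Order.krullDim_nonpos_iff_forall_isMax]
    rintro ⟨p, hp⟩ ⟨q, hq⟩ _
    show q.asIdeal ≤ p.asIdeal
    rw [hQ p hp, hQ q hq]
  have hmain := Groth.Agent.Lib.Helper26.LenD.main A M f₀ hsd1 hsd0
  have hker : Module.length A (LinearMap.ker (LinearMap.lsmul A M f₀)) = 0 := by
    have hb : LinearMap.ker (LinearMap.lsmul A M f₀) = ⊥ := by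
      rw [LinearMap.ker_eq_bot]
      exact hinj
    rw [hb]
    exact Module.length_bot
  rw [hker, zero_add] at hmain
  have hfin := Groth.Agent.Lib.Helper26.LenB.finite_nonmaximal_support M h1
  obtain ⟨g, hg⟩ : ∃ g : PrimeSpectrum A → ℕ∞, g = fun p =>
      Ring.ord (A ⧸ p.asIdeal) (Ideal.Quotient.mk p.asIdeal f₀) *
        Module.length (Localization.AtPrime p.asIdeal)
          (LocalizedModule p.asIdeal.primeCompl M) := ⟨_, rfl⟩
  have hsum : Module.length A (M ⧸ f₀ • (⊤ : Submodule A M)) = ∑ p ∈ hfin.toFinset, g p := by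
    rw [hmain, hg]
    exact finsum_mem_eq_finite_toFinset_sum _ hfin
  have hfl : Module.length A (M ⧸ f₀ • (⊤ : Submodule A M)) ≠ ⊤ := by
    rw [Module.length_ne_top_iff]
    apply Groth.Agent.Lib.Helper26.LenB.isFiniteLength_of_support
    intro p hp
    rw [hQ p hp]
    exact IsLocalRing.maximalIdeal.isMaximal A
  have hne : ∀ p ∈ hfin.toFinset, g p ≠ ⊤ := by
    intro p hp htop
    apply hfl
    rw [hsum, eq_top_iff, ← htop]
    exact Finset.single_le_sum (fun _ _ => zero_le) hp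
  have hcast : (∑ p ∈ hfin.toFinset, g p) =
      ((∑ p ∈ hfin.toFinset, (g p).toNat : ℕ) : ℕ∞) := by
    rw [Nat.cast_sum]
    exact Finset.sum_congr rfl (fun p hp => (ENat.coe_toNat (hne p hp)).symm)
  refine ⟨hfin.toFinset, fun p => ?_, fun p hp => ?_, ?_⟩
  · rw [Set.Finite.mem_toFinset]
    rfl
  · have h2 := (Set.Finite.mem_toFinset hfin).mp hp
    exact hnot p h2.1 h2.2
  · rw [hsum, hcast, ENat.toNat_coe]
    push_cast
    refine Finset.sum_congr rfl (fun p _ => ?_)
    rw [hg]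
    simp only [ENat.toNat_mul]
    push_cast
    ring

variable {X : Scheme.{u}}

/-- `i^*[F]_{k+1} = [i^*F]_k` pointwise. -/
theorem main_pointwise (X D : Scheme.{u}) (δ : X → ℤ) (hX : Cyc.IsSetup X δ) (L : X.Modules)
    (hL : PicF.IsInvertible L) (s : L.presheaf.obj (Opposite.op ⊤)) (i : D ⟶ X)
    [IsClosedImmersion i] (hD : Cyc.IsZeroSchemeOf i L s) (k : ℤ) (F : X.Modules)
    (hF : Coh.IsCoh F)
    (hdim : ∀ x : X, Nontrivial (F.presheaf.stalk x) → δ x ≤ k + 1)
    (hreg : ∀ (x : X) (t : L.presheaf.stalk x) (f : X.presheaf.stalk x),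
      Submodule.span (X.presheaf.stalk x) {t} = ⊤ → (L.presheaf.germ ⊤ x trivial) s = f • t →
      Function.Injective (fun m : F.presheaf.stalk x => f • m))
    (w : (ξ : X) → Cyc.secFibre L ξ) (d : D) :
    Cyc.c1CapFun δ L (Cyc.sheafFun δ (k + 1) F) (Cyc.gysinChoice L s w) (i d) =
      Cyc.sheafFun (fun d => δ (i d)) k ((Scheme.Modules.pullback i).obj F) d := by
  classical
  obtain ⟨hN, -, hδ⟩ := hX
  haveI := hN
  haveI : F.IsQuasicoherent := hF.1
  haveI : SheafOfModules.IsFiniteType (R := X.ringCatSheaf) F := hF.2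
  show (∑ᶠ ξ : X, Cyc.sheafFun δ (k + 1) F ξ *
    Cyc.secDivFun δ L ξ (Cyc.gysinChoice L s w ξ) (i d)) = _
  have hterm0 : ∀ ξ : X,
      ¬ (ξ ⤳ i d ∧ δ (i d) = k ∧ δ ξ = k + 1 ∧ Nontrivial (F.presheaf.stalk ξ)) →
      Cyc.sheafFun δ (k + 1) F ξ *
        Cyc.secDivFun δ L ξ (Cyc.gysinChoice L s w ξ) (i d) = 0 := by
    intro ξ hnot
    by_cases h1 : δ ξ = k + 1
    · by_cases h3 : Nontrivial (F.presheaf.stalk ξ)
      · unfold Cyc.secDivFun
        by_cases h2 : ξ ⤳ i d ∧ δ (i d) + 1 = δ ξ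
        · exfalso
          exact hnot ⟨h2.1, by omega, h1, h3⟩
        · rw [dif_neg h2, mul_zero]
      · rw [sheafFun_pos' δ (k + 1) F ξ h1]
        haveI : Subsingleton (F.presheaf.stalk ξ) := not_nontrivial_iff_subsingleton.mp h3
        rw [Module.length_eq_zero, ENat.toNat_zero, Nat.cast_zero, zero_mul]
    · rw [sheafFun_neg' δ (k + 1) F ξ h1, zero_mul]
  by_cases hxk : δ (i d) = k
  swap
  · have hR : Cyc.sheafFun (fun d => δ (i d)) k ((Scheme.Modules.pullback i).obj F) d = 0 :=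
      sheafFun_neg' _ _ _ _ hxk
    rw [hR]
    apply finsum_eq_zero_of_forall_eq_zero
    intro ξ
    exact hterm0 ξ (fun h => hxk h.2.1)
  -- local generator
  obtain ⟨W, hxW, e, he⟩ := (isInvertible_iff_exists_isGen L).1 hL (i d)
  obtain ⟨g, hg⟩ := Groth.Agent.Helper23.RegMero.IsGenOn.exists_smul_eq (L := L) (e := e) he
    (L.presheaf.map (homOfLE (le_top : W ≤ ⊤)).op s)
  obtain ⟨f₀, hf₀⟩ : ∃ f₀ : X.presheaf.stalk (i d), f₀ = X.presheaf.germ W (i d) hxW g :=
    ⟨_, rfl⟩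
  obtain ⟨t₀, ht₀e⟩ : ∃ t₀ : L.presheaf.stalk (i d), t₀ = L.presheaf.germ W (i d) hxW e :=
    ⟨_, rfl⟩
  have hbij : Function.Bijective (fun r : X.presheaf.stalk (i d) => r • t₀) := by
    rw [ht₀e]
    exact he (i d) hxW
  have hgermx : L.presheaf.germ ⊤ (i d) trivial s = f₀ • t₀ := by
    rw [hf₀, ht₀e, ← Groth.Agent.Helper13.QCoh.germ_smul, ← hg, TopCat.Presheaf.germ_res_apply]
  have hgermξ : ∀ (ξ : X) (h : ξ ⤳ i d), L.presheaf.germ ⊤ ξ trivial s =
      (X.presheaf.stalkSpecializes h).hom f₀ • L.presheaf.germ W ξ (spz_mem h hxW) e := by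
    intro ξ h
    rw [hf₀, specO_germ' h hxW, ← Groth.Agent.Helper13.QCoh.germ_smul, ← hg,
      TopCat.Presheaf.germ_res_apply]
  have ht₀ : Submodule.span (X.presheaf.stalk (i d)) {t₀} = ⊤ := by
    rw [eq_top_iff]
    intro m _
    obtain ⟨r, hr⟩ := hbij.2 m
    exact Submodule.mem_span_singleton.mpr ⟨r, hr⟩
  obtain ⟨t, f, ht, hsf, hkerf⟩ := hD.2 d
  have hspan : (Ideal.span {f} : Ideal (X.presheaf.stalk (i d))) = Ideal.span {f₀} := by
    obtain ⟨u, hu⟩ := hbij.2 t
    have hu' : u • t₀ = t := hu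
    have h0 : t₀ ∈ Submodule.span (X.presheaf.stalk (i d)) {t} := by
      rw [ht]
      trivial
    obtain ⟨v, hv⟩ := Submodule.mem_span_singleton.mp h0
    have hvu : v * u = 1 := by
      apply hbij.1
      show (v * u) • t₀ = (1 : X.presheaf.stalk (i d)) • t₀
      rw [mul_smul, hu', hv, one_smul]
    have hff : f₀ = f * u := by
      apply hbij.1
      show f₀ • t₀ = (f * u) • t₀
      rw [mul_smul, hu', ← hsf, hgermx]
    have huu : IsUnit u := IsUnit.of_mul_eq_one v (by rw [mul_comm]; exact hvu)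
    rw [hff, Ideal.span_singleton_mul_right_unit huu]
  have hker : RingHom.ker (i.stalkMap d).hom = Ideal.span {f₀} := hkerf.trans hspan
  have hinj : Function.Injective (fun m : F.presheaf.stalk (i d) => f₀ • m) :=
    hreg (i d) t₀ f₀ ht₀ hgermx
  haveI : Module.Finite (X.presheaf.stalk (i d)) (F.presheaf.stalk (i d)) :=
    Groth.Agent.Helper13.LocFree.finite_stalk_of_isFiniteType F (i d)
  have h1 : ∀ q ∈ Module.support (X.presheaf.stalk (i d)) (F.presheaf.stalk (i d)),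
      ∀ p ∈ Module.support (X.presheaf.stalk (i d)) (F.presheaf.stalk (i d)), q < p →
      p.asIdeal = IsLocalRing.maximalIdeal (X.presheaf.stalk (i d)) := by
    intro q hq p hp hqp
    haveI := q.isPrime
    haveI := p.isPrime
    obtain ⟨ξq, hq', hqξ⟩ :=
      Groth.Agent.Helper23.RegPull.exists_generization_of_isPrime X (i d) q.asIdeal
    obtain ⟨ξp, hp', hpξ⟩ :=
      Groth.Agent.Helper23.RegPull.exists_generization_of_isPrime X (i d) p.asIdeal
    have hkq : RingHom.ker (Cyc.specMap (i d) ξq hq') = q.asIdeal := by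
      rw [ker_specMap hq', ← hqξ]
    have hkp : RingHom.ker (Cyc.specMap (i d) ξp hp') = p.asIdeal := by
      rw [ker_specMap hp', ← hpξ]
    have hsp : ξq ⤳ ξp := specializes_of_ker_specMap_le hp' hq' (by
      rw [hkq, hkp]
      exact hqp.le)
    have hne : ξq ≠ ξp := by
      intro hee
      have h2 := ker_specMap_congr hee hq' hp'
      rw [hkq, hkp] at h2
      exact hqp.ne (PrimeSpectrum.ext h2)
    have heq : (⟨RingHom.ker (Cyc.specMap (i d) ξq hq'), inferInstance⟩ :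
        PrimeSpectrum (X.presheaf.stalk (i d))) = q := PrimeSpectrum.ext hkq
    have hFq : Nontrivial (F.presheaf.stalk ξq) :=
      (mem_support_iff_nontrivial F hq').mp (by rw [heq]; exact hq)
    have d1 := hdim ξq hFq
    have d2 := (hδ ξq ξp hsp hne).1
    by_contra hpm
    have hne' : ξp ≠ i d := by
      intro hξx
      apply hpm
      rw [← hkp]
      exact (ker_specMap_eq_maximalIdeal_iff hp').mpr hξx
    have d3 := (hδ ξp (i d) hp' hne').1
    omega
  obtain ⟨S, hS, hSf, hlen⟩ := length_quot_eq_sum (F.presheaf.stalk (i d)) f₀ hinj h1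
  have hRHS : Cyc.sheafFun (fun d => δ (i d)) k ((Scheme.Modules.pullback i).obj F) d =
      ((Module.length (X.presheaf.stalk (i d)) (F.presheaf.stalk (i d) ⧸
        f₀ • (⊤ : Submodule (X.presheaf.stalk (i d)) (F.presheaf.stalk (i d))))).toNat : ℤ) := by
    rw [sheafFun_pos' (fun d => δ (i d)) k _ d hxk]
    obtain ⟨e'⟩ := Groth.Agent.Helper13.Pullback.exists_stalk_pullback_equiv i F d
    rw [e'.length_eq,
      length_tensor_of_surjective (i.stalkMap d).hom (Scheme.Hom.stalkMap_surjective i d) f₀ hker]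
  rw [hRHS, hlen]
  -- orders along generizations
  have hsec : ∀ (ξ : X) (h : ξ ⤳ i d),
      Cyc.secOrdAt L ξ (i d) h (Submodule.Quotient.mk ((L.presheaf.germ ⊤ ξ trivial) s)) =
        CycAlg.ordFrac (Cyc.LocQuot (i d) ξ h) (X.residueField ξ)
          (algebraMap (Cyc.LocQuot (i d) ξ h) (X.residueField ξ)
            (Ideal.Quotient.mk (RingHom.ker (Cyc.specMap (i d) ξ h)) f₀)) := by
    intro ξ h
    rw [hgermξ ξ h, secOrdAt_of_isGen' L h hxW e (he (i d) hxW) (he ξ (spz_mem h hxW))]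
    rfl
  obtain ⟨T, hT⟩ : ∃ T : X → ℤ, T = fun ξ => Cyc.sheafFun δ (k + 1) F ξ *
      Cyc.secDivFun δ L ξ (Cyc.gysinChoice L s w ξ) (i d) := ⟨_, rfl⟩
  have hTdef : ∀ ξ, T ξ = Cyc.sheafFun δ (k + 1) F ξ *
      Cyc.secDivFun δ L ξ (Cyc.gysinChoice L s w ξ) (i d) := by
    intro ξ
    rw [hT]
  obtain ⟨G, hG⟩ : ∃ G : Set X,
      G = {ξ : X | ξ ⤳ i d ∧ δ ξ = k + 1 ∧ Nontrivial (F.presheaf.stalk ξ)} := ⟨_, rfl⟩
  obtain ⟨Gq, hGq⟩ : ∃ Gq : PrimeSpectrum (X.presheaf.stalk (i d)) → ℤ, Gq = fun p =>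
      ((Module.length (Localization.AtPrime p.asIdeal)
        (LocalizedModule p.asIdeal.primeCompl (F.presheaf.stalk (i d)))).toNat : ℤ) *
      ((Ring.ord (X.presheaf.stalk (i d) ⧸ p.asIdeal)
        (Ideal.Quotient.mk p.asIdeal f₀)).toNat : ℤ) := ⟨_, rfl⟩
  have hsupp : Function.support T ⊆ G := by
    intro ξ hξ
    rw [hG]
    by_contra hnot
    apply hξ
    rw [hTdef]
    apply hterm0 ξ
    rintro ⟨h, -, hξk, hnt⟩
    exact hnot ⟨h, hξk, hnt⟩
  have hsum1 : (∑ᶠ ξ : X, Cyc.sheafFun δ (k + 1) F ξ *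
      Cyc.secDivFun δ L ξ (Cyc.gysinChoice L s w ξ) (i d)) = ∑ᶠ ξ ∈ G, T ξ := by
    rw [finsum_mem_def, Set.indicator_eq_self.mpr hsupp, hT]
  rw [hsum1]
  let ef : X → PrimeSpectrum (X.presheaf.stalk (i d)) := fun ξ =>
    if h : ξ ⤳ i d then ⟨RingHom.ker (Cyc.specMap (i d) ξ h), inferInstance⟩
    else IsLocalRing.closedPoint (X.presheaf.stalk (i d))
  have hef : ∀ (ξ : X) (h : ξ ⤳ i d),
      ef ξ = ⟨RingHom.ker (Cyc.specMap (i d) ξ h), inferInstance⟩ := fun ξ h => dif_pos h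
  have hmemS : ∀ (ξ : X) (h : ξ ⤳ i d), δ ξ = k + 1 → Nontrivial (F.presheaf.stalk ξ) →
      (⟨RingHom.ker (Cyc.specMap (i d) ξ h), inferInstance⟩ :
        PrimeSpectrum (X.presheaf.stalk (i d))) ∈ S := by
    intro ξ h hξk hnt
    rw [hS]
    refine ⟨(mem_support_iff_nontrivial F h).mpr hnt, ?_⟩
    intro hmax
    have hξx : ξ = i d := (ker_specMap_eq_maximalIdeal_iff h).mp hmax
    rw [hξx] at hξk
    omega
  have hbijOn : Set.BijOn ef G (S : Set (PrimeSpectrum (X.presheaf.stalk (i d)))) := by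
    rw [hG]
    refine ⟨?_, ?_, ?_⟩
    · rintro ξ ⟨h, hξk, hnt⟩
      rw [Finset.mem_coe, hef ξ h]
      exact hmemS ξ h hξk hnt
    · rintro ξ ⟨h, -⟩ ξ' ⟨h', -⟩ hee
      rw [hef ξ h, hef ξ' h'] at hee
      exact eq_of_ker_specMap_eq h h' (congrArg PrimeSpectrum.asIdeal hee)
    · intro q hq
      rw [Finset.mem_coe, hS] at hq
      obtain ⟨hqs, hqm⟩ := hq
      haveI := q.isPrime
      obtain ⟨ξ, h, hqξ⟩ :=
        Groth.Agent.Helper23.RegPull.exists_generization_of_isPrime X (i d) q.asIdeal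
      have hker' : RingHom.ker (Cyc.specMap (i d) ξ h) = q.asIdeal := by
        rw [ker_specMap h, ← hqξ]
      have heq : (⟨RingHom.ker (Cyc.specMap (i d) ξ h), inferInstance⟩ :
          PrimeSpectrum (X.presheaf.stalk (i d))) = q := PrimeSpectrum.ext hker'
      have hnt : Nontrivial (F.presheaf.stalk ξ) :=
        (mem_support_iff_nontrivial F h).mp (by rw [heq]; exact hqs)
      have hne : ξ ≠ i d := by
        intro hξx
        apply hqm
        rw [← hker']
        exact (ker_specMap_eq_maximalIdeal_iff h).mpr hξx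
      have d1 := (hδ ξ (i d) h hne).1
      have d2 := hdim ξ hnt
      refine ⟨ξ, ⟨h, by omega, hnt⟩, ?_⟩
      rw [hef ξ h]
      exact heq
  have hval : ∀ ξ ∈ G, T ξ = Gq (ef ξ) := by
    intro ξ hξ
    rw [hG] at hξ
    obtain ⟨h, hξk, hnt⟩ := hξ
    have hf₀q : f₀ ∉ RingHom.ker (Cyc.specMap (i d) ξ h) := hSf _ (hmemS ξ h hξk hnt)
    have hmkne : (Submodule.Quotient.mk ((L.presheaf.germ ⊤ ξ trivial) s) : Cyc.secFibre L ξ) ≠
        0 := by
      rw [hgermξ ξ h]
      intro h0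
      have h2 := (mk_smul_eq_zero_iff L ξ _ (he ξ (spz_mem h hxW)) _).mp h0
      exact hf₀q (RingHom.mem_ker.mpr h2)
    have hgc : Cyc.gysinChoice L s w ξ =
        Submodule.Quotient.mk ((L.presheaf.germ ⊤ ξ trivial) s) := by
      unfold Cyc.gysinChoice
      rw [if_pos hmkne]
    rw [hTdef, hef ξ h, hGq, sheafFun_pos' δ (k + 1) F ξ hξk]
    unfold Cyc.secDivFun
    rw [dif_pos ⟨h, by omega⟩, hgc, hsec ξ h]
    have hne0 : Ideal.Quotient.mk (RingHom.ker (Cyc.specMap (i d) ξ h)) f₀ ≠ 0 := by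
      intro h0
      exact hf₀q (Ideal.Quotient.eq_zero_iff_mem.mp h0)
    haveI : Ring.KrullDimLE 1 (Cyc.LocQuot (i d) ξ h) :=
      krullDimLE_locQuot_of_delta δ hδ h (by omega)
    haveI : IsFractionRing (Cyc.LocQuot (i d) ξ h) (X.residueField ξ) := isFractionRing_locQuot h
    have hord := Groth.Agent.Helper25.LatDet.ordFrac_algebraMap (A := Cyc.LocQuot (i d) ξ h)
      (K := X.residueField ξ) hne0
    show (_ : ℤ) * _ = ((Module.length (Localization.AtPrime
        (RingHom.ker (Cyc.specMap (i d) ξ h)))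
      (LocalizedModule (RingHom.ker (Cyc.specMap (i d) ξ h)).primeCompl
        (F.presheaf.stalk (i d)))).toNat : ℤ) *
      ((Ring.ord (Cyc.LocQuot (i d) ξ h)
        (Ideal.Quotient.mk (RingHom.ker (Cyc.specMap (i d) ξ h)) f₀)).toNat : ℤ)
    rw [hord, length_stalk_generization F h]
  rw [finsum_mem_eq_of_bijOn ef hbijOn hval, finsum_mem_coe_finset, hGq]

/-- `i^*[F]_{k+1} ∼_rat [i^*F]_k`. -/
theorem main (X D : Scheme.{u}) (δ : X → ℤ) (hX : Cyc.IsSetup X δ) (L : X.Modules)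
    (hL : PicF.IsInvertible L) (s : L.presheaf.obj (Opposite.op ⊤)) (i : D ⟶ X)
    [IsClosedImmersion i] (hD : Cyc.IsZeroSchemeOf i L s) (k : ℤ) (F : X.Modules)
    (hF : Coh.IsCoh F)
    (hdim : ∀ x : X, Nontrivial (F.presheaf.stalk x) → δ x ≤ k + 1)
    (hreg : ∀ (x : X) (t : L.presheaf.stalk x) (f : X.presheaf.stalk x),
      Submodule.span (X.presheaf.stalk x) {t} = ⊤ → (L.presheaf.germ ⊤ x trivial) s = f • t →
      Function.Injective (fun m : F.presheaf.stalk x => f • m))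
    (w : (ξ : X) → Cyc.secFibre L ξ) (γ : AlgebraicCycle D ℤ)
    (hγ : ∀ d, γ d = Cyc.c1CapFun δ L (Cyc.sheafFun δ (k + 1) F) (Cyc.gysinChoice L s w) (i d))
    (ζ : AlgebraicCycle D ℤ)
    (hζ : ⇑ζ = Cyc.sheafFun (fun d => δ (i d)) k ((Scheme.Modules.pullback i).obj F)) :
    Cyc.RatEquiv (fun d => δ (i d)) k γ ζ := by
  refine ⟨PEmpty.{u + 1}, fun j => j.elim, fun j => j.elim, fun j => j.elim, fun j => j.elim,
    fun x => ⟨Set.univ, isOpen_univ, trivial, Set.toFinite _⟩, fun x => ?_⟩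
  rw [finsum_of_isEmpty, Function.locallyFinsuppWithin.coe_sub, Pi.sub_apply, hγ x, hζ,
    main_pointwise X D δ hX L hL s i hD k F hF hdim hreg w x, sub_self]

end Groth.Agent.Lead.GysinSh
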