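import Groth.Agent.Lib.Lead.HomSh9
import Groth.Agent.Lib.Lead.CokerDepth

/-!
# Zero loci of sections of rank one reflexive modules have pure codimension one (lead)
-/

set_option autoImplicit false
universe u
open CategoryTheory CategoryTheory.Limits AlgebraicGeometry Opposite TopologicalSpace
open RefHull IsLocalRing
open Groth.Agent.Helper13.QCoh Groth.Agent.Helper13.QCohLoc Groth.Agent.Helper13.LocFree
open Groth.Agent.Helper13.FinType Groth.Agent.Helper13.Inv Groth.Agent.Helper13.WeakAss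

namespace Groth.Agent.Lead.HomSh

variable {X : Scheme.{u}}

/-- if the germ of `s'` generates the stalk at `y ∈ V` (`V` affine), every section over `V` is, up
to a function invertible at `y`, a multiple of `s'`. -/
theorem exists_smul_eq_smul_of_surjective (F : X.Modules) [F.IsQuasicoherent] {V : X.Opens}
    (hV : IsAffineOpen V) (s' : Γ(F, V)) (y : X) (hyV : y ∈ V)
    (hsurj : Function.Surjective
      (fun r : X.presheaf.stalk y => r • F.presheaf.germ V y hyV s'))
    (m₀ : Γ(F, V)) :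
    ∃ t : Γ(X, V), t ∉ (hV.primeIdealOf ⟨y, hyV⟩).asIdeal ∧ ∃ a : Γ(X, V), t • m₀ = a • s' := by
  obtain ⟨r, hr⟩ := hsurj (F.presheaf.germ V y hyV m₀)
  dsimp only at hr
  letI := TopCat.Presheaf.algebra_section_stalk X.presheaf (⟨y, hyV⟩ : V)
  haveI hloc : IsLocalization.AtPrime (X.presheaf.stalk y) (hV.primeIdealOf ⟨y, hyV⟩).asIdeal :=
    hV.isLocalization_stalk ⟨y, hyV⟩
  obtain ⟨⟨a, c⟩, hac⟩ := IsLocalization.surj (hV.primeIdealOf ⟨y, hyV⟩).asIdeal.primeCompl r
  have hac' : r * X.presheaf.germ V y hyV (c : Γ(X, V)) = X.presheaf.germ V y hyV a := hac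
  have h0 : F.presheaf.germ V y hyV ((c : Γ(X, V)) • m₀ - a • s') = 0 := by
    rw [map_sub, Mero.germ_smul, Mero.germ_smul, ← hr, smul_smul, mul_comm, hac', sub_self]
  obtain ⟨g, hyg, hg⟩ := exists_smul_eq_zero_of_germ_eq_zero F hV y hyV _ h0
  refine ⟨g * (c : Γ(X, V)), ?_, g * a, ?_⟩
  · intro hmem
    rcases (hV.primeIdealOf ⟨y, hyV⟩).isPrime.mem_or_mem hmem with h1 | h1
    · exact (mem_basicOpen_iff' hV y hyV g).1 hyg h1
    · exact c.2 h1
  · rw [smul_sub, sub_eq_zero] at hg
    rw [mul_smul, mul_smul, hg]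

theorem le_zero_of_not_one_le {d : WithBot ℕ∞} (h : ¬ 1 ≤ d) : d ≤ 0 := by
  rw [not_le] at h
  induction d using WithBot.recBotCoe with
  | bot => exact bot_le
  | coe n =>
    have h3' : ((n : ℕ∞) : WithBot ℕ∞) < ((1 : ℕ∞) : WithBot ℕ∞) := h
    have h' : n < (1 : ℕ∞) := WithBot.coe_lt_coe.1 h3'
    have h2 : n ≤ (0 : ℕ∞) := by
      have e3 : (1 : ℕ∞) = 0 + 1 := by norm_num
      rw [e3] at h'
      exact Order.le_of_lt_add_one h'
    exact WithBot.coe_le_coe.2 h2

/-- **Pure codimension one of the non-generating locus of a section of a rank one reflexive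
module on a normal scheme.** -/
theorem ringKrullDim_eq_one_of_maximal [IsIntegral X] [IsLocallyNoetherian X]
    (hX : Pi1.IsNormalScheme X) (F : X.Modules) (hF : RefHull.IsRef1 F) (s : Γ(F, ⊤))
    (hs : s ≠ 0) (z : X)
    (hz : ¬ Function.Bijective
      fun a : X.presheaf.stalk z => a • F.presheaf.germ ⊤ z trivial s)
    (hmax : ∀ y : X, ¬ Function.Bijective
      (fun a : X.presheaf.stalk y => a • F.presheaf.germ ⊤ y trivial s) → y ⤳ z → y = z) :
    ringKrullDim (X.presheaf.stalk z) = 1 := by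
  obtain ⟨hcoh, hrefl, hrk⟩ := hF
  haveI : F.IsQuasicoherent := hcoh.1
  haveI : SheafOfModules.IsFiniteType (R := X.ringCatSheaf) F := hcoh.2
  haveI := isFinitePresentation_of_isCoh hcoh
  have hall := (isReflexive_iff_forall_isReflexiveAt F hcoh).1 hrefl
  have hTF := isTorsionFree_of_isReflexive_sheaf F hcoh hrefl
  have hsne : ∀ y : X, F.presheaf.germ ⊤ y trivial s ≠ 0 := by
    by_contra hcon
    push Not at hcon
    obtain ⟨y₀, hy₀⟩ := hcon
    apply hs
    apply sec_ext'
    intro y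
    rw [map_zero]
    by_contra hne
    exact germ_ne_zero_of_germ_ne_zero F hTF s y.1 y₀ trivial trivial hne hy₀
  have hinj : ∀ y : X, Function.Injective
      (fun a : X.presheaf.stalk y => a • F.presheaf.germ ⊤ y trivial s) := by
    intro y r r' h
    dsimp only at h
    have h2 : (r - r') • F.presheaf.germ ⊤ y trivial s = 0 := by rw [sub_smul, h, sub_self]
    rcases (Module.isTorsionFree_iff_smul_eq_zero.1 (hTF y)) _ _ h2 with h1 | h1
    · exact sub_eq_zero.1 h1
    · exact absurd h1 (hsne y)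
  have hnsurj : ¬ Function.Surjective
      (fun a : X.presheaf.stalk z => a • F.presheaf.germ ⊤ z trivial s) :=
    fun h => hz ⟨hinj z, h⟩
  have hgen : ∀ y : X, y ⤳ z → y ≠ z → Function.Surjective
      (fun a : X.presheaf.stalk y => a • F.presheaf.germ ⊤ y trivial s) := by
    intro y hyz hne
    by_contra hcon
    exact hne (hmax y (fun hb => hcon hb.2) hyz)
  haveI : IsDomain (X.presheaf.stalk z) := (hX z).1
  haveI : IsIntegrallyClosed (X.presheaf.stalk z) := (hX z).2
  apply le_antisymm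
  · apply le_one_of_not_two_le
    intro h2
    apply hnsurj
    obtain ⟨V, hV, hzV, -⟩ := exists_isAffineOpen_mem_and_subset (x := z) (U := (⊤ : X.Opens)) trivial
    haveI : IsNoetherianRing Γ(X, V) := IsLocallyNoetherian.component_noetherian ⟨V, hV⟩
    haveI : Module.Finite Γ(X, V) Γ(F, V) := finite_sections_of_isFiniteType F hV
    obtain ⟨s', hs'⟩ : ∃ s' : Γ(F, V), s' = F.presheaf.map (homOfLE (le_top : V ≤ ⊤)).op s :=
      ⟨_, rfl⟩
    have hgerm : ∀ (y : X) (hyV : y ∈ V),
        F.presheaf.germ V y hyV s' = F.presheaf.germ ⊤ y trivial s := by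
      intro y hyV
      rw [hs', TopCat.Presheaf.germ_res_apply]
    obtain ⟨p, hp⟩ : ∃ p : PrimeSpectrum Γ(X, V), hV.primeIdealOf ⟨z, hzV⟩ = p := ⟨_, rfl⟩
    let μ : Γ(X, V) →ₗ[Γ(X, V)] Γ(F, V) := LinearMap.toSpanSingleton Γ(X, V) Γ(F, V) s'
    have hμ : Function.Injective μ := by
      rw [injective_iff_map_eq_zero]
      intro a ha
      have ha' : a • s' = 0 := ha
      have h1 := congrArg (F.presheaf.germ V z hzV) ha'
      rw [Mero.germ_smul, map_zero, hgerm z hzV] at h1
      have h2 : X.presheaf.germ V z hzV a = 0 := by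
        apply hinj z
        dsimp only
        rw [h1, zero_smul]
      apply germ_injective_of_isIntegral X z hzV
      rw [h2, map_zero]
    have hdA : 2 ≤ LocCoh.depth (Localization.AtPrime p.asIdeal)
        (Localization.AtPrime p.asIdeal) := by
      rw [← hp]
      exact Groth.Agent.Lead.CokerDepth.two_le_depth_atPrime_of_normal hV ⟨z, hzV⟩
        (hX z).1 (hX z).2 h2
    have hdM : 2 ≤ LocCoh.depth (Localization.AtPrime p.asIdeal)
        (LocalizedModule p.asIdeal.primeCompl Γ(F, V)) := by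
      rw [← Groth.Agent.Lead.Hartogs.depth_stalk_eq F hV ⟨z, hzV⟩ p hp]
      exact two_le_depth_stalk_of_isReflexiveAt F hcoh z (hX z).2 (hall z) h2
    have hq : ∀ (q : Ideal Γ(X, V)) [q.IsPrime], q < p.asIdeal → ∀ m₀ : Γ(F, V),
        ∃ t : Γ(X, V), t ∉ q ∧ t • m₀ ∈ LinearMap.range μ := by
      intro q hqprime hqp m₀
      obtain ⟨y, hy⟩ : ∃ y : X, y = hV.fromSpec ⟨q, hqprime⟩ := ⟨_, rfl⟩
      have hyV : y ∈ V := by
        rw [hy, ← SetLike.mem_coe, ← hV.range_fromSpec]
        exact ⟨_, rfl⟩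
      have hpy : hV.primeIdealOf ⟨y, hyV⟩ = ⟨q, hqprime⟩ := by
        subst hy
        exact Groth.Agent.Helper13.FlatOver.primeIdealOf_fromSpec' hV _ hyV
      have hyz : y ⤳ z := by
        apply (Groth.Agent.Helper13.CartierMax.primeIdealOf_le_iff hV y z hyV hzV).1
        rw [hpy, hp]
        exact hqp.le
      have hne : y ≠ z := by
        intro hyz'
        subst hyz'
        rw [hp] at hpy
        rw [hpy] at hqp
        exact lt_irrefl _ hqp
      have hsurj := hgen y hyz hne
      rw [← hgerm y hyV] at hsurj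
      obtain ⟨t, ht, a, hta⟩ := exists_smul_eq_smul_of_surjective F hV s' y hyV hsurj m₀
      rw [hpy] at ht
      exact ⟨t, ht, a, hta.symm⟩
    have hconcl := Groth.Agent.Lead.CokerDepth.exists_smul_mem_range_of_depth p.asIdeal Γ(F, V) μ
      hμ hdA hdM hq
    intro v
    obtain ⟨g, hzg, t, ht⟩ := exists_germ_smul_eq F hV z hzV v
    obtain ⟨c, hc, a, ha⟩ := hconcl t
    have ha' : a • s' = c • t := ha
    have hgu : IsUnit (X.presheaf.germ V z hzV g) := (X.mem_basicOpen g z hzV).1 hzg
    have hcu : IsUnit (X.presheaf.germ V z hzV c) := by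
      apply (X.mem_basicOpen c z hzV).1
      rw [mem_basicOpen_iff' hV z hzV c, hp]
      exact hc
    obtain ⟨ug, hug⟩ := hgu
    obtain ⟨uc, huc⟩ := hcu
    refine ⟨(↑ug⁻¹ : X.presheaf.stalk z) * (↑uc⁻¹ : X.presheaf.stalk z) *
      X.presheaf.germ V z hzV a, ?_⟩
    dsimp only
    have e2 : X.presheaf.germ V z hzV a • F.presheaf.germ V z hzV s' =
        X.presheaf.germ V z hzV c • F.presheaf.germ V z hzV t := by
      rw [← Mero.germ_smul, ← Mero.germ_smul, ha']
    rw [← hgerm z hzV, mul_smul, mul_smul, e2, ← ht, ← huc, ← hug, smul_smul (↑uc⁻¹ : X.presheaf.stalk z),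
      Units.inv_mul, one_smul, smul_smul, Units.inv_mul, one_smul]
  · by_contra hlt
    have h0 : ringKrullDim (X.presheaf.stalk z) ≤ 0 := le_zero_of_not_one_le hlt
    haveI hk : Ring.KrullDimLE 0 (X.presheaf.stalk z) := Ring.krullDimLE_iff.2 (by exact_mod_cast h0)
    have hfield : IsField (X.presheaf.stalk z) := Ring.KrullDimLE.isField_of_isDomain
    haveI : IsPrincipalIdealRing (X.presheaf.stalk z) :=
      Groth.Agent.Lead.FreeLoc.isPrincipalIdealRing_of_dim_le_one _ (h0.trans zero_le_one)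
    haveI : Module.Finite (X.presheaf.stalk z) (F.presheaf.stalk z) :=
      finite_stalk_of_isFiniteType F z
    haveI : Module.IsReflexive (X.presheaf.stalk z) (F.presheaf.stalk z) := hall z
    haveI : Nontrivial (F.presheaf.stalk z) := nontrivial_stalk_of_genInvertible F hrk z
    obtain ⟨v, hv⟩ := Groth.Agent.Lead.RankOneUFD.exists_generator_of_rank_one
      (F.presheaf.stalk z) (rank_one_stalk F hrk z)
    obtain ⟨c, hc⟩ := hv.2 (F.presheaf.germ ⊤ z trivial s)
    dsimp only at hc
    have hc0 : c ≠ 0 := by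
      intro h
      rw [h, zero_smul] at hc
      exact hsne z hc.symm
    obtain ⟨c', hc'⟩ := hfield.mul_inv_cancel hc0
    apply hnsurj
    intro w
    obtain ⟨r, hr⟩ := hv.2 w
    dsimp only at hr
    refine ⟨r * c', ?_⟩
    dsimp only
    rw [← hc, smul_smul, mul_assoc, mul_comm c' c, hc', mul_one, hr]

end Groth.Agent.Lead.HomSh
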