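import Groth.Agent.Lib.Lead.HomSh6
import Groth.Agent.Lib.Helper13.CartierMax3
import Groth.Agent.Lib.Lead.Hartogs4
import Groth.Agent.S6879

/-!
# Torsion-free normal coherent modules on normal schemes are reflexive (lead)
-/

set_option autoImplicit false
universe u
open CategoryTheory CategoryTheory.Limits AlgebraicGeometry Opposite TopologicalSpace
open RefHull IsLocalRing
open Groth.Agent.Helper13.QCoh Groth.Agent.Helper13.QCohLoc Groth.Agent.Helper13.LocFree
open Groth.Agent.Helper13.FinType Groth.Agent.Helper28.ReflDepth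
open Groth.Agent.Lead.Depth

namespace Groth.Agent.Lead.HomSh

theorem le_one_of_not_two_le {d : WithBot ℕ∞} (h : ¬ 2 ≤ d) : d ≤ 1 := by
  rw [not_le] at h
  induction d using WithBot.recBotCoe with
  | bot => exact bot_le
  | coe n =>
    have h3' : ((n : ℕ∞) : WithBot ℕ∞) < ((2 : ℕ∞) : WithBot ℕ∞) := h
    have h' : n < (2 : ℕ∞) := WithBot.coe_lt_coe.1 h3'
    have h2 : n ≤ (1 : ℕ∞) := by
      have e3 : (2 : ℕ∞) = 1 + 1 := by norm_num
      rw [e3] at h'
      exact Order.le_of_lt_add_one h'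
    exact WithBot.coe_le_coe.2 h2

variable {X : Scheme.{u}}

/-- **Torsion-free + normal ⇒ reflexive** (coherent modules on a normal integral locally
Noetherian scheme). -/
theorem isReflexive_of_torsionFree_of_normal [IsIntegral X] [IsLocallyNoetherian X]
    (hn : ∀ x : X, IsIntegrallyClosed (X.presheaf.stalk x))
    (F : X.Modules) (hF : Coh.IsCoh F) (hTF : TorSh.IsTorsionFree F)
    (hN : ∀ (U V : X.Opens) (hVU : V ≤ U),
      (∀ x : X, x ∈ U → x ∉ V → (2 : WithBot ℕ∞) ≤ ringKrullDim (X.presheaf.stalk x)) →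
        Function.Bijective (F.presheaf.map (homOfLE hVU).op)) :
    IsReflexive F := by
  haveI : F.IsQuasicoherent := hF.1
  haveI : SheafOfModules.IsFiniteType (R := X.ringCatSheaf) F := hF.2
  rw [isReflexive_iff_forall_isReflexiveAt F hF]
  intro x
  obtain ⟨_, ⟨V, hV, rfl⟩, hxV, -⟩ := X.isBasis_affineOpens.exists_subset_of_mem_open
    (Set.mem_univ x) isOpen_univ
  haveI : Nonempty V := ⟨⟨x, hxV⟩⟩
  haveI : IsNoetherianRing Γ(X, V) := IsLocallyNoetherian.component_noetherian ⟨V, hV⟩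
  haveI : Module.Finite Γ(X, V) Γ(F, V) := finite_sections_of_isFiniteType F hV
  have hM : Module.IsReflexive Γ(X, V) Γ(F, V) := by
    refine (Groth.Agent.S6879.result Γ(X, V) Γ(F, V)).2 (fun p hp => ?_)
    have hyV : hV.fromSpec ⟨p, hp⟩ ∈ V := by
      have : hV.fromSpec ⟨p, hp⟩ ∈ hV.fromSpec.opensRange := ⟨_, rfl⟩
      rwa [hV.opensRange_fromSpec] at this
    have hprime : hV.primeIdealOf ⟨hV.fromSpec ⟨p, hp⟩, hyV⟩ = ⟨p, hp⟩ :=
      Groth.Agent.Helper13.FlatOver.primeIdealOf_fromSpec' hV _ _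
    by_cases h2 : (2 : WithBot ℕ∞) ≤ ringKrullDim (X.presheaf.stalk (hV.fromSpec ⟨p, hp⟩))
    · right
      have hd := Groth.Agent.Lead.Hartogs.depth_stalk_eq F hV ⟨hV.fromSpec ⟨p, hp⟩, hyV⟩
        ⟨p, hp⟩ hprime
      rw [← hd]
      let U : X.Opens := ⟨(closure {hV.fromSpec ⟨p, hp⟩})ᶜ, isClosed_closure.isOpen_compl⟩
      have hyU : hV.fromSpec ⟨p, hp⟩ ∉ U := fun h => h (subset_closure rfl)
      have hbij : Function.Bijective
          (F.presheaf.map (homOfLE (inf_le_left : V ⊓ U ≤ V)).op) :=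
        hN V (V ⊓ U) inf_le_left (fun z hzV hzVU => by
          have hzc : z ∈ closure {hV.fromSpec ⟨p, hp⟩} := by
            by_contra hc
            exact hzVU ⟨hzV, hc⟩
          exact h2.trans (Groth.Agent.Helper13.CartierMax.ringKrullDim_stalk_mono _ z
            (specializes_iff_mem_closure.2 hzc)))
      exact Groth.Agent.Lead.Hartogs.two_le_depth_of_bijective F U V hV hbij _ hyV hyU
    · left
      have hd1 := le_one_of_not_two_le h2
      haveI := hn (hV.fromSpec ⟨p, hp⟩)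
      haveI : IsPrincipalIdealRing (X.presheaf.stalk (hV.fromSpec ⟨p, hp⟩)) :=
        Groth.Agent.Lead.FreeLoc.isPrincipalIdealRing_of_dim_le_one _ hd1
      haveI : Module.IsTorsionFree (X.presheaf.stalk (hV.fromSpec ⟨p, hp⟩))
          (F.presheaf.stalk (hV.fromSpec ⟨p, hp⟩)) := hTF _
      haveI : Module.Finite (X.presheaf.stalk (hV.fromSpec ⟨p, hp⟩))
          (F.presheaf.stalk (hV.fromSpec ⟨p, hp⟩)) := finite_stalk_of_isFiniteType F _
      haveI : Module.Free (X.presheaf.stalk (hV.fromSpec ⟨p, hp⟩))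
          (F.presheaf.stalk (hV.fromSpec ⟨p, hp⟩)) := Module.free_of_finite_type_torsion_free'
      have hry : Module.IsReflexive (X.presheaf.stalk (hV.fromSpec ⟨p, hp⟩))
          (F.presheaf.stalk (hV.fromSpec ⟨p, hp⟩)) := inferInstance
      exact (Groth.Agent.Lead.FreeLoc.isReflexive_stalk_iff' F hV ⟨hV.fromSpec ⟨p, hp⟩, hyV⟩
        ⟨p, hp⟩ hprime).1 hry
  haveI := hM
  exact (Groth.Agent.Lead.FreeLoc.isReflexive_stalk_iff F hV ⟨x, hxV⟩).2
    (isReflexive_localizedModule _ Γ(F, V))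

end Groth.Agent.Lead.HomSh
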