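import Groth.Agent.Lib.Lead.HomSh8

/-!
# Rank one reflexive coherent modules on locally factorial schemes are invertible (lead)
-/

set_option autoImplicit false
universe u
open CategoryTheory CategoryTheory.Limits AlgebraicGeometry Opposite TopologicalSpace
open RefHull IsLocalRing
open Groth.Agent.Helper13.QCoh Groth.Agent.Helper13.QCohLoc Groth.Agent.Helper13.LocFree
open Groth.Agent.Helper13.FinType Groth.Agent.Helper13.Inv Groth.Agent.Helper13.WeakAss

namespace Groth.Agent.Lead.HomSh

variable {X : Scheme.{u}}

/-- the stalks of a finite type generically invertible module on an integral scheme are nonzero. -/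
theorem nontrivial_stalk_of_genInvertible [IsIntegral X] (F : X.Modules)
    [SheafOfModules.IsFiniteType (R := X.ringCatSheaf) F] (hrk : GenInvertible F) (x : X) :
    Nontrivial (F.presheaf.stalk x) := by
  by_contra hcon
  rw [not_nontrivial_iff_subsingleton] at hcon
  obtain ⟨W₀, hηW₀, s₀, hgen⟩ := exists_isGen_genericPoint F hrk
  obtain ⟨U', hxU', hU'top, hsurj⟩ := surjective_smul_germ_near F (0 : Γ(F, ⊤)) x trivial
    (fun v => ⟨0, Subsingleton.elim _ _⟩)
  have hηU' : genericPoint X ∈ U' :=
    ((genericPoint_spec X).mem_open_set_iff U'.isOpen).2 ⟨x, trivial, hxU'⟩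
  have hsub : ∀ v : F.presheaf.stalk (genericPoint X), v = 0 := by
    intro v
    obtain ⟨r, hr⟩ := hsurj (genericPoint X) hηU' v
    dsimp only at hr
    rw [← hr, map_zero, smul_zero]
  have h10 : (1 : X.presheaf.stalk (genericPoint X)) = 0 := by
    apply hgen.1
    dsimp only
    rw [hsub (1 • _), hsub (0 • _)]
  exact one_ne_zero h10

/-- **Rank one reflexive modules on a locally factorial integral locally Noetherian scheme are
invertible.** -/
theorem isInvertible_of_isReflexive_of_ufd [IsIntegral X] [IsLocallyNoetherian X]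
    (hufd : ∀ x : X, UniqueFactorizationMonoid (X.presheaf.stalk x))
    (F : X.Modules) (hF : Coh.IsCoh F) (hrefl : IsReflexive F) (hrk : GenInvertible F) :
    PicF.IsInvertible F := by
  haveI : F.IsQuasicoherent := hF.1
  haveI : SheafOfModules.IsFiniteType (R := X.ringCatSheaf) F := hF.2
  haveI := isFinitePresentation_of_isCoh hF
  have hall := (isReflexive_iff_forall_isReflexiveAt F hF).1 hrefl
  have hTF := isTorsionFree_of_isReflexive_sheaf F hF hrefl
  rw [isInvertible_iff_exists_isGen]
  intro x
  haveI := hufd x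
  haveI : Module.Finite (X.presheaf.stalk x) (F.presheaf.stalk x) :=
    finite_stalk_of_isFiniteType F x
  haveI : Module.IsReflexive (X.presheaf.stalk x) (F.presheaf.stalk x) := hall x
  haveI : Nontrivial (F.presheaf.stalk x) := nontrivial_stalk_of_genInvertible F hrk x
  obtain ⟨v, hv⟩ := Groth.Agent.Lead.RankOneUFD.exists_generator_of_rank_one
    (F.presheaf.stalk x) (rank_one_stalk F hrk x)
  obtain ⟨U, hxU, s, rfl⟩ := TopCat.Presheaf.exists_germ_eq F.presheaf v
  obtain ⟨U', hxU', hU'U, hsurj⟩ := surjective_smul_germ_near F s x hxU hv.2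
  refine ⟨U', hxU', F.presheaf.map (homOfLE hU'U).op s, fun y hy => ?_⟩
  rw [isGen_res]
  refine ⟨?_, hsurj y hy⟩
  have hsx : F.presheaf.germ U x hxU s ≠ 0 := by
    intro h0
    have h10 : (1 : X.presheaf.stalk x) = 0 := by
      apply hv.1
      dsimp only
      rw [h0, smul_zero, smul_zero]
    exact one_ne_zero h10
  have hsy := germ_ne_zero_of_germ_ne_zero F hTF s x y hxU (hU'U hy) hsx
  intro r r' h
  dsimp only at h
  have h2 : (r - r') • F.presheaf.germ U y (hU'U hy) s = 0 := by rw [sub_smul, h, sub_self]
  rcases (Module.isTorsionFree_iff_smul_eq_zero.1 (hTF y)) _ _ h2 with h1 | h1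
  · exact sub_eq_zero.1 h1
  · exact absurd h1 hsy

end Groth.Agent.Lead.HomSh
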