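import Mathlib
import Groth.Agent.Lib.Lead.Depth21
import Groth.Agent.Lib.Lead.Flat3
import Groth.Agent.S0601

/-!
# Hypersurfaces in regular rings are Cohen–Macaulay; normality ⟺ (R₁)
-/

set_option autoImplicit false
set_option linter.style.haveILetI false

universe u

open LocCoh IsLocalRing

namespace Groth.Agent.Lead.Hyper

open Groth.Agent.Lead.Depth

/-- A quotient of a regular local ring by one element of the maximal ideal is Cohen–Macaulay. -/
theorem cm_quotient_of_isRegularLocalRing (R : Type u) [CommRing R] [IsRegularLocalRing R] (x : R)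
    (hx : x ∈ maximalIdeal R) [IsLocalRing (R ⧸ Ideal.span {x})] :
    ringKrullDim (R ⧸ Ideal.span {x}) =
      ((LocCoh.depth (R ⧸ Ideal.span {x}) (R ⧸ Ideal.span {x}) : ℕ∞) : WithBot ℕ∞) := by
  haveI : IsDomain R := Groth.Agent.Lead.RLR.isDomain R
  have hCM : ringKrullDim R = ((LocCoh.depth R R : ℕ∞) : WithBot ℕ∞) := by
    have := (isCohenMacaulayLocalRing_of_isRegularLocalRing (R := R)).supportDim_eq_depth
    rwa [Module.supportDim_self_eq_ringKrullDim] at this
  have hsurj : Function.Surjective (algebraMap R (R ⧸ Ideal.span {x})) :=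
    Ideal.Quotient.mk_surjective
  have d1 : LocCoh.depth R (R ⧸ Ideal.span {x}) =
      LocCoh.depth (R ⧸ Ideal.span {x}) (R ⧸ Ideal.span {x}) :=
    depth_eq_of_surjective hsurj (R ⧸ Ideal.span {x})
  by_cases hx0 : x = 0
  · subst hx0
    have hbot : Ideal.span ({0} : Set R) = ⊥ := by simp
    let e : (R ⧸ Ideal.span ({0} : Set R)) ≃+* R :=
      (Ideal.quotEquivOfEq hbot).trans (RingEquiv.quotientBot R)
    rw [ringKrullDim_eq_of_ringEquiv e, depth_self_eq_of_ringEquiv e]
    exact hCM
  · have hnzd : x ∈ nonZeroDivisors R := mem_nonZeroDivisors_of_ne_zero hx0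
    have hreg : IsSMulRegular R x :=
      (isRegular_iff_mem_nonZeroDivisors.mpr hnzd).left.isSMulRegular
    have hdim := ringKrullDim_quotient_span_singleton_succ_eq_ringKrullDim hreg hx
    have hdep := idealDepth_quotient_span_singleton_self_add_one (maximalIdeal R)
      (maximalIdeal.isMaximal R).ne_top x hx hreg
    rw [← depth_def, ← depth_def, d1] at hdep
    obtain ⟨s, hs, -⟩ := Groth.Agent.Lead.RLR.exists_nat_of_le
      (ringKrullDim_nonneg_of_nontrivial (R := R ⧸ Ideal.span {x}))
      (ringKrullDim_le_spanFinrank_maximalIdeal (R ⧸ Ideal.span {x}))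
    obtain ⟨t, ht⟩ := ENat.ne_top_iff_exists.mp
      (depth_ne_top (R := R ⧸ Ideal.span {x}) (R ⧸ Ideal.span {x}))
    rw [hs, hCM, ← hdep, ← ht] at hdim
    rw [hs, ← ht]
    have h1 : s + 1 = t + 1 := by exact_mod_cast hdim
    have h2 : s = t := by omega
    rw [h2]
    rfl

variable (A : Type u) [CommRing A] [IsNoetherianRing A]

theorem cm_localization_quotient_of_regular
    (hreg : ∀ (p : Ideal A) (_ : p.IsPrime), IsRegularLocalRing (Localization.AtPrime p))
    (f : A) (q : Ideal A) [q.IsPrime] (hfq : f ∈ q)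
    (Q : Ideal (A ⧸ Ideal.span {f})) [Q.IsPrime]
    (hQ : q.map (Ideal.Quotient.mk (Ideal.span {f})) = Q) :
    ringKrullDim (Localization.AtPrime Q) =
      ((LocCoh.depth (Localization.AtPrime Q) (Localization.AtPrime Q) : ℕ∞) : WithBot ℕ∞) := by
  subst hQ
  haveI : IsRegularLocalRing (Localization.AtPrime q) := hreg q inferInstance
  have hIq : Ideal.span {f} ≤ q := (Ideal.span_singleton_le_iff_mem q).mpr hfq
  have h1 : IsLocalization (Algebra.algebraMapSubmonoid (A ⧸ Ideal.span {f}) q.primeCompl)
      (Localization.AtPrime q ⧸ (Ideal.span {f}).map (algebraMap A (Localization.AtPrime q))) :=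
    inferInstance
  rw [algebraMapSubmonoid_quotient_primeCompl (Ideal.span {f}) q hIq] at h1
  haveI hloc : IsLocalization.AtPrime
      (Localization.AtPrime q ⧸ (Ideal.span {f}).map (algebraMap A (Localization.AtPrime q)))
      (q.map (Ideal.Quotient.mk (Ideal.span {f}))) := h1
  haveI : IsLocalRing
      (Localization.AtPrime q ⧸ (Ideal.span {f}).map (algebraMap A (Localization.AtPrime q))) :=
    IsLocalization.AtPrime.isLocalRing _ (q.map (Ideal.Quotient.mk (Ideal.span {f})))
  have e := IsLocalization.algEquiv (q.map (Ideal.Quotient.mk (Ideal.span {f}))).primeCompl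
    (Localization.AtPrime (q.map (Ideal.Quotient.mk (Ideal.span {f}))))
    (Localization.AtPrime q ⧸ (Ideal.span {f}).map (algebraMap A (Localization.AtPrime q)))
  rw [ringKrullDim_eq_of_ringEquiv e.toRingEquiv, depth_self_eq_of_ringEquiv e.toRingEquiv]
  have h3 : (Ideal.span {f}).map (algebraMap A (Localization.AtPrime q)) =
      Ideal.span {algebraMap A (Localization.AtPrime q) f} := by
    rw [Ideal.map_span, Set.image_singleton]
  have hx : algebraMap A (Localization.AtPrime q) f ∈ maximalIdeal (Localization.AtPrime q) :=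
    (IsLocalization.AtPrime.to_map_mem_maximal_iff _ q f).mpr hfq
  haveI : IsLocalRing
      (Localization.AtPrime q ⧸ Ideal.span {algebraMap A (Localization.AtPrime q) f}) :=
    (Ideal.quotEquivOfEq h3).isLocalRing
  rw [ringKrullDim_eq_of_ringEquiv (Ideal.quotEquivOfEq h3),
    depth_self_eq_of_ringEquiv (Ideal.quotEquivOfEq h3)]
  exact cm_quotient_of_isRegularLocalRing (Localization.AtPrime q) _ hx

theorem hasSk_quotient_of_regular
    (hreg : ∀ (p : Ideal A) (_ : p.IsPrime), IsRegularLocalRing (Localization.AtPrime p))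
    (f : A) (k : ℕ) : LocCoh.HasSk k (A ⧸ Ideal.span {f}) (A ⧸ Ideal.span {f}) := by
  rw [hasSk_self_iff]
  intro Q hQ
  have hprime : (Q.comap (Ideal.Quotient.mk (Ideal.span {f}))).IsPrime := Ideal.comap_isPrime _ _
  have hQq : (Q.comap (Ideal.Quotient.mk (Ideal.span {f}))).map
      (Ideal.Quotient.mk (Ideal.span {f})) = Q :=
    Ideal.map_comap_of_surjective _ Ideal.Quotient.mk_surjective Q
  have hfq : f ∈ Q.comap (Ideal.Quotient.mk (Ideal.span {f})) := by
    rw [Ideal.mem_comap]
    have : Ideal.Quotient.mk (Ideal.span {f}) f = 0 :=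
      Ideal.Quotient.eq_zero_iff_mem.mpr (Ideal.mem_span_singleton_self f)
    rw [this]
    exact Q.zero_mem
  rw [cm_localization_quotient_of_regular A hreg f _ hfq Q hQq]
  exact min_le_right _ _

theorem isIntegrallyClosed_quotient_iff
    (hreg : ∀ (p : Ideal A) (_ : p.IsPrime), IsRegularLocalRing (Localization.AtPrime p))
    (f : A) (hf : (Ideal.span ({f} : Set A)).IsPrime) :
    IsIntegrallyClosed (A ⧸ Ideal.span ({f} : Set A)) ↔
      ∀ q : PrimeSpectrum (A ⧸ Ideal.span ({f} : Set A)),
        ringKrullDim (Localization.AtPrime q.asIdeal) = 1 →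
          IsRegularLocalRing (Localization.AtPrime q.asIdeal) := by
  haveI := hf
  haveI : IsDomain (A ⧸ Ideal.span ({f} : Set A)) := Ideal.Quotient.isDomain _
  have hS2 := hasSk_quotient_of_regular A hreg f 2
  have serre := Groth.Agent.S0601.result (A ⧸ Ideal.span ({f} : Set A))
  have hloc : IsIntegrallyClosed (A ⧸ Ideal.span ({f} : Set A)) ↔
      ∀ (p : Ideal (A ⧸ Ideal.span ({f} : Set A))) [p.IsPrime],
        IsDomain (Localization.AtPrime p) ∧ IsIntegrallyClosed (Localization.AtPrime p) := by
    constructor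
    · intro h p hp
      haveI := h
      exact ⟨IsLocalization.isDomain_localization p.primeCompl_le_nonZeroDivisors,
        isIntegrallyClosed_of_isLocalization (Localization.AtPrime p) p.primeCompl
          p.primeCompl_le_nonZeroDivisors⟩
    · intro h
      exact IsIntegrallyClosed.of_localization_maximal fun p _ hp => (h p).2
  rw [hloc, serre]
  constructor
  · rintro ⟨hR1, -⟩ q hq
    haveI := q.isPrime
    apply hR1 q.asIdeal
    rw [IsLocalization.AtPrime.ringKrullDim_eq_height q.asIdeal] at hq
    have h1 : q.asIdeal.height = 1 := by exact_mod_cast hq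
    rw [h1]
    simp
  · intro h
    refine ⟨?_, hS2⟩
    intro Q hQ hht
    have hht' : Q.height ≤ 1 := by simpa using hht
    by_cases h0 : Q.height = 0
    · have hQbot : Q = ⊥ := by
        have := Ideal.height_eq_zero_iff.mp h0
        rw [IsDomain.minimalPrimes_eq_singleton_bot] at this
        exact this
      subst hQbot
      have hmax : maximalIdeal (Localization.AtPrime
          (⊥ : Ideal (A ⧸ Ideal.span ({f} : Set A)))) = ⊥ := by
        rw [← Localization.AtPrime.map_eq_maximalIdeal, Ideal.map_bot]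
      apply IsRegularLocalRing.of_spanFinrank_maximalIdeal_le
      rw [hmax, Submodule.spanFinrank_bot]
      simpa using ringKrullDim_nonneg_of_nontrivial
        (R := Localization.AtPrime (⊥ : Ideal (A ⧸ Ideal.span ({f} : Set A))))
    · have h1 : Q.height = 1 := le_antisymm hht' (ENat.one_le_iff_ne_zero.mpr h0)
      apply h ⟨Q, hQ⟩
      rw [IsLocalization.AtPrime.ringKrullDim_eq_height Q, h1]
      rfl

end Groth.Agent.Lead.Hyper
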