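import Groth.Agent.Lib.Helper13.IdealData
import Groth.Agent.Lib.Helper13.EffCartier
import Groth.Agent.Lib.Helper13.QCohStalk
import Groth.Agent.Lib.Helper13.LocFree

/-!
# The ideal sheaf which is the image of a monomorphism `J ⟶ O_X` (lead)

For a quasi-coherent module `J` and a monomorphism `j : J ⟶ O_X`, the ideal module of the
quasi-coherent ideal `idealSheafData j` (helper13) is isomorphic to `J`.
-/

set_option autoImplicit false
universe u
open CategoryTheory CategoryTheory.Limits AlgebraicGeometry Opposite TopologicalSpace
open Groth.Agent.Helper13.QCoh Groth.Agent.Helper13.FinType Groth.Agent.Helper13.LocFree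
open Groth.Agent.Helper13.IdealData Groth.Agent.Helper13.EffCartier
open Groth.Agent.Helper13.VanishIdeal

namespace Groth.Agent.Lead.IdealOfMono

variable {X : Scheme.{u}} {J : X.Modules} [J.IsQuasicoherent] (j : J ⟶ Coh.structureModule X)

theorem comp_sharp_eq_zero : j ≫ sharp (idealSheafData j).subschemeι = 0 := by
  apply Scheme.Modules.hom_ext
  intro V
  ext a
  show (sharp (idealSheafData j).subschemeι).app V (j.app V a) = 0
  let F := (Scheme.Modules.pushforward (idealSheafData j).subschemeι).obj
    (Coh.structureModule (idealSheafData j).subscheme)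
  apply TopCat.Presheaf.section_ext (⟨F.presheaf, F.isSheaf⟩ : TopCat.Sheaf Ab.{u} X) V
  intro x hx
  obtain ⟨W, hW, hxW, hWV⟩ := exists_isAffineOpen_mem_and_subset (x := x) (U := V) hx
  have hWV' : W ≤ V := hWV
  have key : F.presheaf.map (homOfLE hWV').op
      ((sharp (idealSheafData j).subschemeι).app V (j.app V a)) = 0 := by
    have hnat := (sharp (idealSheafData j).subschemeι).mapPresheaf.naturality (homOfLE hWV').op
    have h1 : F.presheaf.map (homOfLE hWV').op
        ((sharp (idealSheafData j).subschemeι).app V (j.app V a)) =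
        (sharp (idealSheafData j).subschemeι).app W
          ((Coh.structureModule X).presheaf.map (homOfLE hWV').op (j.app V a)) :=
      (congr($hnat (j.app V a))).symm
    rw [h1]
    have h2 : (Coh.structureModule X).presheaf.map (homOfLE hWV').op (j.app V a) =
        j.app W (J.presheaf.map (homOfLE hWV').op a) := (japp_res j hWV' a).symm
    rw [h2, sharp_app]
    have h3 : japp j W (J.presheaf.map (homOfLE hWV').op a) ∈
        (idealSheafData j).ideal ⟨W, hW⟩ := ⟨_, rfl⟩
    rw [← Scheme.IdealSheafData.ker_subschemeι_app (idealSheafData j) ⟨W, hW⟩,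
      RingHom.mem_ker] at h3
    exact h3
  have e1 := TopCat.Presheaf.germ_res_apply F.presheaf (homOfLE hWV') x hxW
    ((sharp (idealSheafData j).subschemeι).app V (j.app V a))
  have e2 := TopCat.Presheaf.germ_res_apply F.presheaf (homOfLE hWV') x hxW (0 : Γ(F, V))
  show F.presheaf.germ V x hx _ = F.presheaf.germ V x hx 0
  rw [← e1, ← e2, key]
  simp only [map_zero]

/-- the comparison map from `J` to the ideal module of `idealSheafData j`. -/
noncomputable def toK : J ⟶ K (idealSheafData j) :=
  kernel.lift (sharp (idealSheafData j).subschemeι) j (comp_sharp_eq_zero j)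

theorem toK_ι : toK j ≫ idealι (idealSheafData j).subschemeι = j :=
  kernel.lift_ι _ _ _

theorem fn_toK (W : X.Opens) (a : Γ(J, W)) :
    fn (idealSheafData j) ((toK j).app W a) = japp j W a := by
  have h := congrArg (fun φ : J ⟶ Coh.structureModule X => φ.app W a) (toK_ι j)
  exact h

theorem isIso_toK [Mono j] : IsIso (toK j) := by
  refine isIso_of_app_bijective_of_isBasis _ X.isBasis_affineOpens ?_
  intro W hW
  have hW' : IsAffineOpen W := hW
  constructor
  · intro a a' h
    apply (mono_iff_app_injective j).1 inferInstance W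
    have h1 := fn_toK j W a
    have h2 := fn_toK j W a'
    rw [h] at h1
    exact h1.symm.trans h2
  · intro k
    have hk : fn (idealSheafData j) k ∈ (idealSheafData j).ideal ⟨W, hW'⟩ :=
      (mem_ideal_iff (idealSheafData j) ⟨W, hW'⟩ _).2 ⟨k, rfl⟩
    obtain ⟨a, ha⟩ := hk
    refine ⟨a, fn_injective (idealSheafData j) W ?_⟩
    rw [fn_toK]
    exact ha

/-- **the ideal module of the image of a monomorphism `J ⟶ O_X` is `J`.** -/
noncomputable def idealModIso' [Mono j] : ClSub.idealMod (idealSheafData j) ≅ J :=
  haveI := isIso_toK j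
  idealModIso (idealSheafData j) ≪≫ (asIso (toK j)).symm

end Groth.Agent.Lead.IdealOfMono
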