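import Mathlib
import Groth.Prelude.Def_IntMult
import Groth.Agent.Lib.Lead.IntMultCM
import Groth.Agent.Lib.Helper12.KoszEuler23

/-!
# Intersection multiplicity against a complete intersection as a Samuel multiplicity

If `I_V = (g₁,…,g_c)` is generated by a regular sequence then `e(X, V·W, Z) = χ(g; O_{W,ξ})` is the
Samuel multiplicity `lim c!·ℓ(O_{W,ξ}/I_V^t O_{W,ξ})/t^c` (Serre, through helper12's Koszul/Samuel
library) and it is positive.
-/

set_option autoImplicit false

open CategoryTheory CategoryTheory.Limits AlgebraicGeometry Opposite TopologicalSpace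
open scoped Pointwise

universe u

namespace Groth.Agent.Lead.IntMultLim

open RingTheory.Sequence IsLocalRing Groth.Agent.Lead.IntMultCM

/-! ### Algebra -/

section Algebra

variable {A : Type u} [CommRing A]

/-- `(A/I)/(J·(A/I)) ≃ A/(I + J)` as `A`-modules -/
noncomputable def quotSMulTopEquiv (I J : Ideal A) :
    ((A ⧸ I) ⧸ (J • (⊤ : Submodule A (A ⧸ I)))) ≃ₗ[A] (A ⧸ (I ⊔ J)) :=
  (Submodule.quotEquivOfEq _ _ (smul_top_eq_map_mkQ I J)).trans
    (Submodule.quotientQuotientEquivQuotientSup (I : Submodule A A) (J : Submodule A A))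

variable [IsNoetherianRing A] [IsLocalRing A]

theorem flq_of_ringKrullDim_le_zero (IW J : Ideal A)
    (h0 : ringKrullDim (A ⧸ (IW ⊔ J)) ≤ 0) :
    Groth.Agent.Helper12.KoszEuler.FLQ (A ⧸ IW) J := by
  intro p hp hJ
  have hIW : IW ≤ p.asIdeal := by
    have h1 := Module.mem_support_iff_of_finite.mp hp
    rwa [Ideal.annihilator_quotient] at h1
  have hK : Ring.KrullDimLE 0 (A ⧸ (IW ⊔ J)) := by
    rw [Ring.krullDimLE_iff]
    simpa using h0
  have hle : IW ⊔ J ≤ p.asIdeal := sup_le hIW hJ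
  haveI hpr : (p.asIdeal.map (Ideal.Quotient.mk (IW ⊔ J))).IsPrime :=
    Ideal.map_isPrime_of_surjective Ideal.Quotient.mk_surjective
      (by rw [Ideal.mk_ker]; exact hle)
  have hmax : (p.asIdeal.map (Ideal.Quotient.mk (IW ⊔ J))).IsMaximal :=
    Ring.krullDimLE_zero_iff.1 hK _ hpr
  have hcomap : (p.asIdeal.map (Ideal.Quotient.mk (IW ⊔ J))).comap
      (Ideal.Quotient.mk (IW ⊔ J)) = p.asIdeal := by
    rw [Ideal.comap_map_of_surjective _ Ideal.Quotient.mk_surjective, ← RingHom.ker_eq_comap_bot,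
      Ideal.mk_ker]
    exact sup_eq_left.2 hle
  rw [← hcomap]
  exact Ideal.comap_isMaximal_of_surjective _ Ideal.Quotient.mk_surjective

theorem main_alg (IW : Ideal A) (c : ℕ) (g : Fin c → A) (hreg : IsRegular A (List.ofFn g))
    (hdim : (c : WithBot ℕ∞) ≤ ringKrullDim (A ⧸ IW))
    (h0 : ringKrullDim (A ⧸ (IW ⊔ Ideal.span (Set.range g))) ≤ 0) :
    Filter.Tendsto (fun t : ℕ => (c.factorial : ℝ) *
        ((Module.length A (A ⧸ (IW ⊔ Ideal.span (Set.range g) ^ t))).toNat : ℝ) / (t : ℝ) ^ c)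
      Filter.atTop
      (nhds ((IntMult.chi A (A ⧸ IW) (A ⧸ Ideal.span (Set.range g)) : ℤ) : ℝ)) ∧
    0 < IntMult.chi A (A ⧸ IW) (A ⧸ Ideal.span (Set.range g)) := by
  have hof : Ideal.ofList (List.ofFn g) = Ideal.span (Set.range g) := by
    unfold Ideal.ofList
    congr 1
    ext x
    simp [List.mem_ofFn]
  have hlen : (List.ofFn g).length = c := List.length_ofFn
  have hchi : IntMult.chi A (A ⧸ IW) (A ⧸ Ideal.span (Set.range g)) =
      Groth.Agent.Helper12.KoszEuler.chi (A ⧸ IW) (List.ofFn g) := by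
    rw [Groth.Agent.Lead.IntMultCart.chi_symm, ← hof,
      Groth.Agent.Helper12.KoszTor.chi_eq (List.ofFn g) hreg.toIsWeaklyRegular (A ⧸ IW)]
  have hgm : ∀ j, g j ∈ maximalIdeal A := fun j =>
    mem_maximalIdeal_of_isRegular (List.ofFn g) hreg (g j) (List.mem_ofFn.2 ⟨j, rfl⟩)
  have hflq := flq_of_ringKrullDim_le_zero IW (Ideal.span (Set.range g)) h0
  have hfl : IsFiniteLength A ((A ⧸ IW) ⧸
      (Ideal.span (Set.range g) • (⊤ : Submodule A (A ⧸ IW)))) :=
    (Groth.Agent.Helper12.KoszEuler.flq_iff (M := A ⧸ IW) (Ideal.span (Set.range g))).1 hflq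
  -- the dimension of `A/I_W` is `c`
  have hsupp : Module.supportDim A (A ⧸ IW) = (c : WithBot ℕ∞) := by
    rw [Module.supportDim_quotient_eq_ringKrullDim]
    apply le_antisymm
    · have h1 := supportDim_le_quot_add_length (List.ofFn g) (A ⧸ IW)
        (mem_maximalIdeal_of_isRegular (List.ofFn g) hreg)
      rw [hof, hlen, Module.supportDim_eq_of_equiv (quotSMulTopEquiv IW (Ideal.span (Set.range g))),
        Module.supportDim_quotient_eq_ringKrullDim,
        Module.supportDim_quotient_eq_ringKrullDim] at h1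
      calc ringKrullDim (A ⧸ IW)
          ≤ ringKrullDim (A ⧸ (IW ⊔ Ideal.span (Set.range g))) + (c : WithBot ℕ∞) := h1
        _ ≤ 0 + (c : WithBot ℕ∞) := add_le_add_left h0 _
        _ = _ := zero_add _
    · exact hdim
  constructor
  · rw [hchi]
    have h1 := Groth.Agent.Helper12.KoszEuler.tendsto_samuel_chi (A ⧸ IW) g hfl
    refine h1.congr fun t => ?_
    rw [(quotSMulTopEquiv IW (Ideal.span (Set.range g) ^ t)).length_eq]
  · rw [hchi]
    exact Groth.Agent.Helper12.KoszEuler.chi_pos_of_supportDim_eq c g hgm (A ⧸ IW) hflq hsupp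

end Algebra

/-! ### Geometry -/

section Geometry

open Groth.Agent.Helper28.IdealExt Groth.Agent.Lead.IntMultCart

theorem main (K : Type u) [Field K] (X : Scheme.{u}) (f : X ⟶ Spec (CommRingCat.of K))
    [LocallyOfFiniteType f] [IsIntegral X] (IV IW : X.IdealSheafData)
    [IsIntegral IV.subscheme] [IsIntegral IW.subscheme] (n r s : ℕ)
    (hn : topologicalKrullDim X = n) (hr : topologicalKrullDim IV.support = r)
    (hs : topologicalKrullDim IW.support = s)
    (hprop : IntMult.ProperInt (IV.support : Set X) (IW.support : Set X) n r s) (ξ : X)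
    (hξV : ξ ∈ IV.support) (hξW : ξ ∈ IW.support)
    (hmax : ∀ ξ' : X, ξ' ∈ IV.support → ξ' ∈ IW.support → ξ' ⤳ ξ → ξ' = ξ) (c : ℕ)
    (g : Fin c → ↑(X.presheaf.stalk ξ))
    (hg : IntMult.stalkIdeal IV ξ = Ideal.span (Set.range g))
    (hreg : RingTheory.Sequence.IsRegular (↑(X.presheaf.stalk ξ)) (List.ofFn g)) :
    Filter.Tendsto (fun t : ℕ => (c.factorial : ℝ) *
        ((Module.length (X.presheaf.stalk ξ) (↑(X.presheaf.stalk ξ) ⧸
          (IntMult.stalkIdeal IW ξ ⊔ IntMult.stalkIdeal IV ξ ^ t))).toNat : ℝ) / (t : ℝ) ^ c)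
      Filter.atTop (nhds (IntMult.mult IV IW ξ : ℝ)) ∧ 0 < IntMult.mult IV IW ξ := by
  haveI : IsLocallyNoetherian X := LocallyOfFiniteType.isLocallyNoetherian f
  have hg' : stalkIdeal IV ξ = Ideal.span (Set.range g) := hg
  have hof : Ideal.ofList (List.ofFn g) = stalkIdeal IV ξ := by
    rw [hg']
    unfold Ideal.ofList
    congr 1
    ext x
    simp [List.mem_ofFn]
  have hlen : (List.ofFn g).length = c := List.length_ofFn
  have hc : ringKrullDim (X.presheaf.stalk ξ ⧸ stalkIdeal IV ξ) + (c : WithBot ℕ∞) =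
      ringKrullDim (X.presheaf.stalk ξ) := by
    have h1 := ringKrullDim_add_length_eq_ringKrullDim_of_isRegular (List.ofFn g) hreg
    rw [hof, hlen] at h1
    exact h1
  have hdim := le_ringKrullDim K f IV IW n r s hn hr hs hprop ξ hξV hξW c hc
  have h0 := ringKrullDim_quot_le_zero IV IW ξ hmax
  rw [hg'] at h0
  have key := main_alg (stalkIdeal IW ξ) c g hreg hdim h0
  unfold IntMult.mult
  rw [hg]
  exact key

end Geometry

end Groth.Agent.Lead.IntMultLim
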