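import Mathlib
import Groth.Prelude.Def_IntMult
import Groth.Agent.Lib.Lead.IntMultReg
import Groth.Agent.Lib.Lead.IntMultLim
import Groth.Agent.Lib.Lead.Depth21
import Groth.Agent.Lib.Lead.Depth12
import Groth.Agent.Lib.Lead.Depth8
import Groth.Agent.Lib.Lead.Depth7
import Groth.Agent.Lib.Lead.Hom3
import Groth.Agent.Lib.Helper18.Tor.Low
import Groth.Agent.Lib.Helper10.TorSymm

/-!
# Tor-vanishing for Cohen–Macaulay quotients of a regular local ring meeting properly

`tor_vanish_aux`: over a Noetherian local ring, if `pd M ≤ p ≤ depth N` and the higher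
`Tor_i(M, N)` are killed by a power of the maximal ideal, then they vanish (and
`depth N ≤ depth (M ⊗ N) + p`).  `chi_eq_length_of_CM`: the Tor-formula multiplicity of two
Cohen–Macaulay quotients of a regular local ring meeting properly in a point is the length of
`A/(I+J)`.  `main` = S1872.
-/

set_option autoImplicit false

open CategoryTheory CategoryTheory.Limits MonoidalCategory TensorProduct

universe u

namespace Groth.Agent.Lead.IntMultTor

open IsLocalRing RingTheory.Sequence Groth.Agent.Helper18.TorLib Groth.Agent.Lead.Depth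

variable {R : Type u} [CommRing R]

variable (R) in
/-- `Tor_i(M, N)` as an object of `ModuleCat R` -/
noncomputable abbrev T (i : ℕ) (M N : Type u) [AddCommGroup M] [Module R M] [AddCommGroup N]
    [Module R N] : ModuleCat.{u} R :=
  ((Tor (ModuleCat.{u} R) i).obj (ModuleCat.of R M)).obj (ModuleCat.of R N)

section SES

variable {K F M : Type u} [AddCommGroup K] [Module R K] [AddCommGroup F] [Module R F]
  [AddCommGroup M] [Module R M]

noncomputable abbrev sc (i : K →ₗ[R] F) (p : F →ₗ[R] M) (hip : Function.Exact i p) :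
    ShortComplex (ModuleCat.{u} R) :=
  ShortComplex.mk (ModuleCat.ofHom i) (ModuleCat.ofHom p) (by
    ext x
    exact hip.apply_apply_eq_zero x)

theorem sc_shortExact (i : K →ₗ[R] F) (p : F →ₗ[R] M) (hi : Function.Injective i)
    (hip : Function.Exact i p) (hp : Function.Surjective p) : (sc i p hip).ShortExact := by
  refine ShortComplex.ShortExact.mk' ?_ ?_ ?_
  · rw [ShortComplex.ShortExact.moduleCat_exact_iff_function_exact]
    exact hip
  · exact (ModuleCat.mono_iff_injective _).2 hi
  · exact (ModuleCat.epi_iff_surjective _).2 hp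

end SES

theorem torδ_mono {S : ShortComplex (ModuleCat.{u} R)} (hS : S.ShortExact) [Module.Flat R S.X₂]
    (N : ModuleCat.{u} R) (n : ℕ) : Mono (torδ hS N n) := by
  have hz : IsZero (((Tor (ModuleCat.{u} R) (n + 1)).obj S.X₂).obj N) :=
    isZero_tor_succ_of_flat_left S.X₂ N n
  exact (tor_exact₃ hS N n).mono_g (hz.eq_of_src _ _)

theorem torδ_epi {S : ShortComplex (ModuleCat.{u} R)} (hS : S.ShortExact) [Module.Flat R S.X₂]
    (N : ModuleCat.{u} R) (n : ℕ) : Epi (torδ hS N (n + 1)) := by
  have hz : IsZero (((Tor (ModuleCat.{u} R) (n + 1)).obj S.X₂).obj N) :=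
    isZero_tor_succ_of_flat_left S.X₂ N n
  exact (tor_exact₁ hS N (n + 1)).epi_f (hz.eq_of_tgt _ _)

theorem exists_flat_ses (M : Type u) [AddCommGroup M] [Module R M] :
    ∃ (K F : Type u) (_ : AddCommGroup K) (_ : Module R K) (_ : AddCommGroup F) (_ : Module R F)
      (_ : Module.Flat R F) (i : K →ₗ[R] F) (p : F →ₗ[R] M),
      Function.Injective i ∧ Function.Exact i p ∧ Function.Surjective p := by
  refine ⟨LinearMap.ker (Finsupp.linearCombination R (id : M → M)), M →₀ R, inferInstance,
    inferInstance, inferInstance, inferInstance, inferInstance,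
    (LinearMap.ker (Finsupp.linearCombination R (id : M → M))).subtype,
    Finsupp.linearCombination R id, Submodule.subtype_injective _,
    LinearMap.exact_subtype_ker_map _, Finsupp.linearCombination_id_surjective R M⟩

/-- an element killing `N` kills `Tor_i(M, N)` -/
theorem smul_tor_eq_zero_right (N : Type u) [AddCommGroup N] [Module R N] (r : R)
    (hr : ∀ n : N, r • n = 0) :
    ∀ (i : ℕ) (M : Type u) [AddCommGroup M] [Module R M] (t : T R i M N), r • t = 0 := by
  intro i
  induction i with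
  | zero =>
    intro M _ _ t
    have hinj : Function.Injective (tor0Iso (ModuleCat.of R M) (ModuleCat.of R N)).hom.hom :=
      (ModuleCat.mono_iff_injective _).1 inferInstance
    apply hinj
    rw [map_smul, map_zero]
    have key : ∀ z : M ⊗[R] N, r • z = 0 := by
      intro z
      induction z using TensorProduct.induction_on with
      | zero => simp
      | tmul m n => rw [← TensorProduct.tmul_smul, hr, TensorProduct.tmul_zero]
      | add a b ha hb => rw [smul_add, ha, hb, add_zero]
    exact key _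
  | succ i ih =>
    intro M _ _ t
    obtain ⟨K, F, _, _, _, _, _, j, g, hj, hip, hp⟩ := exists_flat_ses (R := R) M
    have hS : (sc j g hip).ShortExact := sc_shortExact j g hj hip hp
    haveI : Module.Flat R (sc j g hip).X₂ := ‹Module.Flat R F›
    haveI := torδ_mono hS (ModuleCat.of R N) i
    have hinj : Function.Injective (torδ hS (ModuleCat.of R N) i).hom :=
      (ModuleCat.mono_iff_injective _).1 inferInstance
    apply hinj
    rw [map_smul, map_zero]
    exact ih _ _

/-- an element killing `M` kills `Tor_i(M, N)` -/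
theorem smul_tor_eq_zero_left (M N : Type u) [AddCommGroup M] [Module R M] [AddCommGroup N]
    [Module R N] (r : R) (hr : ∀ m : M, r • m = 0) (i : ℕ) (t : T R i M N) : r • t = 0 := by
  obtain ⟨e⟩ := Groth.Agent.Helper10.TorSymm.nonempty_tor_symm (ModuleCat.of R M)
    (ModuleCat.of R N) i
  have hinj : Function.Injective e.hom.hom := (ModuleCat.mono_iff_injective _).1 inferInstance
  apply hinj
  rw [map_smul, map_zero]
  exact smul_tor_eq_zero_right M r hr i N _

variable [IsLocalRing R] [IsNoetherianRing R]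

theorem depth_le_depth_tensor_of_flat (F N : Type u) [AddCommGroup F] [Module R F]
    [AddCommGroup N] [Module R N] [Module.Flat R F] [Module.Finite R N] [Nontrivial N] :
    LocCoh.depth R N ≤ LocCoh.depth R (F ⊗[R] N) := by
  apply ENat.forall_natCast_le_iff_le.1
  intro n hn
  obtain ⟨rs, hlen, hreg, hmem⟩ := exists_of_le_idealDepth (maximalIdeal R) N
    (maximalIdeal_smul_top_ne_top N) n hn
  rw [← hlen]
  exact le_idealDepth_of_isWeaklyRegular (maximalIdeal R) (F ⊗[R] N) rs
    hreg.isWeaklyRegular_lTensor hmem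

theorem eq_zero_of_pow_smul (L : Type u) [AddCommGroup L] [Module R L] [Module.Finite R L]
    (h1 : (1 : ℕ∞) ≤ LocCoh.depth R L) (k : ℕ) (z : L)
    (hz : ∀ a ∈ maximalIdeal R ^ k, a • z = 0) : z = 0 := by
  rcases subsingleton_or_nontrivial L with hsub | hnt
  · exact Subsingleton.elim _ _
  · obtain ⟨rs, hlen, hreg, hmem⟩ := exists_of_le_idealDepth (maximalIdeal R) L
      (maximalIdeal_smul_top_ne_top L) 1 (by exact_mod_cast h1)
    obtain ⟨x, rfl⟩ := List.length_eq_one_iff.1 hlen
    rw [isWeaklyRegular_cons_iff] at hreg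
    have hx : x ∈ maximalIdeal R := hmem x (by simp)
    have hxk : x ^ k ∈ maximalIdeal R ^ k := Ideal.pow_mem_pow hx k
    have h0 := hz _ hxk
    exact (hreg.1.pow k) (show x ^ k • z = x ^ k • (0 : L) by rw [h0, smul_zero])

/-- the depth-sensitivity / Tor-vanishing induction -/
theorem tor_vanish_aux (N : Type u) [AddCommGroup N] [Module R N] [Module.Finite R N]
    [Nontrivial N] (k : ℕ) :
    ∀ (p : ℕ) (M : Type u) [AddCommGroup M] [Module R M] [Module.Finite R M],
      HasProjectiveDimensionLT (ModuleCat.of R M) (p + 1) →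
      (p : ℕ∞) ≤ LocCoh.depth R N →
      (∀ (i : ℕ) (t : T R (i + 1) M N), ∀ a ∈ maximalIdeal R ^ k, a • t = 0) →
      (∀ i : ℕ, IsZero (T R (i + 1) M N)) ∧
        LocCoh.depth R N ≤ LocCoh.depth R (M ⊗[R] N) + p := by
  intro p
  induction p with
  | zero =>
    intro M _ _ _ hpd _ _
    haveI : HasProjectiveDimensionLT (ModuleCat.of R M) 1 := hpd
    haveI hproj : Projective (ModuleCat.of R M) := inferInstance
    haveI : Module.Projective R M := (IsProjective.iff_projective M).mpr hproj
    haveI : Module.Flat R M := inferInstance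
    refine ⟨fun i => ?_, ?_⟩
    · haveI : Module.Flat R ↑(ModuleCat.of R M) := ‹Module.Flat R M›
      exact isZero_tor_succ_of_flat_left (ModuleCat.of R M) (ModuleCat.of R N) i
    · rw [Nat.cast_zero, add_zero]
      exact depth_le_depth_tensor_of_flat M N
  | succ p ih =>
    intro M _ _ _ hpd hdepth htors
    obtain ⟨n, f, hf⟩ := Module.Finite.exists_fin' R M
    have hip : Function.Exact (LinearMap.ker f).subtype f := LinearMap.exact_subtype_ker_map f
    haveI : Module.Finite R (LinearMap.ker f) := Module.IsNoetherian.finite R _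
    have hS : (sc (LinearMap.ker f).subtype f hip).ShortExact :=
      sc_shortExact _ _ (Submodule.subtype_injective _) hip hf
    haveI hflat : Module.Flat R (sc (LinearMap.ker f).subtype f hip).X₂ :=
      (inferInstance : Module.Flat R (Fin n → R))
    have hpdK : HasProjectiveDimensionLT (ModuleCat.of R (LinearMap.ker f)) (p + 1) := by
      haveI hproj : Projective (ModuleCat.of R (Fin n → R)) :=
        (IsProjective.iff_projective (Fin n → R)).mp inferInstance
      have h2 : HasProjectiveDimensionLT (sc (LinearMap.ker f).subtype f hip).X₂ (p + 1) :=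
        hasProjectiveDimensionLT_of_ge (ModuleCat.of R (Fin n → R)) 1 (p + 1) (by omega)
      exact hS.hasProjectiveDimensionLT_X₁ (p + 1) h2 hpd
    have htorsK : ∀ (i : ℕ) (t : T R (i + 1) (LinearMap.ker f) N), ∀ a ∈ maximalIdeal R ^ k,
        a • t = 0 := by
      intro i t a ha
      haveI := torδ_epi hS (ModuleCat.of R N) i
      obtain ⟨t', rfl⟩ := (ModuleCat.epi_iff_surjective _).1
        (inferInstance : Epi (torδ hS (ModuleCat.of R N) (i + 1))) t
      rw [← map_smul, htors (i + 1) t' a ha, map_zero]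
    have hdepth' : (p : ℕ∞) ≤ LocCoh.depth R N :=
      le_trans (Nat.cast_le.2 (Nat.le_succ p)) hdepth
    obtain ⟨hzK, hdK⟩ := ih (LinearMap.ker f) hpdK hdepth' htorsK
    have hz2 : ∀ i : ℕ, IsZero (T R (i + 1 + 1) M N) := by
      intro i
      haveI := torδ_mono hS (ModuleCat.of R N) (i + 1)
      exact IsZero.of_mono (torδ hS (ModuleCat.of R N) (i + 1)) (hzK i)
    have h1 : (1 : ℕ∞) ≤ LocCoh.depth R ((LinearMap.ker f) ⊗[R] N) := by
      by_contra hlt
      push Not at hlt
      have h0 : LocCoh.depth R ((LinearMap.ker f) ⊗[R] N) = 0 := Order.lt_one_iff.1 hlt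
      rw [h0, zero_add] at hdK
      have h3 := le_trans hdepth hdK
      have h4 : p + 1 ≤ p := by exact_mod_cast h3
      omega
    have hz1 : IsZero (T R (0 + 1) M N) := by
      haveI := torδ_mono hS (ModuleCat.of R N) 0
      have hinj : Function.Injective (torδ hS (ModuleCat.of R N) 0 ≫
          (tor0Iso (ModuleCat.of R (LinearMap.ker f)) (ModuleCat.of R N)).hom).hom :=
        (ModuleCat.mono_iff_injective _).1 inferInstance
      have hall : ∀ t : T R (0 + 1) M N, t = 0 := by
        intro t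
        apply hinj
        rw [map_zero]
        exact eq_zero_of_pow_smul ((LinearMap.ker f) ⊗[R] N) h1 k _ (fun a ha => by
          rw [← map_smul, htors 0 t a ha, map_zero])
      haveI : Subsingleton (T R (0 + 1) M N) := ⟨fun a b => by rw [hall a, hall b]⟩
      exact ModuleCat.isZero_of_subsingleton _
    have hzero : ∀ i : ℕ, IsZero (T R (i + 1) M N) := by
      intro i
      cases i with
      | zero => exact hz1
      | succ i => exact hz2 i
    refine ⟨hzero, ?_⟩
    have hinjT : Function.Injective ((LinearMap.ker f).subtype.rTensor N) :=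
      (isZero_tor_one_iff_injective (LinearMap.ker f).subtype f (Submodule.subtype_injective _)
        hip hf).1 hz1
    have hex : Function.Exact ((LinearMap.ker f).subtype.rTensor N) (f.rTensor N) :=
      rTensor_exact N hip hf
    have hsurjT : Function.Surjective (f.rTensor N) := LinearMap.rTensor_surjective N hf
    have hse := (idealDepth_shortExact (maximalIdeal R) ((LinearMap.ker f) ⊗[R] N)
      ((Fin n → R) ⊗[R] N) (M ⊗[R] N) _ _ hinjT hsurjT hex).2.1
    have hF : LocCoh.depth R N ≤ LocCoh.depth R ((Fin n → R) ⊗[R] N) :=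
      depth_le_depth_tensor_of_flat _ N
    rcases min_le_iff.1 hse with h | h
    · exact le_trans hF (le_trans h le_self_add)
    · calc LocCoh.depth R N ≤ LocCoh.depth R ((LinearMap.ker f) ⊗[R] N) + p := hdK
        _ ≤ (LocCoh.depth R ((LinearMap.ker f) ⊗[R] N) - 1 + 1) + p := by
            gcongr
            exact le_tsub_add
        _ ≤ (LocCoh.depth R (M ⊗[R] N) + 1) + p := by
            gcongr
            exact h
        _ = LocCoh.depth R (M ⊗[R] N) + ((p + 1 : ℕ) : ℕ∞) := by
            push_cast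
            ring

omit [IsLocalRing R] [IsNoetherianRing R] in
theorem smul_quot_eq_zero {I : Ideal R} {a : R} (ha : a ∈ I) (m : R ⧸ I) : a • m = 0 := by
  obtain ⟨x, rfl⟩ := Ideal.Quotient.mk_surjective m
  rw [← Ideal.Quotient.mk_eq_mk, ← Submodule.Quotient.mk_smul, Submodule.Quotient.mk_eq_zero,
    smul_eq_mul]
  exact I.mul_mem_right _ ha

/-- Serre: for Cohen–Macaulay quotients of a regular local ring meeting properly in a point, the
Tor-formula multiplicity is the length of `A/(I+J)`. -/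
theorem chi_eq_length_of_CM {A : Type u} [CommRing A] [IsRegularLocalRing A] (I J : Ideal A)
    (hI : I ≠ ⊤) (hJ : J ≠ ⊤) [hCMI : LocCoh.IsCohenMacaulayLocalRing (A ⧸ I)]
    [hCMJ : LocCoh.IsCohenMacaulayLocalRing (A ⧸ J)]
    (hdim : ringKrullDim A ≤ ringKrullDim (A ⧸ I) + ringKrullDim (A ⧸ J))
    (h0 : ringKrullDim (A ⧸ (J ⊔ I)) ≤ 0) :
    IntMult.chi A (A ⧸ J) (A ⧸ I) = ((Module.length A (A ⧸ (J ⊔ I))).toNat : ℤ) := by
  classical
  have hd : ringKrullDim A = (((maximalIdeal A).spanFinrank : ℕ) : WithBot ℕ∞) :=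
    (IsRegularLocalRing.spanFinrank_maximalIdeal).symm
  obtain ⟨d, hdd⟩ : ∃ d : ℕ, d = (maximalIdeal A).spanFinrank := ⟨_, rfl⟩
  rw [← hdd] at hd
  have hdA : LocCoh.depth A A = (d : ℕ∞) := depth_eq_of_isRegularLocalRing hd
  haveI : Nontrivial (A ⧸ J) := Ideal.Quotient.nontrivial_iff.mpr hJ
  haveI : Nontrivial (A ⧸ I) := Ideal.Quotient.nontrivial_iff.mpr hI
  -- projective dimension of `A/J`
  have hpdlt : HasProjectiveDimensionLT (ModuleCat.of A (A ⧸ J)) (d + 1) :=
    Groth.Agent.Lead.Hom.hasProjectiveDimensionLT_of_isRegularLocalRing hd _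
  have hnz : ¬ Limits.IsZero (ModuleCat.of A (A ⧸ J)) := fun hz =>
    not_subsingleton (A ⧸ J) (ModuleCat.isZero_of_iff_subsingleton.mp hz)
  obtain ⟨e, he, -⟩ := exists_nat_projectiveDimension_eq hpdlt hnz
  have hAB := auslander_buchsbaum (A ⧸ J) e he
  have hsurjJ : LocCoh.depth A (A ⧸ J) = LocCoh.depth (A ⧸ J) (A ⧸ J) :=
    depth_eq_of_surjective (R₁ := A) (R₂ := A ⧸ J) Ideal.Quotient.mk_surjective (A ⧸ J)
  have hsurjI : LocCoh.depth A (A ⧸ I) = LocCoh.depth (A ⧸ I) (A ⧸ I) :=
    depth_eq_of_surjective (R₁ := A) (R₂ := A ⧸ I) Ideal.Quotient.mk_surjective (A ⧸ I)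
  have hCMJ' : Module.supportDim (A ⧸ J) (A ⧸ J) =
      ((LocCoh.depth (A ⧸ J) (A ⧸ J) : ℕ∞) : WithBot ℕ∞) :=
    LocCoh.IsCohenMacaulayLocalRing.supportDim_eq_depth
  have hCMI' : Module.supportDim (A ⧸ I) (A ⧸ I) =
      ((LocCoh.depth (A ⧸ I) (A ⧸ I) : ℕ∞) : WithBot ℕ∞) :=
    LocCoh.IsCohenMacaulayLocalRing.supportDim_eq_depth
  rw [Module.supportDim_self_eq_ringKrullDim] at hCMJ' hCMI'
  obtain ⟨b, hb⟩ := ENat.ne_top_iff_exists.1 (depth_ne_top (R := A ⧸ J) (A ⧸ J))
  obtain ⟨a, ha⟩ := ENat.ne_top_iff_exists.1 (depth_ne_top (R := A ⧸ I) (A ⧸ I))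
  rw [← hb] at hCMJ'
  rw [← ha] at hCMI'
  rw [hdA, hsurjJ, ← hb] at hAB
  have hdeb : d = e + b := by exact_mod_cast hAB
  rw [hd, hCMI', hCMJ'] at hdim
  have hdab : d ≤ a + b := by exact_mod_cast hdim
  have hea : e ≤ a := by omega
  have hdepthI : (e : ℕ∞) ≤ LocCoh.depth A (A ⧸ I) := by
    rw [hsurjI, ← ha]
    exact_mod_cast hea
  have hpd : HasProjectiveDimensionLT (ModuleCat.of A (A ⧸ J)) (e + 1) := by
    apply projectiveDimension_lt_iff.1
    rw [he]
    exact_mod_cast Nat.lt_succ_self e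
  -- torsion
  haveI : IsArtinianRing (A ⧸ (J ⊔ I)) :=
    isArtinianRing_iff_krullDimLE_zero.2 (Ring.krullDimLE_iff.2 (by exact_mod_cast h0))
  obtain ⟨k, hk⟩ := IsLocalRing.exists_maximalIdeal_pow_le_of_isArtinianRing_quotient (J ⊔ I)
  have htors : ∀ (i : ℕ) (t : T A (i + 1) (A ⧸ J) (A ⧸ I)), ∀ x ∈ maximalIdeal A ^ k,
      x • t = 0 := by
    intro i t x hx
    obtain ⟨y, hy, z, hz, rfl⟩ := Submodule.mem_sup.1 (hk hx)
    rw [add_smul, smul_tor_eq_zero_left (A ⧸ J) (A ⧸ I) y (smul_quot_eq_zero hy) (i + 1) t,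
      smul_tor_eq_zero_right (A ⧸ I) z (smul_quot_eq_zero hz) (i + 1) (A ⧸ J) t, add_zero]
  obtain ⟨hzero, -⟩ := tor_vanish_aux (A ⧸ I) k e (A ⧸ J) hpd hdepthI htors
  -- the Euler characteristic
  unfold IntMult.chi
  rw [finsum_eq_single _ 0]
  · rw [pow_zero, one_mul]
    have hlen : Module.length A (DRing.Tor A 0 (A ⧸ J) (A ⧸ I)) =
        Module.length A (A ⧸ (J ⊔ I)) := by
      have e1 : Module.length A (DRing.Tor A 0 (A ⧸ J) (A ⧸ I)) =
          Module.length A ((A ⧸ J) ⊗[A] (A ⧸ I)) :=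
        (tor0Iso (ModuleCat.of A (A ⧸ J)) (ModuleCat.of A (A ⧸ I))).toLinearEquiv.length_eq
      have e2 : Module.length A ((A ⧸ J) ⊗[A] (A ⧸ I)) =
          Module.length A ((A ⧸ I) ⧸ (J • (⊤ : Submodule A (A ⧸ I)))) :=
        (TensorProduct.quotTensorEquivQuotSMul (A ⧸ I) J).length_eq
      rw [e1, e2, Groth.Agent.Lead.IntMultCM.length_quot_smul_top I J, sup_comm]
    rw [hlen]
  · intro i hi
    obtain ⟨j, rfl⟩ := Nat.exists_eq_succ_of_ne_zero hi
    haveI : Subsingleton (DRing.Tor A (j + 1) (A ⧸ J) (A ⧸ I)) :=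
      ModuleCat.subsingleton_of_isZero (hzero j)
    rw [Module.length_eq_zero]
    simp

/-! ### Geometry -/

section Geometry

open AlgebraicGeometry Groth.Agent.Helper28.IdealExt Groth.Agent.Lead.IntMultCM
  Groth.Agent.Lead.IntMultReg

/-- S1872 -/
theorem main (K : Type u) [Field K] (X : Scheme.{u}) (f : X ⟶ Spec (CommRingCat.of K))
    [Smooth f] [IsIntegral X] (IV IW : X.IdealSheafData)
    [IsIntegral IV.subscheme] [IsIntegral IW.subscheme] (n r s : ℕ)
    (hn : topologicalKrullDim X = n) (hr : topologicalKrullDim IV.support = r)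
    (hs : topologicalKrullDim IW.support = s)
    (hprop : IntMult.ProperInt (IV.support : Set X) (IW.support : Set X) n r s) (ξ : X)
    (hξV : ξ ∈ IV.support) (hξW : ξ ∈ IW.support)
    (hmax : ∀ ξ' : X, ξ' ∈ IV.support → ξ' ∈ IW.support → ξ' ⤳ ξ → ξ' = ξ)
    (hV : LocCoh.IsCohenMacaulayLocalRing (↑(X.presheaf.stalk ξ) ⧸ IntMult.stalkIdeal IV ξ))
    (hW : LocCoh.IsCohenMacaulayLocalRing (↑(X.presheaf.stalk ξ) ⧸ IntMult.stalkIdeal IW ξ)) :
    (IntMult.mult IV IW ξ : ℤ) = (Module.length (X.presheaf.stalk ξ)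
      (↑(X.presheaf.stalk ξ) ⧸ (IntMult.stalkIdeal IV ξ ⊔ IntMult.stalkIdeal IW ξ))).toNat := by
  haveI : LocallyOfFiniteType f := inferInstance
  haveI : IsLocallyNoetherian X := LocallyOfFiniteType.isLocallyNoetherian f
  haveI hA : IsRegularLocalRing (X.presheaf.stalk ξ) := isRegularLocalRing_stalk_of_smooth K f ξ
  have hVm : stalkIdeal IV ξ ≤ maximalIdeal (X.presheaf.stalk ξ) :=
    (mem_support_iff_stalkIdeal_le IV ξ).1 hξV
  have hWm : stalkIdeal IW ξ ≤ maximalIdeal (X.presheaf.stalk ξ) :=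
    (mem_support_iff_stalkIdeal_le IW ξ).1 hξW
  have hVne : stalkIdeal IV ξ ≠ ⊤ :=
    ne_top_of_le_ne_top (maximalIdeal.isMaximal _).ne_top hVm
  have hWne : stalkIdeal IW ξ ≠ ⊤ :=
    ne_top_of_le_ne_top (maximalIdeal.isMaximal _).ne_top hWm
  have hdim := ringKrullDim_le_add K f IV IW n r s hn hr hs hprop ξ hξV hξW
  have h0 := ringKrullDim_quot_le_zero IV IW ξ hmax
  haveI hV' : LocCoh.IsCohenMacaulayLocalRing (↑(X.presheaf.stalk ξ) ⧸ stalkIdeal IV ξ) := hV
  haveI hW' : LocCoh.IsCohenMacaulayLocalRing (↑(X.presheaf.stalk ξ) ⧸ stalkIdeal IW ξ) := hW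
  have key := chi_eq_length_of_CM (stalkIdeal IV ξ) (stalkIdeal IW ξ) hVne hWne hdim h0
  rw [sup_comm] at key
  unfold IntMult.mult
  exact key

end Geometry

end Groth.Agent.Lead.IntMultTor
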