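import Groth.Agent.Lib.Lead.KerFree2
import Groth.Agent.Lib.Lead.FLFUnit
import Groth.Agent.Lib.Lead.Hartogs3
import Groth.Agent.Lib.Helper13.FinTypeEpi
import Groth.Agent.Lib.Helper28.SuppProper

/-!
# A monomorphism of finite locally free modules which is an isomorphism outside a closed set of
depth `≥ 2` is an isomorphism (lead)
-/

set_option autoImplicit false
universe u
open CategoryTheory CategoryTheory.Limits AlgebraicGeometry Opposite TopologicalSpace
open IsLocalRing
open Groth.Agent.Helper13.QCoh Groth.Agent.Helper13.FinType Groth.Agent.Helper13.LocFree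

namespace Groth.Agent.Lead.IsoCodim

variable {X : Scheme.{u}}

/-- stalk maps of a mono are bijective off the support of the cokernel (abstract cokernel). -/
theorem bijective_stalkMap_of_notMem_support' {M N C : X.Modules} (φ : M ⟶ N) [Mono φ]
    (π : N ⟶ C) (w : φ ≫ π = 0) (hS : (ShortComplex.mk φ π w).Exact) (x : X)
    (hx : x ∉ CohB1.support C) : Function.Bijective (stalkMap φ x) := by
  refine ⟨Groth.Agent.Helper13.Ext.stalkMap_injective_of_mono φ x, fun n => ?_⟩
  have hsub : Subsingleton (C.presheaf.stalk x) := by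
    by_contra h
    exact hx h
  haveI : Mono (ShortComplex.mk φ π w).f := inferInstanceAs (Mono φ)
  exact stalk_exact_of_exact_of_mono (ShortComplex.mk φ π w) hS x n (Subsingleton.elim _ _)

/-- stalk maps of a mono are bijective off the support of the cokernel. -/
theorem bijective_stalkMap_of_notMem_support {M N : X.Modules} (φ : M ⟶ N) [Mono φ] (x : X)
    (hx : x ∉ CohB1.support (cokernel φ)) : Function.Bijective (stalkMap φ x) :=
  bijective_stalkMap_of_notMem_support' φ (cokernel.π φ) (cokernel.condition φ)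
    (ShortComplex.exact_of_g_is_cokernel _ (cokernelIsCokernel φ)) x hx

/-- the restriction of a morphism to an open on which its stalk maps are bijective is an
isomorphism. -/
theorem isIso_restrict_of_bijective {M N : X.Modules} (φ : M ⟶ N) (U : X.Opens)
    (h : ∀ x : X, x ∈ U → Function.Bijective (stalkMap φ x)) :
    IsIso ((Scheme.Modules.restrictFunctor U.ι).map φ) := by
  apply isIso_of_stalk_bijective
  intro u
  have hb := h (U.ι u) u.2
  have hiso : IsIso (stalkMap φ (U.ι u)) := (ConcreteCategory.isIso_iff_bijective _).2 hb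
  have hnat := (Scheme.Modules.restrictStalkNatIso U.ι u).hom.naturality φ
  have h1 : stalkMap ((Scheme.Modules.restrictFunctor U.ι).map φ) u ≫
      (Scheme.Modules.restrictStalkNatIso U.ι u).hom.app N =
      (Scheme.Modules.restrictStalkNatIso U.ι u).hom.app M ≫ stalkMap φ (U.ι u) := hnat
  haveI hiN : IsIso ((Scheme.Modules.restrictStalkNatIso U.ι u).hom.app N) :=
    ⟨⟨(Scheme.Modules.restrictStalkNatIso U.ι u).inv.app N,
      by rw [← NatTrans.comp_app, Iso.hom_inv_id, NatTrans.id_app],
      by rw [← NatTrans.comp_app, Iso.inv_hom_id, NatTrans.id_app]⟩⟩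
  haveI hiM : IsIso ((Scheme.Modules.restrictStalkNatIso U.ι u).hom.app M) :=
    ⟨⟨(Scheme.Modules.restrictStalkNatIso U.ι u).inv.app M,
      by rw [← NatTrans.comp_app, Iso.hom_inv_id, NatTrans.id_app],
      by rw [← NatTrans.comp_app, Iso.inv_hom_id, NatTrans.id_app]⟩⟩
  have hbN : Function.Bijective ((Scheme.Modules.restrictStalkNatIso U.ι u).hom.app N) :=
    (ConcreteCategory.isIso_iff_bijective _).1 hiN
  have hbM : Function.Bijective ((Scheme.Modules.restrictStalkNatIso U.ι u).hom.app M) :=
    (ConcreteCategory.isIso_iff_bijective _).1 hiM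
  have hcomp : ∀ z, ((Scheme.Modules.restrictStalkNatIso U.ι u).hom.app N)
      (stalkMap ((Scheme.Modules.restrictFunctor U.ι).map φ) u z) =
      stalkMap φ (U.ι u) (((Scheme.Modules.restrictStalkNatIso U.ι u).hom.app M) z) :=
    fun z => ConcreteCategory.congr_hom h1 z
  constructor
  · intro z z' hzz
    apply hbM.1
    apply hb.1
    rw [← hcomp, ← hcomp]
    exact congrArg _ hzz
  · intro y
    obtain ⟨w, hw⟩ := hb.2 (((Scheme.Modules.restrictStalkNatIso U.ι u).hom.app N) y)
    obtain ⟨z, hz⟩ := hbM.2 w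
    refine ⟨z, hbN.1 ?_⟩
    rw [hcomp, hz, hw]

/-- abstract-cokernel version of `isIso_of_depth`. -/
theorem isIso_of_depth_aux [IsLocallyNoetherian X] {M N C : X.Modules}
    (hM : FlatMod.IsFinLocFree M) (hN : FlatMod.IsFinLocFree N) (φ : M ⟶ N) [Mono φ]
    (π : N ⟶ C) [Epi π] [C.IsQuasicoherent] (w : φ ≫ π = 0)
    (hS : (ShortComplex.mk φ π w).Exact)
    (hdepth : ∀ x : X, x ∈ CohB1.support C →
      (2 : ℕ∞) ≤ LocCoh.depth (X.presheaf.stalk x) (X.presheaf.stalk x)) : IsIso φ := by
  haveI hMq : M.IsQuasicoherent := Groth.Agent.Helper5.FPC.isQuasicoherent_of_isFinLocFree M hM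
  haveI hNq : N.IsQuasicoherent := Groth.Agent.Helper5.FPC.isQuasicoherent_of_isFinLocFree N hN
  haveI hNfp : SheafOfModules.IsFinitePresentation (R := X.ringCatSheaf) N :=
    isFinitePresentation_of_isFinLocFree N hN
  haveI hNft : SheafOfModules.IsFiniteType (R := X.ringCatSheaf) N := inferInstance
  haveI hcft : SheafOfModules.IsFiniteType (R := X.ringCatSheaf) C := isFiniteType_of_epi π
  have hcl : IsClosed (CohB1.support C) :=
    Groth.Agent.Helper28.SuppProper.isClosed_support C
  let U : X.Opens := ⟨(CohB1.support C)ᶜ, hcl.isOpen_compl⟩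
  have hU : ∀ x : X, x ∈ U ↔ x ∉ CohB1.support C := fun x => Iff.rfl
  have h : ∀ V : X.Opens,
      Function.Bijective (X.presheaf.map (homOfLE (inf_le_left : V ⊓ U ≤ V)).op) := by
    intro V
    apply Groth.Agent.Lead.Hartogs.bijective_res_ring V (V ⊓ U) inf_le_left
    intro x hxV hx
    apply hdepth x
    by_contra hns
    exact hx ⟨hxV, (hU x).2 hns⟩
  haveI h1 := Groth.Agent.Lead.FLFUnit.isIso_unit_of_isFinLocFree X U h M hM
  haveI h2 := Groth.Agent.Lead.FLFUnit.isIso_unit_of_isFinLocFree X U h N hN
  haveI h3 : IsIso ((Scheme.Modules.restrictFunctor U.ι).map φ) :=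
    isIso_restrict_of_bijective φ U
      (fun x hx => bijective_stalkMap_of_notMem_support' φ π w hS x ((hU x).1 hx))
  have hnat := (Scheme.Modules.restrictAdjunction U.ι).unit.naturality φ
  have h4 : IsIso (φ ≫ (Scheme.Modules.restrictAdjunction U.ι).unit.app N) := by
    have e : φ ≫ (Scheme.Modules.restrictAdjunction U.ι).unit.app N =
        (Scheme.Modules.restrictAdjunction U.ι).unit.app M ≫
          (Scheme.Modules.pushforward U.ι).map ((Scheme.Modules.restrictFunctor U.ι).map φ) :=
      hnat
    rw [e]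
    infer_instance
  exact IsIso.of_isIso_comp_right φ ((Scheme.Modules.restrictAdjunction U.ι).unit.app N)

/-- **A monomorphism of finite locally free modules on a locally Noetherian scheme whose
cokernel is supported at points of depth `≥ 2` is an isomorphism.** -/
theorem isIso_of_depth [IsLocallyNoetherian X] {M N : X.Modules} (hM : FlatMod.IsFinLocFree M)
    (hN : FlatMod.IsFinLocFree N) (φ : M ⟶ N) [Mono φ]
    (hdepth : ∀ x : X, x ∈ CohB1.support (cokernel φ) →
      (2 : ℕ∞) ≤ LocCoh.depth (X.presheaf.stalk x) (X.presheaf.stalk x)) : IsIso φ := by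
  haveI hMq : M.IsQuasicoherent := Groth.Agent.Helper5.FPC.isQuasicoherent_of_isFinLocFree M hM
  haveI hNq : N.IsQuasicoherent := Groth.Agent.Helper5.FPC.isQuasicoherent_of_isFinLocFree N hN
  exact @isIso_of_depth_aux X _ M N (cokernel φ) hM hN φ _ (cokernel.π φ) coequalizer.π_epi
    (Groth.Agent.Helper13.QCohLocal.isQuasicoherent_cokernel φ) (cokernel.condition φ)
    (ShortComplex.exact_of_g_is_cokernel _ (cokernelIsCokernel φ)) hdepth

end Groth.Agent.Lead.IsoCodim
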