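import Groth.Agent.S1689

/-!
# Kernels of surjections from free modules over regular local rings of dimension `≤ 2` (lead)
-/

set_option autoImplicit false
universe u
open CategoryTheory Abelian LocCoh IsLocalRing
open Groth.Agent.Lead.Depth Groth.Agent.Lead Groth.Agent.Helper28.ReflDepth

namespace Groth.Agent.Lead.KerFree

/-- Over a regular local ring of dimension `≤ 2`, the kernel of a surjection from a finite free
module onto a module of depth `≥ 1` (when the dimension is `2`) is free. -/
theorem free_of_exact (R : Type u) [CommRing R] [IsRegularLocalRing R] (hd : ringKrullDim R ≤ 2)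
    (K P N : Type u) [AddCommGroup K] [Module R K] [Module.Finite R K]
    [AddCommGroup P] [Module R P] [Module.Finite R P] [Module.Free R P]
    [AddCommGroup N] [Module R N] [Module.Finite R N]
    (f : K →ₗ[R] P) (g : P →ₗ[R] N) (hf : Function.Injective f) (hg : Function.Surjective g)
    (hfg : Function.Exact f g)
    (hN : (2 : WithBot ℕ∞) ≤ ringKrullDim R → 1 ≤ LocCoh.depth R N) : Module.Free R K := by
  rcases subsingleton_or_nontrivial K with hs | hnt
  · exact Module.Free.of_subsingleton R K
  haveI : Nontrivial P := hf.nontrivial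
  obtain ⟨n, hn, hn2⟩ := RLR.exists_nat_of_le (ringKrullDim_nonneg_of_nontrivial (R := R))
    (by exact_mod_cast hd : ringKrullDim R ≤ ((2 : ℕ) : WithBot ℕ∞))
  have hdepthR : LocCoh.depth R R = n := depth_eq_of_isRegularLocalRing hn
  have hP : LocCoh.idealDepth (maximalIdeal R) P = n := by
    have h1 : LocCoh.depth R P = LocCoh.depth R R := depth_free P
    rw [hdepthR] at h1
    exact h1
  have h3 := (idealDepth_shortExact (maximalIdeal R) K P N f g hf hg hfg).2.2
  have hge : (n : ℕ∞) ≤ LocCoh.depth R K := by
    refine le_trans ?_ h3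
    rw [le_min_iff]
    constructor
    · exact hP.ge
    · interval_cases n
      · rw [Nat.cast_zero]; exact bot_le
      · rw [Nat.cast_one]; exact le_add_self
      · have h2 : (2 : WithBot ℕ∞) ≤ ringKrullDim R := by rw [hn]; norm_cast
        have h4 : (1 : ℕ∞) ≤ LocCoh.idealDepth (maximalIdeal R) N := hN h2
        have e2 : ((2 : ℕ) : ℕ∞) = 1 + 1 := by norm_num
        rw [e2]
        exact add_le_add_left h4 1
  have hpd := Hom.hasProjectiveDimensionLT_of_finite hn K
  have hnz : ¬ Limits.IsZero (ModuleCat.of R K) := fun hz =>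
    not_subsingleton K (ModuleCat.subsingleton_of_isZero hz)
  obtain ⟨e, he, hen⟩ := exists_nat_projectiveDimension_eq hpd hnz
  have hAB := auslander_buchsbaum K e he
  rw [hdepthR] at hAB
  obtain ⟨t, ht⟩ := ENat.ne_top_iff_exists.mp (depth_ne_top (R := R) K)
  rw [← ht] at hAB hge
  have e1 : n = e + t := by exact_mod_cast hAB
  have e2 : n ≤ t := by exact_mod_cast hge
  have he0 : e = 0 := by omega
  subst he0
  rw [Nat.cast_zero, projectiveDimension_eq_zero_iff] at he
  haveI : Module.Projective R K := (IsProjective.iff_projective _).mpr he.1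
  exact Module.free_of_flat_of_isLocalRing

/-- a nonzero finite torsion-free module over a local domain which is not a field has depth at
least one. -/
theorem one_le_depth_of_isTorsionFree (R : Type u) [CommRing R] [IsLocalRing R]
    [IsNoetherianRing R] [IsDomain R] (hnf : ¬ IsField R)
    (N : Type u) [AddCommGroup N] [Module R N] [Module.Finite R N] [Module.IsTorsionFree R N] :
    1 ≤ LocCoh.depth R N := by
  have hne : maximalIdeal R ≠ ⊥ := fun h => hnf (IsLocalRing.isField_iff_maximalIdeal_eq.2 h)
  obtain ⟨a, ha, ha0⟩ := Submodule.exists_mem_ne_zero_of_ne_bot hne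
  have hreg : IsSMulRegular N a :=
    Module.IsTorsionFree.isSMulRegular (IsRegular.of_ne_zero ha0)
  refine (one_le_idealDepth_iff (maximalIdeal R) N).2 (fun x hx => ?_)
  apply hreg
  dsimp only
  rw [hx a ha, smul_zero]

end Groth.Agent.Lead.KerFree
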