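import Mathlib
import Groth.Agent.Lib.Lead.RLR1
import Groth.Agent.Lib.Lead.RLR3
import Groth.Agent.Lib.Helper14.SmoothReg

/-!
# Regularity of Kummer extensions `A[t]/(t^e - s)`
-/

set_option autoImplicit false
set_option linter.style.haveILetI false
set_option linter.unusedSectionVars false

universe u

open Polynomial IsLocalRing

namespace Groth.Agent.Lead.Kummer

variable {A : Type u} [CommRing A] (s : A) (e : ℕ)

local notation "F" => (X ^ e - C s : A[X])

/-- The map `A[X]/(X^e - s) → A/(s)` sending the root to `0`. -/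
noncomputable def quotRootHom (he : 0 < e) : AdjoinRoot F →+* A ⧸ Ideal.span {s} :=
  AdjoinRoot.lift (Ideal.Quotient.mk _) 0 (by
    have h0 : (Ideal.Quotient.mk (Ideal.span {s})) s = 0 :=
      Ideal.Quotient.eq_zero_iff_mem.mpr (Ideal.mem_span_singleton_self s)
    rw [eval₂_sub, eval₂_X_pow, eval₂_C, zero_pow he.ne', h0, sub_zero])

theorem quotRootHom_surjective (he : 0 < e) : Function.Surjective (quotRootHom s e he) := by
  intro y
  obtain ⟨a, rfl⟩ := Ideal.Quotient.mk_surjective y
  refine ⟨AdjoinRoot.of F a, ?_⟩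
  rw [quotRootHom, AdjoinRoot.lift_of]

theorem root_pow_eq : AdjoinRoot.root F ^ e = AdjoinRoot.of F s := by
  have h := AdjoinRoot.mk_self (f := F)
  rw [map_sub, map_pow, AdjoinRoot.mk_X, AdjoinRoot.mk_C, sub_eq_zero] at h
  exact h

theorem ker_quotRootHom (he : 0 < e) :
    RingHom.ker (quotRootHom s e he) = Ideal.span {AdjoinRoot.root F} := by
  apply le_antisymm
  · intro x hx
    obtain ⟨g, rfl⟩ := AdjoinRoot.mk_surjective x
    rw [RingHom.mem_ker, quotRootHom, AdjoinRoot.lift_mk, eval₂_at_zero] at hx
    have hmem : g.coeff 0 ∈ Ideal.span {s} := Ideal.Quotient.eq_zero_iff_mem.mp hx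
    obtain ⟨a, ha⟩ := Ideal.mem_span_singleton'.mp hmem
    have h2 := Polynomial.divX_mul_X_add g
    rw [← h2, map_add, map_mul, AdjoinRoot.mk_X, AdjoinRoot.mk_C]
    refine Ideal.add_mem _ (Ideal.mul_mem_left _ _ (Ideal.mem_span_singleton_self _)) ?_
    rw [← ha, map_mul, ← root_pow_eq]
    have hp : AdjoinRoot.root F ^ e = AdjoinRoot.root F ^ (e - 1) * AdjoinRoot.root F :=
      (pow_sub_one_mul he.ne' _).symm
    rw [hp]
    exact Ideal.mul_mem_left _ _ (Ideal.mul_mem_left _ _ (Ideal.mem_span_singleton_self _))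
  · rw [Ideal.span_singleton_le_iff_mem, RingHom.mem_ker, quotRootHom, AdjoinRoot.lift_root]

/-- `A[X]/(X^e - s, X) ≃ A/(s)`. -/
noncomputable def quotRootEquiv (he : 0 < e) :
    (AdjoinRoot F ⧸ Ideal.span {AdjoinRoot.root F}) ≃+* A ⧸ Ideal.span {s} :=
  (Ideal.quotEquivOfEq (ker_quotRootHom s e he).symm).trans
    (RingHom.quotientKerEquivOfSurjective (quotRootHom_surjective s e he))

/-- `A` regular local, `s ≠ 0` with `A/(s)` regular, `e` invertible: `A[t]/(t^e - s)` is regular. -/
theorem isRegularRing_adjoinRoot [IsLocalRing A] [IsRegularRing A] (hs : s ≠ 0)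
    (hreg : IsRegularRing (A ⧸ Ideal.span {s})) (he : 0 < e) (heu : IsUnit (e : A)) :
    IsRegularRing (AdjoinRoot F) := by
  classical
  have hmonic : (F).Monic := monic_X_pow_sub_C s he.ne'
  haveI := hmonic.free_adjoinRoot
  haveI := hmonic.finite_adjoinRoot
  haveI : IsRegularLocalRing A := IsRegularLocalRing.of_isRegularRing_of_isLocalRing A
  haveI : IsDomain A := RLR.isDomain A
  haveI : IsNoetherianRing (AdjoinRoot F) := Algebra.FiniteType.isNoetherianRing A (AdjoinRoot F)
  have hts : AdjoinRoot.root F ^ e = algebraMap A (AdjoinRoot F) s := by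
    rw [AdjoinRoot.algebraMap_eq]
    exact root_pow_eq s e
  have hs_nzd : algebraMap A (AdjoinRoot F) s ∈ nonZeroDivisors (AdjoinRoot F) := by
    rw [mem_nonZeroDivisors_iff_right]
    intro y hy
    have hreg' := Module.Flat.isSMulRegular_of_nonZeroDivisors (M := AdjoinRoot F)
      (mem_nonZeroDivisors_of_ne_zero hs)
    apply hreg'
    show s • y = s • (0 : AdjoinRoot F)
    rw [smul_zero, Algebra.smul_def, mul_comm]
    exact hy
  have ht_nzd : AdjoinRoot.root F ∈ nonZeroDivisors (AdjoinRoot F) := by
    rw [mem_nonZeroDivisors_iff_right]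
    intro y hy
    have h1 : y * AdjoinRoot.root F ^ e = 0 := by
      have hp : AdjoinRoot.root F ^ e = AdjoinRoot.root F * AdjoinRoot.root F ^ (e - 1) :=
        (mul_pow_sub_one he.ne' _).symm
      rw [hp, ← mul_assoc, hy, zero_mul]
    rw [hts] at h1
    exact (mem_nonZeroDivisors_iff_right.mp hs_nzd) y h1
  rw [isRegularRing_iff]
  intro q hq
  by_cases htq : AdjoinRoot.root F ∈ q
  · -- the root lies in `q`: cut by the root
    have hx : algebraMap (AdjoinRoot F) (Localization.AtPrime q) (AdjoinRoot.root F) ∈
        maximalIdeal (Localization.AtPrime q) := by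
      rw [← Localization.AtPrime.map_eq_maximalIdeal]
      exact Ideal.mem_map_of_mem _ htq
    have hxnzd : algebraMap (AdjoinRoot F) (Localization.AtPrime q) (AdjoinRoot.root F) ∈
        nonZeroDivisors (Localization.AtPrime q) :=
      IsLocalization.map_nonZeroDivisors_le q.primeCompl (Localization.AtPrime q)
        (Submonoid.mem_map.mpr ⟨_, ht_nzd, rfl⟩)
    haveI := hreg
    haveI hBI : IsRegularRing (AdjoinRoot F ⧸ Ideal.span {AdjoinRoot.root F}) :=
      IsRegularRing.of_ringEquiv (quotRootEquiv s e he).symm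
    have hmap : (Ideal.span {AdjoinRoot.root F}).map
        (algebraMap (AdjoinRoot F) (Localization.AtPrime q)) =
        Ideal.span {algebraMap (AdjoinRoot F) (Localization.AtPrime q) (AdjoinRoot.root F)} := by
      rw [Ideal.map_span, Set.image_singleton]
    have hIq : Ideal.span {AdjoinRoot.root F} ≤ q := (Ideal.span_singleton_le_iff_mem _).mpr htq
    haveI hqbar : (q.map (Ideal.Quotient.mk (Ideal.span {AdjoinRoot.root F}))).IsPrime :=
      Ideal.map_isPrime_of_surjective Ideal.Quotient.mk_surjective (by rwa [Ideal.mk_ker])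
    have hsub : Algebra.algebraMapSubmonoid (AdjoinRoot F ⧸ Ideal.span {AdjoinRoot.root F})
        q.primeCompl = (q.map (Ideal.Quotient.mk (Ideal.span {AdjoinRoot.root F}))).primeCompl := by
      ext y
      constructor
      · rintro ⟨b, hb, rfl⟩
        intro hmem
        have h3 : b ∈ (q.map (Ideal.Quotient.mk (Ideal.span {AdjoinRoot.root F}))).comap
            (Ideal.Quotient.mk (Ideal.span {AdjoinRoot.root F})) := hmem
        rw [Ideal.comap_map_of_surjective _ Ideal.Quotient.mk_surjective,
          ← RingHom.ker_eq_comap_bot, Ideal.mk_ker, sup_eq_left.mpr hIq] at h3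
        exact hb h3
      · intro hy
        obtain ⟨b, rfl⟩ := Ideal.Quotient.mk_surjective y
        refine ⟨b, ?_, rfl⟩
        intro hbq
        exact hy (Ideal.mem_map_of_mem _ hbq)
    have hloc : IsLocalization (Algebra.algebraMapSubmonoid
        (AdjoinRoot F ⧸ Ideal.span {AdjoinRoot.root F}) q.primeCompl)
        (Localization.AtPrime q ⧸ (Ideal.span {AdjoinRoot.root F}).map
          (algebraMap (AdjoinRoot F) (Localization.AtPrime q))) := inferInstance
    rw [hsub] at hloc
    have e1 : Localization.AtPrime (q.map (Ideal.Quotient.mk (Ideal.span {AdjoinRoot.root F})))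
        ≃ₐ[AdjoinRoot F ⧸ Ideal.span {AdjoinRoot.root F}]
        (Localization.AtPrime q ⧸ (Ideal.span {AdjoinRoot.root F}).map
          (algebraMap (AdjoinRoot F) (Localization.AtPrime q))) :=
      @IsLocalization.algEquiv _ _ _ _ _ _ _ _ _ _ hloc
    haveI hreg2 : IsRegularLocalRing (Localization.AtPrime q ⧸
        (Ideal.span {AdjoinRoot.root F}).map
          (algebraMap (AdjoinRoot F) (Localization.AtPrime q))) :=
      IsRegularLocalRing.of_ringEquiv e1.toRingEquiv
    haveI hreg3 : IsRegularLocalRing (Localization.AtPrime q ⧸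
        Ideal.span {algebraMap (AdjoinRoot F) (Localization.AtPrime q) (AdjoinRoot.root F)}) :=
      IsRegularLocalRing.of_ringEquiv (Ideal.quotEquivOfEq hmap)
    exact RLR.of_quotient_regular _ hx hxnzd
  · -- the root is a unit near `q`: étale over `A`
    have hu : (e : A) * ↑heu.unit⁻¹ = 1 := heu.mul_val_inv
    have hcond : derivative F * (C (↑heu.unit⁻¹ : A) * X) + F * 0 = X ^ e := by
      rw [mul_zero, add_zero, derivative_sub, derivative_C, sub_zero, derivative_X_pow,
        mul_mul_mul_comm, ← C_mul, hu, C_1, one_mul, pow_sub_one_mul he.ne']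
    let P : StandardEtalePair A :=
      { f := F, monic_f := hmonic, g := X, cond := ⟨C (↑heu.unit⁻¹ : A) * X, 0, e, hcond⟩ }
    have e2 : P.Ring ≃ₐ[A] Localization.Away (AdjoinRoot.root F) := P.equivAwayAdjoinRoot
    haveI : Algebra.Etale A (Localization.Away (AdjoinRoot.root F)) := Algebra.Etale.of_equiv e2
    have hdisj : Disjoint (Submonoid.powers (AdjoinRoot.root F) : Set (AdjoinRoot F))
        (q : Set (AdjoinRoot F)) :=
      (Ideal.disjoint_powers_iff_notMem_of_isPrime _).mpr htq
    haveI hq' : (q.map (algebraMap (AdjoinRoot F)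
        (Localization.Away (AdjoinRoot.root F)))).IsPrime :=
      IsLocalization.isPrime_of_isPrime_disjoint (.powers (AdjoinRoot.root F)) _ _ hq hdisj
    have hcomap : (q.map (algebraMap (AdjoinRoot F)
        (Localization.Away (AdjoinRoot.root F)))).comap (algebraMap (AdjoinRoot F)
        (Localization.Away (AdjoinRoot.root F))) = q :=
      IsLocalization.comap_map_of_isPrime_disjoint (.powers (AdjoinRoot.root F)) _ hq hdisj
    have h1 : IsRegularLocalRing (Localization.AtPrime (q.map (algebraMap (AdjoinRoot F)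
        (Localization.Away (AdjoinRoot.root F))))) :=
      Groth.Agent.Helper14.SmoothReg.isRegularLocalRing_of_etale A
        (Localization.Away (AdjoinRoot.root F)) _
    have h2 : IsRegularLocalRing (Localization.AtPrime ((q.map (algebraMap (AdjoinRoot F)
        (Localization.Away (AdjoinRoot.root F)))).comap (algebraMap (AdjoinRoot F)
        (Localization.Away (AdjoinRoot.root F))))) :=
      @IsRegularLocalRing.of_ringEquiv (Localization.AtPrime (q.map (algebraMap (AdjoinRoot F)
        (Localization.Away (AdjoinRoot.root F))))) _ h1 _ _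
        (IsLocalization.localizationLocalizationAtPrimeIsoLocalization
          (Submonoid.powers (AdjoinRoot.root F)) (q.map (algebraMap (AdjoinRoot F)
        (Localization.Away (AdjoinRoot.root F))))).symm.toRingEquiv
    have key : ∀ (r' : Ideal (AdjoinRoot F)) [r'.IsPrime], r' = q →
        IsRegularLocalRing (Localization.AtPrime r') →
        IsRegularLocalRing (Localization.AtPrime q) := by
      intro r' _ h
      subst h
      exact id
    exact key _ hcomap h2

end Groth.Agent.Lead.Kummer
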