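import Mathlib
import Groth.Agent.Lib.Helper1.LocalCriterion

/-!
# Flatness over a Noetherian ring with a nilpotent ideal, via the associated primes
-/

set_option autoImplicit false
set_option linter.style.haveILetI false
set_option linter.unusedSectionVars false

universe u

open TensorProduct Function

namespace Groth.Agent.Lead.NilFlat

open Groth.Agent.Helper1

section General

variable {A : Type u} [CommRing A]

/-- `N ⊗ -` applied to a localization map is a localization map. -/
theorem isLocalizedModule_lTensor (S : Submonoid A) {M M' : Type u} [AddCommGroup M] [Module A M]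
    [AddCommGroup M'] [Module A M'] (g : M →ₗ[A] M') [IsLocalizedModule S g]
    (N : Type u) [AddCommGroup N] [Module A N] : IsLocalizedModule S (g.lTensor N) := by
  haveI h1 : IsLocalizedModule S (g.rTensor N) :=
    (inferInstance : IsLocalizedModule S (TensorProduct.AlgebraTensorModule.rTensor A N g))
  have h2 : g.lTensor N = (TensorProduct.comm A M' N).toLinearMap ∘ₗ
      ((g.rTensor N) ∘ₗ (TensorProduct.comm A N M).toLinearMap) := by
    apply TensorProduct.ext'
    intro n m
    simp
  rw [h2]
  haveI h3 : IsLocalizedModule S ((g.rTensor N) ∘ₗ (TensorProduct.comm A N M).toLinearMap) :=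
    IsLocalizedModule.of_linearEquiv_right S (g.rTensor N) (TensorProduct.comm A N M)
  exact IsLocalizedModule.of_linearEquiv S _ (TensorProduct.comm A M' N)

end General

section Noeth

variable {A : Type u} [CommRing A] [IsNoetherianRing A]

/-- `Ass(A / ann J) ⊆ Ass(A)`. -/
theorem associatedPrimes_quotient_annihilator_subset (J : Ideal A) :
    associatedPrimes A (A ⧸ Submodule.annihilator J) ⊆ associatedPrimes A A := by
  classical
  intro p hp
  rw [AssociatedPrimes.mem_iff, isAssociatedPrime_iff] at hp ⊢
  obtain ⟨hprime, x, hx⟩ := hp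
  obtain ⟨a, rfl⟩ := Ideal.Quotient.mk_surjective x
  obtain ⟨G, hG⟩ : (J : Submodule A A).FG := IsNoetherian.noetherian J
  have hmem : ∀ r : A, r ∈ p ↔ ∀ g ∈ G, r * (a * g) = 0 := by
    intro r
    rw [hx, Submodule.mem_colon_singleton, Submodule.mem_bot]
    have h1 : r • (Ideal.Quotient.mk (Submodule.annihilator J) a) =
        Ideal.Quotient.mk (Submodule.annihilator J) (r * a) := by
      rw [Algebra.smul_def, Ideal.Quotient.algebraMap_eq, ← map_mul]
    rw [h1, Ideal.Quotient.eq_zero_iff_mem, ← hG, Submodule.mem_annihilator_span]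
    constructor
    · intro h g hg
      have := h ⟨g, Finset.mem_coe.mpr hg⟩
      simpa [mul_assoc] using this
    · intro h g
      have := h g.1 (Finset.mem_coe.mp g.2)
      simpa [mul_assoc] using this
  let 𝔞 : A → Ideal A := fun g => (⊥ : Submodule A A).colon {a * g}
  have h𝔞 : ∀ g r, r ∈ 𝔞 g ↔ r * (a * g) = 0 := by
    intro g r
    simp only [𝔞, Submodule.mem_colon_singleton, Submodule.mem_bot, smul_eq_mul]
  have hinf : G.inf 𝔞 ≤ p := by
    intro r hr
    rw [Submodule.mem_finsetInf] at hr
    exact (hmem r).mpr (fun g hg => (h𝔞 g r).mp (hr g hg))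
  obtain ⟨g, hg, hgp⟩ := (Ideal.IsPrime.inf_le' hprime).mp hinf
  refine ⟨hprime, a * g, le_antisymm ?_ hgp⟩
  intro r hr
  exact (h𝔞 g r).mpr ((hmem r).mp hr g hg)

/-- An element of `ker (I ⊗ M → M)` is killed by a nonzerodivisor of `A`, if `M` is flat at the
associated primes of `A`. -/
theorem exists_nzd_smul_eq_zero (I : Ideal A) (M : Type u) [AddCommGroup M] [Module A M]
    (hloc : ∀ (p : Ideal A) [p.IsPrime], p ∈ associatedPrimes A A →
      Module.Flat A (LocalizedModule p.primeCompl M))
    (x : I ⊗[A] M) (hx : I.subtype.rTensor M x = 0) :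
    ∃ s ∈ nonZeroDivisors A, s • x = 0 := by
  classical
  by_contra hcon
  push_neg at hcon
  let 𝔞 : Ideal A := (⊥ : Submodule A (I ⊗[A] M)).colon {x}
  have h𝔞 : ∀ r, r ∈ 𝔞 ↔ r • x = 0 := fun r => by
    simp only [𝔞, Submodule.mem_colon_singleton, Submodule.mem_bot]
  have hsub : (𝔞 : Set A) ⊆ ⋃ p ∈ associatedPrimes A A, (p : Set A) := by
    rw [biUnion_associatedPrimes_eq_compl_nonZeroDivisors]
    intro s hs hnzd
    exact hcon s hnzd ((h𝔞 s).mp hs)
  have hfin : (associatedPrimes A A).Finite := associatedPrimes.finite A A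
  have key := Ideal.subset_union_prime (R := A) (s := hfin.toFinset)
    (f := fun q : Ideal A => q) (⊥ : Ideal A) ⊥ (fun q hq _ _ => by
      rw [Set.Finite.mem_toFinset] at hq
      exact IsAssociatedPrime.isPrime hq) (I := 𝔞)
  have hsub' : ((𝔞 : Set A) ⊆ ⋃ i ∈ (↑hfin.toFinset : Set (Ideal A)), ((i : Ideal A) : Set A)) := by
    rw [Set.Finite.coe_toFinset]
    exact hsub
  obtain ⟨p, hp, h𝔞p⟩ := key.mp hsub'
  rw [Set.Finite.mem_toFinset] at hp
  haveI : p.IsPrime := IsAssociatedPrime.isPrime hp
  haveI := hloc p hp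
  let g := LocalizedModule.mkLinearMap p.primeCompl M
  have e1 : (I.subtype.rTensor (LocalizedModule p.primeCompl M)) (g.lTensor I x) =
      (g.lTensor A) (I.subtype.rTensor M x) := by
    rw [← LinearMap.comp_apply, ← LinearMap.comp_apply, LinearMap.rTensor_comp_lTensor,
      LinearMap.lTensor_comp_rTensor]
  have h1 : (I.subtype.rTensor (LocalizedModule p.primeCompl M)) (g.lTensor I x) = 0 := by
    rw [e1, hx, map_zero]
  have h2 : g.lTensor I x = 0 := by
    have hinj := Module.Flat.rTensor_preserves_injective_linearMap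
      (M := LocalizedModule p.primeCompl M) I.subtype Subtype.val_injective
    exact hinj (by rw [h1, map_zero])
  haveI := isLocalizedModule_lTensor p.primeCompl g I
  obtain ⟨s, hs⟩ := (IsLocalizedModule.eq_zero_iff p.primeCompl (g.lTensor I)).mp h2
  have hs𝔞 : (s : A) ∈ 𝔞 := (h𝔞 _).mpr hs
  exact s.2 (h𝔞p hs𝔞)

/-- If `J I = 0` and `M/JM` is flat over `A/J`, nonzerodivisors of `A` are regular on `I ⊗ M`. -/
theorem eq_zero_of_nzd_smul (I J : Ideal A) (hIJ : ∀ i ∈ I, ∀ j ∈ J, j * i = 0)
    (M : Type u) [AddCommGroup M] [Module A M] [Module.Flat (A ⧸ J) ((A ⧸ J) ⊗[A] M)]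
    (s : A) (hs : s ∈ nonZeroDivisors A) (x : I ⊗[A] M) (hx : s • x = 0) : x = 0 := by
  have hT : Module.IsTorsionBySet A I (J : Set A) := by
    intro i j
    apply Subtype.ext
    simpa using hIJ i.1 i.2 j.1 j.2
  letI : Module (A ⧸ J) I := hT.module
  haveI : IsScalarTower A (A ⧸ J) I := hT.isScalarTower
  let f : I →ₗ[A ⧸ J] I := LinearMap.lsmul (A ⧸ J) I (Ideal.Quotient.mk J s)
  have hf : Injective f := by
    intro i i' h
    have h' : s • i = s • i' := h
    apply Subtype.ext
    have h'' : s * (i : A) = s * (i' : A) := congrArg Subtype.val h'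
    have h3 : s * ((i : A) - i') = 0 := by rw [mul_sub, h'', sub_self]
    exact sub_eq_zero.mp ((mem_nonZeroDivisors_iff_left.mp hs) _ h3)
  have hinj := (rTensor_baseChange_injective_iff (R := A) (A ⧸ J) M f).mp
    (Module.Flat.rTensor_preserves_injective_linearMap f hf)
  apply hinj
  rw [map_zero]
  have key : ∀ y : I ⊗[A] M, (f.restrictScalars A).rTensor M y = s • y := by
    intro y
    induction y using TensorProduct.induction_on with
    | zero => simp
    | tmul i m =>
      rw [LinearMap.rTensor_tmul, TensorProduct.smul_tmul']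
      rfl
    | add y z hy hz => rw [map_add, hy, hz, smul_add]
  rw [key, hx]

theorem rTensor_subtype_injective (I J : Ideal A) (hIJ : ∀ i ∈ I, ∀ j ∈ J, j * i = 0)
    (M : Type u) [AddCommGroup M] [Module A M] [Module.Flat (A ⧸ J) ((A ⧸ J) ⊗[A] M)]
    (hloc : ∀ (p : Ideal A) [p.IsPrime], p ∈ associatedPrimes A A →
      Module.Flat A (LocalizedModule p.primeCompl M)) :
    Injective (I.subtype.rTensor M) := by
  rw [injective_iff_map_eq_zero]
  intro x hx
  obtain ⟨s, hs, hsx⟩ := exists_nzd_smul_eq_zero I M hloc x hx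
  exact eq_zero_of_nzd_smul I J hIJ M s hs x hsx

end Noeth

/-- The induction: nilpotency index. -/
theorem flat_aux : ∀ (n : ℕ) (A : Type u) [CommRing A] [IsNoetherianRing A] (J : Ideal A)
    (_ : J ^ n = ⊥) (M : Type u) [AddCommGroup M] [Module A M]
    (_ : Module.Flat (A ⧸ J) ((A ⧸ J) ⊗[A] M))
    (_ : ∀ (p : Ideal A) [p.IsPrime], p ∈ associatedPrimes A A →
      Module.Flat A (LocalizedModule p.primeCompl M)),
    Module.Flat A M := by
  intro n
  induction n with
  | zero =>
    intro A _ _ J hJ M _ _ h0 hloc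
    rw [pow_zero, Ideal.one_eq_top] at hJ
    haveI : Subsingleton A := by
      have h1 : (1 : A) ∈ (⊤ : Ideal A) := Submodule.mem_top
      rw [hJ] at h1
      exact subsingleton_of_zero_eq_one ((Ideal.mem_bot.mp h1).symm)
    haveI : Subsingleton M := Module.subsingleton A M
    infer_instance
  | succ n ih =>
    intro A _ _ J hJ M _ _ h0 hloc
    haveI := h0
    let I : Ideal A := Submodule.annihilator (J : Submodule A A)
    have hIJ : ∀ i ∈ I, ∀ j ∈ J, j * i = 0 := by
      intro i hi j hj
      have := Submodule.mem_annihilator.mp hi j hj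
      rw [smul_eq_mul] at this
      rw [mul_comm]
      exact this
    have hJnI : J ^ n ≤ I := by
      intro a ha
      rw [Submodule.mem_annihilator]
      intro j hj
      have : a * j ∈ J ^ (n + 1) := by
        rw [pow_succ]
        exact Ideal.mul_mem_mul ha hj
      rw [hJ] at this
      simpa using this
    let J' : Ideal (A ⧸ I) := J.map (Ideal.Quotient.mk I)
    have hJ' : J' ^ n = ⊥ := by
      rw [← Ideal.map_pow, Ideal.map_eq_bot_iff_le_ker, Ideal.mk_ker]
      exact hJnI
    have hflat' : Module.Flat (A ⧸ I) ((A ⧸ I) ⊗[A] M) := by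
      apply ih (A ⧸ I) J' hJ' ((A ⧸ I) ⊗[A] M)
      · -- closed-fibre flatness
        let φ : A ⧸ J →+* (A ⧸ I) ⧸ J' :=
          Ideal.Quotient.lift J (algebraMap A ((A ⧸ I) ⧸ J')) (by
            intro j hj
            rw [IsScalarTower.algebraMap_apply A (A ⧸ I) ((A ⧸ I) ⧸ J'),
              Ideal.Quotient.algebraMap_eq, Ideal.Quotient.algebraMap_eq,
              Ideal.Quotient.eq_zero_iff_mem]
            exact Ideal.mem_map_of_mem _ hj)
        letI : Algebra (A ⧸ J) ((A ⧸ I) ⧸ J') := φ.toAlgebra
        haveI : IsScalarTower A (A ⧸ J) ((A ⧸ I) ⧸ J') :=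
          IsScalarTower.of_algebraMap_eq (fun a => (Ideal.Quotient.lift_mk J _ _).symm)
        let e1 := AlgebraTensorModule.cancelBaseChange A (A ⧸ I) ((A ⧸ I) ⧸ J')
          ((A ⧸ I) ⧸ J') M
        let e2 := AlgebraTensorModule.cancelBaseChange A (A ⧸ J) ((A ⧸ I) ⧸ J')
          ((A ⧸ I) ⧸ J') M
        exact Module.Flat.of_linearEquiv (e1.trans e2.symm)
      · -- flatness at associated primes
        intro q hqprime hq
        let p : Ideal A := q.comap (Ideal.Quotient.mk I)
        haveI : p.IsPrime := Ideal.comap_isPrime _ q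
        have hp : p ∈ associatedPrimes A A := by
          apply associatedPrimes_quotient_annihilator_subset J
          rw [AssociatedPrimes.mem_iff, isAssociatedPrime_iff] at hq ⊢
          obtain ⟨_, x, hx⟩ := hq
          refine ⟨inferInstance, x, ?_⟩
          ext r
          rw [Ideal.mem_comap, hx, Submodule.mem_colon_singleton, Submodule.mem_colon_singleton,
            Submodule.mem_bot, Submodule.mem_bot, ← Ideal.Quotient.algebraMap_eq, algebraMap_smul]
        haveI hflatp : Module.Flat A (LocalizedModule p.primeCompl M) := hloc p hp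
        let g := LocalizedModule.mkLinearMap p.primeCompl M
        let g' : (A ⧸ I) ⊗[A] M →ₗ[A ⧸ I] (A ⧸ I) ⊗[A] LocalizedModule p.primeCompl M :=
          g.baseChange (A ⧸ I)
        haveI h1 : IsLocalizedModule p.primeCompl (g'.restrictScalars A) := by
          have : g'.restrictScalars A = g.lTensor (A ⧸ I) := rfl
          rw [this]
          exact isLocalizedModule_lTensor p.primeCompl g (A ⧸ I)
        have h2 : IsLocalizedModule (Algebra.algebraMapSubmonoid (A ⧸ I) p.primeCompl) g' :=
          IsLocalizedModule.of_restrictScalars p.primeCompl g'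
        have hsub : Algebra.algebraMapSubmonoid (A ⧸ I) p.primeCompl = q.primeCompl := by
          ext y
          constructor
          · rintro ⟨b, hb, rfl⟩
            exact hb
          · intro hy
            obtain ⟨b, rfl⟩ := Ideal.Quotient.mk_surjective y
            exact ⟨b, hy, rfl⟩
        rw [hsub] at h2
        haveI := h2
        exact Module.Flat.of_linearEquiv (IsLocalizedModule.iso q.primeCompl g')
    haveI := hflat'
    apply flat_of_isNilpotent J ⟨n + 1, hJ⟩
    rw [injective_iff_map_eq_zero]
    intro x hx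
    let K : Ideal A := I ⊓ J
    have hKJ : ∀ i ∈ K, ∀ j ∈ J, j * i = 0 := fun i hi j hj => hIJ i hi.1 j hj
    have hKinj : Injective (K.subtype.rTensor M) := rTensor_subtype_injective K J hKJ M hloc
    let ι : K →ₗ[A] J := Submodule.inclusion inf_le_right
    let ρ : J →ₗ[A] J' :=
      { toFun := fun j => ⟨Ideal.Quotient.mk I j.1, Ideal.mem_map_of_mem _ j.2⟩
        map_add' := fun a b => Subtype.ext (map_add _ _ _)
        map_smul' := fun r a => Subtype.ext (by
          show Ideal.Quotient.mk I (r • (a : A)) = r • Ideal.Quotient.mk I (a : A)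
          rw [smul_eq_mul, map_mul, Algebra.smul_def]
          rfl) }
    have hρ_surj : Surjective ρ := by
      intro y
      obtain ⟨j, hj, hjy⟩ := (Ideal.mem_map_iff_of_surjective (Ideal.Quotient.mk I)
        Ideal.Quotient.mk_surjective).mp y.2
      exact ⟨⟨j, hj⟩, Subtype.ext hjy⟩
    have hex : Function.Exact ι ρ := by
      intro j
      constructor
      · intro hj
        have h1 : Ideal.Quotient.mk I j.1 = 0 := congrArg Subtype.val hj
        have h2 : j.1 ∈ I := Ideal.Quotient.eq_zero_iff_mem.mp h1
        exact ⟨⟨j.1, ⟨h2, j.2⟩⟩, Subtype.ext rfl⟩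
      · rintro ⟨k, rfl⟩
        apply Subtype.ext
        show Ideal.Quotient.mk I (k : A) = 0
        exact Ideal.Quotient.eq_zero_iff_mem.mpr k.2.1
    have hex' := rTensor_exact M hex hρ_surj
    have hJ'inj : Injective ((J'.subtype.restrictScalars A).rTensor M) :=
      (rTensor_baseChange_injective_iff (R := A) (A ⧸ I) M J'.subtype).mp
        (Module.Flat.rTensor_preserves_injective_linearMap J'.subtype Subtype.val_injective)
    have hθ : (J'.subtype.restrictScalars A) ∘ₗ ρ = (Algebra.linearMap A (A ⧸ I)) ∘ₗ J.subtype := by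
      ext j
      rfl
    have h3 : (ρ.rTensor M) x = 0 := by
      apply hJ'inj
      rw [map_zero, ← LinearMap.comp_apply, ← LinearMap.rTensor_comp, hθ, LinearMap.rTensor_comp,
        LinearMap.comp_apply, hx, map_zero]
    obtain ⟨y, rfl⟩ := (hex' x).mp h3
    have h4 : (K.subtype.rTensor M) y = 0 := by
      have : K.subtype = J.subtype ∘ₗ ι := by
        ext k
        rfl
      rw [this, LinearMap.rTensor_comp, LinearMap.comp_apply, hx]
    have h5 : y = 0 := hKinj (by rw [h4, map_zero])
    rw [h5, map_zero]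

/-- **EGA IV 11.?**: flatness over a Noetherian ring can be tested modulo a nilpotent ideal and at
the associated primes. -/
theorem flat_iff {A : Type u} [CommRing A] [IsNoetherianRing A]
    (J : Ideal A) (hJ : IsNilpotent J) (M : Type u) [AddCommGroup M] [Module A M] :
    Module.Flat A M ↔
      Module.Flat (A ⧸ J) ((A ⧸ J) ⊗[A] M) ∧
        ∀ p : associatedPrimes A A,
          haveI : p.1.IsPrime := IsAssociatedPrime.isPrime p.2
          Module.Flat (Localization.AtPrime p.1) (LocalizedModule p.1.primeCompl M) := by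
  constructor
  · intro h
    exact ⟨inferInstance, fun p => inferInstance⟩
  · rintro ⟨h0, hloc⟩
    obtain ⟨n, hn⟩ := hJ
    refine flat_aux n A J (by simpa using hn) M h0 ?_
    intro p hpprime hp
    haveI := hloc ⟨p, hp⟩
    exact Module.Flat.trans A (Localization.AtPrime p) (LocalizedModule p.primeCompl M)

end Groth.Agent.Lead.NilFlat
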