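import Mathlib
import Groth.Agent.Lib.Lead.NilFlat1

/-!
# Flatness criteria for ideally separated modules (EGA 0_III 10.2 style)
-/

set_option autoImplicit false
set_option linter.style.haveILetI false
set_option linter.unusedSectionVars false

universe u

open TensorProduct Function

namespace Groth.Agent.Lead.NilFlat

open Groth.Agent.Helper1

section General

variable {A : Type u} [CommRing A]

theorem map_mem_smul_top {N N' : Type u} [AddCommGroup N] [Module A N] [AddCommGroup N']
    [Module A N'] (e : N →ₗ[A] N') (K : Ideal A) {y : N}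
    (hy : y ∈ K • (⊤ : Submodule A N)) : e y ∈ K • (⊤ : Submodule A N') := by
  refine Submodule.smul_induction_on hy ?_ ?_
  · intro r hr n _
    rw [map_smul]
    exact Submodule.smul_mem_smul hr Submodule.mem_top
  · intro a b ha hb
    rw [map_add]
    exact Submodule.add_mem _ ha hb

/-- Base change of flatness along `A/I → A/I'`. -/
theorem flat_quotient_of_le (I I' : Ideal A) (h : I ≤ I') (M : Type u) [AddCommGroup M]
    [Module A M] [Module.Flat (A ⧸ I) ((A ⧸ I) ⊗[A] M)] :
    Module.Flat (A ⧸ I') ((A ⧸ I') ⊗[A] M) := by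
  letI : Algebra (A ⧸ I) (A ⧸ I') := (Ideal.Quotient.factor h).toAlgebra
  haveI : IsScalarTower A (A ⧸ I) (A ⧸ I') :=
    IsScalarTower.of_algebraMap_eq (fun a => rfl)
  let e1 := AlgebraTensorModule.cancelBaseChange A (A ⧸ I) (A ⧸ I') (A ⧸ I') M
  exact Module.Flat.of_linearEquiv e1.symm

/-- Closed-fibre flatness passes to a quotient ring. -/
theorem flat_quotient_map (I J : Ideal A) (M : Type u) [AddCommGroup M] [Module A M]
    [Module.Flat (A ⧸ J) ((A ⧸ J) ⊗[A] M)] :
    Module.Flat ((A ⧸ I) ⧸ J.map (Ideal.Quotient.mk I))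
      (((A ⧸ I) ⧸ J.map (Ideal.Quotient.mk I)) ⊗[A ⧸ I] ((A ⧸ I) ⊗[A] M)) := by
  let φ : A ⧸ J →+* (A ⧸ I) ⧸ J.map (Ideal.Quotient.mk I) :=
    Ideal.Quotient.lift J (algebraMap A ((A ⧸ I) ⧸ J.map (Ideal.Quotient.mk I))) (by
      intro j hj
      rw [IsScalarTower.algebraMap_apply A (A ⧸ I) ((A ⧸ I) ⧸ J.map (Ideal.Quotient.mk I)),
        Ideal.Quotient.algebraMap_eq, Ideal.Quotient.algebraMap_eq,
        Ideal.Quotient.eq_zero_iff_mem]
      exact Ideal.mem_map_of_mem _ hj)
  letI : Algebra (A ⧸ J) ((A ⧸ I) ⧸ J.map (Ideal.Quotient.mk I)) := φ.toAlgebra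
  haveI : IsScalarTower A (A ⧸ J) ((A ⧸ I) ⧸ J.map (Ideal.Quotient.mk I)) :=
    IsScalarTower.of_algebraMap_eq (fun a => (Ideal.Quotient.lift_mk J _ _).symm)
  let e1 := AlgebraTensorModule.cancelBaseChange A (A ⧸ I)
    ((A ⧸ I) ⧸ J.map (Ideal.Quotient.mk I)) ((A ⧸ I) ⧸ J.map (Ideal.Quotient.mk I)) M
  let e2 := AlgebraTensorModule.cancelBaseChange A (A ⧸ J)
    ((A ⧸ I) ⧸ J.map (Ideal.Quotient.mk I)) ((A ⧸ I) ⧸ J.map (Ideal.Quotient.mk I)) M
  exact Module.Flat.of_linearEquiv (e1.trans e2.symm)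

/-- Flatness of a localization passes to a quotient ring. -/
theorem flat_localizedModule_quotient (I q : Ideal A) [q.IsPrime] (hIq : I ≤ q)
    (M : Type u) [AddCommGroup M] [Module A M]
    [Module.Flat A (LocalizedModule q.primeCompl M)]
    [hq' : (q.map (Ideal.Quotient.mk I)).IsPrime] :
    Module.Flat (A ⧸ I)
      (LocalizedModule (q.map (Ideal.Quotient.mk I)).primeCompl ((A ⧸ I) ⊗[A] M)) := by
  let g := LocalizedModule.mkLinearMap q.primeCompl M
  let g' : (A ⧸ I) ⊗[A] M →ₗ[A ⧸ I] (A ⧸ I) ⊗[A] LocalizedModule q.primeCompl M :=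
    g.baseChange (A ⧸ I)
  haveI h1 : IsLocalizedModule q.primeCompl (g'.restrictScalars A) := by
    have : g'.restrictScalars A = g.lTensor (A ⧸ I) := rfl
    rw [this]
    exact isLocalizedModule_lTensor q.primeCompl g (A ⧸ I)
  have h2 : IsLocalizedModule (Algebra.algebraMapSubmonoid (A ⧸ I) q.primeCompl) g' :=
    IsLocalizedModule.of_restrictScalars q.primeCompl g'
  have hsub : Algebra.algebraMapSubmonoid (A ⧸ I) q.primeCompl =
      (q.map (Ideal.Quotient.mk I)).primeCompl := by
    ext y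
    constructor
    · rintro ⟨b, hb, rfl⟩
      intro hmem
      have h3 : b ∈ (q.map (Ideal.Quotient.mk I)).comap (Ideal.Quotient.mk I) := hmem
      rw [Ideal.comap_map_of_surjective _ Ideal.Quotient.mk_surjective,
        ← RingHom.ker_eq_comap_bot, Ideal.mk_ker, sup_eq_left.mpr hIq] at h3
      exact hb h3
    · intro hy
      obtain ⟨b, rfl⟩ := Ideal.Quotient.mk_surjective y
      refine ⟨b, ?_, rfl⟩
      intro hbq
      exact hy (Ideal.mem_map_of_mem _ hbq)
  rw [hsub] at h2
  haveI := h2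
  exact Module.Flat.of_linearEquiv
    (IsLocalizedModule.iso (q.map (Ideal.Quotient.mk I)).primeCompl g')

end General

section Noeth

variable {A : Type u} [CommRing A] [IsNoetherianRing A]

/-- Local criterion of flatness for ideally separated modules: `(5) ⇒ (1)`. -/
theorem flat_of_flat_quotient_pow_of_isHausdorff (J : Ideal A) (M : Type u) [AddCommGroup M]
    [Module A M] (hsep : ∀ a : Ideal A, IsHausdorff J (↥a ⊗[A] M))
    (h : ∀ n, 0 < n → Module.Flat (A ⧸ J ^ n) ((A ⧸ J ^ n) ⊗[A] M)) : Module.Flat A M := by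
  classical
  rw [Module.Flat.iff_lTensor_injective']
  intro 𝔞
  rw [injective_iff_map_eq_zero]
  intro x hx
  have hmem : ∀ n : ℕ, x ∈ J ^ n • (⊤ : Submodule A (M ⊗[A] 𝔞)) := by
    intro n
    obtain ⟨k, hk⟩ := Ideal.exists_pow_inf_eq_pow_smul J (𝔞 : Submodule A A)
    have hAR : J ^ (n + k + 1) ⊓ 𝔞 ≤ J ^ n • 𝔞 := by
      have := hk (n + k + 1) (by omega)
      rw [show n + k + 1 - k = n + 1 by omega] at this
      have e1 : J ^ (n + k + 1) • (⊤ : Submodule A A) = J ^ (n + k + 1) := by
        rw [Ideal.smul_eq_mul, Ideal.mul_top]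
      rw [e1] at this
      rw [this]
      exact Submodule.smul_mono (Ideal.pow_le_pow_right (Nat.le_succ n)) inf_le_right
    haveI := h (n + k + 1) (Nat.succ_pos _)
    have h1 := mem_range_lTensor_of_flat_quotient (M := M) (J ^ (n + k + 1)) 𝔞 x hx
    refine range_lTensor_le_smul_top (J ^ n) 𝔞 _ ?_ h1
    intro c hc
    rw [Submodule.mem_comap, Submodule.restrictScalars_mem] at hc
    exact hAR ⟨hc, c.2⟩
  have hx' : (TensorProduct.comm A M 𝔞) x = 0 := by
    apply (hsep 𝔞).haus'
    intro n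
    rw [SModEq.zero]
    exact map_mem_smul_top (TensorProduct.comm A M 𝔞).toLinearMap (J ^ n) (hmem n)
  exact (TensorProduct.comm A M 𝔞).injective (by rw [hx', map_zero])

/-- Generalised form of `exists_nzd_smul_eq_zero`: flatness is only required at primes containing
the associated primes. -/
theorem exists_nzd_smul_eq_zero' (I : Ideal A) (M : Type u) [AddCommGroup M] [Module A M]
    (hloc : ∀ p ∈ associatedPrimes A A, ∃ (q : Ideal A) (_ : q.IsPrime), p ≤ q ∧
      Module.Flat A (LocalizedModule q.primeCompl M))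
    (x : I ⊗[A] M) (hx : I.subtype.rTensor M x = 0) :
    ∃ s ∈ nonZeroDivisors A, s • x = 0 := by
  classical
  by_contra hcon
  push_neg at hcon
  let 𝔞 : Ideal A := (⊥ : Submodule A (I ⊗[A] M)).colon {x}
  have h𝔞 : ∀ r, r ∈ 𝔞 ↔ r • x = 0 := fun r => by
    simp only [𝔞, Submodule.mem_colon_singleton, Submodule.mem_bot]
  have hsub : (𝔞 : Set A) ⊆ ⋃ p ∈ associatedPrimes A A, (p : Set A) := by
    rw [biUnion_associatedPrimes_eq_compl_nonZeroDivisors]
    intro s hs hnzd
    exact hcon s hnzd ((h𝔞 s).mp hs)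
  have hfin : (associatedPrimes A A).Finite := associatedPrimes.finite A A
  have key := Ideal.subset_union_prime (R := A) (s := hfin.toFinset)
    (f := fun q : Ideal A => q) (⊥ : Ideal A) ⊥ (fun q hq _ _ => by
      rw [Set.Finite.mem_toFinset] at hq
      exact IsAssociatedPrime.isPrime hq) (I := 𝔞)
  have hsub' : ((𝔞 : Set A) ⊆ ⋃ i ∈ (↑hfin.toFinset : Set (Ideal A)), ((i : Ideal A) : Set A)) := by
    rw [Set.Finite.coe_toFinset]
    exact hsub
  obtain ⟨p, hp, h𝔞p⟩ := key.mp hsub'
  rw [Set.Finite.mem_toFinset] at hp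
  obtain ⟨q, hqprime, hpq, hflat⟩ := hloc p hp
  haveI := hqprime
  haveI := hflat
  let g := LocalizedModule.mkLinearMap q.primeCompl M
  have e1 : (I.subtype.rTensor (LocalizedModule q.primeCompl M)) (g.lTensor I x) =
      (g.lTensor A) (I.subtype.rTensor M x) := by
    rw [← LinearMap.comp_apply, ← LinearMap.comp_apply, LinearMap.rTensor_comp_lTensor,
      LinearMap.lTensor_comp_rTensor]
  have h1 : (I.subtype.rTensor (LocalizedModule q.primeCompl M)) (g.lTensor I x) = 0 := by
    rw [e1, hx, map_zero]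
  have h2 : g.lTensor I x = 0 := by
    have hinj := Module.Flat.rTensor_preserves_injective_linearMap
      (M := LocalizedModule q.primeCompl M) I.subtype Subtype.val_injective
    exact hinj (by rw [h1, map_zero])
  haveI := isLocalizedModule_lTensor q.primeCompl g I
  obtain ⟨s, hs⟩ := (IsLocalizedModule.eq_zero_iff q.primeCompl (g.lTensor I)).mp h2
  have hs𝔞 : (s : A) ∈ 𝔞 := (h𝔞 _).mpr hs
  exact s.2 (hpq (h𝔞p hs𝔞))

theorem rTensor_subtype_injective' (I J : Ideal A) (hIJ : ∀ i ∈ I, ∀ j ∈ J, j * i = 0)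
    (M : Type u) [AddCommGroup M] [Module A M] [Module.Flat (A ⧸ J) ((A ⧸ J) ⊗[A] M)]
    (hloc : ∀ p ∈ associatedPrimes A A, ∃ (q : Ideal A) (_ : q.IsPrime), p ≤ q ∧
      Module.Flat A (LocalizedModule q.primeCompl M)) :
    Injective (I.subtype.rTensor M) := by
  rw [injective_iff_map_eq_zero]
  intro x hx
  obtain ⟨s, hs, hsx⟩ := exists_nzd_smul_eq_zero' I M hloc x hx
  exact eq_zero_of_nzd_smul I J hIJ M s hs x hsx

/-- Contraction of an associated prime of the ring `A/I` is an associated prime of the `A`-module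
`A/I`. -/
theorem comap_mem_associatedPrimes (I : Ideal A) (q : Ideal (A ⧸ I))
    (hq : q ∈ associatedPrimes (A ⧸ I) (A ⧸ I)) :
    q.comap (Ideal.Quotient.mk I) ∈ associatedPrimes A (A ⧸ I) := by
  rw [AssociatedPrimes.mem_iff, isAssociatedPrime_iff] at hq ⊢
  obtain ⟨hprime, x, hx⟩ := hq
  haveI := hprime
  refine ⟨Ideal.comap_isPrime _ q, x, ?_⟩
  ext r
  rw [Ideal.mem_comap, hx, Submodule.mem_colon_singleton, Submodule.mem_colon_singleton,
    Submodule.mem_bot, Submodule.mem_bot, ← Ideal.Quotient.algebraMap_eq, algebraMap_smul]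

end Noeth

/-- The induction on the nilpotency index, generalised hypothesis. -/
theorem flat_aux' : ∀ (n : ℕ) (A : Type u) [CommRing A] [IsNoetherianRing A] (J : Ideal A)
    (_ : J ^ n = ⊥) (M : Type u) [AddCommGroup M] [Module A M]
    (_ : Module.Flat (A ⧸ J) ((A ⧸ J) ⊗[A] M))
    (_ : ∀ p ∈ associatedPrimes A A, ∃ (q : Ideal A) (_ : q.IsPrime), p ≤ q ∧
      Module.Flat A (LocalizedModule q.primeCompl M)),
    Module.Flat A M := by
  intro n
  induction n with
  | zero =>
    intro A _ _ J hJ M _ _ h0 hloc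
    rw [pow_zero, Ideal.one_eq_top] at hJ
    haveI : Subsingleton A := by
      have h1 : (1 : A) ∈ (⊤ : Ideal A) := Submodule.mem_top
      rw [hJ] at h1
      exact subsingleton_of_zero_eq_one ((Ideal.mem_bot.mp h1).symm)
    haveI : Subsingleton M := Module.subsingleton A M
    infer_instance
  | succ n ih =>
    intro A _ _ J hJ M _ _ h0 hloc
    haveI := h0
    let I : Ideal A := Submodule.annihilator (J : Submodule A A)
    have hIJ : ∀ i ∈ I, ∀ j ∈ J, j * i = 0 := by
      intro i hi j hj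
      have := Submodule.mem_annihilator.mp hi j hj
      rw [smul_eq_mul] at this
      rw [mul_comm]
      exact this
    have hJnI : J ^ n ≤ I := by
      intro a ha
      rw [Submodule.mem_annihilator]
      intro j hj
      have : a * j ∈ J ^ (n + 1) := by
        rw [pow_succ]
        exact Ideal.mul_mem_mul ha hj
      rw [hJ] at this
      simpa using this
    let J' : Ideal (A ⧸ I) := J.map (Ideal.Quotient.mk I)
    have hJ' : J' ^ n = ⊥ := by
      rw [← Ideal.map_pow, Ideal.map_eq_bot_iff_le_ker, Ideal.mk_ker]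
      exact hJnI
    have hflat' : Module.Flat (A ⧸ I) ((A ⧸ I) ⊗[A] M) := by
      apply ih (A ⧸ I) J' hJ' ((A ⧸ I) ⊗[A] M)
      · exact flat_quotient_map I J M
      · intro pb hpb
        have hp : pb.comap (Ideal.Quotient.mk I) ∈ associatedPrimes A A :=
          associatedPrimes_quotient_annihilator_subset J (comap_mem_associatedPrimes I pb hpb)
        obtain ⟨q, hqprime, hpq, hflatq⟩ := hloc _ hp
        haveI := hqprime
        haveI := hflatq
        have hIp : I ≤ pb.comap (Ideal.Quotient.mk I) := by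
          intro a ha
          rw [Ideal.mem_comap, Ideal.Quotient.eq_zero_iff_mem.mpr ha]
          exact Ideal.zero_mem _
        have hIq : I ≤ q := le_trans hIp hpq
        haveI hq' : (q.map (Ideal.Quotient.mk I)).IsPrime :=
          Ideal.map_isPrime_of_surjective Ideal.Quotient.mk_surjective (by rwa [Ideal.mk_ker])
        refine ⟨q.map (Ideal.Quotient.mk I), hq', ?_, flat_localizedModule_quotient I q hIq M⟩
        intro y hy
        obtain ⟨b, rfl⟩ := Ideal.Quotient.mk_surjective y
        exact Ideal.mem_map_of_mem _ (hpq hy)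
    haveI := hflat'
    apply flat_of_isNilpotent J ⟨n + 1, hJ⟩
    rw [injective_iff_map_eq_zero]
    intro x hx
    let K : Ideal A := I ⊓ J
    have hKJ : ∀ i ∈ K, ∀ j ∈ J, j * i = 0 := fun i hi j hj => hIJ i hi.1 j hj
    have hKinj : Injective (K.subtype.rTensor M) := rTensor_subtype_injective' K J hKJ M hloc
    let ι : K →ₗ[A] J := Submodule.inclusion inf_le_right
    let ρ : J →ₗ[A] J' :=
      { toFun := fun j => ⟨Ideal.Quotient.mk I j.1, Ideal.mem_map_of_mem _ j.2⟩
        map_add' := fun a b => Subtype.ext (map_add _ _ _)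
        map_smul' := fun r a => Subtype.ext (by
          show Ideal.Quotient.mk I (r • (a : A)) = r • Ideal.Quotient.mk I (a : A)
          rw [smul_eq_mul, map_mul, Algebra.smul_def]
          rfl) }
    have hρ_surj : Surjective ρ := by
      intro y
      obtain ⟨j, hj, hjy⟩ := (Ideal.mem_map_iff_of_surjective (Ideal.Quotient.mk I)
        Ideal.Quotient.mk_surjective).mp y.2
      exact ⟨⟨j, hj⟩, Subtype.ext hjy⟩
    have hex : Function.Exact ι ρ := by
      intro j
      constructor
      · intro hj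
        have h1 : Ideal.Quotient.mk I j.1 = 0 := congrArg Subtype.val hj
        have h2 : j.1 ∈ I := Ideal.Quotient.eq_zero_iff_mem.mp h1
        exact ⟨⟨j.1, ⟨h2, j.2⟩⟩, Subtype.ext rfl⟩
      · rintro ⟨k, rfl⟩
        apply Subtype.ext
        show Ideal.Quotient.mk I (k : A) = 0
        exact Ideal.Quotient.eq_zero_iff_mem.mpr k.2.1
    have hex' := rTensor_exact M hex hρ_surj
    have hJ'inj : Injective ((J'.subtype.restrictScalars A).rTensor M) :=
      (rTensor_baseChange_injective_iff (R := A) (A ⧸ I) M J'.subtype).mp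
        (Module.Flat.rTensor_preserves_injective_linearMap J'.subtype Subtype.val_injective)
    have hθ : (J'.subtype.restrictScalars A) ∘ₗ ρ = (Algebra.linearMap A (A ⧸ I)) ∘ₗ J.subtype := by
      ext j
      rfl
    have h3 : (ρ.rTensor M) x = 0 := by
      apply hJ'inj
      rw [map_zero, ← LinearMap.comp_apply, ← LinearMap.rTensor_comp, hθ, LinearMap.rTensor_comp,
        LinearMap.comp_apply, hx, map_zero]
    obtain ⟨y, rfl⟩ := (hex' x).mp h3
    have h4 : (K.subtype.rTensor M) y = 0 := by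
      have : K.subtype = J.subtype ∘ₗ ι := by
        ext k
        rfl
      rw [this, LinearMap.rTensor_comp, LinearMap.comp_apply, hx]
    have h5 : y = 0 := hKinj (by rw [h4, map_zero])
    rw [h5, map_zero]

section Gr

variable {A : Type u} [CommRing A]

theorem mem_smul_top_of_val_mem (J : Ideal A) (k : ℕ) (z : ↥(J ^ k)) (hz : (z : A) ∈ J * J ^ k) :
    z ∈ J • (⊤ : Submodule A ↥(J ^ k)) := by
  have h2 : Submodule.map (J ^ k).subtype (J • (⊤ : Submodule A ↥(J ^ k))) = J • (J ^ k) := by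
    rw [Submodule.map_smul'', Submodule.map_top, Submodule.range_subtype]
  rw [← Ideal.smul_eq_mul, ← h2] at hz
  obtain ⟨c', hc', hcc'⟩ := hz
  have : c' = z := Subtype.ext hcc'
  rw [← this]
  exact hc'

theorem val_mem_of_mem_smul_top (J : Ideal A) (k : ℕ) (z : ↥(J ^ k))
    (hz : z ∈ J • (⊤ : Submodule A ↥(J ^ k))) : (z : A) ∈ J * J ^ k := by
  have h2 : Submodule.map (J ^ k).subtype (J • (⊤ : Submodule A ↥(J ^ k))) = J • (J ^ k) := by
    rw [Submodule.map_smul'', Submodule.map_top, Submodule.range_subtype]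
  rw [← Ideal.smul_eq_mul, ← h2]
  exact Submodule.mem_map_of_mem hz

/-- If the graded pieces `Jᵏ/Jᵏ⁺¹` are flat over `A/J`, then an element regular on `A/J` is
regular on every `A/Jᵏ`. -/
theorem mem_pow_of_mul_mem_pow (J : Ideal A)
    (hgr : ∀ k : ℕ, Module.Flat (A ⧸ J) ((A ⧸ J) ⊗[A] ↥(J ^ k)))
    (r : A) (hr : ∀ y : A, r * y ∈ J → y ∈ J) :
    ∀ (k : ℕ) (y : A), r * y ∈ J ^ k → y ∈ J ^ k := by
  intro k
  induction k with
  | zero =>
    intro y _
    rw [pow_zero, Ideal.one_eq_top]
    trivial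
  | succ k ih =>
    intro y hy
    have hyk : y ∈ J ^ k := ih y (Ideal.pow_le_pow_right (Nat.le_succ k) hy)
    let z : ↥(J ^ k) := ⟨y, hyk⟩
    have hmk : Ideal.Quotient.mk J r ∈ nonZeroDivisors (A ⧸ J) := by
      rw [mem_nonZeroDivisors_iff_left]
      intro x hx
      obtain ⟨y', rfl⟩ := Ideal.Quotient.mk_surjective x
      rw [← map_mul, Ideal.Quotient.eq_zero_iff_mem] at hx
      exact Ideal.Quotient.eq_zero_iff_mem.mpr (hr y' hx)
    haveI := hgr k
    have hreg := Module.Flat.isSMulRegular_of_nonZeroDivisors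
      (M := (A ⧸ J) ⊗[A] ↥(J ^ k)) hmk
    have h1 : (Ideal.Quotient.mk J r) • ((1 : A ⧸ J) ⊗ₜ[A] z) = 0 := by
      apply (quotTensorEquivQuotSMul ↥(J ^ k) J).injective
      rw [map_zero, TensorProduct.smul_tmul', smul_eq_mul, mul_one,
        quotTensorEquivQuotSMul_mk_tmul, Submodule.Quotient.mk_eq_zero]
      apply mem_smul_top_of_val_mem
      show r * y ∈ J * J ^ k
      rw [← pow_succ']
      exact hy
    have h2 : (1 : A ⧸ J) ⊗ₜ[A] z = 0 := hreg (by simp only [h1, smul_zero])
    have h3 := congrArg (quotTensorEquivQuotSMul ↥(J ^ k) J) h2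
    rw [map_zero, ← map_one (Ideal.Quotient.mk J), quotTensorEquivQuotSMul_mk_tmul, one_smul,
      Submodule.Quotient.mk_eq_zero] at h3
    have h4 := val_mem_of_mem_smul_top J k z h3
    rw [← pow_succ'] at h4
    exact h4

end Gr

end Groth.Agent.Lead.NilFlat
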