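import Mathlib
import Groth.Agent.Lib.Lead.NilFlat2

/-!
# EGA 0_III 10.2-type flatness criteria for ideally separated modules
-/

set_option autoImplicit false
set_option linter.style.haveILetI false
set_option linter.unusedSectionVars false

universe u

open TensorProduct Function

namespace Groth.Agent.Lead.NilFlat

variable {A : Type u} [CommRing A] [IsNoetherianRing A]

/-- Flatness criterion when the associated graded ring is flat over `A/J`. -/
theorem flat_iff_of_gr_flat (J : Ideal A) (M : Type u) [AddCommGroup M] [Module A M]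
    (hsep : ∀ a : Ideal A, IsHausdorff J (↥a ⊗[A] M))
    (hgr : ∀ k : ℕ, Module.Flat (A ⧸ J) ((A ⧸ J) ⊗[A] ↥(J ^ k))) :
    Module.Flat A M ↔
      Module.Flat (A ⧸ J) ((A ⧸ J) ⊗[A] M) ∧
        ∀ q : associatedPrimes A (A ⧸ J),
          haveI : q.1.IsPrime := IsAssociatedPrime.isPrime q.2
          Module.Flat (Localization.AtPrime q.1) (LocalizedModule q.1.primeCompl M) := by
  classical
  constructor
  · intro h
    exact ⟨inferInstance, fun q => inferInstance⟩
  · rintro ⟨h0, hq⟩
    haveI := h0
    apply flat_of_flat_quotient_pow_of_isHausdorff J M hsep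
    intro n hn
    have hJC : (J.map (Ideal.Quotient.mk (J ^ n))) ^ n = ⊥ := by
      rw [← Ideal.map_pow, Ideal.map_quotient_self]
    apply flat_aux' n (A ⧸ J ^ n) (J.map (Ideal.Quotient.mk (J ^ n))) hJC ((A ⧸ J ^ n) ⊗[A] M)
    · exact flat_quotient_map (J ^ n) J M
    · intro pb hpb
      have hp := comap_mem_associatedPrimes (J ^ n) pb hpb
      have hpprime : (pb.comap (Ideal.Quotient.mk (J ^ n))).IsPrime := IsAssociatedPrime.isPrime hp
      have hsub : ((pb.comap (Ideal.Quotient.mk (J ^ n)) : Ideal A) : Set A) ⊆
          ⋃ q ∈ associatedPrimes A (A ⧸ J), (q : Set A) := by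
        rw [biUnion_associatedPrimes_eq_zero_divisors A (A ⧸ J)]
        intro r hr
        by_contra hcon
        have hreg : ∀ y : A, r * y ∈ J → y ∈ J := by
          intro y hy
          by_contra hyJ
          apply hcon
          refine ⟨Ideal.Quotient.mk J y, ?_, ?_⟩
          · intro h
            exact hyJ (Ideal.Quotient.eq_zero_iff_mem.mp h)
          · rw [Algebra.smul_def, Ideal.Quotient.algebraMap_eq, ← map_mul]
            exact Ideal.Quotient.eq_zero_iff_mem.mpr hy
        have hregn := mem_pow_of_mul_mem_pow J hgr r hreg n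
        rw [AssociatedPrimes.mem_iff, isAssociatedPrime_iff] at hp
        obtain ⟨_, x, hx⟩ := hp
        obtain ⟨a, rfl⟩ := Ideal.Quotient.mk_surjective x
        have hr' : r ∈ pb.comap (Ideal.Quotient.mk (J ^ n)) := hr
        rw [hx, Submodule.mem_colon_singleton, Submodule.mem_bot, Algebra.smul_def,
          Ideal.Quotient.algebraMap_eq, ← map_mul, Ideal.Quotient.eq_zero_iff_mem] at hr'
        have ha : a ∈ J ^ n := hregn a hr'
        have h1 : (1 : A) ∈ pb.comap (Ideal.Quotient.mk (J ^ n)) := by
          rw [hx, Submodule.mem_colon_singleton, Submodule.mem_bot, one_smul]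
          exact Ideal.Quotient.eq_zero_iff_mem.mpr ha
        exact hpprime.ne_top ((Ideal.eq_top_iff_one _).mpr h1)
      have hfin : (associatedPrimes A (A ⧸ J)).Finite := associatedPrimes.finite A (A ⧸ J)
      have key := Ideal.subset_union_prime (R := A) (s := hfin.toFinset)
        (f := fun q : Ideal A => q) (⊥ : Ideal A) ⊥ (fun q hq _ _ => by
          rw [Set.Finite.mem_toFinset] at hq
          exact IsAssociatedPrime.isPrime hq) (I := pb.comap (Ideal.Quotient.mk (J ^ n)))
      have hsub' : (((pb.comap (Ideal.Quotient.mk (J ^ n)) : Ideal A) : Set A) ⊆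
          ⋃ i ∈ (↑hfin.toFinset : Set (Ideal A)), ((i : Ideal A) : Set A)) := by
        rw [Set.Finite.coe_toFinset]
        exact hsub
      obtain ⟨q, hqmem, hpq⟩ := key.mp hsub'
      rw [Set.Finite.mem_toFinset] at hqmem
      haveI hqprime : q.IsPrime := IsAssociatedPrime.isPrime hqmem
      haveI : Module.Flat A (LocalizedModule q.primeCompl M) := by
        haveI := hq ⟨q, hqmem⟩
        exact Module.Flat.trans A (Localization.AtPrime q) (LocalizedModule q.primeCompl M)
      have hIp : J ^ n ≤ pb.comap (Ideal.Quotient.mk (J ^ n)) := by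
        intro a ha
        rw [Ideal.mem_comap, Ideal.Quotient.eq_zero_iff_mem.mpr ha]
        exact Ideal.zero_mem _
      have hIq : J ^ n ≤ q := le_trans hIp hpq
      haveI hq' : (q.map (Ideal.Quotient.mk (J ^ n))).IsPrime :=
        Ideal.map_isPrime_of_surjective Ideal.Quotient.mk_surjective (by rwa [Ideal.mk_ker])
      refine ⟨q.map (Ideal.Quotient.mk (J ^ n)), hq', ?_,
        flat_localizedModule_quotient (J ^ n) q hIq M⟩
      intro y hy
      obtain ⟨b, rfl⟩ := Ideal.Quotient.mk_surjective y
      exact Ideal.mem_map_of_mem _ (hpq hy)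

/-- Flatness criterion with finitely many primes whose symbolic powers define the `J`-adic
topology. -/
theorem flat_iff_of_symbolic (J : Ideal A) (M : Type u) [AddCommGroup M] [Module A M]
    (hsep : ∀ a : Ideal A, IsHausdorff J (↥a ⊗[A] M))
    {r : ℕ} (p : Fin r → Ideal A) [∀ i, (p i).IsPrime] (hp : ∀ i, J ≤ p i)
    (htop : ∀ n : ℕ, ∃ m : ℕ,
      ⨅ i, Ideal.comap (algebraMap A (Localization.AtPrime (p i)))
        (IsLocalRing.maximalIdeal (Localization.AtPrime (p i)) ^ m) ≤ J ^ n) :
    Module.Flat A M ↔
      Module.Flat (A ⧸ J) ((A ⧸ J) ⊗[A] M) ∧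
        ∀ i, Module.Flat (Localization.AtPrime (p i)) (LocalizedModule (p i).primeCompl M) := by
  classical
  constructor
  · intro h
    exact ⟨inferInstance, fun i => inferInstance⟩
  · rintro ⟨h0, hloc⟩
    haveI := h0
    apply flat_of_flat_quotient_pow_of_isHausdorff J M hsep
    intro n hn
    obtain ⟨m, hm⟩ := htop n
    set 𝔠 : Ideal A := ⨅ i, Ideal.comap (algebraMap A (Localization.AtPrime (p i)))
        (IsLocalRing.maximalIdeal (Localization.AtPrime (p i)) ^ m) with h𝔠
    have hJm : J ^ m ≤ 𝔠 := by
      rw [h𝔠]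
      refine le_iInf (fun i => ?_)
      have h1 : J ^ m ≤ (p i) ^ m := Ideal.pow_right_mono (hp i) m
      have h2 : (p i) ^ m ≤ Ideal.comap (algebraMap A (Localization.AtPrime (p i)))
          (IsLocalRing.maximalIdeal (Localization.AtPrime (p i)) ^ m) := by
        have h3 := Ideal.le_comap_pow (algebraMap A (Localization.AtPrime (p i)))
          (K := IsLocalRing.maximalIdeal (Localization.AtPrime (p i))) m
        have hcm : Ideal.comap (algebraMap A (Localization.AtPrime (p i)))
            (IsLocalRing.maximalIdeal (Localization.AtPrime (p i))) = p i :=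
          Localization.AtPrime.comap_maximalIdeal
        rw [hcm] at h3
        exact h3
      exact le_trans h1 h2
    have hJC : (J.map (Ideal.Quotient.mk 𝔠)) ^ m = ⊥ := by
      rw [← Ideal.map_pow, Ideal.map_eq_bot_iff_le_ker, Ideal.mk_ker]
      exact hJm
    haveI hC : Module.Flat (A ⧸ 𝔠) ((A ⧸ 𝔠) ⊗[A] M) := by
      apply flat_aux' m (A ⧸ 𝔠) (J.map (Ideal.Quotient.mk 𝔠)) hJC ((A ⧸ 𝔠) ⊗[A] M)
      · exact flat_quotient_map 𝔠 J M
      · intro pb hpb
        have hp' := comap_mem_associatedPrimes 𝔠 pb hpb
        have hpprime : (pb.comap (Ideal.Quotient.mk 𝔠)).IsPrime := IsAssociatedPrime.isPrime hp'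
        rw [AssociatedPrimes.mem_iff, isAssociatedPrime_iff] at hp'
        obtain ⟨_, x, hx⟩ := hp'
        obtain ⟨a, rfl⟩ := Ideal.Quotient.mk_surjective x
        have hmem : ∀ t : A, t ∈ pb.comap (Ideal.Quotient.mk 𝔠) ↔ t * a ∈ 𝔠 := by
          intro t
          rw [hx, Submodule.mem_colon_singleton, Submodule.mem_bot, Algebra.smul_def,
            Ideal.Quotient.algebraMap_eq, ← map_mul, Ideal.Quotient.eq_zero_iff_mem]
        have haC : a ∉ 𝔠 := by
          intro ha
          have h1 : (1 : A) ∈ pb.comap (Ideal.Quotient.mk 𝔠) := by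
            rw [hmem, one_mul]
            exact ha
          exact hpprime.ne_top ((Ideal.eq_top_iff_one _).mpr h1)
        have hex : ∃ i, a ∉ Ideal.comap (algebraMap A (Localization.AtPrime (p i)))
            (IsLocalRing.maximalIdeal (Localization.AtPrime (p i)) ^ m) := by
          by_contra hcon
          push_neg at hcon
          apply haC
          rw [h𝔠, Ideal.mem_iInf]
          exact hcon
        obtain ⟨i, hi⟩ := hex
        have hpi : pb.comap (Ideal.Quotient.mk 𝔠) ≤ p i := by
          intro t ht
          by_contra htp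
          apply hi
          have h1 : t * a ∈ 𝔠 := (hmem t).mp ht
          have h2 : t * a ∈ Ideal.comap (algebraMap A (Localization.AtPrime (p i)))
              (IsLocalRing.maximalIdeal (Localization.AtPrime (p i)) ^ m) := by
            rw [h𝔠, Ideal.mem_iInf] at h1
            exact h1 i
          rw [Ideal.mem_comap, map_mul] at h2
          have hunit : IsUnit (algebraMap A (Localization.AtPrime (p i)) t) :=
            IsLocalization.map_units (Localization.AtPrime (p i)) (⟨t, htp⟩ : (p i).primeCompl)
          rw [Ideal.mem_comap]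
          exact (Ideal.unit_mul_mem_iff_mem _ hunit).mp h2
        haveI : Module.Flat A (LocalizedModule (p i).primeCompl M) := by
          haveI := hloc i
          exact Module.Flat.trans A (Localization.AtPrime (p i))
            (LocalizedModule (p i).primeCompl M)
        have hIp : 𝔠 ≤ pb.comap (Ideal.Quotient.mk 𝔠) := by
          intro b hb
          rw [Ideal.mem_comap, Ideal.Quotient.eq_zero_iff_mem.mpr hb]
          exact Ideal.zero_mem _
        have hIq : 𝔠 ≤ p i := le_trans hIp hpi
        haveI hq' : ((p i).map (Ideal.Quotient.mk 𝔠)).IsPrime :=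
          Ideal.map_isPrime_of_surjective Ideal.Quotient.mk_surjective (by rwa [Ideal.mk_ker])
        refine ⟨(p i).map (Ideal.Quotient.mk 𝔠), hq', ?_,
          flat_localizedModule_quotient 𝔠 (p i) hIq M⟩
        intro y hy
        obtain ⟨b, rfl⟩ := Ideal.Quotient.mk_surjective y
        exact Ideal.mem_map_of_mem _ (hpi hy)
    exact flat_quotient_of_le 𝔠 (J ^ n) hm M

end Groth.Agent.Lead.NilFlat
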