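import Mathlib
import Groth.Prelude
import Groth.Agent.Lib.Lead.ZClos10

/-!
# Z-closedness at a point via depth ≥ 2 (lead)

`isZClosedAt_iff_depth`: for a coherent module `F` on a locally Noetherian scheme and `Z` stable
under specialization, `F` is Z-closed at `x` iff `depth F_{x'} ≥ 2` at all generizations `x'` of
`x` lying in `Z`.
-/

set_option autoImplicit false
set_option linter.style.haveILetI false
set_option linter.unusedSectionVars false

universe u v

open CategoryTheory CategoryTheory.Limits AlgebraicGeometry TopologicalSpace Opposite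
open IsLocalRing LocCoh Groth.Agent.Lead.Depth
open Groth.Agent.Helper13.QCoh Groth.Agent.Helper13.FinType Groth.Agent.Helper13.QCohLoc
  Groth.Agent.Helper13.LocFree Groth.Agent.Helper13.FlatOver
open Groth.Agent.Lead.EmbPts Groth.Agent.Lead.IsoDepth Groth.Agent.Lead.Hartogs

namespace Groth.Agent.Lead.ZClos1

section Gen

variable {X : Scheme.{u}}

/-- bijectivity of a stalk map of quasi-coherent modules passes to generizations. -/
theorem bijective_stalkMap_of_specializes {F G : X.Modules} [F.IsQuasicoherent]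
    [G.IsQuasicoherent] (φ : F ⟶ G) {x x' : X} (h : x' ⤳ x)
    (hbij : Function.Bijective (stalkMap φ x)) : Function.Bijective (stalkMap φ x') := by
  obtain ⟨_, ⟨A, hA, rfl⟩, hxA, -⟩ :=
    X.isBasis_affineOpens.exists_subset_of_mem_open (Set.mem_univ x) isOpen_univ
  have hAa : IsAffineOpen A := hA
  have hx'A : x' ∈ A := h.mem_open A.isOpen hxA
  have hgen : ∀ r : Γ(X, A), x ∈ X.basicOpen r → x' ∈ X.basicOpen r := fun r hr =>
    h.mem_open (X.basicOpen r).isOpen hr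
  constructor
  · refine (injective_iff_map_eq_zero (stalkMap φ x').hom).2 ?_
    intro m' hm'
    obtain ⟨r, hr, m, hm⟩ := exists_germ_smul_eq F hAa x' hx'A m'
    have h1 : G.presheaf.germ A x' hx'A (φ.app A m) = 0 := by
      rw [← stalkMap_germ φ x' A hx'A m, ← hm, stalkMap_smul]
      rw [show stalkMap φ x' m' = 0 from hm', smul_zero]
    obtain ⟨r', hr', h2⟩ := exists_smul_eq_zero_of_germ_eq_zero G hAa x' hx'A (φ.app A m) h1
    have h3 : φ.app A (r' • m) = 0 := by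
      rw [Scheme.Modules.Hom.app_smul]; exact h2
    have h4 : F.presheaf.germ A x hxA (r' • m) = 0 := by
      apply hbij.1
      refine (stalkMap_germ φ x A hxA (r' • m)).trans ?_
      refine Eq.trans ?_ (map_zero _).symm
      rw [h3, map_zero]
    obtain ⟨r'', hr'', h5⟩ := exists_smul_eq_zero_of_germ_eq_zero F hAa x hxA (r' • m) h4
    have h6 : F.presheaf.germ A x' hx'A m = 0 := by
      have h7 := germ_eq_zero_of_smul_eq_zero F x' hx'A r'' (hgen r'' hr'') (r' • m) h5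
      rw [germ_smul] at h7
      exact (((X.mem_basicOpen r' x' hx'A).1 hr').smul_eq_zero).1 h7
    rw [h6] at hm
    exact (((X.mem_basicOpen r x' hx'A).1 hr).smul_eq_zero).1 hm
  · intro g'
    obtain ⟨r, hr, g, hg⟩ := exists_germ_smul_eq G hAa x' hx'A g'
    obtain ⟨mx, hmx⟩ := hbij.2 (G.presheaf.germ A x hxA g)
    obtain ⟨r1, hr1, m, hm⟩ := exists_germ_smul_eq F hAa x hxA mx
    have h1 : G.presheaf.germ A x hxA (φ.app A m - r1 • g) = 0 := by
      rw [map_sub, ← stalkMap_germ φ x A hxA m, ← hm, stalkMap_smul, hmx, germ_smul, sub_self]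
    obtain ⟨r2, hr2, h2⟩ := exists_smul_eq_zero_of_germ_eq_zero G hAa x hxA _ h1
    have h3 : G.presheaf.germ A x' hx'A (r2 • φ.app A m) =
        G.presheaf.germ A x' hx'A (r2 • r1 • g) := by
      rw [smul_sub, sub_eq_zero] at h2
      rw [h2]
    rw [germ_smul, germ_smul, germ_smul, ← hg, ← stalkMap_germ φ x' A hx'A m] at h3
    have hu2 : IsUnit (X.presheaf.germ A x' hx'A r2) :=
      (X.mem_basicOpen r2 x' hx'A).1 (hgen r2 hr2)
    have hu1 : IsUnit (X.presheaf.germ A x' hx'A r1) :=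
      (X.mem_basicOpen r1 x' hx'A).1 (hgen r1 hr1)
    have hu : IsUnit (X.presheaf.germ A x' hx'A r) := (X.mem_basicOpen r x' hx'A).1 hr
    have h4 := (hu2.smul_left_cancel).1 h3
    obtain ⟨w, hw⟩ := (hu1.mul hu).exists_left_inv
    refine ⟨w • F.presheaf.germ A x' hx'A m, ?_⟩
    rw [stalkMap_smul, h4, smul_smul, smul_smul, mul_assoc, hw, one_smul]

end Gen

section Socle

/-- depth exactly one: a regular element and a socle element modulo it. -/
theorem exists_socle_of_depth_eq_one (O : Type u) [CommRing O] [IsLocalRing O]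
    [IsNoetherianRing O] (N : Type u) [AddCommGroup N] [Module O N] [Module.Finite O N]
    (h1 : (1 : ℕ∞) ≤ LocCoh.depth O N) (h2 : ¬ (2 : ℕ∞) ≤ LocCoh.depth O N) :
    ∃ (a : O) (n : N), a ∈ maximalIdeal O ∧ IsSMulRegular N a ∧ (∀ g : N, a • g ≠ n) ∧
      ∀ c ∈ maximalIdeal O, ∃ g : N, c • n = a • g := by
  haveI : Nontrivial N := by
    by_contra hcon
    rw [not_nontrivial_iff_subsingleton] at hcon
    apply h2
    rw [depth_eq_top_of_subsingleton]
    exact le_top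
  have hne : maximalIdeal O • (⊤ : Submodule O N) ≠ ⊤ := maximalIdeal_smul_top_ne_top N
  have h1' : ((1 : ℕ) : ℕ∞) ≤ idealDepth (maximalIdeal O) N := by
    rw [← depth_def]; exact_mod_cast h1
  obtain ⟨rs, hlen, hreg, hmem⟩ := exists_of_le_idealDepth (maximalIdeal O) N hne 1 h1'
  obtain ⟨a, rfl⟩ := List.length_eq_one_iff.mp hlen
  have ha : a ∈ maximalIdeal O := hmem a (by simp)
  have hareg : IsSMulRegular N a :=
    ((RingTheory.Sequence.isWeaklyRegular_cons_iff N a []).mp hreg).1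
  have hq := idealDepth_quotSMulTop_add_one (maximalIdeal O) N hne a ha hareg
  have h3 : ¬ (1 : ℕ∞) ≤ LocCoh.depth O (QuotSMulTop a N) := by
    intro h
    apply h2
    rw [depth_def] at h ⊢
    rw [← hq, ← one_add_one_eq_two]
    exact add_le_add h le_rfl
  rw [one_le_depth_iff, not_not] at h3
  obtain ⟨-, nbar, hnbar⟩ := (isAssociatedPrime_iff (R := O) (M := QuotSMulTop a N)).mp h3
  obtain ⟨n, rfl⟩ := Submodule.Quotient.mk_surjective _ nbar
  have hmem' : ∀ c : O, c ∈ maximalIdeal O ↔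
      c • (Submodule.Quotient.mk n : QuotSMulTop a N) = 0 := by
    intro c
    rw [hnbar, Submodule.mem_colon_singleton, Submodule.mem_bot]
  refine ⟨a, n, ha, hareg, ?_, ?_⟩
  · intro g hg
    have h0 : (Submodule.Quotient.mk n : QuotSMulTop a N) = 0 := by
      rw [Submodule.Quotient.mk_eq_zero, ← hg]
      exact Submodule.smul_mem_pointwise_smul g a ⊤ Submodule.mem_top
    have h1'' : (1 : O) ∈ maximalIdeal O := (hmem' 1).2 (by rw [h0, smul_zero])
    exact (Ideal.ne_top_iff_one _).1 (maximalIdeal.isMaximal O).ne_top h1''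
  · intro c hc
    have h0 := (hmem' c).1 hc
    rw [← Submodule.Quotient.mk_smul, Submodule.Quotient.mk_eq_zero] at h0
    obtain ⟨g, -, hg⟩ := (Submodule.mem_smul_pointwise_iff_exists _ _ _).1 h0
    exact ⟨g, hg.symm⟩

end Socle

section Closed

variable {X : Scheme.{u}} [IsLocallyNoetherian X] (Z : Set X) (F : X.Modules)
  [F.IsQuasicoherent] [SheafOfModules.IsFiniteType (R := X.ringCatSheaf) F]

/-- depth at least two at the generizations of `x` in `Z` implies Z-closedness at `x`. -/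
theorem isZClosedAt_of_two_le_depth (hZ : StableUnderSpecialization Z) (x : X)
    (h : ∀ x' : X, x' ⤳ x → x' ∈ Z →
      (2 : ℕ∞) ≤ LocCoh.depth (X.presheaf.stalk x') (F.presheaf.stalk x')) :
    ZClos.IsZClosedAt Z F x := by
  have hpure : ZClos.IsZPureAt Z F x :=
    (isZPureAt_iff_depth Z F hZ x).2 fun x' h1 h2 => le_trans one_le_two (h x' h1 h2)
  refine ⟨hpure, ?_⟩
  intro g
  obtain ⟨W, hxW, s₀, rfl⟩ := TopCat.Presheaf.exists_germ_eq ((ZClos.H0 Z).obj F).presheaf g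
  obtain ⟨_, ⟨V, hV, rfl⟩, hxV, hVW⟩ :=
    X.isBasis_affineOpens.exists_subset_of_mem_open hxW W.2
  have hV' : IsAffineOpen V := hV
  haveI : IsNoetherianRing Γ(X, V) := IsLocallyNoetherian.component_noetherian ⟨V, hV'⟩
  have hVW' : V ≤ W := hVW
  obtain ⟨T, t, ht⟩ := exists_rep Z F V hV'.isCompact
    (((ZClos.H0 Z).obj F).presheaf.map (homOfLE hVW').op s₀)
  -- the local extension
  have hext : ∃ (N : X.Opens) (hNV : N ≤ V) (_ : x ∈ N) (t' : Γ(F, N)),
      F.presheaf.map (homOfLE (inf_le_left : N ⊓ T.U ≤ N)).op t' =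
        F.presheaf.map (homOfLE (inf_le_inf_right T.U hNV)).op t := by
    by_cases hxT : x ∈ T.U
    · exact ⟨V ⊓ T.U, inf_le_left, ⟨hxV, hxT⟩, t, rfl⟩
    · have hxT' : x ∈ (T.1 : Set X) := by
        by_contra hn
        exact hxT hn
      have hdA : ((2 : ℕ) : ℕ∞) ≤ CInt.depthAlong F (T.1 : Set X) x := by
        unfold CInt.depthAlong
        refine le_iInf fun z => ?_
        exact_mod_cast h z.1 z.2.2 (T.2 z.2.1)
      obtain ⟨N₀, hxN₀, hN₀⟩ := exists_nhd_le_depthAlong F T.1 2 x hxT' hdA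
      obtain ⟨_, ⟨N, hN, rfl⟩, hxN, hNsub⟩ := X.isBasis_affineOpens.exists_subset_of_mem_open
        (show x ∈ ((N₀ ⊓ V : X.Opens) : Set X) from ⟨hxN₀, hxV⟩) (N₀ ⊓ V).2
      have hNaff : IsAffineOpen N := hN
      haveI : IsNoetherianRing Γ(X, N) := IsLocallyNoetherian.component_noetherian ⟨N, hNaff⟩
      have hNV : N ≤ V := fun y hy => (hNsub hy).2
      have hbij : Function.Bijective
          (F.presheaf.map (homOfLE (inf_le_left : N ⊓ T.U ≤ N)).op) := by
        refine bijective_res_affine F N hNaff (N ⊓ T.U) inf_le_left ?_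
        intro y hyN hyNT
        have hyT : y ∈ (T.1 : Set X) := by
          by_contra hn
          exact hyNT ⟨hyN, hn⟩
        have h1 := hN₀ y (hNsub hyN).1 hyT
        have h2 : CInt.depthAlong F (T.1 : Set X) y ≤
            LocCoh.depth (X.presheaf.stalk y) (F.presheaf.stalk y) := by
          unfold CInt.depthAlong
          exact iInf_le (fun z : {z : X // z ∈ (T.1 : Set X) ∧ z ⤳ y} =>
            LocCoh.depth (X.presheaf.stalk z.1) (F.presheaf.stalk z.1))
            ⟨y, hyT, specializes_rfl⟩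
        exact_mod_cast h1.trans h2
      obtain ⟨t', ht'⟩ := hbij.2 (F.presheaf.map (homOfLE (inf_le_inf_right T.U hNV)).op t)
      exact ⟨N, hNV, hxN, t', ht'⟩
  obtain ⟨N, hNV, hxN, t', ht'⟩ := hext
  refine ⟨F.presheaf.germ N x hxN t', ?_⟩
  have h2 : ZClos.rhoStalk Z F x (F.presheaf.germ N x hxN t') =
      ((ZClos.H0 Z).obj F).presheaf.germ N x hxN ((ZClos.rhoApp Z F).app N t') :=
    stalkMap_germ (ZClos.rhoApp Z F) x N hxN t'
  refine h2.trans ?_
  rw [rho_eq Z F T N t', ht', ← σ_res Z F T hNV t, ht]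
  rw [TopCat.Presheaf.germ_res_apply, TopCat.Presheaf.germ_res_apply]

/-- Z-closedness at `x` implies depth at least two at the generizations of `x` in `Z`. -/
theorem two_le_depth_of_isZClosedAt (hZ : StableUnderSpecialization Z) (x : X)
    (hcl : ZClos.IsZClosedAt Z F x) (x' : X) (hspec : x' ⤳ x) (hx'Z : x' ∈ Z) :
    (2 : ℕ∞) ≤ LocCoh.depth (X.presheaf.stalk x') (F.presheaf.stalk x') := by
  haveI : ((ZClos.H0 Z).obj F).IsQuasicoherent := isQuasicoherent_H0 Z F
  have hcl' : Function.Bijective (stalkMap (ZClos.rhoApp Z F) x') :=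
    bijective_stalkMap_of_specializes (ZClos.rhoApp Z F) hspec hcl
  haveI : Module.Finite (X.presheaf.stalk x') (F.presheaf.stalk x') :=
    finite_stalk_of_isFiniteType F x'
  have h1 : (1 : ℕ∞) ≤ LocCoh.depth (X.presheaf.stalk x') (F.presheaf.stalk x') :=
    (isZPureAt_iff_depth Z F hZ x').1 hcl'.1 x' specializes_rfl hx'Z
  by_contra h2
  obtain ⟨a, n, ha, hareg, hn1, hn2⟩ := exists_socle_of_depth_eq_one _ _ h1 h2
  -- represent `a` and `n` on a common affine open
  obtain ⟨Wa, hxWa, a₀, ha₀⟩ := TopCat.Presheaf.exists_germ_eq X.presheaf a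
  obtain ⟨Wn, hxWn, n₀, hn₀⟩ := TopCat.Presheaf.exists_germ_eq F.presheaf n
  obtain ⟨_, ⟨A, hA, rfl⟩, hxA, hAW⟩ := X.isBasis_affineOpens.exists_subset_of_mem_open
    (show x' ∈ ((Wa ⊓ Wn : X.Opens) : Set X) from ⟨hxWa, hxWn⟩) (Wa ⊓ Wn).2
  have hAa : IsAffineOpen A := hA
  haveI : IsNoetherianRing Γ(X, A) := IsLocallyNoetherian.component_noetherian ⟨A, hAa⟩
  haveI : Module.Finite Γ(X, A) Γ(F, A) := finite_sections_of_isFiniteType F hAa
  have hAWa : A ≤ Wa := fun y hy => (hAW hy).1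
  have hAWn : A ≤ Wn := fun y hy => (hAW hy).2
  obtain ⟨aA, haA⟩ : ∃ aA : Γ(X, A), aA = X.presheaf.map (homOfLE hAWa).op a₀ := ⟨_, rfl⟩
  obtain ⟨nA, hnA⟩ : ∃ nA : Γ(F, A), nA = F.presheaf.map (homOfLE hAWn).op n₀ := ⟨_, rfl⟩
  have hga : X.presheaf.germ A x' hxA aA = a := by
    rw [haA, TopCat.Presheaf.germ_res_apply]; exact ha₀
  have hgn : F.presheaf.germ A x' hxA nA = n := by
    rw [hnA, TopCat.Presheaf.germ_res_apply]; exact hn₀
  obtain ⟨q', hq'⟩ : ∃ q' : PrimeSpectrum Γ(X, A), q' = hAa.primeIdealOf ⟨x', hxA⟩ := ⟨_, rfl⟩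
  have hbo : ∀ r : Γ(X, A), x' ∈ X.basicOpen r ↔ r ∉ q'.asIdeal := by
    intro r
    rw [hq']
    exact mem_basicOpen_iff_notMem_primeIdealOf hAa x' hxA r
  have hmemq : ∀ r : Γ(X, A), r ∈ q'.asIdeal ↔ ¬ IsUnit (X.presheaf.germ A x' hxA r) := by
    intro r
    constructor
    · intro hr hu
      exact (hbo r).1 ((X.mem_basicOpen r x' hxA).2 hu) hr
    · intro hnu
      by_contra hr
      exact hnu ((X.mem_basicOpen r x' hxA).1 ((hbo r).2 hr))
  -- (G2)
  have hG2 : ∀ c : Γ(X, A), c ∈ q'.asIdeal → ∃ (ut : Γ(X, A)) (mt : Γ(F, A)),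
      ut ∉ q'.asIdeal ∧ (ut * c) • nA = aA • mt := by
    intro c hc
    have hcm : X.presheaf.germ A x' hxA c ∈ maximalIdeal (X.presheaf.stalk x') :=
      (mem_maximalIdeal _).2 (mem_nonunits_iff.2 ((hmemq c).1 hc))
    obtain ⟨g, hg⟩ := hn2 _ hcm
    obtain ⟨r, hr, m, hm⟩ := exists_germ_smul_eq F hAa x' hxA g
    have h0 : F.presheaf.germ A x' hxA ((r * c) • nA - aA • m) = 0 := by
      rw [map_sub, germ_smul, germ_smul, map_mul, hgn, hga, ← hm, mul_smul, hg, smul_comm,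
        sub_self]
    obtain ⟨r', hr', h0'⟩ := exists_smul_eq_zero_of_germ_eq_zero F hAa x' hxA _ h0
    refine ⟨r' * r, r' • m, ?_, ?_⟩
    · intro hmem
      rcases (q'.isPrime.mem_or_mem hmem) with h | h
      · exact (hbo r').1 hr' h
      · exact (hbo r).1 hr h
    · rw [smul_sub, sub_eq_zero] at h0'
      rw [mul_assoc, mul_smul, h0', smul_comm]
  -- (G3)
  have hG3 : ∃ v : Γ(X, A), v ∉ q'.asIdeal ∧ ∀ k : Γ(F, A), aA • k = 0 → v • k = 0 := by
    haveI : IsNoetherian Γ(X, A) Γ(F, A) := isNoetherian_of_isNoetherianRing_of_finite _ _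
    obtain ⟨K, hK⟩ : ∃ K : Submodule Γ(X, A) Γ(F, A),
        K = LinearMap.ker (LinearMap.lsmul Γ(X, A) Γ(F, A) aA) := ⟨_, rfl⟩
    have hKmem : ∀ m : Γ(F, A), m ∈ K ↔ aA • m = 0 := by
      intro m
      rw [hK, LinearMap.mem_ker, LinearMap.lsmul_apply]
    have hKp : Subsingleton (LocalizedModule q'.asIdeal.primeCompl K) := by
      rw [LocalizedModule.subsingleton_iff]
      intro k
      have hk : aA • (k : Γ(F, A)) = 0 := (hKmem _).mp k.2
      have hgk : F.presheaf.germ A x' hxA (k : Γ(F, A)) = 0 := by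
        apply hareg
        show a • F.presheaf.germ A x' hxA (k : Γ(F, A)) = a • 0
        rw [smul_zero, ← hga, ← germ_smul, hk, map_zero]
      obtain ⟨r, hr, hrk⟩ := exists_smul_eq_zero_of_germ_eq_zero F hAa x' hxA _ hgk
      exact ⟨r, (hbo r).1 hr, Subtype.ext (by simpa using hrk)⟩
    obtain ⟨v, hv, hvK⟩ := exists_smul_eq_zero_of_subsingleton_localizedModule q'.asIdeal K hKp
    refine ⟨v, hv, fun k hk => ?_⟩
    have := hvK ⟨k, (hKmem k).2 hk⟩
    simpa using congrArg Subtype.val this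
  obtain ⟨v, hv, hvK⟩ := hG3
  -- (G4)
  obtain ⟨S, hS⟩ : ∃ S : Finset Γ(X, A), Ideal.span (S : Set Γ(X, A)) = q'.asIdeal :=
    (IsNoetherian.noetherian q'.asIdeal : q'.asIdeal.FG)
  choose! ut mt hut using hG2
  have hSq : ∀ c ∈ S, c ∈ q'.asIdeal := by
    intro c hc
    rw [← hS]
    exact Ideal.subset_span (Finset.mem_coe.2 hc)
  obtain ⟨u, hu⟩ : ∃ u : Γ(X, A), u = v * ∏ c ∈ S, ut c := ⟨_, rfl⟩
  have huq : u ∉ q'.asIdeal := by
    rw [hu]
    have h1 : ∏ c ∈ S, ut c ∈ q'.asIdeal.primeCompl :=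
      Submonoid.prod_mem _ fun c hc => (hut c (hSq c hc)).1
    exact q'.asIdeal.primeCompl.mul_mem hv h1
  have hG4 : ∀ c ∈ S, ∃ m' : Γ(F, A), (u * c) • nA = aA • m' := by
    intro c hc
    obtain ⟨w, hw⟩ := Finset.dvd_prod_of_mem ut hc
    refine ⟨(v * w) • mt c, ?_⟩
    have e : u * c = (v * w) * (ut c * c) := by rw [hu, hw]; ring
    rw [e, mul_smul, (hut c (hSq c hc)).2, smul_comm]
  choose! mS hmS using hG4
  have hvu : ∀ k : Γ(F, A), aA • k = 0 → u • k = 0 := by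
    intro k hk
    rw [hu, mul_comm, mul_smul, hvK k hk, smul_zero]
  -- (G5)
  have hL1 : ∀ (y : X) (hyA : y ∈ A), y ∈ X.basicOpen u → ∀ τ : F.presheaf.stalk y,
      X.presheaf.germ A y hyA aA • τ = 0 → τ = 0 := by
    intro y hyA hyu τ hτ
    obtain ⟨r, hr, m, hm⟩ := exists_germ_smul_eq F hAa y hyA τ
    have h1 : F.presheaf.germ A y hyA (aA • m) = 0 := by
      rw [germ_smul, ← hm, smul_comm, hτ, smul_zero]
    obtain ⟨r', hr', h2⟩ := exists_smul_eq_zero_of_germ_eq_zero F hAa y hyA _ h1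
    have h3 : aA • (r' • m) = 0 := by rw [smul_comm]; exact h2
    have h4 : u • r' • m = 0 := hvu _ h3
    have h5 : F.presheaf.germ A y hyA (r' • m) = 0 :=
      germ_eq_zero_of_smul_eq_zero F y hyA u hyu (r' • m) h4
    have h6 : F.presheaf.germ A y hyA m = 0 := by
      rw [germ_smul] at h5
      exact (((X.mem_basicOpen r' y hyA).1 hr').smul_eq_zero).1 h5
    rw [h6] at hm
    exact (((X.mem_basicOpen r y hyA).1 hr).smul_eq_zero).1 hm
  -- (G6)
  have hsub : closure ({x'} : Set X) ⊆ Z := fun y hy =>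
    hZ (specializes_iff_mem_closure.2 hy) hx'Z
  let T₀ : ZClos.Cl Z := ⟨⟨closure {x'}, isClosed_closure⟩, hsub⟩
  have hWA : ∀ i : {c : Γ(X, A) // c ∈ S}, X.basicOpen (u * i.1) ≤ A :=
    fun i => X.basicOpen_le _
  have hWu : ∀ i : {c : Γ(X, A) // c ∈ S}, X.basicOpen (u * i.1) ≤ X.basicOpen u := by
    intro i; rw [X.basicOpen_mul]; exact inf_le_left
  have hWc : ∀ i : {c : Γ(X, A) // c ∈ S}, X.basicOpen (u * i.1) ≤ X.basicOpen i.1 := by
    intro i; rw [X.basicOpen_mul]; exact inf_le_right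
  have hloc : ∀ i : {c : Γ(X, A) // c ∈ S}, ∃ s : Γ(F, X.basicOpen (u * i.1)),
      X.presheaf.map (homOfLE (hWA i)).op aA • s = F.presheaf.map (homOfLE (hWA i)).op nA := by
    intro i
    obtain ⟨w, hw⟩ : IsUnit (X.presheaf.map (homOfLE (hWA i)).op (u * i.1)) :=
      RingedSpace.isUnit_res_basicOpen X.toRingedSpace (u * i.1)
    refine ⟨(↑w⁻¹ : Γ(X, X.basicOpen (u * i.1))) •
      F.presheaf.map (homOfLE (hWA i)).op (mS i.1), ?_⟩
    rw [smul_comm, ← Scheme.Modules.map_smul F (homOfLE (hWA i)) aA (mS i.1), ← hmS i.1 i.2,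
      Scheme.Modules.map_smul F (homOfLE (hWA i)), ← hw, smul_smul, Units.inv_mul, one_smul]
  choose s hs using hloc
  have hgerm_s : ∀ (i : {c : Γ(X, A) // c ∈ S}) (y : X) (hy : y ∈ X.basicOpen (u * i.1)),
      X.presheaf.germ A y (hWA i hy) aA • F.presheaf.germ (X.basicOpen (u * i.1)) y hy (s i) =
        F.presheaf.germ A y (hWA i hy) nA := by
    intro i y hy
    have e1 : X.presheaf.germ A y (hWA i hy) aA =
        X.presheaf.germ (X.basicOpen (u * i.1)) y hy
          (X.presheaf.map (homOfLE (hWA i)).op aA) :=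
      (TopCat.Presheaf.germ_res_apply X.presheaf (homOfLE (hWA i)) y hy aA).symm
    rw [e1, ← germ_smul, hs i, TopCat.Presheaf.germ_res_apply]
  have hcompat : TopCat.Presheaf.IsCompatible F.presheaf
      (fun i : {c : Γ(X, A) // c ∈ S} => X.basicOpen (u * i.1)) s := by
    intro i j
    change F.presheaf.map (Opens.infLELeft (X.basicOpen (u * i.1))
        (X.basicOpen (u * j.1))).op (s i) =
      F.presheaf.map (Opens.infLERight (X.basicOpen (u * i.1))
        (X.basicOpen (u * j.1))).op (s j)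
    refine TopCat.Presheaf.section_ext (⟨F.presheaf, F.isSheaf⟩ : TopCat.Sheaf Ab X) _ _ _ ?_
    intro y hy
    have hyi : y ∈ X.basicOpen (u * i.1) := hy.1
    have hyj : y ∈ X.basicOpen (u * j.1) := hy.2
    refine (TopCat.Presheaf.germ_res_apply F.presheaf (Opens.infLELeft _ _) y hy (s i)).trans ?_
    refine Eq.trans ?_
      (TopCat.Presheaf.germ_res_apply F.presheaf (Opens.infLERight _ _) y hy (s j)).symm
    rw [← sub_eq_zero]
    apply hL1 y (hWA i hyi) (hWu i hyi)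
    rw [smul_sub, hgerm_s i y hyi, hgerm_s j y hyj, sub_self]
  have hWle : ∀ i : {c : Γ(X, A) // c ∈ S}, X.basicOpen (u * i.1) ≤ X.basicOpen u ⊓ T₀.U := by
    intro i y hy
    refine ⟨hWu i hy, fun hyT => ?_⟩
    have hsp : x' ⤳ y := specializes_iff_mem_closure.2 hyT
    have hx'c : x' ∈ X.basicOpen i.1 := hsp.mem_open (X.basicOpen i.1).isOpen (hWc i hy)
    exact (hbo i.1).1 hx'c (hSq i.1 i.2)
  have hcover : X.basicOpen u ⊓ T₀.U ≤
      ⨆ i : {c : Γ(X, A) // c ∈ S}, X.basicOpen (u * i.1) := by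
    intro y hy
    have hyA : y ∈ A := X.basicOpen_le u hy.1
    have hnsp : ¬ x' ⤳ y := fun hsp => hy.2 (specializes_iff_mem_closure.1 hsp)
    have hnle : ¬ q'.asIdeal ≤ (hAa.primeIdealOf ⟨y, hyA⟩).asIdeal := fun hle =>
      hnsp ((specializes_iff_primeIdealOf_le hAa ⟨x', hxA⟩ ⟨y, hyA⟩).2 (by rw [← hq']; exact hle))
    have hex : ∃ c ∈ S, c ∉ (hAa.primeIdealOf ⟨y, hyA⟩).asIdeal := by
      by_contra hall
      push Not at hall
      apply hnle
      rw [← hS, Ideal.span_le]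
      intro c hc
      exact hall c (Finset.mem_coe.1 hc)
    obtain ⟨c, hcS, hcy⟩ := hex
    refine Opens.mem_iSup.2 ⟨⟨c, hcS⟩, ?_⟩
    rw [X.basicOpen_mul]
    exact ⟨hy.1, (mem_basicOpen_iff_notMem_primeIdealOf hAa y hyA c).2 hcy⟩
  obtain ⟨t, ht, -⟩ := TopCat.Sheaf.existsUnique_gluing'
    (⟨F.presheaf, F.isSheaf⟩ : TopCat.Sheaf Ab X)
    (fun i : {c : Γ(X, A) // c ∈ S} => X.basicOpen (u * i.1)) (X.basicOpen u ⊓ T₀.U)
    (fun i => homOfLE (hWle i)) hcover s hcompat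
  have hK : ∀ (y : X) (hy : y ∈ X.basicOpen u ⊓ T₀.U),
      X.presheaf.germ A y (X.basicOpen_le u hy.1) aA •
        F.presheaf.germ (X.basicOpen u ⊓ T₀.U) y hy t =
      F.presheaf.germ A y (X.basicOpen_le u hy.1) nA := by
    intro y hy
    obtain ⟨i, hyi⟩ := Opens.mem_iSup.1 (hcover hy)
    have e1 : F.presheaf.germ (X.basicOpen u ⊓ T₀.U) y hy t =
        F.presheaf.germ (X.basicOpen (u * i.1)) y hyi (s i) := by
      rw [← ht i]
      exact (TopCat.Presheaf.germ_res_apply F.presheaf (homOfLE (hWle i)) y hyi t).symm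
    rw [e1]
    exact hgerm_s i y hyi
  -- (G7)
  have hx'N₁ : x' ∈ X.basicOpen u := (hbo u).2 huq
  obtain ⟨N₀, hN₀, hx'N₀, g₀, hg₀⟩ := exists_local_lift (ZClos.rhoApp Z F) x' hcl'.2
    (X.basicOpen u) hx'N₁ (σ Z F T₀ (X.basicOpen u) t)
  obtain ⟨_, ⟨N, hN, rfl⟩, hx'N, hNN₀⟩ :=
    X.isBasis_affineOpens.exists_subset_of_mem_open hx'N₀ N₀.2
  have hNaff : IsAffineOpen N := hN
  have hNN₀' : N ≤ N₀ := hNN₀
  have hNu : N ≤ X.basicOpen u := hNN₀'.trans hN₀
  have hNA : N ≤ A := hNu.trans (X.basicOpen_le u)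
  obtain ⟨gN, hgN⟩ : ∃ gN : Γ(F, N), gN = F.presheaf.map (homOfLE hNN₀').op g₀ := ⟨_, rfl⟩
  have h3 : (ZClos.rhoApp Z F).app N gN =
      ((ZClos.H0 Z).obj F).presheaf.map (homOfLE hNu).op (σ Z F T₀ (X.basicOpen u) t) := by
    rw [hgN, app_map (ZClos.rhoApp Z F) hNN₀' g₀, hg₀]
    exact map_map_eq ((ZClos.H0 Z).obj F) _ _ _ _
  have h4 : σ Z F T₀ N (F.presheaf.map (homOfLE (inf_le_left : N ⊓ T₀.U ≤ N)).op gN -
      F.presheaf.map (homOfLE (inf_le_inf_right T₀.U hNu)).op t) = 0 := by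
    rw [map_sub, ← rho_eq Z F T₀ N gN, h3, σ_res Z F T₀ hNu t, sub_self]
  obtain ⟨T', hTT', h5⟩ := exists_of_σ_eq_zero Z F N hNaff.isCompact T₀ _ h4
  obtain ⟨e, he⟩ : ∃ e : Γ(F, N), e = X.presheaf.map (homOfLE hNA).op aA • gN -
      F.presheaf.map (homOfLE hNA).op nA := ⟨_, rfl⟩
  have h6 : F.presheaf.map (homOfLE (inf_le_left : N ⊓ T'.U ≤ N)).op e = 0 := by
    refine TopCat.Presheaf.section_ext (⟨F.presheaf, F.isSheaf⟩ : TopCat.Sheaf Ab X)
      (N ⊓ T'.U) _ 0 ?_
    intro y hy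
    refine (TopCat.Presheaf.germ_res_apply F.presheaf
      (homOfLE (inf_le_left : N ⊓ T'.U ≤ N)) y hy e).trans ?_
    refine Eq.trans ?_ (map_zero _).symm
    have hyN : y ∈ N := hy.1
    have hyT₀ : y ∈ N ⊓ T₀.U := ⟨hy.1, ZClos.Cl.U_anti hTT' hy.2⟩
    have hyuT : y ∈ X.basicOpen u ⊓ T₀.U := ⟨hNu hy.1, hyT₀.2⟩
    have h7 : F.presheaf.germ N y hyN gN =
        F.presheaf.germ (X.basicOpen u ⊓ T₀.U) y hyuT t := by
      have h8 := congrArg (F.presheaf.germ (N ⊓ T'.U) y hy) h5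
      rw [TopCat.Presheaf.germ_res_apply, map_sub, TopCat.Presheaf.germ_res_apply,
        TopCat.Presheaf.germ_res_apply, map_zero, sub_eq_zero] at h8
      exact h8
    rw [he, map_sub, germ_smul, TopCat.Presheaf.germ_res_apply,
      TopCat.Presheaf.germ_res_apply, h7, sub_eq_zero]
    exact hK y hyuT
  have h9 : (ZClos.rhoApp Z F).app N e = 0 := by
    rw [rho_eq Z F T' N e, h6, map_zero]
  have h10 : F.presheaf.germ N x' hx'N e = 0 := by
    apply hcl'.1
    refine (stalkMap_germ (ZClos.rhoApp Z F) x' N hx'N e).trans ?_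
    refine Eq.trans ?_ (map_zero _).symm
    rw [h9, map_zero]
  apply hn1 (F.presheaf.germ N x' hx'N gN)
  rw [he, map_sub, germ_smul, TopCat.Presheaf.germ_res_apply, TopCat.Presheaf.germ_res_apply,
    sub_eq_zero] at h10
  rw [← hga, ← hgn]
  exact h10

/-- **Z-closedness at a point via depth** (coherent case). -/
theorem isZClosedAt_iff_depth (hZ : StableUnderSpecialization Z) (x : X) :
    ZClos.IsZClosedAt Z F x ↔ ∀ x' : X, x' ⤳ x → x' ∈ Z →
      (2 : ℕ∞) ≤ LocCoh.depth (X.presheaf.stalk x') (F.presheaf.stalk x') :=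
  ⟨fun h x' h1 h2 => two_le_depth_of_isZClosedAt Z F hZ x h x' h1 h2,
    isZClosedAt_of_two_le_depth Z F hZ x⟩

end Closed

end Groth.Agent.Lead.ZClos1
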