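import Mathlib
import Groth.Prelude
import Groth.Agent.Lib.Lead.ZClos11

/-!
# The (S₂)-locus and the `Z^(2)`-closure (lead)

* `mem_support_stalk_of_nontrivial`, `supportDim_stalk_eq_of_nontrivial`: a coherent module with
  nonzero stalks everywhere has full support at each stalk.
* `isOpen_bijective_stalkMap`: the locus where a morphism of coherent modules is an isomorphism
  on stalks is open.
* `s2_locus`: the (S₂)-locus of `F` is the locus where `F → H⁰_{X/Z^(2)}(F)` is bijective.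
-/

set_option autoImplicit false
set_option linter.style.haveILetI false
set_option linter.unusedSectionVars false

universe u v

open CategoryTheory CategoryTheory.Limits AlgebraicGeometry TopologicalSpace Opposite
open IsLocalRing LocCoh Groth.Agent.Lead.Depth
open Groth.Agent.Helper13.QCoh Groth.Agent.Helper13.FinType Groth.Agent.Helper13.QCohLoc
  Groth.Agent.Helper13.LocFree Groth.Agent.Helper13.FlatOver
open Groth.Agent.Lead.EmbPts Groth.Agent.Lead.IsoDepth Groth.Agent.Lead.Hartogs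

namespace Groth.Agent.Lead.ZClos1

section Supp

variable {X : Scheme.{u}} [IsLocallyNoetherian X] (F : X.Modules) [F.IsQuasicoherent]
  [SheafOfModules.IsFiniteType (R := X.ringCatSheaf) F]

/-- if all stalks of a coherent module are nonzero, every prime of a local ring lies in the
support of the stalk. -/
theorem mem_support_stalk_of_nontrivial (hsupp : ∀ x : X, Nontrivial (F.presheaf.stalk x))
    (x : X) (p : PrimeSpectrum (X.presheaf.stalk x)) :
    p ∈ Module.support (X.presheaf.stalk x) (F.presheaf.stalk x) := by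
  haveI : Module.Finite (X.presheaf.stalk x) (F.presheaf.stalk x) :=
    finite_stalk_of_isFiniteType F x
  rw [Module.mem_support_iff_of_finite]
  intro r hr
  by_contra hrp
  have hrann : ∀ τ : F.presheaf.stalk x, r • τ = 0 := fun τ => Module.mem_annihilator.1 hr τ
  obtain ⟨W, hxW, r₁, hr₁⟩ := TopCat.Presheaf.exists_germ_eq X.presheaf r
  obtain ⟨_, ⟨A, hA, rfl⟩, hxA, hAW⟩ :=
    X.isBasis_affineOpens.exists_subset_of_mem_open hxW W.2
  have hAa : IsAffineOpen A := hA
  have hAW' : A ≤ W := hAW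
  haveI : IsNoetherianRing Γ(X, A) := IsLocallyNoetherian.component_noetherian ⟨A, hAa⟩
  haveI : Module.Finite Γ(X, A) Γ(F, A) := finite_sections_of_isFiniteType F hAa
  haveI : IsNoetherian Γ(X, A) Γ(F, A) := isNoetherian_of_isNoetherianRing_of_finite _ _
  obtain ⟨r₀, hr₀⟩ : ∃ r₀ : Γ(X, A), r₀ = X.presheaf.map (homOfLE hAW').op r₁ := ⟨_, rfl⟩
  have hgr : X.presheaf.germ A x hxA r₀ = r := by
    rw [hr₀, TopCat.Presheaf.germ_res_apply]; exact hr₁
  have hbo : ∀ c : Γ(X, A), x ∈ X.basicOpen c ↔ c ∉ (hAa.primeIdealOf ⟨x, hxA⟩).asIdeal :=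
    fun c => mem_basicOpen_iff_notMem_primeIdealOf hAa x hxA c
  -- the prime
  obtain ⟨q, hq⟩ : ∃ q : Ideal Γ(X, A),
      q = p.asIdeal.comap (X.presheaf.germ A x hxA).hom := ⟨_, rfl⟩
  have hqprime : q.IsPrime := by rw [hq]; exact Ideal.comap_isPrime _ _
  have hqmem : ∀ c : Γ(X, A), c ∈ q ↔ X.presheaf.germ A x hxA c ∈ p.asIdeal := by
    intro c; rw [hq]; exact Ideal.mem_comap
  have hr₀q : r₀ ∉ q := by rw [hqmem, hgr]; exact hrp
  have hqle : q ≤ (hAa.primeIdealOf ⟨x, hxA⟩).asIdeal := by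
    intro c hc
    by_contra hcx
    have hu : IsUnit (X.presheaf.germ A x hxA c) := (X.mem_basicOpen c x hxA).1 ((hbo c).2 hcx)
    exact p.isPrime.ne_top (Ideal.eq_top_of_isUnit_mem _ ((hqmem c).1 hc) hu)
  -- the point
  obtain ⟨z, hz⟩ : ∃ z : X, z = hAa.fromSpec ⟨q, hqprime⟩ := ⟨_, rfl⟩
  have hzA : z ∈ A := by
    have : hAa.fromSpec ⟨q, hqprime⟩ ∈ hAa.fromSpec.opensRange := ⟨_, rfl⟩
    rw [hAa.opensRange_fromSpec] at this
    exact hz ▸ this
  have hprime : hAa.primeIdealOf ⟨z, hzA⟩ = ⟨q, hqprime⟩ := by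
    subst hz
    exact primeIdealOf_fromSpec' hAa _ _
  have hboz : ∀ c : Γ(X, A), z ∈ X.basicOpen c ↔ c ∉ q := by
    intro c
    rw [mem_basicOpen_iff_notMem_primeIdealOf hAa z hzA c, hprime]
  -- `r₀ M` is killed by some `f ∉ q_x`
  have hKmem : ∀ m : Γ(F, A),
      r₀ • m ∈ LinearMap.range (LinearMap.lsmul Γ(X, A) Γ(F, A) r₀) := fun m => ⟨m, rfl⟩
  have hKp : Subsingleton
      (LocalizedModule (hAa.primeIdealOf ⟨x, hxA⟩).asIdeal.primeCompl
        (LinearMap.range (LinearMap.lsmul Γ(X, A) Γ(F, A) r₀))) := by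
    rw [LocalizedModule.subsingleton_iff]
    intro k
    obtain ⟨m, hm⟩ : ∃ m : Γ(F, A), r₀ • m = (k : Γ(F, A)) := k.2
    have hgk : F.presheaf.germ A x hxA (k : Γ(F, A)) = 0 := by
      rw [← hm, germ_smul, hgr]; exact hrann _
    obtain ⟨g, hg, hgk'⟩ := exists_smul_eq_zero_of_germ_eq_zero F hAa x hxA _ hgk
    exact ⟨g, (hbo g).1 hg, Subtype.ext (by simpa using hgk')⟩
  obtain ⟨f, hf, hfK⟩ := exists_smul_eq_zero_of_subsingleton_localizedModule _
    (LinearMap.range (LinearMap.lsmul Γ(X, A) Γ(F, A) r₀)) hKp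
  have hfm : ∀ m : Γ(F, A), (f * r₀) • m = 0 := by
    intro m
    have := hfK ⟨r₀ • m, hKmem m⟩
    rw [mul_smul]
    simpa using congrArg Subtype.val this
  have hfq : f * r₀ ∉ q := fun hmem =>
    (hqprime.mem_or_mem hmem).elim (fun h => hf (hqle h)) hr₀q
  -- the stalk at `z` vanishes
  haveI := hsupp z
  obtain ⟨τ, hτ⟩ := exists_ne (0 : F.presheaf.stalk z)
  apply hτ
  obtain ⟨c, hc, m, hm⟩ := exists_germ_smul_eq F hAa z hzA τ
  have h0 : F.presheaf.germ A z hzA m = 0 :=
    germ_eq_zero_of_smul_eq_zero F z hzA (f * r₀) ((hboz _).2 hfq) m (hfm m)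
  rw [h0] at hm
  exact (((X.mem_basicOpen c z hzA).1 hc).smul_eq_zero).1 hm

theorem supportDim_stalk_eq_of_nontrivial (hsupp : ∀ x : X, Nontrivial (F.presheaf.stalk x))
    (x : X) :
    Module.supportDim (X.presheaf.stalk x) (F.presheaf.stalk x) =
      ringKrullDim (X.presheaf.stalk x) := by
  apply le_antisymm (Module.supportDim_le_ringKrullDim _ _)
  unfold Module.supportDim ringKrullDim
  exact Order.krullDim_le_of_strictMono
    (fun p : PrimeSpectrum (X.presheaf.stalk x) =>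
      (⟨p, mem_support_stalk_of_nontrivial F hsupp x p⟩ :
        Module.support (X.presheaf.stalk x) (F.presheaf.stalk x)))
    (fun _ _ h => h)

end Supp

section IsoLocus

variable {X : Scheme.{u}} [IsLocallyNoetherian X]

/-- the locus where a morphism of coherent modules is bijective on stalks is open. -/
theorem isOpen_bijective_stalkMap {F G : X.Modules} [F.IsQuasicoherent] [G.IsQuasicoherent]
    [SheafOfModules.IsFiniteType (R := X.ringCatSheaf) F]
    [SheafOfModules.IsFiniteType (R := X.ringCatSheaf) G] (φ : F ⟶ G) :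
    IsOpen {x : X | Function.Bijective (stalkMap φ x)} := by
  rw [isOpen_iff_forall_mem_open]
  intro x hx
  obtain ⟨_, ⟨A, hA, rfl⟩, hxA, -⟩ :=
    X.isBasis_affineOpens.exists_subset_of_mem_open (Set.mem_univ x) isOpen_univ
  have hAa : IsAffineOpen A := hA
  haveI : IsNoetherianRing Γ(X, A) := IsLocallyNoetherian.component_noetherian ⟨A, hAa⟩
  haveI : Module.Finite Γ(X, A) Γ(F, A) := finite_sections_of_isFiniteType F hAa
  haveI : Module.Finite Γ(X, A) Γ(G, A) := finite_sections_of_isFiniteType G hAa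
  haveI : IsNoetherian Γ(X, A) Γ(F, A) := isNoetherian_of_isNoetherianRing_of_finite _ _
  have hbo : ∀ r : Γ(X, A), x ∈ X.basicOpen r ↔ r ∉ (hAa.primeIdealOf ⟨x, hxA⟩).asIdeal :=
    fun r => mem_basicOpen_iff_notMem_primeIdealOf hAa x hxA r
  -- kernel
  obtain ⟨K, hK⟩ : ∃ K : Submodule Γ(X, A) Γ(F, A),
      K = LinearMap.ker (appLinearMap φ A) := ⟨_, rfl⟩
  have hKmem : ∀ m : Γ(F, A), m ∈ K ↔ φ.app A m = 0 := by
    intro m; rw [hK, LinearMap.mem_ker]; rfl
  have hKp : Subsingleton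
      (LocalizedModule (hAa.primeIdealOf ⟨x, hxA⟩).asIdeal.primeCompl K) := by
    rw [LocalizedModule.subsingleton_iff]
    intro k
    have hk : φ.app A (k : Γ(F, A)) = 0 := (hKmem _).mp k.2
    have hgk : F.presheaf.germ A x hxA (k : Γ(F, A)) = 0 := by
      apply hx.1
      refine (stalkMap_germ φ x A hxA _).trans ?_
      refine Eq.trans ?_ (map_zero _).symm
      rw [hk, map_zero]
    obtain ⟨r, hr, hrk⟩ := exists_smul_eq_zero_of_germ_eq_zero F hAa x hxA _ hgk
    exact ⟨r, (hbo r).1 hr, Subtype.ext (by simpa using hrk)⟩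
  obtain ⟨f1, hf1, hf1K⟩ := exists_smul_eq_zero_of_subsingleton_localizedModule _ K hKp
  -- cokernel
  have hC : ∀ g : Γ(G, A), ∃ r : Γ(X, A), r ∉ (hAa.primeIdealOf ⟨x, hxA⟩).asIdeal ∧
      ∃ m : Γ(F, A), r • g = φ.app A m := by
    intro g
    obtain ⟨mx, hmx⟩ := hx.2 (G.presheaf.germ A x hxA g)
    obtain ⟨r1, hr1, m, hm⟩ := exists_germ_smul_eq F hAa x hxA mx
    have h1 : G.presheaf.germ A x hxA (φ.app A m - r1 • g) = 0 := by
      rw [map_sub, ← stalkMap_germ φ x A hxA m, ← hm, stalkMap_smul, hmx, germ_smul, sub_self]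
    obtain ⟨r2, hr2, h2⟩ := exists_smul_eq_zero_of_germ_eq_zero G hAa x hxA _ h1
    refine ⟨r2 * r1, ?_, r2 • m, ?_⟩
    · intro hmem
      rcases ((hAa.primeIdealOf ⟨x, hxA⟩).isPrime.mem_or_mem hmem) with h | h
      · exact (hbo r2).1 hr2 h
      · exact (hbo r1).1 hr1 h
    · rw [smul_sub, sub_eq_zero] at h2
      rw [mul_smul, ← h2, Scheme.Modules.Hom.app_smul]
  obtain ⟨Sg, hSg⟩ := (Module.Finite.fg_top : (⊤ : Submodule Γ(X, A) Γ(G, A)).FG)
  choose rg hrg mg hmg using hC
  obtain ⟨f2, hf2⟩ : ∃ f2 : Γ(X, A), f2 = ∏ g ∈ Sg, rg g := ⟨_, rfl⟩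
  have hf2p : f2 ∉ (hAa.primeIdealOf ⟨x, hxA⟩).asIdeal := by
    rw [hf2]
    exact Submonoid.prod_mem (hAa.primeIdealOf ⟨x, hxA⟩).asIdeal.primeCompl fun g _ => hrg g
  have hf2G : ∀ g : Γ(G, A), ∃ m : Γ(F, A), f2 • g = φ.app A m := by
    intro g
    have hg : g ∈ Submodule.span Γ(X, A) (Sg : Set Γ(G, A)) := by
      rw [hSg]; exact Submodule.mem_top
    induction hg using Submodule.span_induction with
    | mem g hg =>
      obtain ⟨w, hw⟩ := Finset.dvd_prod_of_mem rg (Finset.mem_coe.1 hg)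
      refine ⟨w • mg g, ?_⟩
      rw [hf2, hw, mul_comm, mul_smul, hmg g, Scheme.Modules.Hom.app_smul]
    | zero => exact ⟨0, by rw [smul_zero, map_zero]⟩
    | add a b _ _ ha hb =>
      obtain ⟨ma, hma⟩ := ha
      obtain ⟨mb, hmb⟩ := hb
      exact ⟨ma + mb, by rw [smul_add, hma, hmb, map_add]⟩
    | smul c a _ ha =>
      obtain ⟨ma, hma⟩ := ha
      exact ⟨c • ma, by rw [smul_comm, hma, Scheme.Modules.Hom.app_smul]⟩
  -- the neighbourhood
  refine ⟨(X.basicOpen (f1 * f2) : Set X), ?_, (X.basicOpen (f1 * f2)).isOpen, ?_⟩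
  · intro y hy
    have hyA : y ∈ A := X.basicOpen_le _ hy
    have hy12 : y ∈ X.basicOpen f1 ⊓ X.basicOpen f2 := by
      rw [← X.basicOpen_mul]; exact hy
    have hy1 : y ∈ X.basicOpen f1 := hy12.1
    have hy2 : y ∈ X.basicOpen f2 := hy12.2
    constructor
    · refine (injective_iff_map_eq_zero (stalkMap φ y).hom).2 ?_
      intro m' hm'
      obtain ⟨r, hr, m, hm⟩ := exists_germ_smul_eq F hAa y hyA m'
      have h1 : G.presheaf.germ A y hyA (φ.app A m) = 0 := by
        rw [← stalkMap_germ φ y A hyA m, ← hm, stalkMap_smul]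
        rw [show stalkMap φ y m' = 0 from hm', smul_zero]
      obtain ⟨r', hr', h2⟩ := exists_smul_eq_zero_of_germ_eq_zero G hAa y hyA (φ.app A m) h1
      have h3 : φ.app A (r' • m) = 0 := by
        rw [Scheme.Modules.Hom.app_smul]; exact h2
      have h4 : f1 • (r' • m) = 0 := by
        have := hf1K ⟨r' • m, (hKmem _).2 h3⟩
        simpa using congrArg Subtype.val this
      have h5 : F.presheaf.germ A y hyA (r' • m) = 0 :=
        germ_eq_zero_of_smul_eq_zero F y hyA f1 hy1 _ h4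
      have h6 : F.presheaf.germ A y hyA m = 0 := by
        rw [germ_smul] at h5
        exact (((X.mem_basicOpen r' y hyA).1 hr').smul_eq_zero).1 h5
      rw [h6] at hm
      exact (((X.mem_basicOpen r y hyA).1 hr).smul_eq_zero).1 hm
    · intro g'
      obtain ⟨r, hr, g, hg⟩ := exists_germ_smul_eq G hAa y hyA g'
      obtain ⟨m, hm⟩ := hf2G g
      have hu : IsUnit (X.presheaf.germ A y hyA r) := (X.mem_basicOpen r y hyA).1 hr
      have hu2 : IsUnit (X.presheaf.germ A y hyA f2) := (X.mem_basicOpen f2 y hyA).1 hy2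
      obtain ⟨w, hw⟩ := (hu2.mul hu).exists_left_inv
      refine ⟨w • F.presheaf.germ A y hyA m, ?_⟩
      rw [stalkMap_smul, stalkMap_germ, ← hm, germ_smul, ← hg, smul_smul, smul_smul, mul_assoc,
        hw, one_smul]
  · exact (hbo _).2 (fun hmem =>
      ((hAa.primeIdealOf ⟨x, hxA⟩).isPrime.mem_or_mem hmem).elim hf1 hf2p)

end IsoLocus

section S2

variable {X : Scheme.{u}} [IsLocallyNoetherian X] (F : X.Modules) [F.IsQuasicoherent]
  [SheafOfModules.IsFiniteType (R := X.ringCatSheaf) F]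

/-- **The (S₂)-locus** of a coherent module with full support whose `Z^(2)`-closure is coherent and
satisfies (S₂): it is the (open) locus where `F → H⁰_{X/Z^(2)}(F)` is bijective, and its complement
has codimension at least two. -/
theorem s2_locus (hsupp : ∀ x : X, Nontrivial (F.presheaf.stalk x))
    [((ZClos.H0 (ZClos.dimGe X 2)).obj F).IsQuasicoherent]
    [SheafOfModules.IsFiniteType (R := X.ringCatSheaf) ((ZClos.H0 (ZClos.dimGe X 2)).obj F)]
    (hS2G : ∀ x : X, min (2 : WithBot ℕ∞) (Module.supportDim (X.presheaf.stalk x)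
        (((ZClos.H0 (ZClos.dimGe X 2)).obj F).presheaf.stalk x)) ≤
      ((LocCoh.depth (X.presheaf.stalk x)
        (((ZClos.H0 (ZClos.dimGe X 2)).obj F).presheaf.stalk x) : ℕ∞) : WithBot ℕ∞)) :
    IsOpen {x : X | ∀ x' : X, x' ⤳ x →
        min (2 : WithBot ℕ∞) (Module.supportDim (X.presheaf.stalk x') (F.presheaf.stalk x')) ≤
          ((LocCoh.depth (X.presheaf.stalk x') (F.presheaf.stalk x') : ℕ∞) : WithBot ℕ∞)} ∧
      ∀ x : X, (¬ ∀ x' : X, x' ⤳ x →
        min (2 : WithBot ℕ∞) (Module.supportDim (X.presheaf.stalk x') (F.presheaf.stalk x')) ≤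
          ((LocCoh.depth (X.presheaf.stalk x') (F.presheaf.stalk x') : ℕ∞) : WithBot ℕ∞)) →
        (2 : WithBot ℕ∞) ≤ ringKrullDim (X.presheaf.stalk x) := by
  have hZ := stable_dimGe X 2
  have key : ∀ x : X, (∀ x' : X, x' ⤳ x →
      min (2 : WithBot ℕ∞) (Module.supportDim (X.presheaf.stalk x') (F.presheaf.stalk x')) ≤
        ((LocCoh.depth (X.presheaf.stalk x') (F.presheaf.stalk x') : ℕ∞) : WithBot ℕ∞)) ↔
      Function.Bijective (stalkMap (ZClos.rhoApp (ZClos.dimGe X 2) F) x) := by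
    intro x
    constructor
    · intro hS2
      refine (isZClosedAt_iff_depth (ZClos.dimGe X 2) F hZ x).2 ?_
      intro x' hx' hx'Z
      have h := hS2 x' hx'
      have h2 : (2 : WithBot ℕ∞) ≤
          Module.supportDim (X.presheaf.stalk x') (F.presheaf.stalk x') := by
        rw [supportDim_stalk_eq_of_nontrivial F hsupp x']
        exact hx'Z
      rw [min_eq_left h2] at h
      exact (WithBot.coe_le_coe (a := (2 : ℕ∞))).1 h
    · intro hb x' hx'
      have hb' := bijective_stalkMap_of_specializes (ZClos.rhoApp (ZClos.dimGe X 2) F) hx' hb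
      let e : F.presheaf.stalk x' ≃ₗ[X.presheaf.stalk x']
          ((ZClos.H0 (ZClos.dimGe X 2)).obj F).presheaf.stalk x' :=
        LinearEquiv.ofBijective (stalkLin (ZClos.rhoApp (ZClos.dimGe X 2) F) x') hb'
      rw [depth_congr e, Module.supportDim_eq_of_equiv e]
      exact hS2G x'
  constructor
  · have hset : {x : X | ∀ x' : X, x' ⤳ x →
        min (2 : WithBot ℕ∞) (Module.supportDim (X.presheaf.stalk x') (F.presheaf.stalk x')) ≤
          ((LocCoh.depth (X.presheaf.stalk x') (F.presheaf.stalk x') : ℕ∞) : WithBot ℕ∞)} =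
        {x : X | Function.Bijective (stalkMap (ZClos.rhoApp (ZClos.dimGe X 2) F) x)} := by
      ext x; exact key x
    rw [hset]
    exact isOpen_bijective_stalkMap _
  · intro x hx
    by_contra h2
    exact hx ((key x).2 (isZClosedAt_of_not_mem (ZClos.dimGe X 2) F x h2))

end S2

end Groth.Agent.Lead.ZClos1
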