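import Mathlib
import Groth.Prelude
import Groth.Agent.Lib.Lead.ZClos12

/-!
# Z-purity and Z-closedness are local on the scheme (lead)

* `PureOn Z F V`, `ClosedOn Z F V`: the restriction maps `Γ(F, O) → Γ(F, O ∖ T)` are injective
  (bijective) for all closed `T ⊆ Z` and all compact opens `O ≤ V`.
* `isZPure_restrict_iff`, `isZClosed_restrict_iff`: `F|_U` is `(Z ∩ U)`-pure (closed) iff
  `PureOn Z F U` (`ClosedOn Z F U`).
* `pureOn_top_of_cover`, `closedOn_top_of_cover`: local-to-global along an open cover.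
* `closedOn_of_stalk_bijective`, `stalk_bijective_of_closedOn`: relation with the stalks of
  `ρ : F → H⁰_{X/Z}(F)`.
-/

set_option autoImplicit false
set_option linter.style.haveILetI false
set_option linter.unusedSectionVars false

universe u v

open CategoryTheory CategoryTheory.Limits AlgebraicGeometry TopologicalSpace Opposite
open IsLocalRing LocCoh Groth.Agent.Lead.Depth
open Groth.Agent.Helper13.QCoh Groth.Agent.Helper13.FinType Groth.Agent.Helper13.QCohLoc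
  Groth.Agent.Helper13.LocFree Groth.Agent.Helper13.FlatOver
open Groth.Agent.Lead.EmbPts Groth.Agent.Lead.IsoDepth Groth.Agent.Lead.Hartogs

namespace Groth.Agent.Lead.ZClos1

section Transport

variable {X : Scheme.{u}}

theorem injective_map_congr₂ (F : X.Modules) {A B A' B' : X.Opens} (hA : A' = A) (hB : B' = B)
    (hle : B ≤ A) (hle' : B' ≤ A') :
    Function.Injective (F.presheaf.map (homOfLE hle').op) ↔
      Function.Injective (F.presheaf.map (homOfLE hle).op) := by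
  subst hA; subst hB; exact Iff.rfl

theorem bijective_map_congr₂ (F : X.Modules) {A B A' B' : X.Opens} (hA : A' = A) (hB : B' = B)
    (hle : B ≤ A) (hle' : B' ≤ A') :
    Function.Bijective (F.presheaf.map (homOfLE hle').op) ↔
      Function.Bijective (F.presheaf.map (homOfLE hle).op) := by
  subst hA; subst hB; exact Iff.rfl

theorem injective_of_comp (F : X.Modules) {A B C : X.Opens} (hBA : B ≤ A) (hCB : C ≤ B)
    (h1 : Function.Injective (F.presheaf.map (homOfLE (hCB.trans hBA)).op)) :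
    Function.Injective (F.presheaf.map (homOfLE hBA).op) := by
  have hcomp : ∀ s : Γ(F, A),
      F.presheaf.map (homOfLE hCB).op (F.presheaf.map (homOfLE hBA).op s) =
        F.presheaf.map (homOfLE (hCB.trans hBA)).op s := fun s => map_map_eq F _ _ _ s
  intro s s' hss
  apply h1
  exact (hcomp s).symm.trans
    ((congrArg (fun z => F.presheaf.map (homOfLE hCB).op z) hss).trans (hcomp s'))

theorem bijective_of_comp (F : X.Modules) {A B C : X.Opens} (hBA : B ≤ A) (hCB : C ≤ B)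
    (h1 : Function.Bijective (F.presheaf.map (homOfLE (hCB.trans hBA)).op))
    (h2 : Function.Bijective (F.presheaf.map (homOfLE hCB).op)) :
    Function.Bijective (F.presheaf.map (homOfLE hBA).op) := by
  have hcomp : ∀ s : Γ(F, A),
      F.presheaf.map (homOfLE hCB).op (F.presheaf.map (homOfLE hBA).op s) =
        F.presheaf.map (homOfLE (hCB.trans hBA)).op s := fun s => map_map_eq F _ _ _ s
  refine ⟨injective_of_comp F hBA hCB h1.1, ?_⟩
  intro b
  obtain ⟨a, ha⟩ := h1.2 (F.presheaf.map (homOfLE hCB).op b)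
  refine ⟨a, h2.1 ?_⟩
  exact (hcomp a).trans ha

/-- injectivity of `Γ(F, V) → Γ(F, V ⊓ U)` is local on `V`. -/
theorem injective_res_of_cover (F : X.Modules) (U V : X.Opens) {κ : Type*} (W : κ → X.Opens)
    (hWV : ∀ k, W k ≤ V) (hcov : V ≤ ⨆ k, W k)
    (hW : ∀ k, Function.Injective
      (F.presheaf.map (homOfLE (inf_le_left : W k ⊓ U ≤ W k)).op)) :
    Function.Injective (F.presheaf.map (homOfLE (inf_le_left : V ⊓ U ≤ V)).op) := by
  intro s t hst
  refine TopCat.Sheaf.eq_of_locally_eq' (⟨F.presheaf, F.isSheaf⟩ : TopCat.Sheaf Ab X)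
    W V (fun k => homOfLE (hWV k)) hcov _ _ (fun k => ?_)
  apply hW k
  change F.presheaf.map (homOfLE (inf_le_left : W k ⊓ U ≤ W k)).op
      (F.presheaf.map (homOfLE (hWV k)).op s) =
    F.presheaf.map (homOfLE (inf_le_left : W k ⊓ U ≤ W k)).op
      (F.presheaf.map (homOfLE (hWV k)).op t)
  have hWU : W k ⊓ U ≤ V ⊓ U := inf_le_inf_right U (hWV k)
  rw [map_map_eq F _ _ (homOfLE (hWU.trans inf_le_left)).op,
    map_map_eq F _ _ (homOfLE (hWU.trans inf_le_left)).op,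
    ← map_map_eq F (homOfLE (inf_le_left : V ⊓ U ≤ V)).op (homOfLE hWU).op
      (homOfLE (hWU.trans inf_le_left)).op s,
    ← map_map_eq F (homOfLE (inf_le_left : V ⊓ U ≤ V)).op (homOfLE hWU).op
      (homOfLE (hWU.trans inf_le_left)).op t, hst]

/-- bijectivity of `Γ(F, V) → Γ(F, V ⊓ U)` is local on `V`. -/
theorem bijective_res_of_cover (F : X.Modules) (U V : X.Opens) {κ : Type*} (W : κ → X.Opens)
    (hWV : ∀ k, W k ≤ V) (hcov : V ≤ ⨆ k, W k)
    (hW : ∀ k, Function.Bijective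
      (F.presheaf.map (homOfLE (inf_le_left : W k ⊓ U ≤ W k)).op))
    (hWW : ∀ k k', Function.Injective
      (F.presheaf.map (homOfLE (inf_le_left : (W k ⊓ W k') ⊓ U ≤ W k ⊓ W k')).op)) :
    Function.Bijective (F.presheaf.map (homOfLE (inf_le_left : V ⊓ U ≤ V)).op) := by
  refine ⟨injective_res_of_cover F U V W hWV hcov (fun k => (hW k).1), fun g => ?_⟩
  have hloc : ∀ k, ∃ s : Γ(F, W k),
      F.presheaf.map (homOfLE (inf_le_left : W k ⊓ U ≤ W k)).op s =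
        F.presheaf.map (homOfLE (inf_le_inf_right U (hWV k) : W k ⊓ U ≤ V ⊓ U)).op g :=
    fun k => (hW k).2 _
  choose s hs using hloc
  have hcompat : TopCat.Presheaf.IsCompatible F.presheaf W s := by
    intro k k'
    apply hWW k k'
    change F.presheaf.map (homOfLE (inf_le_left : (W k ⊓ W k') ⊓ U ≤ W k ⊓ W k')).op
        (F.presheaf.map (homOfLE (inf_le_left : W k ⊓ W k' ≤ W k)).op (s k)) =
      F.presheaf.map (homOfLE (inf_le_left : (W k ⊓ W k') ⊓ U ≤ W k ⊓ W k')).op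
        (F.presheaf.map (homOfLE (inf_le_right : W k ⊓ W k' ≤ W k')).op (s k'))
    have h1 : (W k ⊓ W k') ⊓ U ≤ W k ⊓ U := inf_le_inf_right U inf_le_left
    have h2 : (W k ⊓ W k') ⊓ U ≤ W k' ⊓ U := inf_le_inf_right U inf_le_right
    rw [map_map_eq F _ _ (homOfLE (h1.trans inf_le_left)).op,
      map_map_eq F _ _ (homOfLE (h2.trans inf_le_left)).op,
      ← map_map_eq F (homOfLE (inf_le_left : W k ⊓ U ≤ W k)).op (homOfLE h1).op
        (homOfLE (h1.trans inf_le_left)).op (s k),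
      ← map_map_eq F (homOfLE (inf_le_left : W k' ⊓ U ≤ W k')).op (homOfLE h2).op
        (homOfLE (h2.trans inf_le_left)).op (s k'), hs k, hs k',
      map_map_eq F _ _ (homOfLE (h1.trans (inf_le_inf_right U (hWV k)))).op,
      map_map_eq F _ _ (homOfLE (h1.trans (inf_le_inf_right U (hWV k)))).op]
  have hcovU : V ⊓ U ≤ ⨆ k, W k ⊓ U := by
    intro x hx
    obtain ⟨k, hxk⟩ := Opens.mem_iSup.1 (hcov hx.1)
    exact Opens.mem_iSup.2 ⟨k, ⟨hxk, hx.2⟩⟩
  obtain ⟨s₀, hs₀, -⟩ := TopCat.Sheaf.existsUnique_gluing'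
    (⟨F.presheaf, F.isSheaf⟩ : TopCat.Sheaf Ab X) W V (fun k => homOfLE (hWV k)) hcov s hcompat
  refine ⟨s₀, ?_⟩
  refine TopCat.Sheaf.eq_of_locally_eq' (⟨F.presheaf, F.isSheaf⟩ : TopCat.Sheaf Ab X)
    (fun k => W k ⊓ U) (V ⊓ U)
    (fun k => homOfLE (inf_le_inf_right U (hWV k))) hcovU _ _ (fun k => ?_)
  change F.presheaf.map (homOfLE (inf_le_inf_right U (hWV k) : W k ⊓ U ≤ V ⊓ U)).op
      (F.presheaf.map (homOfLE (inf_le_left : V ⊓ U ≤ V)).op s₀) =
    F.presheaf.map (homOfLE (inf_le_inf_right U (hWV k) : W k ⊓ U ≤ V ⊓ U)).op g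
  rw [← hs k, ← hs₀ k]
  change _ = F.presheaf.map (homOfLE (inf_le_left : W k ⊓ U ≤ W k)).op
    (F.presheaf.map (homOfLE (hWV k)).op s₀)
  rw [map_map_eq F _ _ (homOfLE ((inf_le_left : W k ⊓ U ≤ W k).trans (hWV k))).op,
    map_map_eq F _ _ (homOfLE ((inf_le_left : W k ⊓ U ≤ W k).trans (hWV k))).op]

end Transport

section OpenSub

variable {X : Scheme.{u}} [IsLocallyNoetherian X] (Z : Set X) (F : X.Modules)

/-- injectivity of the restrictions `O → O ∖ T` for the compact opens `O` inside `V`. -/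
def PureOn (V : X.Opens) : Prop :=
  ∀ (T : ZClos.Cl Z) (O : X.Opens), IsCompact (O : Set X) → O ≤ V →
    Function.Injective (F.presheaf.map (homOfLE (inf_le_left : O ⊓ T.U ≤ O)).op)

/-- bijectivity of the restrictions `O → O ∖ T` for the compact opens `O` inside `V`. -/
def ClosedOn (V : X.Opens) : Prop :=
  ∀ (T : ZClos.Cl Z) (O : X.Opens), IsCompact (O : Set X) → O ≤ V →
    Function.Bijective (F.presheaf.map (homOfLE (inf_le_left : O ⊓ T.U ≤ O)).op)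

theorem ClosedOn.pureOn {V : X.Opens} (h : ClosedOn Z F V) : PureOn Z F V :=
  fun T O hO hOV => (h T O hO hOV).1

theorem isZPure_iff_pureOn_top : ZClos.IsZPure Z F ↔ PureOn Z F ⊤ :=
  ⟨fun h T O hO _ => (isZPure_iff Z F).1 h T O hO,
    fun h => (isZPure_iff Z F).2 fun T O hO => h T O hO le_top⟩

theorem isZClosed_iff_closedOn_top : ZClos.IsZClosed Z F ↔ ClosedOn Z F ⊤ :=
  ⟨fun h T O hO _ => (isZClosed_iff Z F).1 h T O hO,
    fun h => (isZClosed_iff Z F).2 fun T O hO => h T O hO le_top⟩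

theorem PureOn.mono {V V' : X.Opens} (h : PureOn Z F V) (hle : V' ≤ V) : PureOn Z F V' :=
  fun T O hO hOV => h T O hO (hOV.trans hle)

theorem ClosedOn.mono {V V' : X.Opens} (h : ClosedOn Z F V) (hle : V' ≤ V) : ClosedOn Z F V' :=
  fun T O hO hOV => h T O hO (hOV.trans hle)

/-- **Z-purity is local**: local-to-global along an open cover. -/
theorem pureOn_top_of_cover {ι : Type*} (V : ι → X.Opens) (hV : iSup V = ⊤)
    (h : ∀ i, PureOn Z F (V i)) : PureOn Z F ⊤ := by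
  intro T W₀ _ _
  refine injective_res_of_cover F T.U W₀
    (fun k : {N : X.Opens // IsCompact (N : Set X) ∧ N ≤ W₀ ∧ ∃ i, N ≤ V i} => k.1)
    (fun k => k.2.2.1) ?_ ?_
  · intro y hy
    have hyV : y ∈ iSup V := by rw [hV]; trivial
    obtain ⟨i, hyi⟩ := Opens.mem_iSup.1 hyV
    obtain ⟨N, hN, hyN, hNle⟩ := exists_compact_nhd (W₀ ⊓ V i) y ⟨hy, hyi⟩
    exact Opens.mem_iSup.2
      ⟨⟨N, hN, hNle.trans inf_le_left, i, hNle.trans inf_le_right⟩, hyN⟩
  · intro k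
    obtain ⟨i, hi⟩ := k.2.2.2
    exact h i T k.1 k.2.1 hi

/-- **Z-closedness is local**: local-to-global along an open cover. -/
theorem closedOn_top_of_cover {ι : Type*} (V : ι → X.Opens) (hV : iSup V = ⊤)
    (h : ∀ i, ClosedOn Z F (V i)) : ClosedOn Z F ⊤ := by
  intro T W₀ _ _
  refine bijective_res_of_cover F T.U W₀
    (fun k : {N : X.Opens // IsCompact (N : Set X) ∧ N ≤ W₀ ∧ ∃ i, N ≤ V i} => k.1)
    (fun k => k.2.2.1) ?_ ?_ ?_
  · intro y hy
    have hyV : y ∈ iSup V := by rw [hV]; trivial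
    obtain ⟨i, hyi⟩ := Opens.mem_iSup.1 hyV
    obtain ⟨N, hN, hyN, hNle⟩ := exists_compact_nhd (W₀ ⊓ V i) y ⟨hy, hyi⟩
    exact Opens.mem_iSup.2
      ⟨⟨N, hN, hNle.trans inf_le_left, i, hNle.trans inf_le_right⟩, hyN⟩
  · intro k
    obtain ⟨i, hi⟩ := k.2.2.2
    exact h i T k.1 k.2.1 hi
  · intro k k'
    obtain ⟨i, hi⟩ := k.2.2.2
    exact (h i T (k.1 ⊓ k'.1) (isCompact_of_le k.2.1 inf_le_left)
      (inf_le_left.trans hi)).1

/-! ### Restriction to an open subscheme -/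

theorem mem_image_iff (U : X.Opens) (V' : (U : Scheme.{u}).Opens) (y : X) :
    y ∈ U.ι ''ᵁ V' ↔ ∃ hy : y ∈ U, (⟨y, hy⟩ : (U : Scheme.{u})) ∈ V' := by
  constructor
  · rintro ⟨y', hy', rfl⟩
    exact ⟨y'.2, hy'⟩
  · rintro ⟨hy, h⟩
    exact ⟨⟨y, hy⟩, h, rfl⟩

theorem image_le (U : X.Opens) (V' : (U : Scheme.{u}).Opens) : U.ι ''ᵁ V' ≤ U := by
  intro y hy
  obtain ⟨hyU, -⟩ := (mem_image_iff U V' y).1 hy
  exact hyU

theorem image_preimage_of_le (U O : X.Opens) (hOU : O ≤ U) : U.ι ''ᵁ (U.ι ⁻¹ᵁ O) = O := by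
  rw [ZClos.ι_image_preimage]
  exact inf_eq_right.2 hOU

theorem isCompact_preimage_ι (U O : X.Opens) (hO : IsCompact (O : Set X)) (hOU : O ≤ U) :
    IsCompact ((U.ι ⁻¹ᵁ O : (U : Scheme.{u}).Opens) : Set (U : Scheme.{u})) :=
  U.ι.isOpenEmbedding.isInducing.isCompact_preimage' hO (fun y hy => ⟨⟨y, hOU hy⟩, rfl⟩)

theorem isCompact_image_ι (U : X.Opens) (V' : (U : Scheme.{u}).Opens)
    (hV' : IsCompact (V' : Set (U : Scheme.{u}))) :
    IsCompact ((U.ι ''ᵁ V' : X.Opens) : Set X) := by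
  have := hV'.image U.ι.continuous
  exact this

/-- the trace on the open subscheme `U` of a closed subset of `X` contained in `Z`. -/
def clPre (U : X.Opens) (T : ZClos.Cl Z) :
    ZClos.Cl (X := (U : Scheme.{u})) (U.ι.base ⁻¹' Z) :=
  ⟨⟨U.ι.base ⁻¹' (T.1 : Set X), T.1.isClosed.preimage U.ι.continuous⟩, fun _ hy => T.2 hy⟩

theorem mem_clPre_U_iff (U : X.Opens) (T : ZClos.Cl Z) (y' : (U : Scheme.{u})) :
    y' ∈ (clPre Z U T).U ↔ y'.1 ∈ T.U := Iff.rfl

theorem image_inf_clPre (U : X.Opens) (V' : (U : Scheme.{u}).Opens) (T : ZClos.Cl Z) :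
    U.ι ''ᵁ (V' ⊓ (clPre Z U T).U) = U.ι ''ᵁ V' ⊓ T.U := by
  apply le_antisymm
  · intro y hy
    obtain ⟨hyU, hyV, hyT⟩ := (mem_image_iff U _ y).1 hy
    exact ⟨(mem_image_iff U V' y).2 ⟨hyU, hyV⟩, (mem_clPre_U_iff Z U T ⟨y, hyU⟩).1 hyT⟩
  · intro y hy
    obtain ⟨hyU, hyV'⟩ := (mem_image_iff U V' y).1 hy.1
    exact (mem_image_iff U _ y).2
      ⟨hyU, hyV', (mem_clPre_U_iff Z U T ⟨y, hyU⟩).2 hy.2⟩

/-- every closed subset of a compact open `V'` of `U` contained in `Z ∩ U` is the trace of a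
closed subset of `X` contained in `Z`, as far as `V'` is concerned. -/
theorem exists_cl_of_clPre (hZ : StableUnderSpecialization Z) (U : X.Opens)
    (T' : ZClos.Cl (X := (U : Scheme.{u})) (U.ι.base ⁻¹' Z)) (V' : (U : Scheme.{u}).Opens)
    (hV' : IsCompact (V' : Set (U : Scheme.{u}))) :
    ∃ T : ZClos.Cl Z, U.ι ''ᵁ V' ⊓ T.U ≤ U.ι ''ᵁ (V' ⊓ T'.U) := by
  have hW : IsCompact ((U.ι ''ᵁ V' : X.Opens) : Set X) := isCompact_image_ι U V' hV'
  have hSW : {y | ∃ hy : y ∈ U, (⟨y, hy⟩ : (U : Scheme.{u})) ∈ V' ∧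
      (⟨y, hy⟩ : (U : Scheme.{u})) ∈ (T'.1 : Set (U : Scheme.{u}))} ⊆
      ((U.ι ''ᵁ V' : X.Opens) : Set X) := by
    rintro y ⟨hyU, hyV', -⟩
    exact (mem_image_iff U V' y).2 ⟨hyU, hyV'⟩
  have hSZ : {y | ∃ hy : y ∈ U, (⟨y, hy⟩ : (U : Scheme.{u})) ∈ V' ∧
      (⟨y, hy⟩ : (U : Scheme.{u})) ∈ (T'.1 : Set (U : Scheme.{u}))} ⊆ Z := by
    rintro y ⟨hyU, -, hyT'⟩
    exact T'.2 hyT'
  have hS : IsClosed ((Subtype.val : ↥(U.ι ''ᵁ V') → X) ⁻¹'
      {y | ∃ hy : y ∈ U, (⟨y, hy⟩ : (U : Scheme.{u})) ∈ V' ∧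
        (⟨y, hy⟩ : (U : Scheme.{u})) ∈ (T'.1 : Set (U : Scheme.{u}))}) := by
    have hopen : IsOpen ((Subtype.val : ↥(U.ι ''ᵁ V') → X) ⁻¹'
        ((U.ι ''ᵁ (V' ⊓ T'.U) : X.Opens) : Set X)) :=
      (U.ι ''ᵁ (V' ⊓ T'.U)).isOpen.preimage continuous_subtype_val
    have heq : (Subtype.val : ↥(U.ι ''ᵁ V') → X) ⁻¹'
        {y | ∃ hy : y ∈ U, (⟨y, hy⟩ : (U : Scheme.{u})) ∈ V' ∧
          (⟨y, hy⟩ : (U : Scheme.{u})) ∈ (T'.1 : Set (U : Scheme.{u}))} =
        ((Subtype.val : ↥(U.ι ''ᵁ V') → X) ⁻¹'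
          ((U.ι ''ᵁ (V' ⊓ T'.U) : X.Opens) : Set X))ᶜ := by
      ext w
      constructor
      · rintro ⟨hwU, hwV', hwT'⟩ hmem
        obtain ⟨hwU', hmem'⟩ := (mem_image_iff U _ w.1).1 hmem
        exact hmem'.2 hwT'
      · intro hnot
        obtain ⟨hwU, hwV'⟩ := (mem_image_iff U V' w.1).1 w.2
        refine ⟨hwU, hwV', ?_⟩
        by_contra hwT'
        exact hnot ((mem_image_iff U _ w.1).2 ⟨hwU, hwV', hwT'⟩)
    rw [heq]
    exact hopen.isClosed_compl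
  obtain ⟨T, hT⟩ := exists_cl_of_closed_in_compact Z hZ (U.ι ''ᵁ V') hW _ hSW hSZ hS
  refine ⟨T, ?_⟩
  intro y hy
  obtain ⟨hyU, hyV'⟩ := (mem_image_iff U V' y).1 hy.1
  refine (mem_image_iff U _ y).2 ⟨hyU, hyV', ?_⟩
  intro hyT'
  exact hy.2 (hT ⟨hyU, hyV', hyT'⟩)

theorem pureOn_of_isZPure_restrict (U : X.Opens)
    (h : ZClos.IsZPure (U.ι.base ⁻¹' Z) ((Scheme.Modules.restrictFunctor U.ι).obj F)) :
    PureOn Z F U := by
  intro T O hO hOU
  have h1 := (isZPure_iff (U.ι.base ⁻¹' Z) ((Scheme.Modules.restrictFunctor U.ι).obj F)).1 h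
    (clPre Z U T) (U.ι ⁻¹ᵁ O) (isCompact_preimage_ι U O hO hOU)
  have h2 : Function.Injective (F.presheaf.map (homOfLE (U.ι.image_mono
      (inf_le_left : U.ι ⁻¹ᵁ O ⊓ (clPre Z U T).U ≤ U.ι ⁻¹ᵁ O))).op) := h1
  have hA : U.ι ''ᵁ (U.ι ⁻¹ᵁ O) = O := image_preimage_of_le U O hOU
  have hB : U.ι ''ᵁ (U.ι ⁻¹ᵁ O ⊓ (clPre Z U T).U) = O ⊓ T.U := by
    rw [image_inf_clPre, hA]
  exact (injective_map_congr₂ F hA hB inf_le_left _).1 h2

theorem closedOn_of_isZClosed_restrict (U : X.Opens)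
    (h : ZClos.IsZClosed (U.ι.base ⁻¹' Z) ((Scheme.Modules.restrictFunctor U.ι).obj F)) :
    ClosedOn Z F U := by
  intro T O hO hOU
  have h1 := (isZClosed_iff (U.ι.base ⁻¹' Z) ((Scheme.Modules.restrictFunctor U.ι).obj F)).1 h
    (clPre Z U T) (U.ι ⁻¹ᵁ O) (isCompact_preimage_ι U O hO hOU)
  have h2 : Function.Bijective (F.presheaf.map (homOfLE (U.ι.image_mono
      (inf_le_left : U.ι ⁻¹ᵁ O ⊓ (clPre Z U T).U ≤ U.ι ⁻¹ᵁ O))).op) := h1
  have hA : U.ι ''ᵁ (U.ι ⁻¹ᵁ O) = O := image_preimage_of_le U O hOU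
  have hB : U.ι ''ᵁ (U.ι ⁻¹ᵁ O ⊓ (clPre Z U T).U) = O ⊓ T.U := by
    rw [image_inf_clPre, hA]
  exact (bijective_map_congr₂ F hA hB inf_le_left _).1 h2

theorem isZPure_restrict_of_pureOn (hZ : StableUnderSpecialization Z) (U : X.Opens)
    (h : PureOn Z F U) :
    ZClos.IsZPure (U.ι.base ⁻¹' Z) ((Scheme.Modules.restrictFunctor U.ι).obj F) := by
  refine (isZPure_iff (U.ι.base ⁻¹' Z) ((Scheme.Modules.restrictFunctor U.ι).obj F)).2 ?_
  intro T' V' hV'
  obtain ⟨T, hT⟩ := exists_cl_of_clPre Z hZ U T' V' hV'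
  have hA : IsCompact ((U.ι ''ᵁ V' : X.Opens) : Set X) := isCompact_image_ι U V' hV'
  have hBA : U.ι ''ᵁ (V' ⊓ T'.U) ≤ U.ι ''ᵁ V' := U.ι.image_mono inf_le_left
  have h1 : Function.Injective (F.presheaf.map (homOfLE (hT.trans hBA)).op) :=
    h T (U.ι ''ᵁ V') hA (image_le U V')
  have h3 : Function.Injective (F.presheaf.map (homOfLE hBA).op) :=
    injective_of_comp F hBA hT h1
  exact h3

theorem isZClosed_restrict_of_closedOn (hZ : StableUnderSpecialization Z) (U : X.Opens)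
    (h : ClosedOn Z F U) :
    ZClos.IsZClosed (U.ι.base ⁻¹' Z) ((Scheme.Modules.restrictFunctor U.ι).obj F) := by
  refine (isZClosed_iff (U.ι.base ⁻¹' Z) ((Scheme.Modules.restrictFunctor U.ι).obj F)).2 ?_
  intro T' V' hV'
  obtain ⟨T, hT⟩ := exists_cl_of_clPre Z hZ U T' V' hV'
  have hA : IsCompact ((U.ι ''ᵁ V' : X.Opens) : Set X) := isCompact_image_ι U V' hV'
  have hAU : U.ι ''ᵁ V' ≤ U := image_le U V'
  have hBA : U.ι ''ᵁ (V' ⊓ T'.U) ≤ U.ι ''ᵁ V' := U.ι.image_mono inf_le_left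
  have hB : IsCompact ((U.ι ''ᵁ (V' ⊓ T'.U) : X.Opens) : Set X) := isCompact_of_le hA hBA
  have hCeq : U.ι ''ᵁ (V' ⊓ T'.U) ⊓ T.U = U.ι ''ᵁ V' ⊓ T.U :=
    le_antisymm (inf_le_inf_right _ hBA) (le_inf hT inf_le_right)
  have h1 : Function.Bijective (F.presheaf.map (homOfLE (hT.trans hBA)).op) :=
    h T (U.ι ''ᵁ V') hA hAU
  have h2 : Function.Bijective (F.presheaf.map (homOfLE hT).op) :=
    (bijective_map_congr F hCeq hT inf_le_left).1
      (h T (U.ι ''ᵁ (V' ⊓ T'.U)) hB (hBA.trans hAU))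
  have h3 : Function.Bijective (F.presheaf.map (homOfLE hBA).op) :=
    bijective_of_comp F hBA hT h1 h2
  exact h3

theorem isZPure_restrict_iff (hZ : StableUnderSpecialization Z) (U : X.Opens) :
    ZClos.IsZPure (U.ι.base ⁻¹' Z) ((Scheme.Modules.restrictFunctor U.ι).obj F) ↔
      PureOn Z F U :=
  ⟨pureOn_of_isZPure_restrict Z F U, isZPure_restrict_of_pureOn Z F hZ U⟩

theorem isZClosed_restrict_iff (hZ : StableUnderSpecialization Z) (U : X.Opens) :
    ZClos.IsZClosed (U.ι.base ⁻¹' Z) ((Scheme.Modules.restrictFunctor U.ι).obj F) ↔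
      ClosedOn Z F U :=
  ⟨closedOn_of_isZClosed_restrict Z F U, isZClosed_restrict_of_closedOn Z F hZ U⟩

/-! ### Stalks of `ρ` -/

/-- where `ρ` is bijective on stalks, `F` is Z-closed. -/
theorem closedOn_of_stalk_bijective (U : X.Opens)
    (hU : ∀ x ∈ U, Function.Bijective (stalkMap (ZClos.rhoApp Z F) x)) : ClosedOn Z F U := by
  intro T O hO hOU
  have hφ : ∀ O₁ : X.Opens, O₁ ≤ U → Function.Bijective ((ZClos.rhoApp Z F).app O₁) :=
    fun O₁ h => TopCat.Presheaf.app_bijective_of_stalkFunctor_map_bijective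
      (F := ⟨F.presheaf, F.isSheaf⟩)
      (G := ⟨((ZClos.H0 Z).obj F).presheaf, ((ZClos.H0 Z).obj F).isSheaf⟩)
      ⟨(ZClos.rhoApp Z F).mapPresheaf⟩ O₁ (fun x hx => hU x (h hx))
  have hH := (isZClosed_iff Z ((ZClos.H0 Z).obj F)).1 (isZClosed_H0 Z F) T O hO
  have hsq : ∀ t : Γ(F, O), (ZClos.rhoApp Z F).app (O ⊓ T.U)
      (F.presheaf.map (homOfLE (inf_le_left : O ⊓ T.U ≤ O)).op t) =
      ((ZClos.H0 Z).obj F).presheaf.map (homOfLE (inf_le_left : O ⊓ T.U ≤ O)).op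
        ((ZClos.rhoApp Z F).app O t) :=
    fun t => app_map (ZClos.rhoApp Z F) inf_le_left t
  have hA := hφ O hOU
  have hB := hφ (O ⊓ T.U) (inf_le_left.trans hOU)
  constructor
  · intro t t' htt
    apply hA.1
    apply hH.1
    exact (hsq t).symm.trans
      ((congrArg (fun z => (ZClos.rhoApp Z F).app (O ⊓ T.U) z) htt).trans (hsq t'))
  · intro b
    obtain ⟨a', ha'⟩ := hH.2 ((ZClos.rhoApp Z F).app (O ⊓ T.U) b)
    obtain ⟨a, ha⟩ := hA.2 a'
    refine ⟨a, hB.1 ?_⟩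
    refine (hsq a).trans ?_
    rw [ha]
    exact ha'

/-- where `F` is Z-closed, `ρ` is bijective on stalks. -/
theorem stalk_bijective_of_closedOn (V : X.Opens) (h : ClosedOn Z F V) (x : X) (hx : x ∈ V) :
    Function.Bijective (stalkMap (ZClos.rhoApp Z F) x) := by
  constructor
  · refine (injective_iff_map_eq_zero (stalkMap (ZClos.rhoApp Z F) x).hom).2 ?_
    intro m hm
    have hm' : stalkMap (ZClos.rhoApp Z F) x m = 0 := hm
    obtain ⟨N₀, hxN₀, -, s₀, rfl⟩ :=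
      TopCat.Presheaf.exists_mem_germ_eq_of_isBasis isBasis_compact F.presheaf x m
    have h1 : ((ZClos.H0 Z).obj F).presheaf.germ N₀ x hxN₀ ((ZClos.rhoApp Z F).app N₀ s₀) =
        ((ZClos.H0 Z).obj F).presheaf.germ N₀ x hxN₀ 0 :=
      ((stalkMap_germ (ZClos.rhoApp Z F) x N₀ hxN₀ s₀).symm.trans hm').trans (map_zero _).symm
    obtain ⟨W, hxW, iW, iW', hW⟩ :=
      TopCat.Presheaf.germ_eq ((ZClos.H0 Z).obj F).presheaf x hxN₀ hxN₀ _ _ h1
    obtain ⟨N, hN, hxN, hNle⟩ := exists_compact_nhd (W ⊓ V) x ⟨hxW, hx⟩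
    have hNW : N ≤ W := hNle.trans inf_le_left
    have hNN₀ : N ≤ N₀ := hNW.trans iW.le
    have hNV : N ≤ V := hNle.trans inf_le_right
    have h2 : (ZClos.rhoApp Z F).app N (F.presheaf.map (homOfLE hNN₀).op s₀) = 0 := by
      rw [app_map (ZClos.rhoApp Z F) hNN₀ s₀,
        ← map_map_eq ((ZClos.H0 Z).obj F) iW.op (homOfLE hNW).op (homOfLE hNN₀).op, hW,
        map_zero, map_zero]
    obtain ⟨T, hT⟩ := exists_of_rho_eq_zero Z F N hN _ h2
    have h3 : F.presheaf.map (homOfLE hNN₀).op s₀ = 0 := by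
      apply (h T N hN hNV).1
      rw [hT, map_zero]
    exact (TopCat.Presheaf.germ_res_apply F.presheaf (homOfLE hNN₀) x hxN s₀).symm.trans
      ((congrArg (fun z => F.presheaf.germ N x hxN z) h3).trans (map_zero _))
  · intro g
    obtain ⟨N₀, hxN₀, -, a₀, rfl⟩ :=
      TopCat.Presheaf.exists_mem_germ_eq_of_isBasis isBasis_compact
        ((ZClos.H0 Z).obj F).presheaf x g
    obtain ⟨N, hN, hxN, hNle⟩ := exists_compact_nhd (N₀ ⊓ V) x ⟨hxN₀, hx⟩
    have hNN₀ : N ≤ N₀ := hNle.trans inf_le_left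
    have hNV : N ≤ V := hNle.trans inf_le_right
    obtain ⟨T, t, ht⟩ := exists_rep Z F N hN
      (((ZClos.H0 Z).obj F).presheaf.map (homOfLE hNN₀).op a₀)
    obtain ⟨s, hs⟩ := (h T N hN hNV).2 t
    refine ⟨F.presheaf.germ N x hxN s, ?_⟩
    refine (stalkMap_germ (ZClos.rhoApp Z F) x N hxN s).trans ?_
    have e : (ZClos.rhoApp Z F).app N s =
        ((ZClos.H0 Z).obj F).presheaf.map (homOfLE hNN₀).op a₀ := by
      rw [rho_eq Z F T N s, hs, ht]
    rw [e]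
    exact TopCat.Presheaf.germ_res_apply ((ZClos.H0 Z).obj F).presheaf (homOfLE hNN₀) x hxN a₀

end OpenSub

end Groth.Agent.Lead.ZClos1
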