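import Mathlib
import Groth.Prelude
import Groth.Agent.Lib.Lead.PC3
import Groth.Agent.Lib.Lead.ZClos13
import Groth.Agent.Lib.Helper13.FinAffine2
import Groth.Agent.Lib.Helper13.LocFree

/-!
# The Z-closure of `M~` on `Spec A`: module structures and sections (lead)
-/

set_option autoImplicit false
set_option linter.style.haveILetI false
set_option linter.unusedSectionVars false

universe u

open AlgebraicGeometry CategoryTheory CategoryTheory.Limits Opposite TopologicalSpace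
open Groth.Agent.Lead.ZP Groth.Agent.Lead.ZClos1
open Groth.Agent.Helper13.QCoh

namespace Groth.Agent.Lead.PC

section ModA

variable {A : Type u} [CommRing A]

/-- the `A`-module structure on sections of a sheaf of modules over `Spec A` (Mathlib's, restated
for a bare ring `A`). -/
noncomputable instance instModA (G : (Spec (CommRingCat.of A)).Modules)
    (W : (Spec (CommRingCat.of A)).Opens) : Module A Γ(G, W) :=
  Scheme.Modules.instModuleCarrierCarrierObjOppositeOpensCarrierCarrierCommRingCatSpecAbPresheafOp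
    (R := CommRingCat.of A) (M := G) (U := W)

theorem map_smulA (G : (Spec (CommRingCat.of A)).Modules) {U V : (Spec (CommRingCat.of A)).Opens}
    (i : op V ⟶ op U) (r : A) (x : Γ(G, V)) :
    G.presheaf.map i (r • x) = r • G.presheaf.map i x :=
  Scheme.Modules.map_smul_Spec (R := CommRingCat.of A) (M := G) i r x

theorem app_smulA {G H : (Spec (CommRingCat.of A)).Modules} (φ : G ⟶ H)
    (U : (Spec (CommRingCat.of A)).Opens) (r : A) (x : Γ(G, U)) :
    φ.app U (r • x) = r • φ.app U x :=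
  ((modulesSpecToSheaf.map φ).1.app (op U)).hom.map_smul r x

/-- the linear map on sections induced by a morphism of modules over `Spec A`. -/
noncomputable def appL {G H : (Spec (CommRingCat.of A)).Modules} (φ : G ⟶ H)
    (U : (Spec (CommRingCat.of A)).Opens) : Γ(G, U) →ₗ[A] Γ(H, U) where
  toFun := φ.app U
  map_add' a b := map_add _ a b
  map_smul' r a := app_smulA φ U r a

theorem appL_apply {G H : (Spec (CommRingCat.of A)).Modules} (φ : G ⟶ H)
    (U : (Spec (CommRingCat.of A)).Opens) (x : Γ(G, U)) : appL φ U x = φ.app U x := rfl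

/-- a section of `j_*(F|U)` over `V` viewed as such. -/
def toP (F : (Spec (CommRingCat.of A)).Modules) (U V : (Spec (CommRingCat.of A)).Opens)
    (x : Γ(F, U.ι ''ᵁ U.ι ⁻¹ᵁ V)) : Γ((ZClos.resPush U).obj F, V) := x

/-- the two `A`-module structures on the sections of `j_*(F|U)` agree, over opens inside `U`. -/
theorem resPush_smul_of_le (F : (Spec (CommRingCat.of A)).Modules)
    (U V' : (Spec (CommRingCat.of A)).Opens) (hV' : V' ≤ U) (r : A)
    (y : Γ(F, U.ι ''ᵁ U.ι ⁻¹ᵁ V')) :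
    toP F U V' (r • y) = r • toP F U V' y := by
  have hI : U.ι ''ᵁ U.ι ⁻¹ᵁ V' = V' := by
    rw [ZClos.ι_image_preimage]
    exact inf_eq_right.mpr hV'
  have hη : ∀ z : Γ(F, V'),
      ((ZClos.resPushUnit U).app F).app V' z =
        toP F U V' (F.presheaf.map (homOfLE (U.ι.image_preimage_le V')).op z) :=
    fun z => rfl
  let z : Γ(F, V') := F.presheaf.map (homOfLE (le_of_eq hI.symm)).op y
  have hz : F.presheaf.map (homOfLE (U.ι.image_preimage_le V')).op z = y := by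
    show F.presheaf.map _ (F.presheaf.map _ y) = y
    rw [map_map_eq F _ _ (𝟙 _) y, map_id_apply' F _ y]
  have e3 : ((ZClos.resPushUnit U).app F).app V' (r • z) =
      r • ((ZClos.resPushUnit U).app F).app V' z :=
    app_smulA ((ZClos.resPushUnit U).app F) V' r z
  have e4 : F.presheaf.map (homOfLE (U.ι.image_preimage_le V')).op (r • z) =
      r • F.presheaf.map (homOfLE (U.ι.image_preimage_le V')).op z :=
    map_smulA F (homOfLE (U.ι.image_preimage_le V')).op r z
  rw [hη, hη, e4, hz] at e3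
  exact e3

/-- the two `A`-module structures on the sections of `j_*(F|U)` agree. -/
theorem resPush_smul (F : (Spec (CommRingCat.of A)).Modules)
    (U V : (Spec (CommRingCat.of A)).Opens) (r : A) (x : Γ(F, U.ι ''ᵁ U.ι ⁻¹ᵁ V)) :
    toP F U V (r • x) = r • toP F U V x := by
  have hV'V : U.ι ''ᵁ U.ι ⁻¹ᵁ V ≤ V := U.ι.image_preimage_le V
  have hV'U : U.ι ''ᵁ U.ι ⁻¹ᵁ V ≤ U := by
    rw [ZClos.ι_image_preimage]
    exact inf_le_left
  have hI : U.ι ''ᵁ U.ι ⁻¹ᵁ (U.ι ''ᵁ U.ι ⁻¹ᵁ V) = U.ι ''ᵁ U.ι ⁻¹ᵁ V := by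
    rw [ZClos.ι_image_preimage U (U.ι ''ᵁ U.ι ⁻¹ᵁ V)]
    exact inf_eq_right.mpr hV'U
  -- the restriction map of `P = j_*(F|U)` from `V` to `V' = U ∩ V`
  let j : (U.ι ''ᵁ U.ι ⁻¹ᵁ (U.ι ''ᵁ U.ι ⁻¹ᵁ V)) ⟶ (U.ι ''ᵁ U.ι ⁻¹ᵁ V) :=
    U.ι.opensFunctor.map ((Opens.map U.ι.base).map (homOfLE hV'V))
  have hρ : ∀ y : Γ(F, U.ι ''ᵁ U.ι ⁻¹ᵁ V),
      ((ZClos.resPush U).obj F).presheaf.map (homOfLE hV'V).op (toP F U V y) =
        toP F U (U.ι ''ᵁ U.ι ⁻¹ᵁ V) (F.presheaf.map j.op y) :=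
    fun y => rfl
  have hρinj : Function.Injective
      (((ZClos.resPush U).obj F).presheaf.map (homOfLE hV'V).op) := by
    have key : ∀ a b : Γ(F, U.ι ''ᵁ U.ι ⁻¹ᵁ V),
        F.presheaf.map j.op a = F.presheaf.map j.op b → a = b := by
      intro a b hab'
      have h1 := congrArg (F.presheaf.map (homOfLE (le_of_eq hI.symm)).op) hab'
      rw [map_map_eq F _ _ (𝟙 _) a, map_map_eq F _ _ (𝟙 _) b, map_id_apply' F _ a,
        map_id_apply' F _ b] at h1
      exact h1
    intro a b hab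
    exact key a b hab
  apply hρinj
  have e1 : F.presheaf.map j.op (r • x) = r • F.presheaf.map j.op x := map_smulA F j.op r x
  have e2 := map_smulA ((ZClos.resPush U).obj F) (homOfLE hV'V).op r (toP F U V x)
  rw [e2, hρ, hρ, e1]
  exact resPush_smul_of_le F U _ hV'U r _

end ModA

section Sigma

variable {A : Type u} [CommRing A] [IsNoetherianRing A]

instance instLocNoeth : IsLocallyNoetherian (Spec (CommRingCat.of A)) :=
  inferInstanceAs (IsLocallyNoetherian (Spec (CommRingCat.of A)))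

variable (Z : Set (Spec (CommRingCat.of A)))

theorem σ_smulA (G : (Spec (CommRingCat.of A)).Modules) (T : ZClos.Cl Z)
    (V : (Spec (CommRingCat.of A)).Opens) (r : A) (t : Γ(G, V ⊓ T.U)) :
    σ Z G T V (r • t) = r • σ Z G T V t := by
  rw [σ_apply, σ_apply, map_smulA]
  have h1 := resPush_smul G T.U V r (G.presheaf.map (homOfLE (le_of_eq (img_eq Z T V))).op t)
  have h2 := app_smulA (colimit.ι ((ZClos.diagram Z).obj G) T) V r
    (toP G T.U V (G.presheaf.map (homOfLE (le_of_eq (img_eq Z T V))).op t))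
  exact (congrArg (injV Z G T V) h1).trans h2

/-- the colimit injection on sections as an `A`-linear map. -/
noncomputable def σL (G : (Spec (CommRingCat.of A)).Modules) (T : ZClos.Cl Z)
    (V : (Spec (CommRingCat.of A)).Opens) :
    Γ(G, V ⊓ T.U) →ₗ[A] Γ((ZClos.H0 Z).obj G, V) where
  toFun := σ Z G T V
  map_add' a b := map_add _ a b
  map_smul' r a := σ_smulA Z G T V r a

theorem σL_apply (G : (Spec (CommRingCat.of A)).Modules) (T : ZClos.Cl Z)
    (V : (Spec (CommRingCat.of A)).Opens) (t : Γ(G, V ⊓ T.U)) : σL Z G T V t = σ Z G T V t := rfl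

/-- functoriality of the Z-closure on the colimit injections. -/
theorem H0map_σ {F G : (Spec (CommRingCat.of A)).Modules} (φ : F ⟶ G) (T : ZClos.Cl Z)
    (V : (Spec (CommRingCat.of A)).Opens) (t : Γ(F, V ⊓ T.U)) :
    ((ZClos.H0 Z).map φ).app V (σ Z F T V t) = σ Z G T V (φ.app (V ⊓ T.U) t) := by
  rw [σ_apply, σ_apply, ← app_map' φ]
  have h : colimit.ι ((ZClos.diagram Z).obj F) T ≫ (ZClos.H0 Z).map φ =
      ((ZClos.diagram Z).map φ).app T ≫ colimit.ι ((ZClos.diagram Z).obj G) T :=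
    ι_colimMap _ _
  exact congrArg (fun ψ : (ZClos.resPush T.U).obj F ⟶ (ZClos.H0 Z).obj G =>
    ψ.app V (F.presheaf.map (homOfLE (le_of_eq (img_eq Z T V))).op t)) h

theorem isCompact_top' : IsCompact (((⊤ : (Spec (CommRingCat.of A)).Opens)) :
    Set (Spec (CommRingCat.of A))) := isCompact_univ

/-- every global section of the Z-closure comes from a section over the complement of some
closed subset inside `Z`. -/
theorem exists_rep_top (G : (Spec (CommRingCat.of A)).Modules)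
    (s : Γ((ZClos.H0 Z).obj G, ⊤)) :
    ∃ (T : ZClos.Cl Z) (t : Γ(G, ⊤ ⊓ T.U)), σ Z G T ⊤ t = s :=
  exists_rep Z G ⊤ isCompact_top' s

/-- restriction between the complements -/
noncomputable def rs (G : (Spec (CommRingCat.of A)).Modules) {T T' : ZClos.Cl Z} (h : T ≤ T') :
    Γ(G, ⊤ ⊓ T.U) →ₗ[A] Γ(G, ⊤ ⊓ T'.U) where
  toFun := G.presheaf.map (homOfLE (inf_le_inf_left ⊤ (ZClos.Cl.U_anti h))).op
  map_add' a b := map_add _ a b
  map_smul' r a := map_smulA G _ r a

theorem σ_rs (G : (Spec (CommRingCat.of A)).Modules) {T T' : ZClos.Cl Z} (h : T ≤ T')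
    (t : Γ(G, ⊤ ⊓ T.U)) : σ Z G T' ⊤ (rs Z G h t) = σ Z G T ⊤ t :=
  σ_index Z G h ⊤ t

theorem exists_rs_eq_zero (G : (Spec (CommRingCat.of A)).Modules) (T : ZClos.Cl Z)
    (t : Γ(G, ⊤ ⊓ T.U)) (h : σ Z G T ⊤ t = 0) :
    ∃ (T' : ZClos.Cl Z) (hTT' : T ≤ T'), rs Z G hTT' t = 0 :=
  exists_of_σ_eq_zero Z G ⊤ isCompact_top' T t h

theorem rs_app {F G : (Spec (CommRingCat.of A)).Modules} (φ : F ⟶ G) {T T' : ZClos.Cl Z}
    (h : T ≤ T') (t : Γ(F, ⊤ ⊓ T.U)) :
    φ.app (⊤ ⊓ T'.U) (rs Z F h t) = rs Z G h (φ.app (⊤ ⊓ T.U) t) :=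
  app_map φ _ t

/-- two sections with the same image in the Z-closure agree over some smaller complement. -/
theorem exists_rs_eq (G : (Spec (CommRingCat.of A)).Modules) (T₁ T₂ : ZClos.Cl Z)
    (t₁ : Γ(G, ⊤ ⊓ T₁.U)) (t₂ : Γ(G, ⊤ ⊓ T₂.U)) (h : σ Z G T₁ ⊤ t₁ = σ Z G T₂ ⊤ t₂) :
    ∃ (T' : ZClos.Cl Z) (h₁ : T₁ ≤ T') (h₂ : T₂ ≤ T'), rs Z G h₁ t₁ = rs Z G h₂ t₂ := by
  have h1 : σ Z G (T₁ ⊔ T₂) ⊤ (rs Z G le_sup_left t₁ - rs Z G le_sup_right t₂) = 0 := by
    rw [map_sub, σ_rs, σ_rs, h, sub_self]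
  obtain ⟨T', hT', h2⟩ := exists_rs_eq_zero Z G _ _ h1
  refine ⟨T', le_sup_left.trans hT', le_sup_right.trans hT', ?_⟩
  rw [map_sub, sub_eq_zero] at h2
  have e1 : rs Z G hT' (rs Z G le_sup_left t₁) = rs Z G (le_sup_left.trans hT') t₁ :=
    map_map_eq G _ _ _ t₁
  have e2 : rs Z G hT' (rs Z G le_sup_right t₂) = rs Z G (le_sup_right.trans hT') t₂ :=
    map_map_eq G _ _ _ t₂
  rw [← e1, ← e2]
  exact h2

end Sigma

section Tilde

variable {A : Type u} [CommRing A]
variable {M N M₁ M₂ : Type u} [AddCommGroup M] [Module A M] [AddCommGroup N] [Module A N]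
  [AddCommGroup M₁] [Module A M₁] [AddCommGroup M₂] [Module A M₂]

/-- a section of `M~` in the concrete model. -/
def toSec (W : (Spec (CommRingCat.of A)).Opens) (t : Γ(EGA4.tildeOf A M, W)) : Sec A M W := t

/-- a concrete section as a section of `M~`. -/
def ofSec (W : (Spec (CommRingCat.of A)).Opens) (t : Sec A M W) : Γ(EGA4.tildeOf A M, W) := t

theorem toSec_smul (W : (Spec (CommRingCat.of A)).Opens) (r : A) (t : Γ(EGA4.tildeOf A M, W)) :
    toSec W (r • t) = r • toSec W t :=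
  IsScalarTower.algebraMap_smul (M := ((structureSheafInType A M).obj.obj (op W)))
      ((structureSheafInType A A).obj.obj (op W)) r (toSec W t)

/-- sections of `M~` are the concrete sections, `A`-linearly. -/
noncomputable def secEquiv (W : (Spec (CommRingCat.of A)).Opens) :
    Γ(EGA4.tildeOf A M, W) ≃ₗ[A] Sec A M W where
  toFun := toSec W
  invFun := ofSec W
  map_add' _ _ := rfl
  map_smul' r t := toSec_smul W r t
  left_inv _ := rfl
  right_inv _ := rfl

theorem toSec_res {W W' : (Spec (CommRingCat.of A)).Opens} (h : W' ≤ W)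
    (t : Γ(EGA4.tildeOf A M, W)) :
    toSec W' ((EGA4.tildeOf A M).presheaf.map (homOfLE h).op t) = secRes h (toSec W t) := rfl

/-- the morphism of sheaves of modules induced by a linear map -/
noncomputable def tmap (f : M →ₗ[A] N) : EGA4.tildeOf A M ⟶ EGA4.tildeOf A N :=
  tilde.map (ModuleCat.ofHom f)

theorem comapFun_eq_map (f : M →ₗ[A] N) (x : PrimeSpectrum.Top A)
    (z : LocalizedModule x.asIdeal.primeCompl M) :
    StructureSheaf.Localizations.comapFun (σ := RingHom.id A) f x z =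
      LocalizedModule.map x.asIdeal.primeCompl f z := by
  induction z using LocalizedModule.induction_on with
  | h m b =>
    rw [LocalizedModule.map_mk]
    exact StructureSheaf.Localizations.comapFun_mk (σ := RingHom.id A) f x m b

theorem tmap_app (f : M →ₗ[A] N) (W : (Spec (CommRingCat.of A)).Opens)
    (t : Γ(EGA4.tildeOf A M, W)) :
    toSec W ((tmap f).app W t) = secMap f W (toSec W t) := by
  apply Subtype.ext
  funext x
  exact comapFun_eq_map f x.1 (t.1 x)

end Tilde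

section DevH0

variable {A : Type u} [CommRing A] [IsNoetherianRing A] (Z : Set (PrimeSpectrum A))
variable {M N M₁ M₂ : Type u} [AddCommGroup M] [Module A M] [AddCommGroup N] [Module A N]
  [AddCommGroup M₁] [Module A M₁] [AddCommGroup M₂] [Module A M₂]

/-- global sections of the Z-closure of `M~`. -/
noncomputable abbrev GH (Z : Set (PrimeSpectrum A)) (M : Type u) [AddCommGroup M] [Module A M] :=
  Γ((ZClos.H0 (X := Spec (CommRingCat.of A)) Z).obj (EGA4.tildeOf A M), ⊤)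

/-- the map induced on global sections of the Z-closures. -/
noncomputable def Φ (f : M →ₗ[A] N) : GH Z M →ₗ[A] GH Z N :=
  appL ((ZClos.H0 (X := Spec (CommRingCat.of A)) Z).map (tmap f)) ⊤

theorem Φ_σ (f : M →ₗ[A] N) (T : ZClos.Cl (X := Spec (CommRingCat.of A)) Z)
    (t : Γ(EGA4.tildeOf A M, ⊤ ⊓ T.U)) :
    Φ Z f (σ Z (EGA4.tildeOf A M) T ⊤ t) =
      σ Z (EGA4.tildeOf A N) T ⊤ ((tmap f).app (⊤ ⊓ T.U) t) :=
  H0map_σ Z (tmap f) T ⊤ t

theorem toSec_eq_zero_iff (W : (Spec (CommRingCat.of A)).Opens) (t : Γ(EGA4.tildeOf A M, W)) :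
    toSec W t = 0 ↔ t = 0 :=
  (secEquiv (M := M) W).map_eq_zero_iff

theorem tmap_app_injective (f : M →ₗ[A] N) (hf : Function.Injective f)
    (W : (Spec (CommRingCat.of A)).Opens) : Function.Injective ((tmap f).app W) := by
  intro a b hab
  have h1 : secMap f W (toSec W a) = secMap f W (toSec W b) := by
    rw [← tmap_app, ← tmap_app, hab]
  exact (secEquiv (M := M) W).injective (secMap_injective f hf W h1)

theorem Φ_injective (f : M →ₗ[A] N) (hf : Function.Injective f) :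
    Function.Injective (Φ Z f) := by
  rw [← LinearMap.ker_eq_bot, LinearMap.ker_eq_bot']
  intro s hs
  obtain ⟨T, t, rfl⟩ := exists_rep_top Z _ s
  rw [Φ_σ] at hs
  obtain ⟨T', hTT', h0⟩ := exists_rs_eq_zero Z _ T _ hs
  rw [← rs_app] at h0
  have h1 : rs Z _ hTT' t = 0 :=
    tmap_app_injective f hf _ (h0.trans (map_zero _).symm)
  rw [← σ_rs Z _ hTT' t, h1, map_zero]

theorem Φ_range_eq_ker (f : M₁ →ₗ[A] M) (g : M →ₗ[A] M₂) (hf : Function.Injective f)
    (hfg : Function.Exact f g) : LinearMap.range (Φ Z f) = LinearMap.ker (Φ Z g) := by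
  ext s
  constructor
  · rintro ⟨s₁, rfl⟩
    obtain ⟨T, t₁, rfl⟩ := exists_rep_top Z _ s₁
    rw [LinearMap.mem_ker, Φ_σ, Φ_σ]
    have h0 : (tmap g).app (⊤ ⊓ T.U) ((tmap f).app (⊤ ⊓ T.U) t₁) = 0 := by
      rw [← toSec_eq_zero_iff, tmap_app, tmap_app]
      exact secMap_comp_eq_zero f g hfg _ _
    rw [h0, map_zero]
  · intro hs
    rw [LinearMap.mem_ker] at hs
    obtain ⟨T, t, rfl⟩ := exists_rep_top Z _ s
    rw [Φ_σ] at hs
    obtain ⟨T', hTT', h0⟩ := exists_rs_eq_zero Z _ T _ hs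
    rw [← rs_app] at h0
    have h1 : secMap g _ (toSec _ (rs Z _ hTT' t)) = 0 := by
      rw [← tmap_app, h0]
      rfl
    obtain ⟨t₁, ht₁⟩ := secMap_exact f g hf hfg _ _ h1
    refine ⟨σ Z _ T' ⊤ (ofSec _ t₁), ?_⟩
    rw [Φ_σ, ← σ_rs Z _ hTT' t]
    refine congrArg _ ?_
    apply (secEquiv (M := M) _).injective
    exact (tmap_app f _ (ofSec _ t₁)).trans ht₁

/-- finiteness of the global sections of the Z-closure is a dévissage predicate. -/
theorem dev_H0 : Dev (A := A) (fun M _ _ => Module.Finite A (GH Z M)) where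
  zero M _ _ _ := by
    haveI : Subsingleton (GH Z M) := by
      refine ⟨fun a b => ?_⟩
      suffices h : ∀ s : GH Z M, s = 0 by rw [h a, h b]
      intro s
      obtain ⟨T, t, rfl⟩ := exists_rep_top Z _ s
      haveI : Subsingleton (Sec A M (⊤ ⊓ T.U : (Spec (CommRingCat.of A)).Opens)) :=
        sec_subsingleton _ (fun x => subsingleton_localizedModule_of_subsingleton _)
      have ht : t = 0 := (secEquiv (M := M) _).injective (Subsingleton.elim _ _)
      rw [ht, map_zero]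
    exact finite_of_subsingleton'
  sub M₁ M _ _ _ _ _ f hf h := by
    haveI := h
    haveI : IsNoetherian A (GH Z M) := isNoetherian_of_isNoetherianRing_of_finite A _
    exact Module.Finite.of_injective (Φ Z f) (Φ_injective Z f hf)
  ext M₁ M M₂ _ _ _ _ _ _ _ f g hf hfg h₁ h₂ := by
    haveI := h₁
    haveI := h₂
    haveI : IsNoetherian A (GH Z M₁) := isNoetherian_of_isNoetherianRing_of_finite A _
    haveI : IsNoetherian A (GH Z M₂) := isNoetherian_of_isNoetherianRing_of_finite A _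
    haveI : IsNoetherian A (GH Z M) :=
      isNoetherian_of_range_eq_ker (Φ Z f) (Φ Z g) (Φ_range_eq_ker Z f g hf hfg)
    exact Module.IsNoetherian.finite A _

end DevH0

section Base

variable {A : Type u} [CommRing A] [IsNoetherianRing A] (Z : Set (PrimeSpectrum A))

/-- the closed set `V(J)` as a member of the index of the Z-closure. -/
def clJ (J : Ideal A) (h : PrimeSpectrum.zeroLocus (J : Set A) ⊆ Z) :
    ZClos.Cl (X := Spec (CommRingCat.of A)) Z :=
  ⟨⟨PrimeSpectrum.zeroLocus (J : Set A), PrimeSpectrum.isClosed_zeroLocus _⟩, h⟩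

theorem mem_clJ_U_iff (J : Ideal A) (h : PrimeSpectrum.zeroLocus (J : Set A) ⊆ Z)
    (x : PrimeSpectrum A) : x ∈ (clJ Z J h).U ↔ ¬ J ≤ x.asIdeal := by
  show x ∉ PrimeSpectrum.zeroLocus (J : Set A) ↔ _
  rw [PrimeSpectrum.mem_zeroLocus, SetLike.coe_subset_coe]

theorem zeroLocus_subset_of_mem (hZ : StableUnderSpecialization Z) (p : Ideal A) [hpp : p.IsPrime]
    (hp : pt p ∈ Z) : PrimeSpectrum.zeroLocus (p : Set A) ⊆ Z := by
  intro y hy
  rw [PrimeSpectrum.mem_zeroLocus, SetLike.coe_subset_coe] at hy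
  have h1 : pt p ≤ y := hy
  exact hZ ((PrimeSpectrum.le_iff_specializes _ _).1 h1) hp

/-- if `p ∈ Z`, the Z-closure of `(A ⧸ p)~` has no global sections. -/
theorem finite_H0_quot_of_mem (hZ : StableUnderSpecialization Z) (p : Ideal A) [hpp : p.IsPrime]
    (hp : pt p ∈ Z) : Module.Finite A (GH Z (A ⧸ p)) := by
  haveI : Subsingleton (GH Z (A ⧸ p)) := by
    refine ⟨fun a b => ?_⟩
    suffices h : ∀ s : GH Z (A ⧸ p), s = 0 by rw [h a, h b]
    intro s
    obtain ⟨T, t, rfl⟩ := exists_rep_top Z _ s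
    let T₀ := clJ Z p (zeroLocus_subset_of_mem Z hZ p hp)
    haveI : Subsingleton (Sec A (A ⧸ p) (⊤ ⊓ (T ⊔ T₀).U : (Spec (CommRingCat.of A)).Opens)) :=
      sec_subsingleton _ (fun x => by
        haveI := x.1.isPrime
        have hx : x.1 ∈ T₀.U := ZClos.Cl.U_anti (le_sup_right : T₀ ≤ T ⊔ T₀) x.2.2
        exact subsingleton_localizedModule_quot p x.1.asIdeal ((mem_clJ_U_iff Z p _ x.1).1 hx))
    have ht : rs Z _ (le_sup_left : T ≤ T ⊔ T₀) t = 0 :=
      (secEquiv (M := A ⧸ p) _).injective (Subsingleton.elim _ _)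
    rw [← σ_rs Z _ (le_sup_left : T ≤ T ⊔ T₀) t, ht, map_zero]
  exact finite_of_subsingleton'

theorem pt_mem_inf (p : Ideal A) [hpp : p.IsPrime] (hp : pt p ∉ Z)
    (T : ZClos.Cl (X := Spec (CommRingCat.of A)) Z) :
    pt p ∈ (⊤ ⊓ T.U : (Spec (CommRingCat.of A)).Opens) :=
  ⟨trivial, fun h => hp (T.2 h)⟩

/-- if `p ∉ Z`, `(A ⧸ p)^(1)` is finite and `Z` has codimension at least two in `V(p)`, the
global sections of the Z-closure of `(A ⧸ p)~` form a finite module. -/
theorem finite_H0_quot_of_hull (p : Ideal A) [hpp : p.IsPrime] (hp : pt p ∉ Z)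
    (hfin : EGA4.HeightOneHullFinite (A ⧸ p))
    (hht : ∀ y ∈ Z, p ≤ y.asIdeal →
      (2 : ℕ∞) ≤ (y.asIdeal.map (Ideal.Quotient.mk p)).height) :
    Module.Finite A (GH Z (A ⧸ p)) := by
  classical
  have hW := pt_mem_inf Z p hp
  have hht' : ∀ (T : ZClos.Cl (X := Spec (CommRingCat.of A)) Z) (P : PrimeSpectrum A),
      p ≤ P.asIdeal → (P.asIdeal.map (Ideal.Quotient.mk p)).height = 1 →
      P ∈ (⊤ ⊓ T.U : (Spec (CommRingCat.of A)).Opens) := by
    intro T P hP h1
    refine ⟨trivial, fun hPT => ?_⟩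
    have h2 := hht P (T.2 hPT) hP
    rw [h1] at h2
    exact absurd h2 (by norm_num)
  have hfinT : ∀ T : ZClos.Cl (X := Spec (CommRingCat.of A)) Z,
      Module.Finite A (Sec A (A ⧸ p) (⊤ ⊓ T.U : (Spec (CommRingCat.of A)).Opens)) :=
    fun T => finite_sec_quot_of_hull p _ (hW T) (hht' T) hfin
  obtain ⟨B', hB', hB'fin⟩ := hfin
  haveI := hB'fin
  haveI : Module.Finite A ↥B' := Module.Finite.trans (A ⧸ p) ↥B'
  let N₁ : Submodule A (FractionRing (A ⧸ p)) := (Subalgebra.toSubmodule B').restrictScalars A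
  haveI : Module.Finite A ↥N₁ := (inferInstance : Module.Finite A ↥B')
  haveI : IsNoetherian A ↥N₁ := isNoetherian_of_isNoetherianRing_of_finite A _
  let P_ : ZClos.Cl (X := Spec (CommRingCat.of A)) Z → Submodule A (FractionRing (A ⧸ p)) :=
    fun T => LinearMap.range (psi p (⊤ ⊓ T.U : (Spec (CommRingCat.of A)).Opens) (hW T))
  have hPle : ∀ T, P_ T ≤ N₁ := by
    rintro T _ ⟨s, rfl⟩
    show psi p _ (hW T) s ∈ (B' : Set (FractionRing (A ⧸ p)))
    rw [hB']
    exact psi_mem_hull p _ (hW T) (hht' T) s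
  have hmono : ∀ T T' : ZClos.Cl (X := Spec (CommRingCat.of A)) Z, T ≤ T' → P_ T ≤ P_ T' := by
    rintro T T' h _ ⟨s, rfl⟩
    exact ⟨secRes (inf_le_inf_left ⊤ (ZClos.Cl.U_anti h)) s,
      psi_secRes p _ (hW T) (inf_le_inf_left ⊤ (ZClos.Cl.U_anti h)) (hW T') s⟩
  let Q : ZClos.Cl (X := Spec (CommRingCat.of A)) Z → Submodule A ↥N₁ :=
    fun T => Submodule.comap N₁.subtype (P_ T)
  have hPQ : ∀ T, P_ T = Submodule.map N₁.subtype (Q T) := by
    intro T
    rw [Submodule.map_comap_subtype, inf_eq_right.mpr (hPle T)]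
  obtain ⟨_, ⟨T₀, rfl⟩, hmax⟩ := WellFounded.has_min
    (wellFounded_gt : WellFounded (α := Submodule A ↥N₁) (· > ·)) (Set.range Q) ⟨_, ⟨⊥, rfl⟩⟩
  have hstab : ∀ T : ZClos.Cl (X := Spec (CommRingCat.of A)) Z, T₀ ≤ T → P_ T ≤ P_ T₀ := by
    intro T hT
    have h1 : Q T₀ ≤ Q T := Submodule.comap_mono (hmono T₀ T hT)
    have h2 : Q T = Q T₀ := by
      by_contra hne
      exact hmax (Q T) ⟨T, rfl⟩ (lt_of_le_of_ne h1 (Ne.symm hne))
    rw [hPQ T, hPQ T₀, h2]
  haveI := hfinT T₀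
  let L : Sec A (A ⧸ p) (⊤ ⊓ T₀.U : (Spec (CommRingCat.of A)).Opens) →ₗ[A] GH Z (A ⧸ p) :=
    (σL Z (EGA4.tildeOf A (A ⧸ p)) T₀ ⊤).comp (secEquiv (M := A ⧸ p) _).symm.toLinearMap
  refine Module.Finite.of_surjective L ?_
  intro s
  obtain ⟨T, t, rfl⟩ := exists_rep_top Z _ s
  have hT' : T₀ ≤ T ⊔ T₀ := le_sup_right
  set t' := rs Z _ (le_sup_left : T ≤ T ⊔ T₀) t with ht'
  have h1 : psi p _ (hW (T ⊔ T₀)) (toSec _ t') ∈ P_ T₀ := hstab _ hT' ⟨toSec _ t', rfl⟩
  obtain ⟨s₀, hs₀⟩ := h1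
  refine ⟨s₀, ?_⟩
  have h2 : secRes (inf_le_inf_left ⊤ (ZClos.Cl.U_anti hT')) s₀ = toSec _ t' := by
    apply psi_injective p _ (hW (T ⊔ T₀))
    exact (psi_secRes p _ (hW T₀) (inf_le_inf_left ⊤ (ZClos.Cl.U_anti hT')) (hW (T ⊔ T₀))
      s₀).trans hs₀
  have h3 : rs Z _ hT' (ofSec _ s₀) = t' :=
    (secEquiv (M := A ⧸ p) _).injective h2
  show σ Z _ T₀ ⊤ (ofSec _ s₀) = _
  rw [← σ_rs Z _ hT' (ofSec _ s₀), h3, ht', σ_rs]

/-- **Finiteness of the global sections of the Z-closure** by dévissage. -/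
theorem finite_H0 (hZ : StableUnderSpecialization Z) (M : Type u) [AddCommGroup M] [Module A M]
    [Module.Finite A M]
    (h : ∀ (p : Ideal A) [p.IsPrime], p ∈ associatedPrimes A M → pt p ∉ Z →
      EGA4.HeightOneHullFinite (A ⧸ p) ∧ ∀ y ∈ Z, p ≤ y.asIdeal →
        (2 : ℕ∞) ≤ (y.asIdeal.map (Ideal.Quotient.mk p)).height) :
    Module.Finite A (GH Z M) := by
  refine (dev_H0 Z).main M ?_
  intro p hp
  haveI : p.IsPrime := hp.isPrime
  by_cases hpZ : pt p ∈ Z
  · exact finite_H0_quot_of_mem Z hZ p hpZ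
  · obtain ⟨h1, h2⟩ := h p hp hpZ
    exact finite_H0_quot_of_hull Z p hpZ h1 h2

end Base

section Coh

variable {A : Type u} [CommRing A]

/-- finiteness of global sections over `Γ(Spec A, ⊤)` and over `A` agree. -/
theorem finite_top_iff (G : (Spec (CommRingCat.of A)).Modules) :
    Module.Finite Γ(Spec (CommRingCat.of A), ⊤) Γ(G, ⊤) ↔ Module.Finite A Γ(G, ⊤) := by
  have hid : ((⊤ : (Spec (CommRingCat.of A)).Opens).leTop).op = 𝟙 _ := Subsingleton.elim _ _
  haveI : IsIso ((Spec (CommRingCat.of A)).presheaf.map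
      ((⊤ : (Spec (CommRingCat.of A)).Opens).leTop).op) := by
    rw [hid, (Spec (CommRingCat.of A)).presheaf.map_id]
    infer_instance
  let φ : CommRingCat.of A ⟶ Γ(Spec (CommRingCat.of A), ⊤) :=
    (Scheme.ΓSpecIso (CommRingCat.of A)).inv ≫ (Spec (CommRingCat.of A)).presheaf.map
      ((⊤ : (Spec (CommRingCat.of A)).Opens).leTop).op
  have hφ : Function.Surjective φ.hom := (ConcreteCategory.bijective_of_isIso φ).2
  exact finite_iff_of_surjective_smul φ.hom hφ (fun r n => rfl)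

variable [IsNoetherianRing A] (Z : Set (PrimeSpectrum A))
variable (M : Type u) [AddCommGroup M] [Module A M]

theorem isCoh_H0_iff :
    Coh.IsCoh ((ZClos.H0 (X := Spec (CommRingCat.of A)) Z).obj (EGA4.tildeOf A M)) ↔
      Module.Finite A (GH Z M) := by
  haveI : ((ZClos.H0 (X := Spec (CommRingCat.of A)) Z).obj
      (EGA4.tildeOf A M)).IsQuasicoherent :=
    isQuasicoherent_H0 (X := Spec (CommRingCat.of A)) Z (EGA4.tildeOf A M)
  constructor
  · intro h
    haveI : SheafOfModules.IsFiniteType (R := (Spec (CommRingCat.of A)).ringCatSheaf)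
      ((ZClos.H0 (X := Spec (CommRingCat.of A)) Z).obj (EGA4.tildeOf A M)) := h.2
    exact (finite_top_iff _).1
      (Groth.Agent.Helper13.FinType.finite_sections_of_isFiniteType _
        (isAffineOpen_top (Spec (CommRingCat.of A))))
  · intro h
    refine ⟨inferInstance, ?_⟩
    apply Groth.Agent.Helper13.FinType.isFiniteType_of_finite_sections
    intro x
    exact ⟨⊤, trivial, isAffineOpen_top (Spec (CommRingCat.of A)), (finite_top_iff _).2 h⟩

end Coh

section Converse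

variable {A : Type u} [CommRing A] [IsNoetherianRing A]

/-- the set of primes containing `q` of codimension at least two in `V(q)`. -/
def Zq (q : Ideal A) : Set (PrimeSpectrum A) :=
  {y | q ≤ y.asIdeal ∧ (2 : ℕ∞) ≤ (y.asIdeal.map (Ideal.Quotient.mk q)).height}

theorem stable_Zq (q : Ideal A) : StableUnderSpecialization (Zq q) := by
  intro y y' hyy' hy
  have hle : y.asIdeal ≤ y'.asIdeal := (PrimeSpectrum.le_iff_specializes y y').2 hyy'
  exact ⟨hy.1.trans hle, hy.2.trans (Ideal.height_mono (Ideal.map_mono hle))⟩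

theorem pt_notMem_Zq (q : Ideal A) [hq : q.IsPrime] : pt q ∉ Zq q := by
  intro h
  have h2 : (2 : ℕ∞) ≤ ((pt q).asIdeal.map (Ideal.Quotient.mk q)).height := h.2
  have h3 : (pt q).asIdeal.map (Ideal.Quotient.mk q) = ⊥ := Ideal.map_quotient_self q
  rw [h3, Ideal.height_bot] at h2
  exact absurd h2 (by norm_num)

/-- every finite set of global sections of the Z-closure comes from one closed subset. -/
theorem exists_common_rep (Z : Set (PrimeSpectrum A)) (G : (Spec (CommRingCat.of A)).Modules)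
    (S : Finset Γ((ZClos.H0 (X := Spec (CommRingCat.of A)) Z).obj G, ⊤)) :
    ∃ T : ZClos.Cl (X := Spec (CommRingCat.of A)) Z,
      ∀ g ∈ S, g ∈ LinearMap.range (σL Z G T ⊤) := by
  classical
  induction S using Finset.induction_on with
  | empty => exact ⟨⊥, fun g hg => absurd hg (Finset.notMem_empty g)⟩
  | insert a S _ ih =>
    obtain ⟨T₁, hT₁⟩ := ih
    obtain ⟨T₂, t₂, rfl⟩ := exists_rep_top Z G a
    refine ⟨T₁ ⊔ T₂, fun g hg => ?_⟩
    rcases Finset.mem_insert.1 hg with rfl | hg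
    · exact ⟨rs Z G (le_sup_right : T₂ ≤ T₁ ⊔ T₂) t₂, σ_rs Z G _ t₂⟩
    · obtain ⟨t, rfl⟩ := hT₁ g hg
      exact ⟨rs Z G (le_sup_left : T₁ ≤ T₁ ⊔ T₂) t, σ_rs Z G _ t⟩

/-- **Converse**: finiteness of the global sections of the closure of `(A ⧸ q)~` along the primes of
codimension at least two in `V(q)` forces `(A ⧸ q)^(1)` to be finite. -/
theorem heightOneHullFinite_of_finite_H0 (q : Ideal A) [hq : q.IsPrime]
    (h : Module.Finite A (GH (Zq q) (A ⧸ q))) : EGA4.HeightOneHullFinite (A ⧸ q) := by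
  classical
  have hW := pt_mem_inf (Zq q) q (pt_notMem_Zq q)
  -- a common closed subset
  obtain ⟨S, hS⟩ := h.1
  obtain ⟨Ts, hTs⟩ := exists_common_rep (Zq q) (EGA4.tildeOf A (A ⧸ q)) S
  have hsurj : LinearMap.range (σL (Zq q) (EGA4.tildeOf A (A ⧸ q)) Ts ⊤) = ⊤ := by
    rw [eq_top_iff, ← hS]
    exact Submodule.span_le.2 hTs
  -- injectivity of the colimit injection
  have hψrs : ∀ (T T' : ZClos.Cl (X := Spec (CommRingCat.of A)) (Zq q)) (hTT' : T ≤ T')
      (t : Γ(EGA4.tildeOf A (A ⧸ q), ⊤ ⊓ T.U)),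
      psi q _ (hW T') (toSec _ (rs (Zq q) _ hTT' t)) = psi q _ (hW T) (toSec _ t) := by
    intro T T' hTT' t
    exact psi_secRes q _ (hW T) (inf_le_inf_left ⊤ (ZClos.Cl.U_anti hTT')) (hW T') (toSec _ t)
  have hinj : Function.Injective (σL (Zq q) (EGA4.tildeOf A (A ⧸ q)) Ts ⊤) := by
    rw [← LinearMap.ker_eq_bot, LinearMap.ker_eq_bot']
    intro t ht
    obtain ⟨T', hTT', h0⟩ := exists_rs_eq_zero (Zq q) _ Ts t ht
    have h1 := hψrs Ts T' hTT' t
    rw [h0] at h1
    have h2 : psi q _ (hW Ts) (toSec _ t) = 0 := by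
      rw [← h1]
      exact map_zero _
    have h3 : toSec _ t = 0 := psi_injective q _ (hW Ts) (h2.trans (map_zero _).symm)
    exact (toSec_eq_zero_iff _ t).1 h3
  haveI := h
  haveI : IsNoetherian A (GH (Zq q) (A ⧸ q)) := isNoetherian_of_isNoetherianRing_of_finite A _
  haveI : Module.Finite A Γ(EGA4.tildeOf A (A ⧸ q), ⊤ ⊓ Ts.U) :=
    Module.Finite.of_injective _ hinj
  -- the finite module containing the hull
  let Ψ : Γ(EGA4.tildeOf A (A ⧸ q), ⊤ ⊓ Ts.U) →ₗ[A] FractionRing (A ⧸ q) :=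
    (psi q _ (hW Ts)).comp (secEquiv (M := A ⧸ q) _).toLinearMap
  haveI : Module.Finite A ↥(LinearMap.range Ψ) := Module.Finite.range Ψ
  haveI : IsNoetherian A ↥(LinearMap.range Ψ) := isNoetherian_of_isNoetherianRing_of_finite A _
  have hhull : ∀ x ∈ EGA4.heightOneHull (A ⧸ q), x ∈ LinearMap.range Ψ := by
    intro x hx
    have hsub : PrimeSpectrum.zeroLocus (denom q x : Set A) ⊆ Zq q := by
      intro y hy
      rw [PrimeSpectrum.mem_zeroLocus, SetLike.coe_subset_coe] at hy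
      exact two_le_height_of_denom_le q x hx y hy
    let Tx := clJ (Zq q) (denom q x) hsub
    obtain ⟨sx, hsx⟩ := exists_sec_of_frac q x
    have hle : (⊤ ⊓ Tx.U : (Spec (CommRingCat.of A)).Opens) ≤ UJ A (denom q x) := by
      intro y hy
      exact (mem_UJ_iff (A := A) (J := denom q x) y).2 ((mem_clJ_U_iff (Zq q) _ hsub y).1 hy.2)
    let tx : Γ(EGA4.tildeOf A (A ⧸ q), ⊤ ⊓ Tx.U) := ofSec _ (secRes hle sx)
    have htx : psi q _ (hW Tx) (toSec _ tx) = x :=
      (psi_secRes q _ (pt_mem_UJ_denom q x) hle (hW Tx) sx).trans hsx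
    have hmem : σ (Zq q) _ Tx ⊤ tx ∈ LinearMap.range (σL (Zq q) (EGA4.tildeOf A (A ⧸ q)) Ts ⊤) := by
      rw [hsurj]
      trivial
    obtain ⟨ts, hts⟩ := hmem
    obtain ⟨T', h₁, h₂, heq⟩ := exists_rs_eq (Zq q) _ Ts Tx ts tx hts
    refine ⟨ts, ?_⟩
    show psi q _ (hW Ts) (toSec _ ts) = x
    rw [← hψrs Ts T' h₁ ts, heq, hψrs Tx T' h₂ tx, htx]
  -- conclusion
  refine ⟨Groth.Agent.Helper7.HullFin.hullSubalgebra (A ⧸ q),
    Groth.Agent.Helper7.HullFin.coe_hullSubalgebra (A ⧸ q), ?_⟩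
  let NB : Submodule A (FractionRing (A ⧸ q)) :=
    (Subalgebra.toSubmodule (Groth.Agent.Helper7.HullFin.hullSubalgebra (A ⧸ q))).restrictScalars A
  have hNB : NB ≤ LinearMap.range Ψ := by
    intro x hx
    apply hhull
    rw [← Groth.Agent.Helper7.HullFin.coe_hullSubalgebra (A ⧸ q)]
    exact hx
  haveI : IsNoetherian A ↥NB := isNoetherian_of_le hNB
  haveI : Module.Finite A ↥(Groth.Agent.Helper7.HullFin.hullSubalgebra (A ⧸ q)) :=
    (Module.IsNoetherian.finite A ↥NB : Module.Finite A ↥NB)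
  exact Module.Finite.of_restrictScalars_finite A (A ⧸ q)
    ↥(Groth.Agent.Helper7.HullFin.hullSubalgebra (A ⧸ q))

end Converse

end Groth.Agent.Lead.PC
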