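import Mathlib
import Groth.Prelude
import Groth.Agent.Lib.Lead.PC4
import Groth.Agent.Lib.Lead.PC5

/-!
# Z-closure on `Spec A`: purity and stabilization (lead)
-/

set_option autoImplicit false
set_option linter.style.haveILetI false
set_option linter.unusedSectionVars false

universe u

open AlgebraicGeometry CategoryTheory CategoryTheory.Limits Opposite TopologicalSpace
open Groth.Agent.Lead.ZP Groth.Agent.Lead.ZClos1
open Groth.Agent.Helper13.QCoh

namespace Groth.Agent.Lead.PC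

section Purity

variable {A : Type u} [CommRing A] [IsNoetherianRing A]
variable {M : Type u} [AddCommGroup M] [Module A M]

/-- sections of `M~` restrict injectively to an open containing all the associated points. -/
theorem secRes_injective_of_ass {W W' : Opens (PrimeSpectrum.Top A)} (hle : W' ≤ W)
    (h : ∀ (p : Ideal A) [p.IsPrime], p ∈ associatedPrimes A M → pt p ∈ W → pt p ∈ W') :
    Function.Injective (secRes (M := M) hle) := by
  rw [injective_iff_map_eq_zero]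
  intro s hs
  apply Subtype.ext
  funext x
  by_contra hx
  obtain ⟨V, hxV, i, m, b, hmb⟩ := s.2 x
  obtain ⟨hbx, hsx⟩ := hmb ⟨x.1, hxV⟩
  have hsx' : s.1 x = LocalizedModule.mk m ⟨b, hbx⟩ := hsx
  haveI := x.1.isPrime
  -- the annihilator of `m` lies in `x`
  have hann : (Submodule.span A {m}).annihilator ≤ x.1.asIdeal := by
    intro c hc
    by_contra hcx
    apply hx
    rw [hsx']
    exact (mk_eq_zero_iff x.1.asIdeal m _).2
      ⟨c, hcx, (Submodule.mem_annihilator_span_singleton m c).1 hc⟩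
  obtain ⟨q, hqmin, hqx⟩ := Ideal.exists_minimalPrimes_le hann
  haveI hqp : q.IsPrime := hqmin.1.1
  have hqass : q ∈ associatedPrimes A M := by
    have h1 : q ∈ associatedPrimes A ↥(Submodule.span A {m}) :=
      Module.associatedPrimes.minimalPrimes_annihilator_subset_associatedPrimes A
        ↥(Submodule.span A {m}) hqmin
    exact associatedPrimes.subset_of_injective (f := (Submodule.span A {m}).subtype)
      (Submodule.injective_subtype _) h1
  -- `pt q` is a generization of `x`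
  have hspec : pt q ⤳ x.1 := (PrimeSpectrum.le_iff_specializes (pt q) x.1).1 hqx
  have hqV : pt q ∈ V := hspec.mem_open V.2 hxV
  have hqW : pt q ∈ W := (leOfHom i) hqV
  have hqW' : pt q ∈ W' := h q hqass hqW
  obtain ⟨hbq, hsq⟩ := hmb ⟨pt q, hqV⟩
  have hsq' : s.1 ⟨pt q, hqW⟩ = LocalizedModule.mk m ⟨b, hbq⟩ := hsq
  have h0 : (secRes hle s).1 ⟨pt q, hqW'⟩ = 0 := by rw [hs]; rfl
  rw [secRes_apply] at h0
  have h0' : s.1 ⟨pt q, hqW⟩ = 0 := h0
  rw [hsq'] at h0'
  obtain ⟨c, hcq, hcm⟩ := (mk_eq_zero_iff q m _).1 h0'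
  exact hcq (hqmin.1.2 ((Submodule.mem_annihilator_span_singleton m c).2 hcm))

variable (Z : Set (PrimeSpectrum A))

/-- if no associated prime of `M` lies in `Z`, the colimit injections of the Z-closure of `M~`
are injective on global sections. -/
theorem σL_injective_of_ass
    (h : ∀ (p : Ideal A) [p.IsPrime], p ∈ associatedPrimes A M → pt p ∉ Z)
    (T : ZClos.Cl (X := Spec (CommRingCat.of A)) Z) :
    Function.Injective (σL Z (EGA4.tildeOf A M) T ⊤) := by
  rw [← LinearMap.ker_eq_bot, LinearMap.ker_eq_bot']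
  intro t ht
  obtain ⟨T', hTT', h0⟩ := exists_rs_eq_zero Z _ T t ht
  have h1 : secRes (M := M) (inf_le_inf_left ⊤ (ZClos.Cl.U_anti hTT')) (toSec _ t) = 0 := by
    rw [← toSec_res]
    exact (toSec_eq_zero_iff _ _).2 h0
  have h2 := secRes_injective_of_ass (M := M) (inf_le_inf_left ⊤ (ZClos.Cl.U_anti hTT'))
    (fun p _ hp _ => ⟨trivial, fun hpT' => h p hp (T'.2 hpT')⟩) (h1.trans (map_zero _).symm)
  exact (toSec_eq_zero_iff _ t).1 h2

end Purity

section ResPushX

variable {X : Scheme.{u}}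

/-- a section of `j_*(F|U)` over `V` viewed as such (general scheme). -/
def toPX (F : X.Modules) (U V : X.Opens) (x : Γ(F, U.ι ''ᵁ U.ι ⁻¹ᵁ V)) :
    Γ((ZClos.resPush U).obj F, V) := x

theorem resPush_smulX_of_le (F : X.Modules) (U V' : X.Opens) (hV' : V' ≤ U) (r' : Γ(X, V'))
    (y : Γ(F, U.ι ''ᵁ U.ι ⁻¹ᵁ V')) :
    toPX F U V' (X.presheaf.map (homOfLE (U.ι.image_preimage_le V')).op r' • y) =
      r' • toPX F U V' y := by
  have hI : U.ι ''ᵁ U.ι ⁻¹ᵁ V' = V' := by
    rw [ZClos.ι_image_preimage]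
    exact inf_eq_right.mpr hV'
  have hη : ∀ z : Γ(F, V'),
      ((ZClos.resPushUnit U).app F).app V' z =
        toPX F U V' (F.presheaf.map (homOfLE (U.ι.image_preimage_le V')).op z) :=
    fun z => rfl
  let z : Γ(F, V') := F.presheaf.map (homOfLE (le_of_eq hI.symm)).op y
  have hz : F.presheaf.map (homOfLE (U.ι.image_preimage_le V')).op z = y := by
    show F.presheaf.map _ (F.presheaf.map _ y) = y
    rw [map_map_eq F _ _ (𝟙 _) y, map_id_apply' F _ y]
  have e3 : ((ZClos.resPushUnit U).app F).app V' (r' • z) =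
      r' • ((ZClos.resPushUnit U).app F).app V' z :=
    Scheme.Modules.Hom.app_smul ((ZClos.resPushUnit U).app F) r' z
  have e4 : F.presheaf.map (homOfLE (U.ι.image_preimage_le V')).op (r' • z) =
      X.presheaf.map (homOfLE (U.ι.image_preimage_le V')).op r' •
        F.presheaf.map (homOfLE (U.ι.image_preimage_le V')).op z :=
    Scheme.Modules.map_smul F (homOfLE (U.ι.image_preimage_le V')) r' z
  rw [hη, hη, e4, hz] at e3
  exact e3

/-- the module structure on the sections of `j_*(F|U)`. -/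
theorem resPush_smulX (F : X.Modules) (U V : X.Opens) (r : Γ(X, V))
    (x : Γ(F, U.ι ''ᵁ U.ι ⁻¹ᵁ V)) :
    toPX F U V (X.presheaf.map (homOfLE (U.ι.image_preimage_le V)).op r • x) =
      r • toPX F U V x := by
  have hV'V : U.ι ''ᵁ U.ι ⁻¹ᵁ V ≤ V := U.ι.image_preimage_le V
  have hV'U : U.ι ''ᵁ U.ι ⁻¹ᵁ V ≤ U := by
    rw [ZClos.ι_image_preimage]
    exact inf_le_left
  have hI : U.ι ''ᵁ U.ι ⁻¹ᵁ (U.ι ''ᵁ U.ι ⁻¹ᵁ V) = U.ι ''ᵁ U.ι ⁻¹ᵁ V := by
    rw [ZClos.ι_image_preimage U (U.ι ''ᵁ U.ι ⁻¹ᵁ V)]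
    exact inf_eq_right.mpr hV'U
  let j : (U.ι ''ᵁ U.ι ⁻¹ᵁ (U.ι ''ᵁ U.ι ⁻¹ᵁ V)) ⟶ (U.ι ''ᵁ U.ι ⁻¹ᵁ V) :=
    U.ι.opensFunctor.map ((Opens.map U.ι.base).map (homOfLE hV'V))
  have hρ : ∀ y : Γ(F, U.ι ''ᵁ U.ι ⁻¹ᵁ V),
      ((ZClos.resPush U).obj F).presheaf.map (homOfLE hV'V).op (toPX F U V y) =
        toPX F U (U.ι ''ᵁ U.ι ⁻¹ᵁ V) (F.presheaf.map j.op y) :=
    fun y => rfl
  have hρinj : Function.Injective
      (((ZClos.resPush U).obj F).presheaf.map (homOfLE hV'V).op) := by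
    have key : ∀ a b : Γ(F, U.ι ''ᵁ U.ι ⁻¹ᵁ V),
        F.presheaf.map j.op a = F.presheaf.map j.op b → a = b := by
      intro a b hab'
      have h1 := congrArg (F.presheaf.map (homOfLE (le_of_eq hI.symm)).op) hab'
      rw [map_map_eq F _ _ (𝟙 _) a, map_map_eq F _ _ (𝟙 _) b, map_id_apply' F _ a,
        map_id_apply' F _ b] at h1
      exact h1
    intro a b hab
    exact key a b hab
  apply hρinj
  have e1 : F.presheaf.map j.op (X.presheaf.map (homOfLE hV'V).op r • x) =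
      X.presheaf.map j.op (X.presheaf.map (homOfLE hV'V).op r) • F.presheaf.map j.op x :=
    Scheme.Modules.map_smul F j (X.presheaf.map (homOfLE hV'V).op r) x
  have e2 := Scheme.Modules.map_smul ((ZClos.resPush U).obj F) (homOfLE hV'V) r (toPX F U V x)
  have e5 : X.presheaf.map j.op (X.presheaf.map (homOfLE hV'V).op r) =
      X.presheaf.map (homOfLE (U.ι.image_preimage_le (U.ι ''ᵁ U.ι ⁻¹ᵁ V))).op
        (X.presheaf.map (homOfLE hV'V).op r) := by
    rw [res_map_map_eq _ _ (homOfLE ((U.ι.image_preimage_le _).trans hV'V)).op r,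
      res_map_map_eq _ _ (homOfLE ((U.ι.image_preimage_le _).trans hV'V)).op r]
  rw [e2, hρ, hρ, e1, e5]
  exact resPush_smulX_of_le F U _ hV'U _ _

end ResPushX

section Geom

variable {X : Scheme.{u}} (F : X.Modules) [F.IsQuasicoherent] {U : X.Opens} (hU : IsAffineOpen U)

/-- the restriction of `F` to `Spec Γ(X, U)` -/
noncomputable abbrev GG : (Spec (CommRingCat.of ↑Γ(X, U))).Modules := F.restrict hU.fromSpec

/-- its module of global sections -/
noncomputable abbrev MM : Type u := ↑Γ(GG F hU, ⊤)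

theorem isIso_GG : IsIso (GG F hU).fromTildeΓ :=
  haveI : (GG F hU).IsQuasicoherent :=
    inferInstanceAs ((Scheme.Modules.restrictFunctor hU.fromSpec).obj F).IsQuasicoherent
  Scheme.Modules.isIso_fromTildeΓ_of_isQuasicoherent (R := Γ(X, U)) (GG F hU)

/-- the restriction of `F` to `Spec Γ(X, U)` is the sheaf attached to its global sections. -/
noncomputable def psiIso : EGA4.tildeOf ↑Γ(X, U) (MM F hU) ≅ GG F hU :=
  @asIso _ _ _ _ (GG F hU).fromTildeΓ (isIso_GG F hU)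

/-- sections of `M~` over `W'` as sections of `F` over the image of `W'`. -/
noncomputable def bet (W' : (Spec (CommRingCat.of ↑Γ(X, U))).Opens) :
    Γ(EGA4.tildeOf ↑Γ(X, U) (MM F hU), W') →+ Γ(F, hU.fromSpec ''ᵁ W') :=
  ((psiIso F hU).hom.app W').hom

/-- the inverse of `bet`. -/
noncomputable def betInv (W' : (Spec (CommRingCat.of ↑Γ(X, U))).Opens) :
    Γ(F, hU.fromSpec ''ᵁ W') →+ Γ(EGA4.tildeOf ↑Γ(X, U) (MM F hU), W') :=
  ((psiIso F hU).inv.app W').hom

theorem betInv_bet (W' : (Spec (CommRingCat.of ↑Γ(X, U))).Opens)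
    (t : Γ(EGA4.tildeOf ↑Γ(X, U) (MM F hU), W')) : betInv F hU W' (bet F hU W' t) = t := by
  show ((psiIso F hU).hom ≫ (psiIso F hU).inv).app W' t = t
  rw [(psiIso F hU).hom_inv_id]
  rfl

theorem bet_betInv (W' : (Spec (CommRingCat.of ↑Γ(X, U))).Opens)
    (x : Γ(F, hU.fromSpec ''ᵁ W')) : bet F hU W' (betInv F hU W' x) = x := by
  show ((psiIso F hU).inv ≫ (psiIso F hU).hom).app W' x = x
  rw [(psiIso F hU).inv_hom_id]
  rfl

theorem bet_res {W' W'' : (Spec (CommRingCat.of ↑Γ(X, U))).Opens} (h : W'' ≤ W')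
    (t : Γ(EGA4.tildeOf ↑Γ(X, U) (MM F hU), W')) :
    bet F hU W'' ((EGA4.tildeOf ↑Γ(X, U) (MM F hU)).presheaf.map (homOfLE h).op t) =
      F.presheaf.map (homOfLE (Scheme.Hom.image_mono hU.fromSpec h)).op (bet F hU W' t) :=
  app_map (psiIso F hU).hom h t

theorem bet_smul (W' : (Spec (CommRingCat.of ↑Γ(X, U))).Opens) (a : ↑Γ(X, U))
    (t : Γ(EGA4.tildeOf ↑Γ(X, U) (MM F hU), W')) :
    bet F hU W' (a • t) =
      X.presheaf.map (homOfLE (fromSpec_image_le hU W')).op a • bet F hU W' t := by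
  have h1 := app_smulA (psiIso F hU).hom W' a t
  have h2 := smul_restrict F hU W' a ((psiIso F hU).hom.app W' t)
  exact h1.trans h2

section Closure

variable (Z : Set X)

/-- `Z` pulled back to `Spec Γ(X, U)`. -/
def ZS : Set (PrimeSpectrum ↑Γ(X, U)) := hU.fromSpec.base ⁻¹' Z

theorem stable_ZS (hZ : StableUnderSpecialization Z) : StableUnderSpecialization (ZS hU Z) :=
  fun _ _ hxy hx => hZ (hxy.map hU.fromSpec.continuous) hx

/-- the trace on `Spec Γ(X, U)` of a closed subset of `X` inside `Z`. -/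
def preCl (T : ZClos.Cl Z) : ZClos.Cl (X := Spec (CommRingCat.of ↑Γ(X, U))) (ZS hU Z) :=
  ⟨⟨hU.fromSpec.base ⁻¹' (T.1 : Set X), T.1.isClosed.preimage hU.fromSpec.continuous⟩,
    fun _ hy => T.2 hy⟩

theorem preCl_mono {T T' : ZClos.Cl Z} (h : T ≤ T') : preCl hU Z T ≤ preCl hU Z T' :=
  fun _ hy => h hy

theorem image_preCl (T : ZClos.Cl Z) :
    hU.fromSpec ''ᵁ (⊤ ⊓ (preCl hU Z T).U) = U ⊓ T.U := by
  apply le_antisymm
  · rintro y ⟨x, hx, rfl⟩
    refine ⟨?_, hx.2⟩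
    have : hU.fromSpec.base x ∈ Set.range hU.fromSpec.base := ⟨x, rfl⟩
    rw [hU.range_fromSpec] at this
    exact this
  · rintro y ⟨hyU, hyT⟩
    have hy : y ∈ Set.range hU.fromSpec.base := by
      rw [hU.range_fromSpec]
      exact hyU
    obtain ⟨x, rfl⟩ := hy
    exact ⟨x, ⟨trivial, hyT⟩, rfl⟩

/-- sections of `M~` over the complement of the trace of `T` as sections of `F` over `U ∖ T`. -/
noncomputable def del (T : ZClos.Cl Z) :
    Γ(EGA4.tildeOf ↑Γ(X, U) (MM F hU), ⊤ ⊓ (preCl hU Z T).U) →+ Γ(F, U ⊓ T.U) :=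
  (F.presheaf.map (homOfLE (le_of_eq (image_preCl hU Z T).symm)).op).hom.comp (bet F hU _)

theorem del_apply (T : ZClos.Cl Z)
    (t : Γ(EGA4.tildeOf ↑Γ(X, U) (MM F hU), ⊤ ⊓ (preCl hU Z T).U)) :
    del F hU Z T t =
      F.presheaf.map (homOfLE (le_of_eq (image_preCl hU Z T).symm)).op (bet F hU _ t) := rfl

theorem del_bijective (T : ZClos.Cl Z) : Function.Bijective (del F hU Z T) := by
  constructor
  · intro a b hab
    rw [del_apply, del_apply] at hab
    have h1 := congrArg (F.presheaf.map (homOfLE (le_of_eq (image_preCl hU Z T))).op) hab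
    rw [map_map_eq F _ _ (𝟙 _), map_map_eq F _ _ (𝟙 _), map_id_apply' F, map_id_apply' F] at h1
    have h2 := congrArg (betInv F hU _) h1
    rw [betInv_bet, betInv_bet] at h2
    exact h2
  · intro x
    refine ⟨betInv F hU _ (F.presheaf.map (homOfLE (le_of_eq (image_preCl hU Z T))).op x), ?_⟩
    rw [del_apply, bet_betInv, map_map_eq F _ _ (𝟙 _), map_id_apply' F]

theorem del_rs [IsNoetherianRing ↑Γ(X, U)] {T T' : ZClos.Cl Z} (h : T ≤ T')
    (t : Γ(EGA4.tildeOf ↑Γ(X, U) (MM F hU), ⊤ ⊓ (preCl hU Z T).U)) :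
    del F hU Z T' (rs (ZS hU Z) _ (preCl_mono hU Z h) t) =
      F.presheaf.map (homOfLE (inf_le_inf_left U (ZClos.Cl.U_anti h))).op (del F hU Z T t) := by
  rw [del_apply, del_apply]
  have h1 := bet_res F hU (inf_le_inf_left ⊤ (ZClos.Cl.U_anti (preCl_mono hU Z h))) t
  have h2 : rs (ZS hU Z) _ (preCl_mono hU Z h) t =
      (EGA4.tildeOf ↑Γ(X, U) (MM F hU)).presheaf.map
        (homOfLE (inf_le_inf_left ⊤ (ZClos.Cl.U_anti (preCl_mono hU Z h)))).op t := rfl
  rw [h2, h1, map_map_eq F _ _ (homOfLE ((inf_le_inf_left U (ZClos.Cl.U_anti h)).trans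
    (le_of_eq (image_preCl hU Z T).symm))).op, map_map_eq F _ _
    (homOfLE ((inf_le_inf_left U (ZClos.Cl.U_anti h)).trans
    (le_of_eq (image_preCl hU Z T).symm))).op]

end Closure

section Linear

variable (Z : Set X)

/-- sections of `M~` over the complement of the trace of `T` as sections of `j_*(F|X∖T)` over
`U`, linearly over `Γ(X, U)`. -/
noncomputable def gamU (T : ZClos.Cl Z) :
    Γ(EGA4.tildeOf ↑Γ(X, U) (MM F hU), ⊤ ⊓ (preCl hU Z T).U) →ₗ[↑Γ(X, U)]
      Γ((ZClos.resPush T.U).obj F, U) where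
  toFun t := toPX F T.U U
    (F.presheaf.map (homOfLE (le_of_eq (img_eq Z T U))).op (del F hU Z T t))
  map_add' a b := by
    rw [map_add, map_add]
    rfl
  map_smul' a t := by
    rw [RingHom.id_apply, del_apply, bet_smul]
    have e1 := Scheme.Modules.map_smul F (homOfLE (le_of_eq (image_preCl hU Z T).symm))
      (X.presheaf.map (homOfLE (fromSpec_image_le hU _)).op a) (bet F hU _ t)
    have e2 := Scheme.Modules.map_smul F (homOfLE (le_of_eq (img_eq Z T U)))
      (X.presheaf.map (homOfLE (le_of_eq (image_preCl hU Z T).symm)).op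
        (X.presheaf.map (homOfLE (fromSpec_image_le hU _)).op a))
      (F.presheaf.map (homOfLE (le_of_eq (image_preCl hU Z T).symm)).op (bet F hU _ t))
    rw [e1, e2, res_map_map_eq _ _ (homOfLE ((le_of_eq (image_preCl hU Z T).symm).trans
        (fromSpec_image_le hU _))).op a,
      res_map_map_eq _ _ (homOfLE (T.U.ι.image_preimage_le U)).op a]
    exact resPush_smulX F T.U U a _

theorem gamU_apply (T : ZClos.Cl Z)
    (t : Γ(EGA4.tildeOf ↑Γ(X, U) (MM F hU), ⊤ ⊓ (preCl hU Z T).U)) :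
    gamU F hU Z T t = toPX F T.U U
      (F.presheaf.map (homOfLE (le_of_eq (img_eq Z T U))).op (del F hU Z T t)) := rfl

theorem gamU_bijective (T : ZClos.Cl Z) : Function.Bijective (gamU F hU Z T) := by
  constructor
  · intro a b hab
    rw [gamU_apply, gamU_apply] at hab
    have hab' : F.presheaf.map (homOfLE (le_of_eq (img_eq Z T U))).op (del F hU Z T a) =
        F.presheaf.map (homOfLE (le_of_eq (img_eq Z T U))).op (del F hU Z T b) := hab
    have h1 := congrArg (F.presheaf.map (homOfLE (le_of_eq (img_eq Z T U).symm)).op) hab'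
    rw [map_map_eq F _ _ (𝟙 _), map_map_eq F _ _ (𝟙 _), map_id_apply' F, map_id_apply' F] at h1
    exact (del_bijective F hU Z T).1 h1
  · intro x
    obtain ⟨t, ht⟩ := (del_bijective F hU Z T).2
      (F.presheaf.map (homOfLE (le_of_eq (img_eq Z T U).symm)).op x)
    refine ⟨t, ?_⟩
    rw [gamU_apply, ht, map_map_eq F _ _ (𝟙 _), map_id_apply' F]
    rfl

end Linear

section Main

variable [IsLocallyNoetherian X] (Z : Set X)

/-- **Finiteness of the sections of the Z-closure over an affine open**, from the affine theory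
on `Spec Γ(X, U)`. -/
theorem finite_H0_sections_of_S [IsNoetherianRing ↑Γ(X, U)] (hZ : StableUnderSpecialization Z)
    [Module.Finite ↑Γ(X, U) (MM F hU)]
    (hS : ∀ (p : Ideal ↑Γ(X, U)) [p.IsPrime], p ∈ associatedPrimes ↑Γ(X, U) (MM F hU) →
      pt p ∉ ZS hU Z ∧ EGA4.HeightOneHullFinite (↑Γ(X, U) ⧸ p) ∧
        ∀ y ∈ ZS hU Z, p ≤ y.asIdeal →
          (2 : ℕ∞) ≤ (y.asIdeal.map (Ideal.Quotient.mk p)).height) :
    Module.Finite Γ(X, U) Γ((ZClos.H0 Z).obj F, U) := by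
  classical
  have hGH : Module.Finite ↑Γ(X, U) (GH (ZS hU Z) (MM F hU)) :=
    finite_H0 (ZS hU Z) (stable_ZS hU Z hZ) (MM F hU) (fun p _ hp _ => (hS p hp).2)
  haveI := hGH
  haveI : IsNoetherian ↑Γ(X, U) (GH (ZS hU Z) (MM F hU)) :=
    isNoetherian_of_isNoetherianRing_of_finite _ _
  have hinj : ∀ T' : ZClos.Cl (X := Spec (CommRingCat.of ↑Γ(X, U))) (ZS hU Z),
      Function.Injective (σL (ZS hU Z) (EGA4.tildeOf ↑Γ(X, U) (MM F hU)) T' ⊤) :=
    σL_injective_of_ass (ZS hU Z) (fun p _ hp => (hS p hp).1)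
  -- a closed subset with maximal range
  let R_ : ZClos.Cl Z → Submodule ↑Γ(X, U) (GH (ZS hU Z) (MM F hU)) :=
    fun T => LinearMap.range (σL (ZS hU Z) (EGA4.tildeOf ↑Γ(X, U) (MM F hU)) (preCl hU Z T) ⊤)
  obtain ⟨_, ⟨T₀, rfl⟩, hmax⟩ := WellFounded.has_min
    (wellFounded_gt : WellFounded (α := Submodule ↑Γ(X, U) (GH (ZS hU Z) (MM F hU))) (· > ·))
    (Set.range R_) ⟨_, ⟨⊥, rfl⟩⟩
  have hmono : ∀ T T' : ZClos.Cl Z, T ≤ T' → R_ T ≤ R_ T' := by
    rintro T T' h _ ⟨t, rfl⟩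
    exact ⟨rs (ZS hU Z) _ (preCl_mono hU Z h) t, σ_rs (ZS hU Z) _ (preCl_mono hU Z h) t⟩
  have hstab : ∀ T : ZClos.Cl Z, T₀ ≤ T → R_ T ≤ R_ T₀ := by
    intro T hT
    have h1 : R_ T₀ ≤ R_ T := hmono T₀ T hT
    have h2 : R_ T = R_ T₀ := by
      by_contra hne
      exact hmax (R_ T) ⟨T, rfl⟩ (lt_of_le_of_ne h1 (Ne.symm hne))
    rw [h2]
  -- surjectivity of the colimit injection at `T₀` over `U`
  have hsurj : Function.Surjective
      (Groth.Agent.Helper13.LocFree.appLinearMap (colimit.ι ((ZClos.diagram Z).obj F) T₀) U) := by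
    intro s
    obtain ⟨T, t, rfl⟩ := exists_rep Z F U hU.isCompact s
    have e1 := σ_index Z F (le_sup_left : T ≤ T ⊔ T₀) U t
    obtain ⟨t₁, ht₁⟩ := (del_bijective F hU Z (T ⊔ T₀)).2
      (F.presheaf.map (homOfLE (inf_le_inf_left U (ZClos.Cl.U_anti (le_sup_left : T ≤ T ⊔ T₀)))).op t)
    have h3 : σL (ZS hU Z) (EGA4.tildeOf ↑Γ(X, U) (MM F hU)) (preCl hU Z (T ⊔ T₀)) ⊤ t₁ ∈ R_ T₀ :=
      hstab (T ⊔ T₀) le_sup_right ⟨t₁, rfl⟩
    obtain ⟨t₀, ht₀⟩ := h3
    have h4 : rs (ZS hU Z) _ (preCl_mono hU Z (le_sup_right : T₀ ≤ T ⊔ T₀)) t₀ = t₁ := by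
      apply hinj
      rw [σL_apply, σL_apply, σ_rs]
      exact ht₀
    refine ⟨toPX F T₀.U U
      (F.presheaf.map (homOfLE (le_of_eq (img_eq Z T₀ U))).op (del F hU Z T₀ t₀)), ?_⟩
    show σ Z F T₀ U (del F hU Z T₀ t₀) = σ Z F T U t
    rw [← e1, ← ht₁, ← h4, del_rs F hU Z (le_sup_right : T₀ ≤ T ⊔ T₀) t₀,
      σ_index Z F (le_sup_right : T₀ ≤ T ⊔ T₀) U]
  -- finiteness of the source
  haveI : Module.Finite ↑Γ(X, U)
      Γ(EGA4.tildeOf ↑Γ(X, U) (MM F hU), ⊤ ⊓ (preCl hU Z T₀).U) :=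
    Module.Finite.of_injective _ (hinj (preCl hU Z T₀))
  have hfin1 : Module.Finite Γ(X, U) Γ((ZClos.resPush T₀.U).obj F, U) :=
    Module.Finite.of_surjective (gamU F hU Z T₀) (gamU_bijective F hU Z T₀).2
  haveI : Module.Finite Γ(X, U) Γ(((ZClos.diagram Z).obj F).obj T₀, U) := hfin1
  exact Module.Finite.of_surjective _ hsurj

end Main

section EMM

theorem image_top_eq :
    hU.fromSpec ''ᵁ (⊤ : (Spec (CommRingCat.of ↑Γ(X, U))).Opens) = U := by
  apply le_antisymm (fromSpec_image_le hU ⊤)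
  intro y hy
  have hy' : y ∈ Set.range hU.fromSpec.base := by
    rw [hU.range_fromSpec]
    exact hy
  obtain ⟨x, rfl⟩ := hy'
  exact ⟨x, trivial, rfl⟩

/-- sections of `F` over `U` as global sections of its restriction to `Spec Γ(X, U)`. -/
noncomputable def eMM : Γ(F, U) →ₗ[↑Γ(X, U)] MM F hU where
  toFun x := (show Γ(F, hU.fromSpec ''ᵁ ⊤) from
    F.presheaf.map (homOfLE (fromSpec_image_le hU ⊤)).op x)
  map_add' a b := map_add (F.presheaf.map (homOfLE (fromSpec_image_le hU ⊤)).op).hom a b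
  map_smul' r x := by
    rw [RingHom.id_apply]
    have e1 := Scheme.Modules.map_smul F (homOfLE (fromSpec_image_le hU ⊤)) r x
    have e2 := smul_restrict F hU ⊤ r (F.presheaf.map (homOfLE (fromSpec_image_le hU ⊤)).op x)
    exact e1.trans e2.symm

theorem eMM_apply (x : Γ(F, U)) :
    eMM F hU x = (show Γ(F, hU.fromSpec ''ᵁ ⊤) from
      F.presheaf.map (homOfLE (fromSpec_image_le hU ⊤)).op x) := rfl

theorem eMM_bijective : Function.Bijective (eMM F hU) := by
  constructor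
  · intro a b hab
    have hab' : F.presheaf.map (homOfLE (fromSpec_image_le hU ⊤)).op a =
        F.presheaf.map (homOfLE (fromSpec_image_le hU ⊤)).op b := hab
    have h1 := congrArg (F.presheaf.map (homOfLE (le_of_eq (image_top_eq hU).symm)).op) hab'
    rw [map_map_eq F _ _ (𝟙 _), map_map_eq F _ _ (𝟙 _), map_id_apply' F, map_id_apply' F] at h1
    exact h1
  · intro x
    refine ⟨F.presheaf.map (homOfLE (le_of_eq (image_top_eq hU).symm)).op
      (show Γ(F, hU.fromSpec ''ᵁ ⊤) from x), ?_⟩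
    show F.presheaf.map (homOfLE (fromSpec_image_le hU ⊤)).op (F.presheaf.map _ _) = _
    rw [map_map_eq F _ _ (𝟙 _), map_id_apply' F]

end EMM

end Geom

section Final

theorem hohf_of_eq {A : Type u} [CommRing A] (I p : Ideal A) [I.IsPrime] [p.IsPrime]
    (h : I = p) (hcat : CAlg.IsUniversallyCatenary (A ⧸ I)) (hN1 : CAlg.IsN1 (A ⧸ I)) :
    EGA4.HeightOneHullFinite (A ⧸ p) := by
  subst h
  haveI := hcat.1
  exact Groth.Agent.Helper7.HullFin.s2666 (A ⧸ I) hcat hN1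

theorem finite_sec_of_eq {A : Type u} [CommRing A] {M : Type u} [AddCommGroup M] [Module A M]
    (W W' : Opens (PrimeSpectrum.Top A)) (h : W = W') (hfin : Module.Finite A (Sec A M W)) :
    Module.Finite A (Sec A M W') := by
  subst h
  exact hfin

/-- **Coherence of the Z-closure from a covering family of closed subsets with coherent direct
images**, when the closures of the associated points are universally catenary with finite
normalization. -/
theorem isCoh_H0_of_family {X : Scheme.{u}} [IsLocallyNoetherian X] (Z : Set X)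
    (hZ : StableUnderSpecialization Z) (F : X.Modules) (hF : Coh.IsCoh F)
    (hass : ∀ x ∈ AssSch.Ass F, x ∉ Z)
    (hX : ∀ (V : X.Opens) (hV : IsAffineOpen V) (x : X) (hxV : x ∈ V), x ∈ AssSch.Ass F →
        CAlg.IsUniversallyCatenary (Γ(X, V) ⧸ (hV.primeIdealOf ⟨x, hxV⟩).asIdeal) ∧
          CAlg.IsN1 (Γ(X, V) ⧸ (hV.primeIdealOf ⟨x, hxV⟩).asIdeal))
    (𝒯 : Set (ZClos.Cl Z)) (hcov : ∀ z ∈ Z, ∃ T ∈ 𝒯, z ∈ (T.1 : Set X))
    (hd : ∀ T ∈ 𝒯, Coh.IsCoh ((ZClos.resPush T.U).obj F)) :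
    Coh.IsCoh ((ZClos.H0 Z).obj F) := by
  classical
  haveI hFq : F.IsQuasicoherent := hF.1
  haveI hFf : SheafOfModules.IsFiniteType (R := X.ringCatSheaf) F := hF.2
  haveI hq : ((ZClos.H0 Z).obj F).IsQuasicoherent := isQuasicoherent_H0 Z F
  refine ⟨hq, ?_⟩
  apply Groth.Agent.Helper13.FinType.isFiniteType_of_finite_sections
  intro x
  obtain ⟨_, ⟨V, hV, rfl⟩, hxV, _⟩ :=
    X.isBasis_affineOpens.exists_subset_of_mem_open (Set.mem_univ x) isOpen_univ
  refine ⟨V, hxV, hV, ?_⟩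
  haveI : IsNoetherianRing ↑Γ(X, V) := IsLocallyNoetherian.component_noetherian ⟨V, hV⟩
  have hfinFV : Module.Finite Γ(X, V) Γ(F, V) :=
    Groth.Agent.Helper13.FinType.finite_sections_of_isFiniteType F hV
  haveI : Module.Finite ↑Γ(X, V) (MM F hV) :=
    Module.Finite.of_surjective (eMM F hV) (eMM_bijective F hV).2
  apply finite_H0_sections_of_S F hV Z hZ
  intro p _ hp
  -- the point of `X` attached to `p`
  have hxV' : hV.fromSpec.base (pt p) ∈ V := by
    have : hV.fromSpec.base (pt p) ∈ Set.range hV.fromSpec.base := ⟨_, rfl⟩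
    rw [hV.range_fromSpec] at this
    exact this
  have hprime : hV.primeIdealOf ⟨hV.fromSpec.base (pt p), hxV'⟩ = pt p := by
    apply hV.fromSpec.isOpenEmbedding.injective
    exact hV.fromSpec_primeIdealOf ⟨_, hxV'⟩
  have hpF : IsAssociatedPrime p Γ(F, V) :=
    (LinearEquiv.isAssociatedPrime_iff
      (LinearEquiv.ofBijective (eMM F hV) (eMM_bijective F hV))).2 hp
  have hassx : hV.fromSpec.base (pt p) ∈ AssSch.Ass F := by
    apply Groth.Agent.Lead.IsoDepth.isAssPoint_of_isAssociatedPrime F hV ⟨_, hxV'⟩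
    rw [hprime]
    exact hpF
  have hxZ : hV.fromSpec.base (pt p) ∉ Z := hass _ hassx
  obtain ⟨hcat, hN1⟩ := hX V hV _ hxV' hassx
  refine ⟨hxZ, hohf_of_eq _ p (congrArg PrimeSpectrum.asIdeal hprime) hcat hN1, ?_⟩
  intro y hy hpy
  obtain ⟨T, hT, hyT⟩ := hcov _ hy
  obtain ⟨hTq, hTf⟩ := hd T hT
  haveI := hTq
  haveI := hTf
  have hfin1 : Module.Finite Γ(X, V) Γ((ZClos.resPush T.U).obj F, V) :=
    Groth.Agent.Helper13.FinType.finite_sections_of_isFiniteType _ hV
  have hfin2 : Module.Finite ↑Γ(X, V)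
      Γ(EGA4.tildeOf ↑Γ(X, V) (MM F hV), ⊤ ⊓ (preCl hV Z T).U) :=
    Module.Finite.of_surjective
      (LinearEquiv.ofBijective (gamU F hV Z T) (gamU_bijective F hV Z T)).symm.toLinearMap
      (LinearEquiv.surjective _)
  have hfin3 : Module.Finite ↑Γ(X, V) (Sec ↑Γ(X, V) (MM F hV)
      (⊤ ⊓ (preCl hV Z T).U : (Spec (CommRingCat.of ↑Γ(X, V))).Opens)) :=
    Module.Finite.of_surjective (secEquiv (M := MM F hV) _).toLinearMap
      (LinearEquiv.surjective _)
  -- the ideal of the trace of `T`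
  let J : Ideal ↑Γ(X, V) :=
    PrimeSpectrum.vanishingIdeal (hV.fromSpec.base ⁻¹' (T.1 : Set X))
  have hzl : PrimeSpectrum.zeroLocus (J : Set ↑Γ(X, V)) = hV.fromSpec.base ⁻¹' (T.1 : Set X) := by
    rw [PrimeSpectrum.zeroLocus_vanishingIdeal_eq_closure]
    exact (T.1.isClosed.preimage hV.fromSpec.continuous).closure_eq
  have hUJ : (⊤ ⊓ (preCl hV Z T).U : (Spec (CommRingCat.of ↑Γ(X, V))).Opens) = UJ ↑Γ(X, V) J := by
    apply Opens.ext
    apply Set.ext
    intro (z : PrimeSpectrum ↑Γ(X, V))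
    constructor
    · intro hz
      refine (mem_UJ_iff ↑Γ(X, V) J z).2 ?_
      intro hJz
      have hz' : z ∈ PrimeSpectrum.zeroLocus (J : Set ↑Γ(X, V)) :=
        (PrimeSpectrum.mem_zeroLocus z _).2 hJz
      rw [hzl] at hz'
      exact hz.2 hz'
    · intro hz
      have hz1 := (mem_UJ_iff ↑Γ(X, V) J z).1 hz
      refine ⟨trivial, fun hzT => hz1 ?_⟩
      have hz' : z ∈ PrimeSpectrum.zeroLocus (J : Set ↑Γ(X, V)) := by
        rw [hzl]
        exact hzT
      exact (PrimeSpectrum.mem_zeroLocus z _).1 hz'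
  have hfin4 : Module.Finite ↑Γ(X, V) (Sec ↑Γ(X, V) (MM F hV) (UJ ↑Γ(X, V) J)) :=
    finite_sec_of_eq _ _ hUJ hfin3
  have hfin5 : Module.Finite ↑Γ(X, V) (Sec ↑Γ(X, V) (↑Γ(X, V) ⧸ p) (UJ ↑Γ(X, V) J)) :=
    finite_sec_quot_of_ass (UJ ↑Γ(X, V) J) p hp hfin4
  have hJp : ¬ J ≤ p := by
    intro hJp
    have h1 : pt p ∈ PrimeSpectrum.zeroLocus (J : Set ↑Γ(X, V)) :=
      (PrimeSpectrum.mem_zeroLocus (pt p) _).2 hJp
    rw [hzl] at h1
    exact hxZ (T.2 h1)
  have h2 := two_le_height_of_finite p J hJp hfin5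
  have hJy : J ≤ y.asIdeal := by
    have h1 : y ∈ PrimeSpectrum.zeroLocus (J : Set ↑Γ(X, V)) := by
      rw [hzl]
      exact hyT
    exact (PrimeSpectrum.mem_zeroLocus y _).1 h1
  exact le_trans h2 (Ideal.height_mono (Ideal.map_mono hJy))

end Final

end Groth.Agent.Lead.PC
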