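import Groth.Agent.S2252
import Groth.Agent.S16081
import Groth.Agent.Lib.Lead.HomSh9
import Groth.Agent.Lib.Lead.IsoCodim

/-!
# Invertible modules on dense opens of locally factorial schemes extend; the Picard group of the
punctured spectrum of a Noetherian local UFD is trivial (lead)
-/

set_option autoImplicit false
universe u
open CategoryTheory CategoryTheory.Limits AlgebraicGeometry Opposite TopologicalSpace
open RefHull IsLocalRing
open Groth.Agent.Helper13.QCoh Groth.Agent.Helper13.QCohLoc Groth.Agent.Helper13.LocFree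
open Groth.Agent.Helper13.FinType Groth.Agent.Helper13.Inv Groth.Agent.Helper13.WeakAss
open Groth.Agent.Lead.HomSh

namespace Groth.Agent.Lead.PicPunct

/-- a localization of a unique factorization domain which is a domain is a unique factorization
domain. -/
theorem ufd_of_isLocalization {R : Type*} [CommRing R] [IsDomain R] [UniqueFactorizationMonoid R]
    (M : Submonoid R) (S : Type*) [CommRing S] [IsDomain S] [Algebra R S] [IsLocalization M S] :
    UniqueFactorizationMonoid S := by
  rw [UniqueFactorizationMonoid.iff_exists_prime_mem_of_isPrime]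
  intro Q hQ0 hQ
  have hP : (Q.comap (algebraMap R S)).IsPrime := Ideal.comap_isPrime _ _
  have hmc : Ideal.map (algebraMap R S) (Q.comap (algebraMap R S)) = Q :=
    IsLocalization.map_comap M S Q
  have hP0 : Q.comap (algebraMap R S) ≠ ⊥ := by
    intro h
    apply hQ0
    rw [← hmc, h, Ideal.map_bot]
  obtain ⟨p, hpP, hp⟩ :=
    (UniqueFactorizationMonoid.iff_exists_prime_mem_of_isPrime.1 inferInstance) _ hP0 hP
  have hpQ : algebraMap R S p ∈ Q := hpP
  refine ⟨algebraMap R S p, hpQ, ?_⟩
  have hdisj : Disjoint (M : Set R) ↑(Ideal.span {p}) := by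
    rw [Set.disjoint_left]
    intro m hm hmp
    have hle : Ideal.span {p} ≤ Q.comap (algebraMap R S) :=
      (Ideal.span_singleton_le_iff_mem _).2 hpP
    have hmQ : algebraMap R S m ∈ Q := hle hmp
    exact hQ.ne_top (Ideal.eq_top_of_isUnit_mem _ hmQ (IsLocalization.map_units S ⟨m, hm⟩))
  have hprime := IsLocalization.isPrime_of_isPrime_disjoint M S (Ideal.span {p})
    ((Ideal.span_singleton_prime hp.ne_zero).2 hp) hdisj
  rw [Ideal.map_span, Set.image_singleton] at hprime
  have h0 : algebraMap R S p ≠ 0 := by
    intro h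
    obtain ⟨m, hm⟩ := (IsLocalization.map_eq_zero_iff M S p).1 h
    rcases mul_eq_zero.1 hm with h1 | h1
    · have hu := IsLocalization.map_units S m
      rw [h1, map_zero] at hu
      exact not_isUnit_zero hu
    · exact hp.ne_zero h1
  exact (Ideal.span_singleton_prime h0).1 hprime

/-- the local rings of the spectrum of a unique factorization domain are unique factorization
domains. -/
theorem ufd_stalk_spec (A : Type u) [CommRing A] [IsDomain A] [UniqueFactorizationMonoid A]
    (x : Spec (CommRingCat.of A)) :
    UniqueFactorizationMonoid ((Spec (CommRingCat.of A)).presheaf.stalk x) := by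
  haveI : IsDomain ((Spec.structureSheaf A).presheaf.stalk x) :=
    inferInstanceAs (IsDomain ((Spec (CommRingCat.of A)).presheaf.stalk x))
  haveI hloc : IsLocalization.AtPrime ((Spec.structureSheaf A).presheaf.stalk x) x.asIdeal :=
    StructureSheaf.IsLocalization.to_stalk A x
  exact ufd_of_isLocalization x.asIdeal.primeCompl ((Spec.structureSheaf A).presheaf.stalk x)

variable {X : Scheme.{u}}

/-- restriction of a trivialization to a smaller open. -/
theorem nonempty_restrict_iso_unit_of_le (G : X.Modules) {U W : X.Opens} (h : U ≤ W)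
    (e : G.restrict W.ι ≅ Coh.structureModule (W : Scheme.{u})) :
    Nonempty (G.restrict U.ι ≅ Coh.structureModule (U : Scheme.{u})) := by
  have hι : U.ι = X.homOfLE h ≫ W.ι := (X.homOfLE_ι h).symm
  exact ⟨(Scheme.Modules.restrictFunctorCongr hι).app G ≪≫
    (Scheme.Modules.restrictFunctorComp (X.homOfLE h) W.ι).app G ≪≫
    (Scheme.Modules.restrictFunctor (X.homOfLE h)).mapIso e ≪≫
    Scheme.Modules.restrictUnitIso _⟩

/-- the stalks of a module are reflexive at the points of an open on which it is invertible. -/
theorem isReflexiveAt_of_isInvertible_restrict (F : X.Modules) (U : X.Opens)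
    (h : PicF.IsInvertible (F.restrict U.ι)) (x : X) (hx : x ∈ U) : IsReflexiveAt F x := by
  obtain ⟨U', hU', s', hs'⟩ := (isInvertible_iff_exists_isGen (F.restrict U.ι)).1 h ⟨x, hx⟩
  let s₀ : Γ(F, U.ι ''ᵁ U') := s'
  have hgen : IsGen F s₀ x ⟨⟨x, hx⟩, hU', rfl⟩ :=
    (isGen_restrict_iff U.ι F (U := U') s₀ ⟨x, hx⟩ hU').1 (hs' _ hU')
  have hb : Function.Bijective (LinearMap.toSpanSingleton (X.presheaf.stalk x)
      (F.presheaf.stalk x) (F.presheaf.germ (U.ι ''ᵁ U') x ⟨⟨x, hx⟩, hU', rfl⟩ s₀)) := hgen
  unfold IsReflexiveAt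
  exact Module.equiv (LinearEquiv.ofBijective _ hb)

/-- **Invertible modules on a dense open of an integral locally Noetherian scheme with factorial
local rings extend to invertible modules.** -/
theorem exists_invertible_extension [IsIntegral X] [IsLocallyNoetherian X]
    (hufd : ∀ x : X, UniqueFactorizationMonoid (X.presheaf.stalk x))
    (hX : ∀ x : X, ∃ U : X.Opens, x ∈ U ∧ TopologicalSpace.NoetherianSpace (U : Set X))
    (U : X.Opens) (hU : Dense (U : Set X)) (L : (U : Scheme.{u}).Modules)
    (hL : PicF.IsInvertible L) :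
    ∃ G : X.Modules, PicF.IsInvertible G ∧ Nonempty (G.restrict U.ι ≅ L) := by
  haveI : Coh.IsQCoh L := isQuasicoherent_of_isInvertible L hL
  have hft : CohB1.IsFT L := Groth.Agent.Helper13.GlobGen.isFiniteType_of_isInvertible L hL
  obtain ⟨F, hFq, hFft, ⟨e⟩⟩ := Groth.Agent.S2252.result hX U L hft
  have hF : Coh.IsCoh F := ⟨hFq, hFft⟩
  have hO : Coh.IsCoh (Coh.structureModule X) := isCoh_structureModule
  have hD : Coh.IsCoh (dual F) := isCoh_homSh hF hO
  have hG : Coh.IsCoh (ddual F) := isCoh_homSh hD hO
  haveI := isFinitePresentation_of_isCoh hF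
  haveI := isFinitePresentation_of_isCoh hD
  have hOrefl : IsReflexive (Coh.structureModule X) := by
    rw [isReflexive_iff_forall_isReflexiveAt _ hO]
    intro x
    unfold IsReflexiveAt
    exact Module.equiv (unitStalkEquiv x).symm
  have hGrefl : IsReflexive (ddual F) :=
    Groth.Agent.S16081.result X (dual F) (Coh.structureModule X) hD hO hOrefl
  have hinvF : PicF.IsInvertible (F.restrict U.ι) := isInvertible_of_iso e.symm hL
  have hbij : ∀ x : X, x ∈ U → Function.Bijective (stalkMap (bidualMap F) x) := by
    intro x hx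
    exact (isReflexiveAt_iff_bijective F x).1
      (isReflexiveAt_of_isInvertible_restrict F U hinvF x hx)
  haveI hiso : IsIso ((Scheme.Modules.restrictFunctor U.ι).map (bidualMap F)) :=
    Groth.Agent.Lead.IsoCodim.isIso_restrict_of_bijective (bidualMap F) U hbij
  let eG : (ddual F).restrict U.ι ≅ L :=
    (asIso ((Scheme.Modules.restrictFunctor U.ι).map (bidualMap F))).symm ≪≫ e
  have hgen : GenInvertible (ddual F) := ⟨U, hU, isInvertible_of_iso eG.symm hL⟩
  exact ⟨ddual F, isInvertible_of_isReflexive_of_ufd hufd (ddual F) hG hGrefl hgen, ⟨eG⟩⟩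

/-- **The Picard group of the punctured spectrum of a Noetherian local unique factorization domain
is trivial.** -/
theorem picTrivial_puncturedSpec (A : Type u) [CommRing A] [IsDomain A] [IsNoetherianRing A]
    [IsLocalRing A] [UniqueFactorizationMonoid A] :
    ParaF.PicTrivial (FEt.puncturedSpec A : Scheme.{u}) := by
  intro L hL
  by_cases hne : ((FEt.puncturedSpec A : (Spec (CommRingCat.of A)).Opens) :
      Set (Spec (CommRingCat.of A))).Nonempty
  · have hU : Dense ((FEt.puncturedSpec A : (Spec (CommRingCat.of A)).Opens) :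
        Set (Spec (CommRingCat.of A))) := (FEt.puncturedSpec A).isOpen.dense hne
    have hufd : ∀ x : Spec (CommRingCat.of A),
        UniqueFactorizationMonoid ((Spec (CommRingCat.of A)).presheaf.stalk x) :=
      fun x => ufd_stalk_spec A x
    have hX : ∀ x : Spec (CommRingCat.of A), ∃ V : (Spec (CommRingCat.of A)).Opens,
        x ∈ V ∧ TopologicalSpace.NoetherianSpace (V : Set (Spec (CommRingCat.of A))) := by
      intro x
      haveI : TopologicalSpace.NoetherianSpace (Spec (CommRingCat.of A)) :=
        inferInstanceAs (TopologicalSpace.NoetherianSpace (PrimeSpectrum A))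
      exact ⟨⊤, trivial, inferInstance⟩
    obtain ⟨G, hG, ⟨eG⟩⟩ := exists_invertible_extension hufd hX (FEt.puncturedSpec A) hU L hL
    obtain ⟨W, hW, ⟨eW⟩⟩ := hG (closedPoint A)
    have hUW : FEt.puncturedSpec A ≤ W := by
      intro x _
      exact (IsLocalRing.specializes_closedPoint x).mem_open W.isOpen hW
    obtain ⟨e1⟩ := nonempty_restrict_iso_unit_of_le G hUW eW
    exact ⟨eG.symm ≪≫ e1⟩
  · have hempty : ∀ x : (FEt.puncturedSpec A : Scheme.{u}), False := by
      intro x
      exact hne ⟨x.1, x.2⟩
    have hbij : ∀ x : (FEt.puncturedSpec A : Scheme.{u}), Function.Bijective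
        (stalkMap (0 : L ⟶ Coh.structureModule (FEt.puncturedSpec A : Scheme.{u})) x) :=
      fun x => (hempty x).elim
    haveI := isIso_of_stalk_bijective
      (0 : L ⟶ Coh.structureModule (FEt.puncturedSpec A : Scheme.{u})) hbij
    exact ⟨asIso (0 : L ⟶ Coh.structureModule (FEt.puncturedSpec A : Scheme.{u}))⟩

end Groth.Agent.Lead.PicPunct
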