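import Groth.Agent.Lib.Lead.HomSh1
import Groth.Agent.S0019
import Groth.Prelude.Def_ChowK

/-!
# Support of the direct image along a closed map

If the stalk of `π_* F` at `y` is nonzero, then some stalk of `F` over `y` is nonzero.
-/

set_option autoImplicit false
universe u
open CategoryTheory CategoryTheory.Limits AlgebraicGeometry Opposite TopologicalSpace

namespace Groth.Agent.Lead.PushSupp

theorem exists_nontrivial_stalk_of_push {X Y : Scheme.{u}} (π : X ⟶ Y) (hcl : IsClosedMap π)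
    (F : X.Modules) (y : Y)
    (hy : Nontrivial (((Scheme.Modules.pushforward π).obj F).presheaf.stalk y)) :
    ∃ x, π x = y ∧ Nontrivial (F.presheaf.stalk x) := by
  by_contra hcon
  push Not at hcon
  have hsub : ∀ x, π x = y → Subsingleton (F.presheaf.stalk x) := hcon
  have hzero : ∀ t : ((Scheme.Modules.pushforward π).obj F).presheaf.stalk y, t = 0 := by
    intro t
    obtain ⟨V, hyV, s, rfl⟩ :=
      TopCat.Presheaf.exists_germ_eq ((Scheme.Modules.pushforward π).obj F).presheaf t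
    obtain ⟨s', hs'⟩ : ∃ s' : Γ(F, π ⁻¹ᵁ V), s' = s := ⟨s, rfl⟩
    have hloc : ∀ x : X, π x = y → ∃ (W : X.Opens) (_ : x ∈ W) (i : W ⟶ π ⁻¹ᵁ V),
        F.presheaf.map i.op s' = 0 := by
      intro x hx
      haveI := hsub x hx
      have hxV : x ∈ π ⁻¹ᵁ V := by
        show π x ∈ V
        rw [hx]
        exact hyV
      have h0 : F.presheaf.germ (π ⁻¹ᵁ V) x hxV s' = F.presheaf.germ (π ⁻¹ᵁ V) x hxV 0 :=
        Subsingleton.elim _ _
      obtain ⟨W, hxW, i1, i2, hW⟩ := TopCat.Presheaf.germ_eq F.presheaf x hxV hxV s' 0 h0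
      exact ⟨W, hxW, i1, by rw [hW, map_zero]⟩
    choose W hxW i hW using hloc
    obtain ⟨Wtot, hWtot⟩ : ∃ Wtot : X.Opens, Wtot = ⨆ x : {x : X // π x = y}, W x.1 x.2 :=
      ⟨_, rfl⟩
    have hZ : IsClosed ((Wtot : Set X)ᶜ) := Wtot.isOpen.isClosed_compl
    have hπZ : IsClosed (π '' ((Wtot : Set X)ᶜ)) := hcl _ hZ
    obtain ⟨V', hV'⟩ : ∃ V' : Y.Opens, V' = V ⊓ ⟨(π '' ((Wtot : Set X)ᶜ))ᶜ, hπZ.isOpen_compl⟩ :=
      ⟨_, rfl⟩
    have hyV' : y ∈ V' := by
      rw [hV']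
      refine ⟨hyV, ?_⟩
      rintro ⟨z, hz, hzy⟩
      apply hz
      rw [hWtot]
      exact Opens.mem_iSup.mpr ⟨⟨z, hzy⟩, hxW z hzy⟩
    have hle : V' ≤ V := by
      rw [hV']
      exact inf_le_left
    have hres : ((Scheme.Modules.pushforward π).obj F).presheaf.map (homOfLE hle).op s = 0 := by
      have hle' : π ⁻¹ᵁ V' ≤ π ⁻¹ᵁ V := fun x hx => hle hx
      have h1 : F.presheaf.map (homOfLE hle').op s' = 0 := by
        apply Groth.Agent.Lead.HomSh.sec_ext' F
        rintro ⟨x, hx⟩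
        rw [TopCat.Presheaf.germ_res_apply, map_zero]
        have hxW : x ∈ Wtot := by
          by_contra hnot
          have hx' : π x ∈ V' := hx
          rw [hV'] at hx'
          exact hx'.2 ⟨x, hnot, rfl⟩
        rw [hWtot] at hxW
        obtain ⟨⟨x₀, hx₀⟩, hxx₀⟩ := Opens.mem_iSup.mp hxW
        rw [← TopCat.Presheaf.germ_res_apply F.presheaf (i x₀ hx₀) x hxx₀ s', hW x₀ hx₀,
          map_zero]
      subst hs'
      exact h1
    rw [← TopCat.Presheaf.germ_res_apply _ (homOfLE hle) y hyV' s, hres, map_zero]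
  obtain ⟨t, t', htt'⟩ := hy
  exact htt' ((hzero t).trans (hzero t').symm)

/-- Finite pushforward preserves `Coh_{≤ k}`. -/
theorem cohLe_push (X Y : Scheme.{u}) (δX : X → ℤ) (δY : Y → ℤ) [IsLocallyNoetherian Y]
    (π : X ⟶ Y) [IsFinite π] (hδ : Cyc.DeltaCompat π δX δY) (k : ℤ) (F : X.Modules)
    (hF : Cyc.CohLe δX k F) : Cyc.CohLe δY k ((Coh.push π).obj F) := by
  refine ⟨Groth.Agent.S0019.result π F hF.1, ?_⟩
  intro y hy
  obtain ⟨x, hx, hnt⟩ := exists_nontrivial_stalk_of_push π π.isClosedMap F y hy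
  have h1 := hF.2 x hnt
  obtain ⟨n, -, hn⟩ := hδ x
  rw [hx] at hn
  omega

end Groth.Agent.Lead.PushSupp
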