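import Groth.Agent.Lib.Helper13.SemiLocal
import Groth.Agent.Lib.Helper13.GenLocus
import Groth.Agent.Lib.Helper13.GenLocusQcqs
import Groth.Agent.Lib.Helper13.WeakAss
import Groth.Agent.Lib.Helper13.QCohStalk

/-!
# Regular sections of invertible modules (lead)

* `finite_weakAss`: a Noetherian scheme has finitely many weakly associated points.
* `mono_homOfSec_of_isGen`: a global section of an invertible module generating it at all weakly
  associated points is regular.
-/

set_option autoImplicit false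
universe u
open CategoryTheory CategoryTheory.Limits AlgebraicGeometry Opposite TopologicalSpace
open IsLocalRing
open Groth.Agent.Helper13.QCoh Groth.Agent.Helper13.FinType Groth.Agent.Helper13.Inv
open Groth.Agent.Helper13.WeakAss Groth.Agent.Helper13.GenLoc

namespace Groth.Agent.Lead.RegSec

variable {X : Scheme.{u}}

theorem isWeakAssPoint_unit_iff_mem (x : X) :
    Curv2.IsWeakAssPoint (Coh.structureModule X) x ↔
      maximalIdeal (X.presheaf.stalk x) ∈
        associatedPrimes (X.presheaf.stalk x) (X.presheaf.stalk x) := by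
  rw [isWeakAssPoint_unit_iff]
  have key : ∀ m : X.presheaf.stalk x,
      LinearMap.ker (LinearMap.toSpanSingleton (X.presheaf.stalk x) (X.presheaf.stalk x) m) =
        (⊥ : Submodule (X.presheaf.stalk x) (X.presheaf.stalk x)).colon {m} := by
    intro m
    ext r
    rw [LinearMap.mem_ker, LinearMap.toSpanSingleton_apply, Submodule.mem_colon_singleton,
      Submodule.mem_bot]
  constructor
  · rintro ⟨m, hm⟩
    refine ⟨(IsLocalRing.maximalIdeal.isMaximal _).isPrime, m, ?_⟩
    rw [← key, hm]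
  · rintro ⟨_, m, hm⟩
    refine ⟨m, ?_⟩
    rw [key, ← hm]

theorem res_res {U V W : X.Opens} (h1 : V ≤ U) (h2 : W ≤ V) (s : Γ(X, U)) :
    X.presheaf.map (homOfLE h2).op (X.presheaf.map (homOfLE h1).op s) =
      X.presheaf.map (homOfLE (h2.trans h1)).op s := by
  rw [← CommRingCat.comp_apply, ← Functor.map_comp]
  rfl

/-- the weakly associated points in an affine open of a locally Noetherian scheme are finite in
number. -/
theorem finite_weakAss_affine [IsLocallyNoetherian X] {W : X.Opens} (hW : IsAffineOpen W) :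
    {x : X | x ∈ W ∧ Curv2.IsWeakAssPoint (Coh.structureModule X) x}.Finite := by
  classical
  haveI : IsNoetherianRing Γ(X, W) := IsLocallyNoetherian.component_noetherian ⟨W, hW⟩
  have hfin := associatedPrimes.finite Γ(X, W) Γ(X, W)
  let f : X → Ideal Γ(X, W) := fun x =>
    if hx : x ∈ W then (hW.primeIdealOf ⟨x, hx⟩).asIdeal else ⊥
  have hf : ∀ (x : X) (hx : x ∈ W), f x = (hW.primeIdealOf ⟨x, hx⟩).asIdeal := by
    intro x hx
    exact dif_pos hx
  refine Set.Finite.of_injOn (f := f) ?_ ?_ hfin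
  · rintro x ⟨hx, hwa⟩
    rw [hf x hx]
    let _ := TopCat.Presheaf.algebra_section_stalk X.presheaf ⟨x, hx⟩
    haveI hloc : IsLocalization.AtPrime (X.presheaf.stalk x)
        (hW.primeIdealOf ⟨x, hx⟩).asIdeal := hW.isLocalization_stalk ⟨x, hx⟩
    have hass := (isWeakAssPoint_unit_iff_mem x).1 hwa
    have h1 := Module.associatedPrimes.comap_mem_associatedPrimes_of_mem_associatedPrimes_of_isLocalizedModule_of_fg
      (hW.primeIdealOf ⟨x, hx⟩).asIdeal.primeCompl
      (Algebra.linearMap Γ(X, W) (X.presheaf.stalk x)) (maximalIdeal (X.presheaf.stalk x)) hass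
      ((isNoetherianRing_iff_ideal_fg Γ(X, W)).mp inferInstance _)
    have h2 : Ideal.comap (algebraMap Γ(X, W) (X.presheaf.stalk x))
        (maximalIdeal (X.presheaf.stalk x)) = (hW.primeIdealOf ⟨x, hx⟩).asIdeal :=
      IsLocalization.AtPrime.comap_maximalIdeal (X.presheaf.stalk x)
        (hW.primeIdealOf ⟨x, hx⟩).asIdeal
    rw [h2] at h1
    exact h1
  · rintro x ⟨hx, -⟩ y ⟨hy, -⟩ hxy
    rw [hf x hx, hf y hy] at hxy
    have h1 : hW.primeIdealOf ⟨x, hx⟩ = hW.primeIdealOf ⟨y, hy⟩ := PrimeSpectrum.ext hxy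
    have h2 := hW.fromSpec_primeIdealOf ⟨x, hx⟩
    have h3 := hW.fromSpec_primeIdealOf ⟨y, hy⟩
    rw [h1] at h2
    exact h2.symm.trans h3

/-- a Noetherian scheme has finitely many weakly associated points. -/
theorem finite_weakAss [IsNoetherian X] :
    {x : X | Curv2.IsWeakAssPoint (Coh.structureModule X) x}.Finite := by
  have hex : ∀ x : X, ∃ W : X.Opens, IsAffineOpen W ∧ x ∈ W := by
    intro x
    obtain ⟨W, hW, hxW, -⟩ := exists_isAffineOpen_mem_and_subset (x := x) (U := ⊤) trivial
    exact ⟨W, hW, hxW⟩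
  choose W hW hxW using hex
  obtain ⟨t, ht⟩ := CompactSpace.elim_nhds_subcover (fun x => (W x : Set X))
    (fun x => (W x).isOpen.mem_nhds (hxW x))
  have hsub : {x : X | Curv2.IsWeakAssPoint (Coh.structureModule X) x} ⊆
      ⋃ y ∈ t, {x : X | x ∈ W y ∧ Curv2.IsWeakAssPoint (Coh.structureModule X) x} := by
    intro x hx
    have h1 : x ∈ ⋃ y ∈ t, (W y : Set X) := by
      rw [ht]
      trivial
    simp only [Set.mem_iUnion] at h1 ⊢
    obtain ⟨y, hy, hxy⟩ := h1
    exact ⟨y, hy, hxy, hx⟩
  exact (Set.Finite.biUnion t.finite_toSet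
    (fun y _ => finite_weakAss_affine (hW y))).subset hsub

/-- **A global section of an invertible module generating it at all weakly associated points is
regular.** -/
theorem mono_homOfSec_of_isGen (L : X.Modules) (hL : PicF.IsInvertible L) (t : Γ(L, ⊤))
    (h : ∀ x : X, Curv2.IsWeakAssPoint (Coh.structureModule X) x → IsGen L t x trivial) :
    Mono (Groth.Agent.Helper13.LocFree.homOfSec L t) := by
  set s := Groth.Agent.Helper13.LocFree.homOfSec L t with hs
  have hsec : sec L s = t := sec_homOfSec L t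
  rw [mono_iff_stalk_injective]
  intro y
  obtain ⟨U, hyU, hU, e, he, a, hta, hgl⟩ := exists_affine_genLocus_inf_eq_basicOpen L s hL y
  rw [injective_iff_map_eq_zero]
  intro b hb
  have hb' : stalkMap s y b = 0 := hb
  rw [stalkMap_hom] at hb'
  by_contra hb0
  have hb'0 : unitStalkEquiv y b ≠ 0 := (LinearEquiv.map_ne_zero_iff _).2 hb0
  have h1 : L.presheaf.germ ⊤ y trivial (sec L s) =
      X.presheaf.germ U y hyU a • L.presheaf.germ U y hyU e := by
    rw [← TopCat.Presheaf.germ_res_apply L.presheaf (homOfLE (le_top : U ≤ ⊤)) y hyU, hta,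
      Groth.Agent.Helper13.WeakAss.germ_smul]
  rw [h1, smul_smul] at hb'
  have h2 : unitStalkEquiv y b * X.presheaf.germ U y hyU a = 0 := by
    apply (he y hyU).1
    show (unitStalkEquiv y b * X.presheaf.germ U y hyU a) • L.presheaf.germ U y hyU e =
      (0 : X.presheaf.stalk y) • L.presheaf.germ U y hyU e
    rw [hb', zero_smul]
  -- spread out
  obtain ⟨W₀, hyW₀, b₀, hb₀⟩ := TopCat.Presheaf.exists_germ_eq X.presheaf (unitStalkEquiv y b)
  let W₁ : X.Opens := W₀ ⊓ U
  have hyW₁ : y ∈ W₁ := ⟨hyW₀, hyU⟩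
  let c : Γ(X, W₁) := X.presheaf.map (homOfLE (inf_le_left : W₁ ≤ W₀)).op b₀ *
    X.presheaf.map (homOfLE (inf_le_right : W₁ ≤ U)).op a
  have hc : X.presheaf.germ W₁ y hyW₁ c = X.presheaf.germ W₁ y hyW₁ 0 := by
    rw [map_zero, map_mul, TopCat.Presheaf.germ_res_apply, TopCat.Presheaf.germ_res_apply, hb₀]
    exact h2
  obtain ⟨W₂, hyW₂, i₁, i₂, hi⟩ := TopCat.Presheaf.germ_eq X.presheaf y hyW₁ hyW₁ c 0 hc
  rw [map_zero] at hi
  obtain ⟨W, hW, hyW, hWW₂⟩ := exists_isAffineOpen_mem_and_subset (x := y) (U := W₂) hyW₂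
  have hWW₁ : W ≤ W₁ := le_trans hWW₂ i₁.le
  have hWU : W ≤ U := hWW₁.trans inf_le_right
  have hWW₀ : W ≤ W₀ := hWW₁.trans inf_le_left
  let g : Γ(X, W) := X.presheaf.map (homOfLE hWU).op a
  let b' : Γ(X, W) := X.presheaf.map (homOfLE hWW₀).op b₀
  have hgb : g * b' = 0 := by
    have h3 : X.presheaf.map (homOfLE hWW₁).op c = 0 := by
      have h4 : X.presheaf.map (homOfLE hWW₁).op c =
          X.presheaf.map (homOfLE hWW₂).op (X.presheaf.map i₁.op c) := by
        rw [← CommRingCat.comp_apply, ← Functor.map_comp]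
        rfl
      rw [h4, hi, map_zero]
    have h5 : X.presheaf.map (homOfLE hWW₁).op c = b' * g := by
      show X.presheaf.map (homOfLE hWW₁).op (_ * _) = _
      rw [map_mul, res_res, res_res]
    rw [mul_comm, ← h5, h3]
  have hb'germ : X.presheaf.germ W y hyW b' ≠ 0 := by
    show X.presheaf.germ W y hyW (X.presheaf.map (homOfLE hWW₀).op b₀) ≠ 0
    rw [TopCat.Presheaf.germ_res_apply, hb₀]
    exact hb'0
  obtain ⟨x', hx'W, -, hwa, hx'g⟩ := exists_weakAss_specializes hW g b' y hyW hb'germ hgb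
  have hgen : IsGen L (sec L s) x' trivial := by
    rw [hsec]
    exact h x' hwa
  have hx'gl : x' ∈ CohB1.genLocus L s := (mem_genLocus_iff_isGen L s hL x').2 hgen
  have hx'a : x' ∈ X.basicOpen a := by
    rw [← hgl]
    exact ⟨hx'gl, hWU hx'W⟩
  apply hx'g
  show x' ∈ X.basicOpen (X.presheaf.map (homOfLE hWU).op a)
  rw [Scheme.basicOpen_res]
  exact ⟨hx'W, hx'a⟩

/-- on a Noetherian quasi-affine scheme, an invertible module has a regular global section which
generates it at the points of a given finite set. -/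
theorem exists_regular_section [IsNoetherian X] [X.IsQuasiAffine] (L : X.Modules)
    (hL : PicF.IsInvertible L) (E : Set X) (hE : E.Finite) :
    ∃ t : Γ(L, ⊤), Mono (Groth.Agent.Helper13.LocFree.homOfSec L t) ∧
      ∀ x ∈ E, IsGen L t x trivial := by
  classical
  have hfin := finite_weakAss (X := X)
  obtain ⟨t, ht, -⟩ := Groth.Agent.Helper13.SemiLocal.exists_section_isGen_finite L hL ⊤
    (hE.toFinset ∪ hfin.toFinset) (fun _ _ => trivial)
  refine ⟨t, mono_homOfSec_of_isGen L hL t (fun x hx => ht x ?_), fun x hx => ht x ?_⟩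
  · rw [Finset.mem_union]
    exact Or.inr (hfin.mem_toFinset.2 hx)
  · rw [Finset.mem_union]
    exact Or.inl (hE.mem_toFinset.2 hx)

end Groth.Agent.Lead.RegSec
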