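import Mathlib

/-! Helpers for `RootPairing.Base`: a simple reflection permutes the other positive roots. -/

set_option autoImplicit false

open RootPairing

namespace Groth.Agent.Lead.RootB1

variable {ι R M N : Type*} [CommRing R] [CharZero R] [IsDomain R] [AddCommGroup M] [Module R M]
  [AddCommGroup N] [Module R N] {P : RootPairing ι R M N}

theorem not_isPos_neg_simple (b : P.Base) {j : ι} (hj : j ∈ b.support) :
    ¬ b.IsPos (P.reflectionPerm j j) := by
  have h : b.height (P.reflectionPerm j j) = -b.height j := b.height_reflectionPerm_self j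
  rw [RootPairing.Base.isPos_iff, h, RootPairing.Base.height_one_of_mem_support hj]
  omega

variable [Finite ι] [P.IsCrystallographic] [P.IsReduced]

theorem posErase_stable [Fintype ι] [DecidableEq ι] (b : P.Base) [DecidablePred b.IsPos] {j : ι}
    (hj : j ∈ b.support) :
    ∀ i ∈ (Finset.univ.filter (fun i => b.IsPos i)).erase j,
      P.reflectionPerm j i ∈ (Finset.univ.filter (fun i => b.IsPos i)).erase j := by
  classical
  intro i hi
  rw [Finset.mem_erase, Finset.mem_filter] at hi ⊢
  obtain ⟨hij, -, hipos⟩ := hi
  refine ⟨?_, Finset.mem_univ _, hipos.reflectionPerm hj hij⟩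
  intro h
  have hi2 : i = P.reflectionPerm j j := by
    have := congrArg (P.reflectionPerm j) h
    simpa using this
  exact not_isPos_neg_simple b hj (hi2 ▸ hipos)

theorem sum_posErase_comp [Fintype ι] [DecidableEq ι] (b : P.Base) [DecidablePred b.IsPos] {A : Type*}
    [AddCommMonoid A] {j : ι} (hj : j ∈ b.support) (F : ι → A) :
    ∑ i ∈ (Finset.univ.filter (fun i => b.IsPos i)).erase j, F (P.reflectionPerm j i) =
      ∑ i ∈ (Finset.univ.filter (fun i => b.IsPos i)).erase j, F i :=
  Finset.sum_nbij' (fun i => P.reflectionPerm j i) (fun i => P.reflectionPerm j i)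
    (posErase_stable b hj) (posErase_stable b hj) (fun i _ => by simp) (fun i _ => by simp)
    (fun i _ => rfl)

theorem simple_mem_posFilter [Fintype ι] (b : P.Base) [DecidablePred b.IsPos] {j : ι}
    (hj : j ∈ b.support) : j ∈ Finset.univ.filter (fun i => b.IsPos i) := by
  simp [RootPairing.Base.isPos_of_mem_support hj]

end Groth.Agent.Lead.RootB1
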