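import Mathlib
import Groth.Agent.Lib.Helper8.RootDDual

/-! Positive coroots pair non-negatively with dominant weights (root data over the integers). -/

set_option autoImplicit false

open RootPairing Groth.Agent.Helper8.RD

namespace Groth.Agent.Lead.RootB2

variable {ι M N : Type*} [AddCommGroup M] [AddCommGroup N]

theorem exists_nonneg_coeff (P : RootPairing ι ℤ M N) (b : P.Base) {i : ι} (hi : b.IsPos i) :
    ∃ f : ι → ℤ, (∀ s, 0 ≤ f s) ∧ P.root i = ∑ j ∈ b.support, f j • P.root j := by
  obtain ⟨f, -, hf1, hf2⟩ := b.exists_root_eq_sum_int i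
  have hfpos : 0 < f := by
    refine hf1.resolve_right ?_
    rw [RootPairing.Base.isPos_iff, RootPairing.Base.height_eq_sum hf2] at hi
    contrapose! hi
    exact Finset.sum_nonpos fun i _ => hi.le i
  exact ⟨f, fun s => hfpos.le s, hf2⟩

theorem coroot_nonneg_of_dominant [Fintype ι] (P : RootPairing ι ℤ M N) (b : P.Base) {i : ι}
    (hi : b.IsPos i) (ω : M) (hω : ∀ j ∈ b.support, 0 ≤ P.toLinearMap ω (P.coroot j)) :
    0 ≤ P.toLinearMap ω (P.coroot i) := by
  obtain ⟨f, hf0, hf2⟩ := exists_nonneg_coeff P b hi
  have h1 : (2 : ℤ) • P.Polarization (P.root i) =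
      P.RootForm (P.root i) (P.root i) • P.coroot i := by
    have := two_smul_polarization_sum (P := P) {i} (fun _ => 1)
    simp only [Finset.sum_singleton, one_smul, one_mul] at this
    exact this
  have h2 : (2 : ℤ) • P.Polarization (P.root i) =
      ∑ d ∈ b.support, (f d * P.RootForm (P.root d) (P.root d)) • P.coroot d := by
    have := two_smul_polarization_sum (P := P) b.support f
    rw [← hf2] at this
    exact this
  have h3 : P.RootForm (P.root i) (P.root i) * P.toLinearMap ω (P.coroot i) =
      ∑ d ∈ b.support, (f d * P.RootForm (P.root d) (P.root d)) * P.toLinearMap ω (P.coroot d) := by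
    have := congrArg (P.toLinearMap ω) (h1.symm.trans h2)
    rw [map_zsmul, map_sum, smul_eq_mul] at this
    rw [this]
    refine Finset.sum_congr rfl fun d _ => ?_
    rw [map_zsmul, smul_eq_mul]
  have hpos := rootForm_root_pos (P := P) i
  have h4 : 0 ≤ P.RootForm (P.root i) (P.root i) * P.toLinearMap ω (P.coroot i) := by
    rw [h3]
    refine Finset.sum_nonneg fun d hd => ?_
    exact mul_nonneg (mul_nonneg (hf0 d) (rootForm_root_pos (P := P) d).le) (hω d hd)
  by_contra hneg
  push Not at hneg
  have := mul_neg_of_pos_of_neg hpos hneg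
  omega

end Groth.Agent.Lead.RootB2
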