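import Mathlib

/-! Conjugation of reflections and generation of the Weyl group by simple reflections
(general coefficients). -/

set_option autoImplicit false

open RootPairing

namespace Groth.Agent.Lead.RootB3

variable {ι R M N : Type*} [CommRing R] [AddCommGroup M] [Module R M]
  [AddCommGroup N] [Module R N] {P : RootPairing ι R M N}

theorem aut_pairing' (u : P.Aut) (m : M) (j : ι) :
    P.toLinearMap (u • m) (P.coroot (u • j)) = P.toLinearMap m (P.coroot j) := by
  have h := Hom.weight_coweight_transpose_apply P P (P.coroot (u • j)) u.toHom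
  have h2 := congrArg (fun f => f m) h
  simp only [LinearMap.dualMap_apply] at h2
  have h3 : u.toHom.coweightMap (P.coroot (u • j)) = P.coroot j := by
    rw [Hom.coroot_coweightMap_apply]
    congr 1
    exact u.indexEquiv.symm_apply_apply j
  rw [h3] at h2
  exact h2

theorem conj_refl (u : P.Aut) (i : ι) :
    u * Equiv.reflection P i * u⁻¹ = Equiv.reflection P (u • i) := by
  apply Equiv.weightHom_injective P
  ext x
  show u • (Equiv.reflection P i • (u⁻¹ • x)) = Equiv.reflection P (u • i) • x
  rw [Equiv.reflection_smul, Equiv.reflection_smul, reflection_apply, reflection_apply, smul_sub,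
    smul_inv_smul, smul_comm u]
  have h1 : P.coroot' i (u⁻¹ • x) = P.coroot' (u • i) x := by
    have := aut_pairing' u (u⁻¹ • x) i
    rw [smul_inv_smul] at this
    exact this.symm
  have h2 : u • P.root i = P.root (u • i) := (Equiv.root_indexEquiv_eq_smul P i u).symm
  rw [h1, h2]

variable [CharZero R] [IsDomain R] [Finite ι] [P.IsCrystallographic] [P.IsReduced]

theorem exists_simple_conj (b : P.Base) (i : ι) :
    ∃ g ∈ Subgroup.closure ((fun i : ι => Equiv.reflection P i) '' (b.support : Set ι)),
      ∃ j ∈ b.support, g • j = i := by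
  set H := Subgroup.closure ((fun i : ι => Equiv.reflection P i) '' (b.support : Set ι)) with hH
  have hs : ∀ j ∈ b.support, Equiv.reflection P j ∈ H :=
    fun j hj => Subgroup.subset_closure ⟨j, hj, rfl⟩
  refine b.induction_reflect i (p := fun i => ∃ g ∈ H, ∃ j ∈ b.support, g • j = i) ?_ ?_ ?_
  · rintro i ⟨g, hg, j, hj, rfl⟩
    have hsi : Equiv.reflection P (g • j) ∈ H := by
      rw [← conj_refl]
      exact H.mul_mem (H.mul_mem hg (hs j hj)) (H.inv_mem hg)
    exact ⟨Equiv.reflection P (g • j) * g, H.mul_mem hsi hg, j, hj, by rw [mul_smul]; rfl⟩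
  · intro j hj
    exact ⟨1, H.one_mem, j, hj, one_smul _ _⟩
  · rintro i k ⟨g, hg, j, hj, rfl⟩ hk
    exact ⟨Equiv.reflection P k * g, H.mul_mem (hs k hk) hg, j, hj, by rw [mul_smul]; rfl⟩

theorem closure_simple_eq_weylGroup (b : P.Base) :
    Subgroup.closure ((fun i : ι => Equiv.reflection P i) '' (b.support : Set ι)) =
      P.weylGroup := by
  refine le_antisymm ?_ ?_
  · rw [Subgroup.closure_le]
    rintro _ ⟨j, -, rfl⟩
    exact P.reflection_mem_weylGroup j
  · rw [weylGroup, Subgroup.closure_le]
    rintro _ ⟨i, rfl⟩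
    obtain ⟨g, hg, j, hj, rfl⟩ := exists_simple_conj b i
    rw [SetLike.mem_coe, ← conj_refl]
    exact mul_mem (mul_mem hg (Subgroup.subset_closure ⟨j, hj, rfl⟩)) (inv_mem hg)

end Groth.Agent.Lead.RootB3
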