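import Mathlib

/-! Quadratic forms invariant under coreflections. -/

set_option autoImplicit false

open RootPairing

namespace Groth.Agent.Lead.RootB4

variable {ι R M N : Type*} [CommRing R] [AddCommGroup M] [Module R M]
  [AddCommGroup N] [Module R N] (P : RootPairing ι R M N)

theorem Q_corefl (Q : QuadraticMap R N R) (i : ι) (y : N) :
    Q (P.coreflection i y) = Q y + (P.root' i y) ^ 2 * Q (P.coroot i) -
      P.root' i y * QuadraticMap.polar Q y (P.coroot i) := by
  rw [P.coreflection_apply, sub_eq_add_neg, ← neg_smul, QuadraticMap.map_add (Q : N → R),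
    QuadraticMap.map_smul, QuadraticMap.polar_smul_right, smul_eq_mul, smul_eq_mul]
  ring

theorem polar_coroot_of_inv [IsDomain R] [CharZero R] (Q : QuadraticMap R N R) (j : ι)
    (h : ∀ y ∈ Submodule.span R (Set.range P.coroot), Q (P.coreflection j y) = Q y) (i : ι) :
    QuadraticMap.polar Q (P.coroot i) (P.coroot j) = P.pairing j i * Q (P.coroot j) := by
  have hci : P.coroot i ∈ Submodule.span R (Set.range P.coroot) :=
    Submodule.subset_span ⟨i, rfl⟩
  have hcj : P.coroot j ∈ Submodule.span R (Set.range P.coroot) :=
    Submodule.subset_span ⟨j, rfl⟩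
  have h1 := h (P.coroot i) hci
  have h2 := h (P.coroot i + P.coroot j) (Submodule.add_mem _ hci hcj)
  rw [Q_corefl] at h1 h2
  have e1 : P.root' j (P.coroot i) = P.pairing j i := rfl
  have e2 : P.root' j (P.coroot i + P.coroot j) = P.pairing j i + 2 := by
    rw [map_add]
    show P.pairing j i + P.pairing j j = _
    rw [P.pairing_same]
  rw [e1] at h1
  rw [e2, QuadraticMap.polar_add_left, QuadraticMap.polar_self] at h2
  have h3 : (2 : R) * (P.pairing j i * Q (P.coroot j) -
      QuadraticMap.polar Q (P.coroot i) (P.coroot j)) = 0 := by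
    rw [two_nsmul] at h2
    linear_combination h2 - h1
  rcases mul_eq_zero.mp h3 with h4 | h4
  · exact absurd h4 two_ne_zero
  · exact (sub_eq_zero.mp h4).symm

end Groth.Agent.Lead.RootB4
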