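import Mathlib
import Groth.Agent.Lib.Helper8.RootDWord

/-! Dominant additive maps form a fundamental domain for the Weyl group. -/

set_option autoImplicit false

open RootPairing RootD Groth.Agent.Helper8.RD
open scoped Pointwise

namespace Groth.Agent.Lead.RootB5

variable {ι M N : Type*} [AddCommGroup M] [AddCommGroup N] {P : RootPairing ι ℤ M N}

theorem dominant_comp_eq [Finite ι] {Δ : Set ι} (hΔ : IsSimpleSys P Δ) {Γ : Type*}
    [AddCommGroup Γ] [LinearOrder Γ] [IsOrderedAddMonoid Γ] (f : M →+ Γ)
    (hf : ∀ i ∈ posOf P Δ, 0 ≤ f (P.root i)) :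
    ∀ (n : ℕ) (l : List ι), (∀ x ∈ l, x ∈ Δ) → l.length = n →
      (∀ i ∈ posOf P Δ, 0 ≤ f (wprod P l • P.root i)) → ∀ m : M, f (wprod P l • m) = f m := by
  intro n
  induction n using Nat.strong_induction_on with
  | _ n ih =>
    intro l hl hlen hdom m
    by_cases hmin : ∀ l' : List ι, (∀ x ∈ l', x ∈ Δ) → wprod P l' = wprod P l →
        l.length ≤ l'.length
    · rcases List.eq_nil_or_concat l with rfl | ⟨l₀, a, hla⟩
      · rw [wprod_nil, one_smul]
      · rw [List.concat_eq_append] at hla
        subst hla
        have ha : a ∈ Δ := hl a (by simp)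
        have hl₀ : ∀ x ∈ l₀, x ∈ Δ := fun x hx => hl x (by simp [hx])
        have hβ := wprod_smul_mem_posOf hΔ l₀ a hl hmin
        have h1 : 0 ≤ f (P.root (wprod P l₀ • a)) := hf _ hβ
        have h2 : 0 ≤ f (wprod P (l₀ ++ [a]) • P.root a) := hdom a (subset_posOf hΔ ha)
        have h3 : wprod P (l₀ ++ [a]) • P.root a = - P.root (wprod P l₀ • a) := by
          rw [wprod_append, wprod_singleton, mul_smul, Equiv.reflection_smul,
            P.reflection_apply_self, smul_neg, aut_root]
        rw [h3, map_neg] at h2
        have h0 : f (P.root (wprod P l₀ • a)) = 0 := le_antisymm (neg_nonneg.mp h2) h1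
        have hcomp : ∀ x : M, f (wprod P (l₀ ++ [a]) • x) = f (wprod P l₀ • x) := by
          intro x
          rw [wprod_append, wprod_singleton, mul_smul, Equiv.reflection_smul,
            P.reflection_apply, smul_sub, smul_comm, ← aut_root, map_sub, map_zsmul, h0,
            smul_zero, sub_zero]
        have hlen₀ : l₀.length < n := by rw [← hlen]; simp
        have := ih l₀.length hlen₀ l₀ hl₀ rfl (fun i hi => by rw [← hcomp]; exact hdom i hi) m
        rw [hcomp, this]
    · push Not at hmin
      obtain ⟨l', hl', heq, hlt⟩ := hmin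
      have := ih l'.length (by omega) l' hl' rfl (fun i hi => by rw [heq]; exact hdom i hi) m
      rw [← heq]
      exact this

end Groth.Agent.Lead.RootB5
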