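import Mathlib
import Groth.Agent.Lib.Helper8.RootDWord
import Groth.Agent.Lib.Lead.RootB3

/-! Strictly dominant weights, and the difference `f - f ∘ w` for a dominant additive map. -/

set_option autoImplicit false

open RootPairing RootD Groth.Agent.Helper8.RD
open scoped Pointwise

namespace Groth.Agent.Lead.RootB6

variable {ι M N : Type*} [AddCommGroup M] [AddCommGroup N] {P : RootPairing ι ℤ M N}

theorem rootForm_smul_coroot_add [Fintype ι] {i j k : ι} (h : P.root k = P.root i + P.root j) :
    P.RootForm (P.root k) (P.root k) • P.coroot k =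
      P.RootForm (P.root i) (P.root i) • P.coroot i +
        P.RootForm (P.root j) (P.root j) • P.coroot j := by
  rw [P.rootForm_self_smul_coroot, P.rootForm_self_smul_coroot, P.rootForm_self_smul_coroot,
    h, map_add, smul_add]

/-- A weight pairing positively with every coroot of a system of positive roots. -/
theorem exists_strictDominant [Fintype ι] {S : Set ι} (hS : IsPosSys P S) :
    ∃ m₀ : M, ∀ i ∈ S, 0 < P.coroot' i m₀ := by
  obtain ⟨Δ, hΔ, hpos⟩ := exists_simpleSys_of_posSys hS
  obtain ⟨m₁, hm₁⟩ := exists_regular P.flip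
  have hm₁' : ∀ i, P.coroot' i m₁ ≠ 0 := hm₁
  obtain ⟨T, hT⟩ : ∃ T : Set ι, T = {i | 0 < P.coroot' i m₁} := ⟨_, rfl⟩
  have hneg : ∀ i, P.coroot' (P.reflectionPerm i i) m₁ = - P.coroot' i m₁ := by
    intro i
    show P.toLinearMap m₁ (P.coroot (P.reflectionPerm i i)) = - P.toLinearMap m₁ (P.coroot i)
    rw [coroot_neg, map_neg]
  have hT1 : ∀ i ∈ T, P.reflectionPerm i i ∉ T := by
    intro i hi hi'
    rw [hT] at hi hi'
    have h1 : 0 < P.coroot' i m₁ := hi
    have h2 : 0 < P.coroot' (P.reflectionPerm i i) m₁ := hi'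
    rw [hneg] at h2
    omega
  have hT2 : ∀ i, i ∈ T ∨ P.reflectionPerm i i ∈ T := by
    intro i
    rw [hT]
    show 0 < P.coroot' i m₁ ∨ 0 < P.coroot' (P.reflectionPerm i i) m₁
    rw [hneg]
    have := hm₁' i
    omega
  have hTcl : IsClosedSub P T := by
    intro i j k hi hj hk
    rw [hT] at hi hj ⊢
    have h1 : 0 < P.coroot' i m₁ := hi
    have h2 : 0 < P.coroot' j m₁ := hj
    show 0 < P.coroot' k m₁
    have e := congrArg (P.toLinearMap m₁) (rootForm_smul_coroot_add hk)
    rw [map_add, map_zsmul, map_zsmul, map_zsmul, smul_eq_mul, smul_eq_mul, smul_eq_mul] at e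
    have hi0 := rootForm_root_pos (P := P) i
    have hj0 := rootForm_root_pos (P := P) j
    have hk0 := rootForm_root_pos (P := P) k
    have h3 : 0 < P.RootForm (P.root k) (P.root k) * P.toLinearMap m₁ (P.coroot k) := by
      rw [e]
      exact add_pos (mul_pos hi0 h1) (mul_pos hj0 h2)
    exact (mul_pos_iff_of_pos_left hk0).mp h3
  obtain ⟨g, hg, hgT⟩ := exists_weyl_posOf_eq hT1 hT2 hTcl hΔ
  refine ⟨g⁻¹ • m₁, fun i hi => ?_⟩
  have hmem : g • i ∈ T := by
    rw [← hgT, posOf_smul, hpos]
    exact Set.smul_mem_smul_set hi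
  rw [hT] at hmem
  have h1 : 0 < P.toLinearMap m₁ (P.coroot (g • i)) := hmem
  have h2 := Groth.Agent.Lead.RootB3.aut_pairing' g (g⁻¹ • m₁) i
  rw [smul_inv_smul] at h2
  rw [h2] at h1
  exact h1

theorem dominant_sub_eq_sum [Fintype ι] {Δ : Set ι} (hΔ : IsSimpleSys P Δ) {Γ : Type*}
    [AddCommGroup Γ] [LinearOrder Γ] [IsOrderedAddMonoid Γ] (f : M →+ Γ)
    (hf : ∀ i ∈ posOf P Δ, 0 ≤ f (P.root i)) :
    ∀ (n : ℕ) (l : List ι), (∀ x ∈ l, x ∈ Δ) → l.length = n →
      ∃ c : ι → Γ, (∀ i, 0 ≤ c i) ∧ (∀ i, i ∉ posOf P Δ → c i = 0) ∧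
        ∀ m : M, f m - f (wprod P l • m) = ∑ i, (P.coroot' i m) • c i := by
  classical
  intro n
  induction n using Nat.strong_induction_on with
  | _ n ih =>
    intro l hl hlen
    by_cases hmin : ∀ l' : List ι, (∀ x ∈ l', x ∈ Δ) → wprod P l' = wprod P l →
        l.length ≤ l'.length
    · rcases List.eq_nil_or_concat l with rfl | ⟨l₀, a, hla⟩
      · refine ⟨fun _ => 0, fun _ => le_refl _, fun _ _ => rfl, fun m => ?_⟩
        rw [wprod_nil, one_smul, sub_self]
        simp
      · rw [List.concat_eq_append] at hla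
        subst hla
        have ha : a ∈ Δ := hl a (by simp)
        have hl₀ : ∀ x ∈ l₀, x ∈ Δ := fun x hx => hl x (by simp [hx])
        have hβ := wprod_smul_mem_posOf hΔ l₀ a hl hmin
        have h1 : 0 ≤ f (P.root (wprod P l₀ • a)) := hf _ hβ
        have hlen₀ : l₀.length < n := by rw [← hlen]; simp
        obtain ⟨c₀, hc0, hcS, hc⟩ := ih l₀.length hlen₀ l₀ hl₀ rfl
        refine ⟨fun i => c₀ i + if i = a then f (P.root (wprod P l₀ • a)) else 0, ?_, ?_, ?_⟩
        · intro i
          refine add_nonneg (hc0 i) ?_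
          split_ifs
          · exact h1
          · exact le_refl _
        · intro i hi
          have hia : i ≠ a := fun h => hi (h ▸ subset_posOf hΔ ha)
          show c₀ i + (if i = a then f (P.root (wprod P l₀ • a)) else 0) = 0
          rw [hcS i hi, if_neg hia, add_zero]
        · intro m
          have e : wprod P (l₀ ++ [a]) • m =
              wprod P l₀ • m - P.coroot' a m • P.root (wprod P l₀ • a) := by
            rw [wprod_append, wprod_singleton, mul_smul, Equiv.reflection_smul,
              P.reflection_apply, smul_sub, smul_comm, ← aut_root]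
          rw [e, map_sub, map_zsmul, sub_sub_eq_add_sub, add_sub_right_comm, hc m]
          simp only [smul_add, Finset.sum_add_distrib, smul_ite, smul_zero,
            Finset.sum_ite_eq', Finset.mem_univ, if_true]
    · push Not at hmin
      obtain ⟨l', hl', heq, hlt⟩ := hmin
      obtain ⟨c, hc0, hcS, hc⟩ := ih l'.length (by omega) l' hl' rfl
      exact ⟨c, hc0, hcS, fun m => by rw [← heq]; exact hc m⟩

end Groth.Agent.Lead.RootB6
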