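import Mathlib

/-! Lattice rank lemmas for root pairings over the integers. -/

namespace Groth.Agent.Lead.RootD10

open Module

variable {ι M N : Type*} [AddCommGroup M] [AddCommGroup N]

theorem finrank_range_add_finrank_ker {M N : Type*} [AddCommGroup M] [AddCommGroup N]
    [Module.Finite ℤ M] (g : M →ₗ[ℤ] N) :
    finrank ℤ (LinearMap.range g) + finrank ℤ (LinearMap.ker g) = finrank ℤ M := by
  have := (LinearMap.ker g).finrank_quotient_add_finrank
  rwa [LinearEquiv.finrank_eq g.quotKerEquivRange] at this

theorem isTorsionFree_left (P : RootPairing ι ℤ M N) : Module.IsTorsionFree ℤ M := by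
  have : IsReflexive ℤ M := .of_isPerfPair P.toLinearMap
  infer_instance

theorem finrank_left_eq_right (P : RootPairing ι ℤ M N) [Module.Finite ℤ M] :
    finrank ℤ M = finrank ℤ N := by
  haveI := isTorsionFree_left P
  exact Module.finrank_of_isPerfPair P.toLinearMap

theorem iInf_ker_coroot'_eq [Fintype ι] (P : RootPairing ι ℤ M N) :
    (⨅ i : ι, LinearMap.ker (P.coroot' i) : Submodule ℤ M) = LinearMap.ker P.Polarization := by
  rw [P.ker_polarization_eq_ker_rootForm]
  ext x
  rw [← P.rootForm_self_eq_zero_iff, P.rootForm_apply_apply]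
  simp only [Submodule.mem_iInf, LinearMap.mem_ker]
  constructor
  · intro h
    exact Finset.sum_eq_zero (fun i _ => by rw [h i, mul_zero])
  · intro h i
    have := (Finset.sum_eq_zero_iff_of_nonneg
      (fun i _ => mul_self_nonneg (P.coroot' i x))).mp h i (Finset.mem_univ i)
    exact mul_self_eq_zero.mp this

theorem finrank_range_polarization [Fintype ι] (P : RootPairing ι ℤ M N)
    [Module.Finite ℤ M] [Module.Finite ℤ N] :
    finrank ℤ (LinearMap.range P.Polarization) = finrank ℤ (P.rootSpan ℤ) := by
  have h1 : (P.rootSpan ℤ).map P.Polarization ≤ LinearMap.range P.Polarization :=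
    LinearMap.map_le_range
  have h2 : LinearMap.range P.Polarization ≤ P.corootSpan ℤ := by
    rintro _ ⟨x, rfl⟩
    rw [P.Polarization_apply]
    exact Submodule.sum_mem _ fun i _ => Submodule.smul_mem _ _ (Submodule.subset_span ⟨i, rfl⟩)
  have h3 := Submodule.finrank_mono h1
  have h4 := Submodule.finrank_mono h2
  rw [P.finrank_rootSpan_map_polarization_eq_finrank_corootSpan] at h3
  rw [← P.finrank_corootSpan_eq']
  omega

theorem finrank_iInf_ker_coroot'_add [Finite ι] (P : RootPairing ι ℤ M N)
    [Module.Finite ℤ M] [Module.Finite ℤ N] :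
    finrank ℤ (⨅ i : ι, LinearMap.ker (P.coroot' i) : Submodule ℤ M) +
      finrank ℤ (Submodule.span ℤ (Set.range P.root)) = finrank ℤ M := by
  letI := Fintype.ofFinite ι
  rw [iInf_ker_coroot'_eq P]
  have h1 := finrank_range_add_finrank_ker P.Polarization
  have h2 := finrank_range_polarization P
  change _ + finrank ℤ (P.rootSpan ℤ) = _
  omega

theorem finrank_corootSpan_eq_rootSpan [Finite ι] (P : RootPairing ι ℤ M N) :
    finrank ℤ (Submodule.span ℤ (Set.range P.coroot)) =
      finrank ℤ (Submodule.span ℤ (Set.range P.root)) := by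
  letI := Fintype.ofFinite ι
  exact P.finrank_corootSpan_eq'

theorem finrank_iInf_ker_root'_add [Finite ι] (P : RootPairing ι ℤ M N)
    [Module.Finite ℤ M] [Module.Finite ℤ N] :
    finrank ℤ (⨅ i : ι, LinearMap.ker (P.root' i) : Submodule ℤ N) +
      finrank ℤ (Submodule.span ℤ (Set.range P.root)) = finrank ℤ M := by
  have h := finrank_iInf_ker_coroot'_add P.flip
  have e1 := finrank_corootSpan_eq_rootSpan P
  have e2 := finrank_left_eq_right P
  have e3 : (⨅ i : ι, LinearMap.ker (P.flip.coroot' i) : Submodule ℤ N) =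
      ⨅ i : ι, LinearMap.ker (P.root' i) := rfl
  have e4 : Submodule.span ℤ (Set.range P.flip.root) = Submodule.span ℤ (Set.range P.coroot) := rfl
  rw [e3, e4, e1] at h
  omega

end Groth.Agent.Lead.RootD10
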