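import Mathlib
import Groth.Agent.Lib.Helper8.RootDForm
import Groth.Agent.Lib.Lead.RootD10

/-! p-morphisms of reduced root data: reflections, exponents, Weyl groups. -/

set_option autoImplicit false

open RootPairing RootD Groth.Agent.Helper8.RD

namespace Groth.Agent.Lead.RootD14

variable {ι M N : Type*} [AddCommGroup M] [AddCommGroup N] {P : RootPairing ι ℤ M N}

theorem eq_of_smul_root_eq [P.IsReduced] {m k : ι} {a b : ℤ} (ha : 0 < a) (hb : 0 < b)
    (h : a • P.root m = b • P.root k) : m = k ∧ a = b := by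
  have htf := Groth.Agent.Lead.RootD10.isTorsionFree_left P
  have hnli : ¬ LinearIndependent ℤ ![P.root m, P.root k] := by
    intro hli
    have := (LinearIndependent.pair_iff.mp hli) a (-b) (by rw [neg_smul, h, add_neg_cancel])
    omega
  rcases IsReduced.eq_or_eq_neg m k hnli with h1 | h1
  · have hmk : m = k := P.root.injective h1
    subst hmk
    refine ⟨rfl, ?_⟩
    have h2 : (a - b) • P.root m = 0 := by rw [sub_smul, h, sub_self]
    rcases smul_eq_zero.mp h2 with h3 | h3
    · omega
    · exact absurd h3 (P.ne_zero m)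
  · exfalso
    rw [h1, smul_neg] at h
    have h2 : (a + b) • P.root k = 0 := by
      rw [add_smul, ← h, add_neg_cancel]
    rcases smul_eq_zero.mp h2 with h3 | h3
    · omega
    · exact P.ne_zero k h3

theorem weylGroupToPerm_injective [Fintype ι] : Function.Injective P.weylGroupToPerm := by
  rw [injective_iff_map_eq_one]
  intro w hw
  have h1 : (w : P.Aut) = 1 := weyl_eq_one_of_fix w.2 (fun i => by
    have := DFunLike.congr_fun hw i
    exact this)
  exact Subtype.ext h1

section pmorph

variable {ι' M' N' : Type*} [AddCommGroup M'] [AddCommGroup N'] {P' : RootPairing ι' ℤ M' N'}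
  (f : M' →ₗ[ℤ] M) (g : N →ₗ[ℤ] N')
  (hfg : ∀ (m' : M') (n : N), P.toLinearMap (f m') n = P'.toLinearMap m' (g n))
  (u : ι ≃ ι') (q : ι → ℕ) (hq0 : ∀ i, 0 < q i)
  (hroot : ∀ i : ι, f (P'.root (u i)) = (q i : ℤ) • P.root i)
  (hcoroot : ∀ i : ι, g (P.coroot i) = (q i : ℤ) • P'.coroot (u i))

include hfg hroot hcoroot

theorem pm_key (a b : ι) : (q a : ℤ) * P.pairing a b = (q b : ℤ) * P'.pairing (u a) (u b) := by
  have := hfg (P'.root (u a)) (P.coroot b)
  rw [hroot, hcoroot, map_zsmul, LinearMap.smul_apply, map_zsmul, P.root_coroot_eq_pairing,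
    P'.root_coroot_eq_pairing, smul_eq_mul, smul_eq_mul] at this
  exact this

include hq0

theorem pm_refl [Finite ι] [Finite ι'] [P.IsReduced] (i j : ι) :
    q (P.reflectionPerm i j) = q j ∧
      u (P.reflectionPerm i j) = P'.reflectionPerm (u i) (u j) := by
  obtain ⟨m, hm⟩ : ∃ m, m = u.symm (P'.reflectionPerm (u i) (u j)) := ⟨_, rfl⟩
  have hum : u m = P'.reflectionPerm (u i) (u j) := by rw [hm, Equiv.apply_symm_apply]
  have h1 : f (P'.root (u m)) = (q m : ℤ) • P.root m := hroot m
  have h2 : P'.root (P'.reflectionPerm (u i) (u j)) =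
      P'.root (u j) - P'.pairing (u j) (u i) • P'.root (u i) := refl_root P' (u i) (u j)
  have h3 : (q m : ℤ) • P.root m = (q j : ℤ) • P.root (P.reflectionPerm i j) := by
    rw [← h1, hum, h2, map_sub, map_zsmul, hroot, hroot, refl_root P i j, smul_sub, smul_smul,
      smul_smul]
    have := pm_key f g hfg u q hroot hcoroot j i
    rw [mul_comm (P'.pairing (u j) (u i)) _, ← this]
  obtain ⟨hmk, hqq⟩ := eq_of_smul_root_eq (by exact_mod_cast hq0 m) (by exact_mod_cast hq0 j) h3
  constructor
  · rw [← hmk]; exact_mod_cast hqq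
  · rw [← hmk]; exact hum

theorem pm_weyl [Finite ι] [Finite ι'] [P.IsReduced] :
    ∀ w ∈ P.weylGroup, ∀ i : ι, q (w • i) = q i := by
  intro w hw
  induction hw using weylGroup.induction with
  | mem k =>
    intro i
    rw [refl_smul_idx]
    exact (pm_refl f g hfg u q hq0 hroot hcoroot k i).1
  | one => intro i; rw [one_smul]
  | mul x y _ _ hx hy => intro i; rw [mul_smul, hx, hy]

theorem pm_conj [Finite ι] [Finite ι'] [P.IsReduced] (i : ι) :
    u.permCongrHom (P.reflectionPerm i) = P'.reflectionPerm (u i) := by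
  ext j'
  show u (P.reflectionPerm i (u.symm j')) = _
  rw [(pm_refl f g hfg u q hq0 hroot hcoroot i (u.symm j')).2, Equiv.apply_symm_apply]

theorem exists_weylEquiv [Fintype ι] [Fintype ι'] [P.IsReduced] :
    ∃ ubar : P.weylGroup ≃* P'.weylGroup, ∀ w : P.weylGroup,
      P'.weylGroupToPerm (ubar w) = u.permCongrHom (P.weylGroupToPerm w) := by
  have hconj := pm_conj f g hfg u q hq0 hroot hcoroot
  have hrange : P.weylGroupToPerm.range.map
      (u.permCongrHom : Equiv.Perm ι →* Equiv.Perm ι') = P'.weylGroupToPerm.range := by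
    rw [range_weylGroupToPerm, range_weylGroupToPerm, MonoidHom.map_closure]
    congr 1
    ext x
    constructor
    · rintro ⟨_, ⟨i, rfl⟩, rfl⟩
      exact ⟨u i, (hconj i).symm⟩
    · rintro ⟨i', rfl⟩
      refine ⟨_, ⟨u.symm i', rfl⟩, ?_⟩
      have := hconj (u.symm i')
      rw [Equiv.apply_symm_apply] at this
      exact this
  let e1 := MonoidHom.ofInjective (weylGroupToPerm_injective (P := P))
  let e2 := (u.permCongrHom).subgroupMap P.weylGroupToPerm.range
  let e3 := MulEquiv.subgroupCongr hrange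
  let e4 := MonoidHom.ofInjective (weylGroupToPerm_injective (P := P'))
  refine ⟨e1.trans (e2.trans (e3.trans e4.symm)), fun w => ?_⟩
  show P'.weylGroupToPerm (e4.symm (e3 (e2 (e1 w)))) = _
  rw [MonoidHom.apply_ofInjective_symm]
  rfl

end pmorph

end Groth.Agent.Lead.RootD14
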