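import Mathlib
import Groth.Agent.Lib.Lead.RootB6
import Groth.Agent.Lib.Lead.RootD14

/-! Every weight is Weyl-conjugate to a dominant one; dominant maps decrease along orbits of
dominant weights; the Weyl group is finite. -/

set_option autoImplicit false

open RootPairing RootD Groth.Agent.Helper8.RD
open scoped Pointwise

namespace Groth.Agent.Lead.RootB7

variable {ι M N : Type*} [AddCommGroup M] [AddCommGroup N] {P : RootPairing ι ℤ M N}

theorem finite_weylGroup [Fintype ι] : Finite P.weylGroup :=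
  Finite.of_injective _ (Groth.Agent.Lead.RootD14.weylGroupToPerm_injective (P := P))

theorem exists_weyl_dominant [Fintype ι] {S : Set ι} (hS : IsPosSys P S) (m : M) :
    ∃ g : P.Aut, g ∈ P.weylGroup ∧ ∀ i ∈ S, 0 ≤ P.coroot' i (g • m) := by
  obtain ⟨Δ, hΔ, hpos⟩ := exists_simpleSys_of_posSys hS
  obtain ⟨T, hT⟩ : ∃ T : Set ι,
      T = {i | 0 < P.coroot' i m ∨ (P.coroot' i m = 0 ∧ i ∈ S)} := ⟨_, rfl⟩
  have hmemT : ∀ i, i ∈ T ↔ (0 < P.coroot' i m ∨ (P.coroot' i m = 0 ∧ i ∈ S)) := by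
    intro i; rw [hT]; rfl
  have hneg : ∀ i, P.coroot' (P.reflectionPerm i i) m = - P.coroot' i m := by
    intro i
    show P.toLinearMap m (P.coroot (P.reflectionPerm i i)) = - P.toLinearMap m (P.coroot i)
    rw [coroot_neg, map_neg]
  have hT1 : ∀ i ∈ T, P.reflectionPerm i i ∉ T := by
    intro i hi hi'
    rw [hmemT] at hi hi'
    rw [hneg] at hi'
    rcases hi with h | ⟨h, hiS⟩
    · rcases hi' with h' | ⟨h', _⟩ <;> omega
    · rcases hi' with h' | ⟨_, hi'S⟩
      · omega
      · exact hS.disjoint hiS hi'S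
  have hT2 : ∀ i, i ∈ T ∨ P.reflectionPerm i i ∈ T := by
    intro i
    rw [hmemT, hmemT, hneg]
    rcases lt_trichotomy (P.coroot' i m) 0 with h | h | h
    · right; left; omega
    · rcases hS.cover i with hi | hi
      · left; right; exact ⟨h, hi⟩
      · right; right; exact ⟨by omega, hi⟩
    · left; left; exact h
  have hTcl : IsClosedSub P T := by
    intro i j k hi hj hk
    rw [hmemT] at hi hj ⊢
    have e := congrArg (P.toLinearMap m) (Groth.Agent.Lead.RootB6.rootForm_smul_coroot_add hk)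
    rw [map_add, map_zsmul, map_zsmul, map_zsmul, smul_eq_mul, smul_eq_mul, smul_eq_mul] at e
    have hi0 := rootForm_root_pos (P := P) i
    have hj0 := rootForm_root_pos (P := P) j
    have hk0 := rootForm_root_pos (P := P) k
    have hSc := IsPosSys.isClosedSub hS
    have hci : P.coroot' i m = P.toLinearMap m (P.coroot i) := rfl
    have hcj : P.coroot' j m = P.toLinearMap m (P.coroot j) := rfl
    have hck : P.coroot' k m = P.toLinearMap m (P.coroot k) := rfl
    rw [hci] at hi
    rw [hcj] at hj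
    rw [hck]
    rcases hi with h | ⟨h, hiS⟩
    · left
      have h3 : 0 < P.RootForm (P.root k) (P.root k) * P.toLinearMap m (P.coroot k) := by
        rw [e]
        rcases hj with h' | ⟨h', _⟩
        · exact add_pos (mul_pos hi0 h) (mul_pos hj0 h')
        · rw [h', mul_zero, add_zero]; exact mul_pos hi0 h
      exact (mul_pos_iff_of_pos_left hk0).mp h3
    · rcases hj with h' | ⟨h', hjS⟩
      · left
        have h3 : 0 < P.RootForm (P.root k) (P.root k) * P.toLinearMap m (P.coroot k) := by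
          rw [e, h, mul_zero, zero_add]; exact mul_pos hj0 h'
        exact (mul_pos_iff_of_pos_left hk0).mp h3
      · right
        refine ⟨?_, hSc hiS hjS hk⟩
        rw [h, h', mul_zero, mul_zero, add_zero] at e
        exact (mul_eq_zero.mp e).resolve_left hk0.ne'
  obtain ⟨g, hg, hgT⟩ := exists_weyl_posOf_eq hT1 hT2 hTcl hΔ
  refine ⟨g⁻¹, inv_mem hg, fun i hi => ?_⟩
  have hmem : g • i ∈ T := by
    rw [← hgT, posOf_smul, hpos]
    exact Set.smul_mem_smul_set hi
  rw [hmemT] at hmem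
  have h2 := Groth.Agent.Lead.RootB3.aut_pairing' g (g⁻¹ • m) i
  rw [smul_inv_smul] at h2
  show 0 ≤ P.toLinearMap (g⁻¹ • m) (P.coroot i)
  rw [← h2]
  rcases hmem with h | ⟨h, _⟩
  · exact h.le
  · exact h.ge

theorem dominant_le [Fintype ι] {S : Set ι} (hS : IsPosSys P S) {Γ : Type*}
    [AddCommGroup Γ] [LinearOrder Γ] [IsOrderedAddMonoid Γ] (f : M →+ Γ)
    (hf : ∀ i ∈ S, 0 ≤ f (P.root i)) {g : P.Aut} (hg : g ∈ P.weylGroup) (m : M)
    (hm : ∀ i ∈ S, 0 ≤ P.coroot' i m) : f (g • m) ≤ f m := by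
  obtain ⟨Δ, hΔ, hpos⟩ := exists_simpleSys_of_posSys hS
  rw [← weylSub_eq hΔ] at hg
  obtain ⟨l, hl, rfl⟩ := exists_word_of_mem_weylSub hg
  rw [← hpos] at hf hm
  obtain ⟨c, hc0, hcS, hc⟩ :=
    Groth.Agent.Lead.RootB6.dominant_sub_eq_sum hΔ f hf l.length l hl rfl
  have h1 : 0 ≤ ∑ i, (P.coroot' i m) • c i := by
    refine Finset.sum_nonneg fun i _ => ?_
    by_cases hi : i ∈ posOf P Δ
    · exact zsmul_nonneg (hc0 i) (hm i hi)
    · rw [hcS i hi, smul_zero]
  rw [← hc m] at h1
  exact sub_nonneg.mp h1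

end Groth.Agent.Lead.RootB7
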