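import Mathlib
import Groth.Agent.Lib.Lead.RootD10

/-! The root pairing on the root lattice and its canonical morphism. -/

namespace Groth.Agent.Lead.RootD11

open Module Groth.Agent.Lead.RootD10

variable {ι M N : Type*} [AddCommGroup M] [AddCommGroup N]

theorem eq_of_pairing_eq [Finite ι] (P : RootPairing ι ℤ M N) {i j : ι}
    (h : ∀ k, P.pairing k i = P.pairing k j) : i = j := by
  let _ := Fintype.ofFinite ι
  apply P.coroot.injective
  rw [← sub_eq_zero]
  have hmem : P.coroot i - P.coroot j ∈ P.corootSpan ℤ :=
    Submodule.sub_mem _ (Submodule.subset_span ⟨i, rfl⟩) (Submodule.subset_span ⟨j, rfl⟩)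
  have hker : P.coroot i - P.coroot j ∈ LinearMap.ker P.CorootForm := by
    rw [LinearMap.mem_ker]
    ext y
    rw [P.corootForm_apply_apply, LinearMap.zero_apply]
    refine Finset.sum_eq_zero fun k _ => ?_
    have h0 : P.root' k (P.coroot i - P.coroot j) = 0 := by
      rw [map_sub, sub_eq_zero]
      exact h k
    rw [h0, zero_mul]
  exact (Submodule.disjoint_def.mp P.disjoint_corootSpan_ker_corootForm) _ hmem hker

/-- The root pairing on the root lattice `L` and its dual. -/
noncomputable def rootSpanPairing [Finite ι] (P : RootPairing ι ℤ M N) [Module.Finite ℤ M] :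
    RootPairing ι ℤ (Submodule.span ℤ (Set.range P.root))
      (Module.Dual ℤ (Submodule.span ℤ (Set.range P.root))) where
  toLinearMap :=
    (LinearMap.id (R := ℤ) (M := Module.Dual ℤ (Submodule.span ℤ (Set.range P.root)))).flip
  isPerfPair_toLinearMap := by
    have := isTorsionFree_left P
    infer_instance
  root := ⟨fun i => ⟨P.root i, Submodule.subset_span ⟨i, rfl⟩⟩,
    fun i j h => P.root.injective (congrArg Subtype.val h)⟩
  coroot := ⟨fun i => (P.coroot' i).domRestrict _, fun i j h => by
    apply eq_of_pairing_eq P
    intro k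
    exact LinearMap.congr_fun h ⟨P.root k, Submodule.subset_span ⟨k, rfl⟩⟩⟩
  root_coroot_two i := P.root_coroot_two i
  reflectionPerm := P.reflectionPerm
  reflectionPerm_root i j := Subtype.ext (P.reflectionPerm_root i j)
  reflectionPerm_coroot i j := by
    refine LinearMap.ext fun x => ?_
    have h := congrArg (fun n => P.toLinearMap (x : M) n) (P.reflectionPerm_coroot i j)
    simpa [map_sub, map_smul] using h

/-- The canonical morphism from the root-lattice pairing. -/
noncomputable def rootSpanHom [Finite ι] (P : RootPairing ι ℤ M N) [Module.Finite ℤ M] :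
    RootPairing.Hom (rootSpanPairing P) P where
  weightMap := (Submodule.span ℤ (Set.range P.root)).subtype
  coweightMap :=
    (Submodule.span ℤ (Set.range P.root)).subtype.dualMap ∘ₗ P.flip.toPerfPair.toLinearMap
  indexEquiv := Equiv.refl ι
  weight_coweight_transpose := by
    ext n x
    rfl
  root_weightMap := by
    ext i
    rfl
  coroot_coweightMap := by
    ext i x
    rfl

theorem rootSpanHom_weightMap [Finite ι] (P : RootPairing ι ℤ M N) [Module.Finite ℤ M] :
    (rootSpanHom P).weightMap = (Submodule.span ℤ (Set.range P.root)).subtype := rfl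

theorem rootSpan_le_range_weightMap {ι' M' N' : Type*} [AddCommGroup M'] [AddCommGroup N']
    (P : RootPairing ι ℤ M N) (P' : RootPairing ι' ℤ M' N') (f : RootPairing.Hom P' P) :
    Submodule.span ℤ (Set.range P.root) ≤ LinearMap.range f.weightMap := by
  rw [Submodule.span_le]
  rintro _ ⟨i, rfl⟩
  refine ⟨P'.root (f.indexEquiv.symm i), ?_⟩
  have := congrFun f.root_weightMap (f.indexEquiv.symm i)
  simpa using this

end Groth.Agent.Lead.RootD11
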