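import Mathlib
import Groth.Agent.Lib.Helper8.RootDDual

/-! Twice a coroot in terms of the coroots of a simple system. -/

namespace Groth.Agent.Lead.RootD12

open RootD Groth.Agent.Helper8.RD

variable {ι M N : Type*} [AddCommGroup M] [AddCommGroup N] {P : RootPairing ι ℤ M N}

/-- Twice `x` is a combination of the coroots of `Δ`, with even coefficient at the
indivisible coroots. -/
def Q (P : RootPairing ι ℤ M N) (Δ : Set ι) (x : N) : Prop :=
  ∃ c2 : ι →₀ ℤ, ↑c2.support ⊆ Δ ∧ Finsupp.linearCombination ℤ P.coroot c2 = (2 : ℤ) • x ∧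
    ∀ i, IsIndiv P.flip i → (2 : ℤ) ∣ c2 i

theorem Q_zero (Δ : Set ι) : Q P Δ 0 := ⟨0, by simp, by simp, fun i _ => by simp⟩

theorem Q_add {Δ : Set ι} {x y : N} (hx : Q P Δ x) (hy : Q P Δ y) : Q P Δ (x + y) := by
  classical
  obtain ⟨c, hc, hl, hd⟩ := hx
  obtain ⟨c', hc', hl', hd'⟩ := hy
  refine ⟨c + c', ?_, ?_, ?_⟩
  · intro i hi
    have := Finsupp.support_add (Finset.mem_coe.mp hi)
    rcases Finset.mem_union.mp this with h | h
    · exact hc h
    · exact hc' h
  · rw [map_add, hl, hl', smul_add]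
  · intro i hi
    rw [Finsupp.add_apply]
    exact dvd_add (hd i hi) (hd' i hi)

theorem Q_neg {Δ : Set ι} {x : N} (hx : Q P Δ x) : Q P Δ (-x) := by
  obtain ⟨c, hc, hl, hd⟩ := hx
  refine ⟨-c, ?_, ?_, ?_⟩
  · rw [Finsupp.support_neg]; exact hc
  · rw [map_neg, hl, smul_neg]
  · intro i hi
    rw [Finsupp.neg_apply]
    exact (dvd_neg).mpr (hd i hi)

theorem Q_of_mem {Δ : Set ι} {j : ι}
    (hj : ∃ i ∈ Δ, (j = i ∧ IsIndiv P.flip i) ∨ (2 : ℤ) • P.coroot j = P.coroot i) :
    Q P Δ (P.coroot j) := by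
  classical
  obtain ⟨i', hi', h | h⟩ := hj
  · obtain ⟨rfl, hind⟩ := h
    refine ⟨Finsupp.single j 2, ?_, ?_, ?_⟩
    · intro x hx
      have := Finsupp.support_single_subset (Finset.mem_coe.mp hx)
      rw [Finset.mem_singleton] at this
      exact this ▸ hi'
    · rw [Finsupp.linearCombination_single]
    · intro i _
      rw [Finsupp.single_apply]
      split_ifs
      · exact dvd_refl _
      · exact dvd_zero _
  · refine ⟨Finsupp.single i' 1, ?_, ?_, ?_⟩
    · intro x hx
      have := Finsupp.support_single_subset (Finset.mem_coe.mp hx)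
      rw [Finset.mem_singleton] at this
      exact this ▸ hi'
    · rw [Finsupp.linearCombination_single, one_smul, h]
    · intro i hi
      rw [Finsupp.single_apply]
      split_ifs with hii
      · subst hii
        exact absurd h (hi j)
      · exact dvd_zero _

theorem exists_two_smul_coroot [Finite ι] {Δ : Set ι} (hΔ : IsSimpleSys P Δ) (k : ι) :
    Q P Δ (P.coroot k) := by
  have hΔ' := isSimpleSys_flip_ind hΔ
  have key : ∀ x ∈ natSpan P.flip {j : ι | ∃ i ∈ Δ, (j = i ∧ IsIndiv P.flip i) ∨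
      (2 : ℤ) • P.coroot j = P.coroot i}, Q P Δ x := by
    intro x hx
    change x ∈ AddSubmonoid.closure _ at hx
    refine AddSubmonoid.closure_induction ?_ (Q_zero Δ) ?_ hx
    · rintro _ ⟨j, hj, rfl⟩
      exact Q_of_mem hj
    · intro x y _ _ hx hy
      exact Q_add hx hy
  rcases hΔ'.mem_or_neg_mem k with h | h
  · exact key _ h
  · have := Q_neg (key _ h)
    rwa [neg_neg] at this

end Groth.Agent.Lead.RootD12
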