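import Mathlib
import Groth.Agent.Lib.Helper8.RootDIrr
import Groth.Agent.Lib.Helper8.RootDHom
import Groth.Agent.Lib.Lead.RootD10

/-! Root lengths in irreducible root data. -/

set_option autoImplicit false

open RootPairing RootD Groth.Agent.Helper8.RD
open scoped Pointwise

namespace Groth.Agent.Lead.RootD13

variable {ι M N : Type*} [AddCommGroup M] [AddCommGroup N] {P : RootPairing ι ℤ M N}

/-- In an irreducible datum, some Weyl conjugate of `i` is not orthogonal to `j`
(the argument is the one of `Helper8.RD.exists_weyl_smul_eq_of_irred`). -/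
theorem exists_weyl_not_orth [Fintype ι] (hirr : Irred P) (i j : ι) :
    ∃ w : P.Aut, w ∈ P.weylGroup ∧ ¬ P.IsOrthogonal (w • i) j := by
  have htf := tf P
  -- the span of the orbit of `i`
  set V : Submodule ℤ M :=
    Submodule.span ℤ (Set.range (fun w : P.weylGroup => P.root ((w : P.Aut) • i))) with hV
  have hVW : ∀ g ∈ P.weylGroup, ∀ v ∈ V, g • v ∈ V := by
    intro g hg v hv
    refine Submodule.span_induction ?_ ?_ ?_ ?_ hv
    · rintro _ ⟨w, rfl⟩
      rw [← aut_root, ← mul_smul]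
      exact Submodule.subset_span ⟨⟨g * w, mul_mem hg w.2⟩, rfl⟩
    · rw [smul_zero]; exact Submodule.zero_mem _
    · intro a b _ _ ha hb
      rw [smul_add]; exact Submodule.add_mem _ ha hb
    · intro n a _ ha
      rw [smul_comm]; exact Submodule.smul_mem _ _ ha
  set R' : Set ι := {k : ι | ∃ n : ℕ, 0 < n ∧ n • P.root k ∈ V} with hR'
  have hcompl : ∀ k : ι, k ∈ R'ᶜ ↔ ∀ v ∈ V, P.RootForm (P.root k) v = 0 := by
    intro k
    constructor
    · intro hk v hv
      have h1 : P.coroot' k v = 0 := by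
        by_contra hne
        apply hk
        refine ⟨(P.coroot' k v).natAbs, Int.natAbs_pos.mpr hne, ?_⟩
        have h2 : Equiv.reflection P k • v - v ∈ V :=
          Submodule.sub_mem _ (hVW _ (P.reflection_mem_weylGroup k) v hv) hv
        rw [Equiv.reflection_smul, P.reflection_apply, sub_sub_cancel_left] at h2
        have h3 : P.coroot' k v • P.root k ∈ V := by
          have := Submodule.neg_mem _ h2
          rwa [neg_neg] at this
        rcases Int.natAbs_eq (P.coroot' k v) with h | h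
        · rw [← natCast_zsmul, ← h]; exact h3
        · have h4 : ((P.coroot' k v).natAbs : ℤ) = -P.coroot' k v := by omega
          rw [← natCast_zsmul, h4, neg_smul]
          exact Submodule.neg_mem _ h3
      have := rootForm_root_apply (P := P) k v
      rw [h1, mul_zero] at this
      omega
    · intro h hk
      obtain ⟨n, hn, hmem⟩ := hk
      have h0 := h _ hmem
      rw [map_nsmul, nsmul_eq_mul] at h0
      have hB := rootForm_root_pos (P := P) k
      have hn' : (0 : ℤ) < (n : ℤ) := by exact_mod_cast hn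
      have := mul_pos hn' hB
      omega
  have hc : IsClosedSub P R' := by
    rintro a b k ⟨n, hn, ha⟩ ⟨m, hm, hb⟩ h
    refine ⟨n * m, Nat.mul_pos hn hm, ?_⟩
    rw [h, smul_add, mul_smul, mul_comm, mul_smul]
    rw [smul_comm n m (P.root a), smul_comm m n (P.root b)]
    exact Submodule.add_mem _ (nsmul_mem ha m) (nsmul_mem hb n)
  have hs : IsSymmSub P R' := by
    rintro a ⟨n, hn, ha⟩
    refine ⟨n, hn, ?_⟩
    rw [root_neg, smul_neg]
    exact Submodule.neg_mem _ ha
  have hc' : IsClosedSub P R'ᶜ := by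
    intro a b k ha hb h
    rw [hcompl] at ha hb ⊢
    intro v hv
    rw [h, map_add, LinearMap.add_apply, ha v hv, hb v hv, add_zero]
  have hs' : IsSymmSub P R'ᶜ := by
    intro a ha
    rw [hcompl] at ha ⊢
    intro v hv
    rw [root_neg, map_neg, LinearMap.neg_apply, ha v hv, neg_zero]
  have hiR : i ∈ R' := by
    refine ⟨1, one_pos, ?_⟩
    rw [one_smul]
    exact Submodule.subset_span ⟨1, by simp⟩
  have hjR : j ∈ R' := by
    rcases hirr R' hc hs hc' hs' with h | h
    · rw [h] at hiR; exact absurd hiR (Set.notMem_empty i)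
    · rw [h]; exact Set.mem_univ j
  -- some element of the orbit is not orthogonal to `j`
  obtain ⟨w, hw⟩ : ∃ w : P.weylGroup, P.RootForm (P.root j) (P.root ((w : P.Aut) • i)) ≠ 0 := by
    by_contra hcon
    push Not at hcon
    have hall : ∀ v ∈ V, P.RootForm (P.root j) v = 0 := by
      intro v hv
      refine Submodule.span_induction ?_ ?_ ?_ ?_ hv
      · rintro _ ⟨w, rfl⟩; exact hcon w
      · simp
      · intro a b _ _ ha hb; rw [map_add, ha, hb, add_zero]
      · intro n a _ ha; rw [map_zsmul, ha, smul_zero]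
    exact (hcompl j).mpr hall hjR
  have hno : ¬ P.IsOrthogonal ((w : P.Aut) • i) j := by
    intro ho
    apply hw
    have h2 := two_mul_rootForm (P := P) j ((w : P.Aut) • i)
    rw [ho.2, zero_mul] at h2
    omega
  exact ⟨w, w.2, hno⟩

theorem rootForm_ratio [Fintype ι] (a b : ι) (hno : ¬ P.IsOrthogonal a b)
    (hle : P.RootForm (P.root a) (P.root a) ≤ P.RootForm (P.root b) (P.root b)) :
    P.RootForm (P.root b) (P.root b) = P.RootForm (P.root a) (P.root a) ∨
    P.RootForm (P.root b) (P.root b) = 2 * P.RootForm (P.root a) (P.root a) ∨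
    P.RootForm (P.root b) (P.root b) = 3 * P.RootForm (P.root a) (P.root a) ∨
    P.RootForm (P.root b) (P.root b) = 4 * P.RootForm (P.root a) (P.root a) := by
  have hm := P.pairingIn_pairingIn_mem_set_of_isCrystallographic a b
  rw [pairingIn_int, pairingIn_int] at hm
  have h := pairing_mul_rootForm (P := P) a b
  have ha := rootForm_root_pos (P := P) a
  have hb := rootForm_root_pos (P := P) b
  have hno' : ¬ (P.pairing a b = 0 ∧ P.pairing b a = 0) := hno
  generalize P.pairing a b = x at *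
  generalize P.pairing b a = y at *
  generalize P.RootForm (P.root a) (P.root a) = A at *
  generalize P.RootForm (P.root b) (P.root b) = B at *
  simp only [Set.mem_insert_iff, Set.mem_singleton_iff, Prod.mk.injEq] at hm
  rcases hm with ⟨rfl, rfl⟩ | ⟨rfl, rfl⟩ | ⟨rfl, rfl⟩ | ⟨rfl, rfl⟩ | ⟨rfl, rfl⟩ | ⟨rfl, rfl⟩ |
    ⟨rfl, rfl⟩ | ⟨rfl, rfl⟩ | ⟨rfl, rfl⟩ | ⟨rfl, rfl⟩ | ⟨rfl, rfl⟩ | ⟨rfl, rfl⟩ | ⟨rfl, rfl⟩ |
    ⟨rfl, rfl⟩ | ⟨rfl, rfl⟩ | ⟨rfl, rfl⟩ | ⟨rfl, rfl⟩ <;>
  first | omega | exact absurd ⟨rfl, rfl⟩ hno'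

theorem rootForm_ratio_reduced [Fintype ι] [P.IsReduced] (a b : ι) (hno : ¬ P.IsOrthogonal a b)
    (hle : P.RootForm (P.root a) (P.root a) ≤ P.RootForm (P.root b) (P.root b)) :
    P.RootForm (P.root b) (P.root b) = P.RootForm (P.root a) (P.root a) ∨
    P.RootForm (P.root b) (P.root b) = 2 * P.RootForm (P.root a) (P.root a) ∨
    P.RootForm (P.root b) (P.root b) = 3 * P.RootForm (P.root a) (P.root a) := by
  have hm := P.pairingIn_pairingIn_mem_set_of_isCrystal_of_isRed a b
  rw [pairingIn_int, pairingIn_int] at hm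
  have h := pairing_mul_rootForm (P := P) a b
  have ha := rootForm_root_pos (P := P) a
  have hb := rootForm_root_pos (P := P) b
  have hno' : ¬ (P.pairing a b = 0 ∧ P.pairing b a = 0) := hno
  generalize P.pairing a b = x at *
  generalize P.pairing b a = y at *
  generalize P.RootForm (P.root a) (P.root a) = A at *
  generalize P.RootForm (P.root b) (P.root b) = B at *
  simp only [Set.mem_insert_iff, Set.mem_singleton_iff, Prod.mk.injEq] at hm
  rcases hm with ⟨rfl, rfl⟩ | ⟨rfl, rfl⟩ | ⟨rfl, rfl⟩ | ⟨rfl, rfl⟩ | ⟨rfl, rfl⟩ | ⟨rfl, rfl⟩ |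
    ⟨rfl, rfl⟩ | ⟨rfl, rfl⟩ | ⟨rfl, rfl⟩ | ⟨rfl, rfl⟩ | ⟨rfl, rfl⟩ | ⟨rfl, rfl⟩ | ⟨rfl, rfl⟩ <;>
  first | omega | exact absurd ⟨rfl, rfl⟩ hno'

theorem dvd_rootForm_of_min [Fintype ι] (hirr : Irred P) (i₀ : ι)
    (hmin : ∀ i : ι, P.RootForm (P.root i₀) (P.root i₀) ≤ P.RootForm (P.root i) (P.root i))
    (i : ι) : P.RootForm (P.root i₀) (P.root i₀) ∣ P.RootForm (P.root i) (P.root i) := by
  obtain ⟨w, _, hno⟩ := exists_weyl_not_orth hirr i₀ i
  have hl : P.RootForm (P.root (w • i₀)) (P.root (w • i₀)) = P.RootForm (P.root i₀) (P.root i₀) :=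
    rootForm_root_aut w i₀
  have := rootForm_ratio (w • i₀) i hno (by rw [hl]; exact hmin i)
  rw [hl] at this
  rcases this with h | h | h | h
  · exact ⟨1, by rw [h]; ring⟩
  · exact ⟨2, by rw [h]; ring⟩
  · exact ⟨3, by rw [h]; ring⟩
  · exact ⟨4, by rw [h]; ring⟩

theorem pmorph_step {ι' M' N' : Type*} [AddCommGroup M'] [AddCommGroup N'] [Fintype ι]
    [Fintype ι'] {P' : RootPairing ι' ℤ M' N'} (f : M' →ₗ[ℤ] M) (g : N →ₗ[ℤ] N')
    (hfg : ∀ (m' : M') (n : N), P.toLinearMap (f m') n = P'.toLinearMap m' (g n))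
    (u : ι ≃ ι') (q : ι → ℕ) (hq0 : ∀ i, 0 < q i)
    (hroot : ∀ i : ι, f (P'.root (u i)) = (q i : ℤ) • P.root i)
    (hcoroot : ∀ i : ι, g (P.coroot i) = (q i : ℤ) • P'.coroot (u i)) (j k : ι)
    (hno : ¬ P.IsOrthogonal j k) :
    ((q j : ℤ) ^ 2 * P.RootForm (P.root j) (P.root j)) * P'.RootForm (P'.root (u k)) (P'.root (u k)) =
      ((q k : ℤ) ^ 2 * P.RootForm (P.root k) (P.root k)) *
        P'.RootForm (P'.root (u j)) (P'.root (u j)) := by
  have key : ∀ a b : ι, (q a : ℤ) * P.pairing a b = (q b : ℤ) * P'.pairing (u a) (u b) := by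
    intro a b
    have := hfg (P'.root (u a)) (P.coroot b)
    rw [hroot, hcoroot, map_zsmul, LinearMap.smul_apply, map_zsmul, P.root_coroot_eq_pairing,
      P'.root_coroot_eq_pairing, smul_eq_mul, smul_eq_mul] at this
    exact this
  have e1 := key j k
  have e2 := key k j
  have e3 := pairing_mul_rootForm (P := P) j k
  have e4 := pairing_mul_rootForm (P := P') (u j) (u k)
  have hqj : (q j : ℤ) ≠ 0 := by exact_mod_cast (hq0 j).ne'
  have hqk : (q k : ℤ) ≠ 0 := by exact_mod_cast (hq0 k).ne'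
  have hab : P.pairing j k ≠ 0 ∧ P.pairing k j ≠ 0 := by
    have hz := pairing_zero_iff P (i := j) (j := k)
    constructor
    · intro h0; exact hno ⟨h0, hz.mp h0⟩
    · intro h0; exact hno ⟨hz.mpr h0, h0⟩
  have ha' : P'.pairing (u j) (u k) ≠ 0 := by
    intro h0
    rw [h0, mul_zero] at e1
    exact (mul_ne_zero hqj hab.1) e1
  have hne : P'.pairing (u j) (u k) * P.pairing k j ≠ 0 := mul_ne_zero ha' hab.2
  apply mul_left_cancel₀ hne
  generalize P.pairing j k = a at *
  generalize P.pairing k j = b at *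
  generalize P'.pairing (u j) (u k) = a' at *
  generalize P'.pairing (u k) (u j) = b' at *
  generalize P.RootForm (P.root j) (P.root j) = lj at *
  generalize P.RootForm (P.root k) (P.root k) = lk at *
  generalize P'.RootForm (P'.root (u j)) (P'.root (u j)) = lj' at *
  generalize P'.RootForm (P'.root (u k)) (P'.root (u k)) = lk' at *
  generalize (q j : ℤ) = qj at *
  generalize (q k : ℤ) = qk at *
  linear_combination (a' * qj ^ 2 * lk') * e3 - (qj ^ 2 * a * lk) * e4 +
    (lk * lj' * qj * b') * e1 - (lk * lj' * qk * a') * e2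

end Groth.Agent.Lead.RootD13
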