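import Mathlib
import Groth.Agent.Lib.Helper8.RootDWeyl
import Groth.Agent.Lib.Helper8.RootDCrit
import Groth.Agent.Lib.Helper8.RootDPart

/-! Simple systems adapted to saturated subsets of roots, via ordered-group valued functionals. -/

namespace Groth.Agent.Lead.RD15

open RootD Groth.Agent.Helper8.RD

variable {ι M N : Type*} [AddCommGroup M] [AddCommGroup N] (P : RootPairing ι ℤ M N)

/-- saturation of a submodule. -/
def satSub (W : Submodule ℤ M) : Submodule ℤ M where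
  carrier := {x | ∃ n : ℕ, 0 < n ∧ n • x ∈ W}
  add_mem' := by
    rintro x y ⟨n, hn, hx⟩ ⟨m, hm, hy⟩
    refine ⟨n * m, Nat.mul_pos hn hm, ?_⟩
    rw [smul_add]
    refine W.add_mem ?_ ?_
    · rw [mul_comm, mul_smul]; exact nsmul_mem hx m
    · rw [mul_smul]; exact nsmul_mem hy n
  zero_mem' := ⟨1, one_pos, by simp⟩
  smul_mem' := by
    rintro c x ⟨n, hn, hx⟩
    refine ⟨n, hn, ?_⟩
    rw [smul_comm]
    exact W.smul_mem c hx

theorem mem_satSub {W : Submodule ℤ M} {x : M} :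
    x ∈ satSub W ↔ ∃ n : ℕ, 0 < n ∧ n • x ∈ W := Iff.rfl

theorem le_satSub (W : Submodule ℤ M) : W ≤ satSub W := fun x hx => ⟨1, one_pos, by simpa using hx⟩

theorem satSub_saturated (W : Submodule ℤ M) (k : ι)
    (h : ∃ n : ℕ, 0 < n ∧ n • P.root k ∈ Submodule.span ℤ (P.root '' {l | P.root l ∈ satSub W})) :
    P.root k ∈ satSub W := by
  obtain ⟨n, hn, h⟩ := h
  have hle : Submodule.span ℤ (P.root '' {l | P.root l ∈ satSub W}) ≤ satSub W := by
    rw [Submodule.span_le]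
    rintro _ ⟨l, hl, rfl⟩
    exact hl
  obtain ⟨m, hm, h'⟩ := hle h
  refine ⟨m * n, Nat.mul_pos hm hn, ?_⟩
  rw [mul_smul]; exact h'

theorem natSpan_le_span' {S : Set ι} {x : M} (hx : x ∈ natSpan P S) :
    x ∈ Submodule.span ℤ (P.root '' S) := by
  refine AddSubmonoid.closure_induction ?_ ?_ ?_ hx
  · intro y hy
    exact Submodule.subset_span hy
  · exact Submodule.zero_mem _
  · intro a b _ _ ha hb
    exact Submodule.add_mem _ ha hb

/-- an additive map to a totally ordered group on the root lattice vanishing exactly on a saturated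
set of roots. -/
theorem exists_ordered_hom [Finite ι] (R' : Set ι)
    (hsat : ∀ k : ι, (∃ n : ℕ, 0 < n ∧ n • P.root k ∈ Submodule.span ℤ (P.root '' R')) → k ∈ R') :
    ∃ (r : ℕ) (ψ : ↥(P.rootSpan ℤ) →+ Lex (Fin r → ℤ)),
      ∀ k, ψ (P.rootSpanMem ℤ k) = 0 ↔ k ∈ R' := by
  classical
  let Q : Submodule ℤ M := P.rootSpan ℤ
  haveI : Module.Finite ℤ Q := Module.Finite.span_of_finite ℤ (Set.finite_range _)
  let V' : Submodule ℤ Q := (Submodule.span ℤ (P.root '' R')).comap Q.subtype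
  let T : Submodule ℤ (Q ⧸ V') := Submodule.torsion ℤ (Q ⧸ V')
  haveI : Module.Free ℤ ((Q ⧸ V') ⧸ T) := Module.free_of_finite_type_torsion_free'
  let b := Module.finBasis ℤ ((Q ⧸ V') ⧸ T)
  let ψ₀ : Q →ₗ[ℤ] (Fin (Module.finrank ℤ ((Q ⧸ V') ⧸ T)) → ℤ) :=
    b.equivFun.toLinearMap ∘ₗ T.mkQ ∘ₗ V'.mkQ
  refine ⟨_, AddMonoidHom.mk' (fun x => toLex (ψ₀ x)) (fun a b => by rw [map_add]; rfl), ?_⟩
  intro k
  show toLex (ψ₀ (P.rootSpanMem ℤ k)) = 0 ↔ _
  have h1 : toLex (ψ₀ (P.rootSpanMem ℤ k)) = 0 ↔ ψ₀ (P.rootSpanMem ℤ k) = 0 := Iff.rfl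
  rw [h1]
  have h2 : ψ₀ (P.rootSpanMem ℤ k) = 0 ↔ V'.mkQ (P.rootSpanMem ℤ k) ∈ T := by
    show b.equivFun (T.mkQ (V'.mkQ (P.rootSpanMem ℤ k))) = 0 ↔ _
    rw [LinearEquiv.map_eq_zero_iff, Submodule.mkQ_apply, Submodule.Quotient.mk_eq_zero]
  rw [h2, Submodule.mem_torsion_iff]
  constructor
  · rintro ⟨a, ha⟩
    apply hsat
    have ha0 : (a : ℤ) ≠ 0 := nonZeroDivisors.coe_ne_zero a
    have ha' : (a : ℤ) • (P.rootSpanMem ℤ k) ∈ V' := by
      rw [Submonoid.smul_def, ← map_smul, Submodule.mkQ_apply, Submodule.Quotient.mk_eq_zero] at ha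
      exact ha
    have ha'' : (a : ℤ) • P.root k ∈ Submodule.span ℤ (P.root '' R') := ha'
    refine ⟨(a : ℤ).natAbs, Int.natAbs_pos.mpr ha0, ?_⟩
    rcases Int.natAbs_eq (a : ℤ) with h | h
    · rw [← natCast_zsmul, ← h]; exact ha''
    · have : ((a:ℤ).natAbs : ℤ) = -(a : ℤ) := by omega
      rw [← natCast_zsmul, this, neg_smul]; exact neg_mem ha''
  · intro hk
    refine ⟨1, ?_⟩
    rw [one_smul, Submodule.mkQ_apply, Submodule.Quotient.mk_eq_zero]
    exact Submodule.subset_span ⟨k, hk, rfl⟩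

section hom

variable {P}
variable {G : Type*} [AddCommGroup G] [LinearOrder G] [IsOrderedAddMonoid G]

theorem hom_add (T : ↥(P.rootSpan ℤ) →+ G) {i j k : ι} (h : P.root k = P.root i + P.root j) :
    T (P.rootSpanMem ℤ k) = T (P.rootSpanMem ℤ i) + T (P.rootSpanMem ℤ j) := by
  have : P.rootSpanMem ℤ k = P.rootSpanMem ℤ i + P.rootSpanMem ℤ j := Subtype.ext h
  rw [this, map_add]

theorem hom_neg (T : ↥(P.rootSpan ℤ) →+ G) (i : ι) :
    T (P.rootSpanMem ℤ (P.reflectionPerm i i)) = - T (P.rootSpanMem ℤ i) := by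
  have : P.rootSpanMem ℤ (P.reflectionPerm i i) = - P.rootSpanMem ℤ i := Subtype.ext (root_neg P i)
  rw [this, map_neg]

/-- A totally ordered functional `T` together with a simple system `Δ'` of its zero set gives a
simple system of the whole pairing extending `Δ'`. -/
theorem simpleSys_of_hom [Finite ι] (T : ↥(P.rootSpan ℤ) →+ G) (Δ' : Set ι)
    (hΔ'0 : ∀ d ∈ Δ', T (P.rootSpanMem ℤ d) = 0) (hli : LinearIndepOn ℤ P.root Δ')
    (hgen : ∀ k, T (P.rootSpanMem ℤ k) = 0 →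
      P.root k ∈ natSpan P Δ' ∨ -P.root k ∈ natSpan P Δ') :
    ∃ Δ : Set ι, IsSimpleSys P Δ ∧ Δ' ⊆ Δ ∧
      posOf P Δ = {k | 0 < T (P.rootSpanMem ℤ k)} ∪
        {k | T (P.rootSpanMem ℤ k) = 0 ∧ P.root k ∈ natSpan P Δ'} := by
  classical
  let t : ι → G := fun k => T (P.rootSpanMem ℤ k)
  have hadd : ∀ i j k, P.root k = P.root i + P.root j → t k = t i + t j :=
    fun i j k h => hom_add T h
  have hneg : ∀ i, t (P.reflectionPerm i i) = - t i := fun i => hom_neg T i
  let S : Set ι := {k | 0 < t k} ∪ {k | t k = 0 ∧ P.root k ∈ natSpan P Δ'}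
  have hSnn : ∀ k ∈ S, 0 ≤ t k := by
    rintro k (hk | ⟨hk, -⟩)
    · exact le_of_lt hk
    · exact le_of_eq hk.symm
  have hS1 : ∀ i ∈ S, P.reflectionPerm i i ∉ S := by
    rintro i hi hi'
    have h1 := hSnn i hi
    have h2 := hSnn _ hi'
    rw [hneg] at h2
    have h0 : t i = 0 := le_antisymm (neg_nonneg.mp h2) h1
    rcases hi with hi | ⟨hiR, hin⟩
    · exact absurd h0 (ne_of_gt hi)
    · rcases hi' with hi' | ⟨_, hin'⟩
      · have hi'' : 0 < t (P.reflectionPerm i i) := hi'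
        rw [hneg, h0, neg_zero] at hi''; exact lt_irrefl _ hi''
      · rw [root_neg] at hin'
        exact P.ne_zero i (eq_zero_of_mem_of_neg_mem' hli hin hin')
  have hS2 : ∀ i, i ∈ S ∨ P.reflectionPerm i i ∈ S := by
    intro i
    rcases lt_trichotomy (t i) 0 with h | h | h
    · right; left; show 0 < t _; rw [hneg]; exact neg_pos.mpr h
    · have h' : t (P.reflectionPerm i i) = 0 := by rw [hneg, h, neg_zero]
      rcases hgen i h with h'' | h''
      · left; right; exact ⟨h, h''⟩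
      · right; right; refine ⟨h', ?_⟩; rw [root_neg]; exact h''
    · left; left; exact h
  have hcl : IsClosedSub P S := by
    intro i j k hi hj hk
    have hti := hSnn i hi
    have htj := hSnn j hj
    have htk := hadd i j k hk
    rcases hi with hi | ⟨hiR, hin⟩
    · left; show 0 < t k; rw [htk]; exact add_pos_of_pos_of_nonneg hi htj
    · rcases hj with hj | ⟨hjR, hjn⟩
      · left; show 0 < t k; rw [htk]; exact add_pos_of_nonneg_of_pos hti hj
      · right
        refine ⟨?_, ?_⟩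
        · rw [htk, hiR, hjR, add_zero]
        · rw [hk]; exact add_mem hin hjn
  obtain ⟨Δ, hΔ, hpos⟩ := exists_simpleSys_of_closed hS1 hS2 hcl
  refine ⟨Δ, hΔ, ?_, hpos⟩
  intro d hd
  have hdS : d ∈ S := Or.inr ⟨hΔ'0 d hd, root_mem_natSpan P hd⟩
  have hdpos : d ∈ posOf P Δ := hpos ▸ hdS
  rw [mem_simple_iff hΔ hdpos]
  rintro ⟨i, j, hi, hj, hsum⟩
  rw [hpos] at hi hj
  have htd : t d = 0 := hΔ'0 d hd
  have hti := hSnn i hi
  have htj := hSnn j hj
  have h0 := hadd i j d hsum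
  rw [htd] at h0
  obtain ⟨hti0, htj0⟩ := (add_eq_zero_iff_of_nonneg hti htj).mp h0.symm
  have hin : P.root i ∈ natSpan P Δ' := by
    rcases hi with hi | ⟨_, h⟩
    · exact absurd hti0 (ne_of_gt hi)
    · exact h
  have hjn : P.root j ∈ natSpan P Δ' := by
    rcases hj with hj | ⟨_, h⟩
    · exact absurd htj0 (ne_of_gt hj)
    · exact h
  obtain ⟨ci, hci, hci0, hlci⟩ := (mem_natSpan_iff P).mp hin
  obtain ⟨cj, hcj, hcj0, hlcj⟩ := (mem_natSpan_iff P).mp hjn
  have hsingle : Finsupp.single d (1:ℤ) = ci + cj := by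
    apply lc_inj' hli
    · intro e he
      simp only [Finset.mem_coe, Finsupp.mem_support_iff, Finsupp.single_apply] at he
      split_ifs at he with h
      · exact h ▸ hd
      · exact absurd rfl he
    · intro e he
      have := Finsupp.support_add he
      rw [Finset.mem_union] at this
      rcases this with h | h
      · exact hci h
      · exact hcj h
    · rw [lc, Finsupp.linearCombination_single, one_smul]
      show P.root d = Finsupp.linearCombination ℤ P.root (ci + cj)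
      rw [map_add]
      exact hsum.trans (by rw [← hlci, ← hlcj])
  have e1 := congrArg (fun c : ι →₀ ℤ => c d) hsingle
  simp only [Finsupp.add_apply, Finsupp.single_eq_same] at e1
  have hz : ∀ e, e ≠ d → ci e = 0 ∧ cj e = 0 := by
    intro e he
    have e2 := congrArg (fun c : ι →₀ ℤ => c e) hsingle
    simp only [Finsupp.add_apply, Finsupp.single_apply, if_neg he.symm] at e2
    have := hci0 e
    have := hcj0 e
    constructor <;> omega
  have := hci0 d
  have := hcj0 d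
  rcases (show ci d = 0 ∨ cj d = 0 by omega) with h | h
  · apply P.ne_zero i
    rw [← hlci]
    have : ci = 0 := by
      ext e
      by_cases he : e = d
      · rw [he, h]; rfl
      · rw [(hz e he).1]; rfl
    rw [this, lc, map_zero]
  · apply P.ne_zero j
    rw [← hlcj]
    have : cj = 0 := by
      ext e
      by_cases he : e = d
      · rw [he, h]; rfl
      · rw [(hz e he).2]; rfl
    rw [this, lc, map_zero]

/-- Elements of the non-negative span of `Δ` on which a functional, non-negative on `Δ`,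
vanishes lie in the non-negative span of the part of `Δ` where the functional vanishes. -/
theorem mem_natSpan_zero_of_hom {Δ : Set ι} (ψ : ↥(P.rootSpan ℤ) →+ G)
    (hψ : ∀ d ∈ Δ, 0 ≤ ψ (P.rootSpanMem ℤ d)) {x : M} (hx : x ∈ natSpan P Δ) :
    ∃ hx' : x ∈ P.rootSpan ℤ, 0 ≤ ψ ⟨x, hx'⟩ ∧
      (ψ ⟨x, hx'⟩ = 0 → x ∈ natSpan P {d | d ∈ Δ ∧ ψ (P.rootSpanMem ℤ d) = 0}) := by
  refine AddSubmonoid.closure_induction ?_ ?_ ?_ hx
  · rintro y ⟨d, hd, rfl⟩
    refine ⟨Submodule.subset_span (Set.mem_range_self d), hψ d hd, fun h0 => ?_⟩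
    exact root_mem_natSpan P ⟨hd, h0⟩
  · refine ⟨Submodule.zero_mem _, ?_, fun _ => zero_mem _⟩
    have : (⟨0, Submodule.zero_mem _⟩ : ↥(P.rootSpan ℤ)) = 0 := rfl
    rw [this, map_zero]
  · rintro a b _ _ ⟨ha, ha0, ha1⟩ ⟨hb, hb0, hb1⟩
    have e : (⟨a + b, Submodule.add_mem _ ha hb⟩ : ↥(P.rootSpan ℤ)) = ⟨a, ha⟩ + ⟨b, hb⟩ := rfl
    refine ⟨Submodule.add_mem _ ha hb, ?_, ?_⟩
    · rw [e, map_add]; exact add_nonneg ha0 hb0
    · rw [e, map_add]; intro h0
      obtain ⟨h1, h2⟩ := (add_eq_zero_iff_of_nonneg ha0 hb0).mp h0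
      exact add_mem (ha1 h1) (hb1 h2)

end hom

end Groth.Agent.Lead.RD15
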