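import Mathlib
import Groth.Agent.Lib.Lead.RootD10

/-! Isomorphisms of adjoint root data from Cartan matrices. -/

namespace Groth.Agent.Lead.RD16

open Set Function Submodule

variable {ι M N ι' M' N' : Type*} [AddCommGroup M] [AddCommGroup N] [AddCommGroup M']
  [AddCommGroup N'] (P : RootPairing ι ℤ M N) (P' : RootPairing ι' ℤ M' N')

theorem coroot'_eq_of_weightEquiv [Finite ι] (had : span ℤ (range P.root) = ⊤)
    (f : M ≃ₗ[ℤ] M') (e' : ι ≃ ι') (hf : ∀ i, f (P.root i) = P'.root (e' i)) (i : ι) :
    P.coroot' i = (P'.coroot' (e' i)) ∘ₗ f.toLinearMap := by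
  haveI := Groth.Agent.Lead.RootD10.isTorsionFree_left P
  apply Module.Dual.eq_of_preReflection_mapsTo (x := P.root i) (Φ := Set.range P.root)
    (Set.finite_range _) had
  · exact P.root_coroot_two i
  · rintro _ ⟨j, rfl⟩
    rw [Module.preReflection_apply]
    exact ⟨P.reflectionPerm i j, by rw [P.root_reflectionPerm, P.reflection_apply]⟩
  · show P'.coroot' (e' i) (f (P.root i)) = 2
    rw [hf]; exact P'.root_coroot_two (e' i)
  · rintro _ ⟨j, rfl⟩
    rw [Module.preReflection_apply]
    refine ⟨e'.symm (P'.reflectionPerm (e' i) (e' j)), ?_⟩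
    apply f.injective
    rw [hf, Equiv.apply_symm_apply, map_sub, map_smul, hf, hf, P'.root_reflectionPerm,
      P'.reflection_apply]
    show _ = P'.root (e' j) - (P'.coroot' (e' i) (f (P.root j))) • P'.root (e' i)
    rw [hf]

/-- A linear equivalence of weight lattices of adjoint root data mapping roots to roots is an
equivalence of root data. -/
noncomputable def equivOfWeightEquiv [Finite ι] (had : span ℤ (range P.root) = ⊤)
    (f : M ≃ₗ[ℤ] M') (e' : ι ≃ ι') (hf : ∀ i, f (P.root i) = P'.root (e' i)) : P.Equiv P' where
  weightMap := f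
  coweightMap := P'.flip.toPerfPair.trans (f.dualMap.trans P.flip.toPerfPair.symm)
  indexEquiv := e'
  weight_coweight_transpose := by ext; simp
  root_weightMap := by ext; simp [hf]
  coroot_coweightMap := by
    ext i'
    simp only [Function.comp_apply, LinearEquiv.coe_coe, LinearEquiv.trans_apply]
    rw [LinearEquiv.symm_apply_eq]
    ext m
    have h := coroot'_eq_of_weightEquiv P P' had f e' hf (e'.symm i')
    have h2 := LinearMap.congr_fun h m
    rw [Equiv.apply_symm_apply] at h2
    simpa using h2.symm
  bijective_weightMap := LinearEquiv.bijective _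
  bijective_coweightMap := LinearEquiv.bijective _

@[simp] theorem equivOfWeightEquiv_indexEquiv [Finite ι] (had : span ℤ (range P.root) = ⊤)
    (f : M ≃ₗ[ℤ] M') (e' : ι ≃ ι') (hf : ∀ i, f (P.root i) = P'.root (e' i)) :
    (equivOfWeightEquiv P P' had f e' hf).indexEquiv = e' := rfl

variable {P P'}

/-- the basis of simple roots of an adjoint root datum -/
noncomputable def adjBasis (b : P.Base) (had : span ℤ (range P.root) = ⊤) :
    Module.Basis b.support ℤ M :=
  b.toWeightBasisInt.map (LinearEquiv.ofTop (P.rootSpan ℤ) had)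

@[simp] theorem adjBasis_apply (b : P.Base) (had : span ℤ (range P.root) = ⊤) (i : b.support) :
    adjBasis b had i = P.root i := by
  simp [adjBasis]

theorem apply_mem_range_root (b : P.Base) (had : span ℤ (range P.root) = ⊤) [Finite ι]
    [P.IsReduced] (b' : P'.Base) (u : b.support ≃ b'.support)
    (hu : ∀ i j : b.support, P.pairing (i : ι) (j : ι) = P'.pairing (u i : ι') (u j : ι'))
    (f : M ≃ₗ[ℤ] M') (hf : ∀ i : b.support, f (P.root i) = P'.root (u i)) (i : ι) :
    f (P.root i) ∈ range P'.root := by
  have key : ∀ k : b.support, ∀ m : M,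
      f (P.reflection k m) = P'.reflection (u k) (f m) := by
    intro k m
    have : (P.reflection k).toLinearMap.comp (LinearMap.id) = (P.reflection k).toLinearMap := rfl
    have h2 : f.toLinearMap ∘ₗ (P.reflection k).toLinearMap
        = (P'.reflection (u k)).toLinearMap ∘ₗ f.toLinearMap := by
      apply (adjBasis b had).ext
      intro j
      simp only [LinearMap.comp_apply, LinearEquiv.coe_coe, adjBasis_apply]
      rw [P.reflection_apply_root, map_sub, map_smul, hf, hf, P'.reflection_apply_root, hu]
    exact LinearMap.congr_fun h2 m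
  apply b.induction_reflect i (p := fun i => f (P.root i) ∈ range P'.root)
  · rintro j ⟨k, hk⟩
    refine ⟨P'.reflectionPerm k k, ?_⟩
    rw [P.root_reflectionPerm, P.reflection_apply_self, map_neg, ← hk, P'.root_reflectionPerm,
      P'.reflection_apply_self]
  · intro j hj
    exact ⟨u ⟨j, hj⟩, (hf ⟨j, hj⟩).symm⟩
  · rintro j k ⟨l, hl⟩ hk
    refine ⟨P'.reflectionPerm (u ⟨k, hk⟩) l, ?_⟩
    rw [P.root_reflectionPerm, key ⟨k, hk⟩, ← hl, P'.root_reflectionPerm]

theorem existsUnique_equiv [Finite ι] [Finite ι'] [P.IsReduced] [P'.IsReduced]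
    (had : span ℤ (range P.root) = ⊤) (had' : span ℤ (range P'.root) = ⊤)
    (b : P.Base) (b' : P'.Base) (u : b.support ≃ b'.support)
    (hu : ∀ i j : b.support, P.pairing (i : ι) (j : ι) = P'.pairing (u i : ι') (u j : ι')) :
    ∃! e : RootPairing.Equiv P P', ∀ i : b.support, e.indexEquiv (i : ι) = (u i : ι') := by
  classical
  let f : M ≃ₗ[ℤ] M' := (adjBasis b had).equiv (adjBasis b' had') u
  have hf : ∀ i : b.support, f (P.root i) = P'.root (u i) := by
    intro i
    have := (adjBasis b had).equiv_apply i (adjBasis b' had') u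
    rw [adjBasis_apply, adjBasis_apply] at this
    exact this
  have hf' : ∀ i : b'.support, f.symm (P'.root i) = P.root (u.symm i) := by
    intro i
    rw [LinearEquiv.symm_apply_eq, hf, Equiv.apply_symm_apply]
  have hu' : ∀ i j : b'.support,
      P'.pairing (i : ι') (j : ι') = P.pairing (u.symm i : ι) (u.symm j : ι) := by
    intro i j
    rw [hu, Equiv.apply_symm_apply, Equiv.apply_symm_apply]
  have h1 : ∀ i, f (P.root i) ∈ range P'.root := apply_mem_range_root b had b' u hu f hf
  have h2 : ∀ i, f.symm (P'.root i) ∈ range P.root :=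
    apply_mem_range_root b' had' b u.symm hu' f.symm hf'
  choose e₁ he₁ using h1
  choose e₂ he₂ using h2
  let e' : ι ≃ ι' :=
    { toFun := e₁
      invFun := e₂
      left_inv := fun i => P.root.injective (by rw [he₂, he₁, LinearEquiv.symm_apply_apply])
      right_inv := fun i => P'.root.injective (by rw [he₁, he₂, LinearEquiv.apply_symm_apply]) }
  have hfe : ∀ i, f (P.root i) = P'.root (e' i) := fun i => (he₁ i).symm
  refine ⟨equivOfWeightEquiv P P' had f e' hfe, ?_, ?_⟩
  · intro i
    show e' i = u i
    apply P'.root.injective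
    rw [← hfe, hf]
  · intro e he
    have hw : e.weightMap = f.toLinearMap := by
      apply (adjBasis b had).ext
      intro j
      rw [adjBasis_apply]
      have := RootPairing.Hom.root_weightMap_apply P P' (j : ι) e.toHom
      rw [this, he j]
      exact (hf j).symm
    have hidx : e.indexEquiv = e' := by
      ext i
      apply P'.root.injective
      have := RootPairing.Hom.root_weightMap_apply P P' i e.toHom
      rw [← this, hw]
      exact hfe i
    have hco : e.coweightMap = (equivOfWeightEquiv P P' had f e' hfe).coweightMap := by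
      have t1 := e.weight_coweight_transpose
      have t2 := (equivOfWeightEquiv P P' had f e' hfe).weight_coweight_transpose
      have hw2 : (equivOfWeightEquiv P P' had f e' hfe).weightMap = e.weightMap := hw.symm
      rw [hw2, t1] at t2
      ext n
      apply P.flip.toPerfPair.injective
      exact LinearMap.congr_fun t2 n
    apply RootPairing.Equiv.ext
    · exact hw
    · exact hco
    · exact hidx

end Groth.Agent.Lead.RD16
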