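import Mathlib
import Groth.Prelude.Def_W4sga3xxiRoot

namespace Groth.Agent.Lead.RootDBasic

open RootPairing

variable {ι M N : Type*} [AddCommGroup M] [AddCommGroup N] (P : RootPairing ι ℤ M N)

theorem pairingIn_int (i j : ι) : P.pairingIn ℤ i j = P.pairing i j := by
  simpa using P.algebraMap_pairingIn ℤ i j

theorem root_neg (i : ι) : P.root (P.reflectionPerm i i) = - P.root i := by
  simp

theorem coroot_neg (i : ι) : P.coroot (P.reflectionPerm i i) = - P.coroot i := by
  simp

theorem root_sub_mem [Finite ι] {i j : ι} (h : 0 < P.pairing i j) (h' : i ≠ j) :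
    P.root i - P.root j ∈ Set.range P.root := by
  apply P.root_sub_root_mem_of_pairingIn_pos _ h'
  rw [pairingIn_int]; exact h

theorem root_add_mem [Finite ι] {i j : ι} (h : P.pairing i j < 0) (h' : P.root i ≠ - P.root j) :
    P.root i + P.root j ∈ Set.range P.root := by
  apply P.root_add_root_mem_of_pairingIn_neg _ h'
  rw [pairingIn_int]; exact h

theorem neg_mem_range (i : ι) : - P.root i ∈ Set.range P.root :=
  ⟨P.reflectionPerm i i, root_neg P i⟩

theorem toLinearMap_smul_coroot (u : P.Aut) (m : M) (j : ι) :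
    P.toLinearMap (u • m) (P.coroot (u • j)) = P.toLinearMap m (P.coroot j) := by
  have h := Hom.weight_coweight_transpose_apply P P (P.coroot (u • j)) u.toHom
  have h2 := LinearMap.congr_fun h m
  rw [Hom.coroot_coweightMap_apply] at h2
  simp at h2
  convert h2 using 2
  · rfl
  · exact congrArg P.coroot (u.toHom.indexEquiv.symm_apply_apply j).symm

theorem smul_root (u : P.Aut) (i : ι) : u • P.root i = P.root (u • i) :=
  (Equiv.root_indexEquiv_eq_smul (P := P) i u).symm

theorem conj_reflection (u : P.Aut) (i : ι) :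
    u * Equiv.reflection P i * u⁻¹ = Equiv.reflection P (u • i) := by
  apply Equiv.weightHom_injective P
  apply LinearEquiv.ext
  intro x
  show (u * Equiv.reflection P i * u⁻¹) • x = Equiv.reflection P (u • i) • x
  rw [mul_smul, mul_smul, Equiv.reflection_smul, Equiv.reflection_smul, reflection_apply,
    reflection_apply, smul_sub, smul_inv_smul, smul_comm, smul_root]
  congr 2
  have := toLinearMap_smul_coroot P u (u⁻¹ • x) i
  rw [smul_inv_smul] at this
  exact this.symm

theorem add_mem_iff_sub_mem_of_orth (i j : ι) (h : P.IsOrthogonal i j) :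
    P.root i + P.root j ∈ Set.range P.root ↔ P.root i - P.root j ∈ Set.range P.root := by
  obtain ⟨h1, h2⟩ := h
  constructor
  · rintro ⟨k, hk⟩
    refine ⟨P.reflectionPerm j k, ?_⟩
    rw [root_reflectionPerm, hk, map_add, reflection_apply_self, reflection_apply_root, h1]
    simp [sub_eq_add_neg]
  · rintro ⟨k, hk⟩
    refine ⟨P.reflectionPerm j k, ?_⟩
    rw [root_reflectionPerm, hk, map_sub, reflection_apply_self, reflection_apply_root, h1]
    simp

theorem closedSymm_sub {T : Set ι} (hc : RootD.IsClosedSub P T) (hs : RootD.IsSymmSub P T)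
    {i j k : ι} (h : P.root k = P.root i + P.root j) (hk : k ∈ T) (hi : i ∈ T) : j ∈ T :=
  hc hk (hs hi) (show P.root j = P.root k + P.root (P.reflectionPerm i i) by
    rw [root_neg, h]; abel)

theorem closedSymm_sub' {T : Set ι} (hc : RootD.IsClosedSub P T) (hs : RootD.IsSymmSub P T)
    {i j k : ι} (h : P.root k = P.root i + P.root j) (hk : k ∈ T) (hj : j ∈ T) : i ∈ T :=
  closedSymm_sub P hc hs (show P.root k = P.root j + P.root i by rw [h, add_comm]) hk hj

theorem partition_add (R' : Set ι) (hc : RootD.IsClosedSub P R')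
    (hs : RootD.IsSymmSub P R') (hc' : RootD.IsClosedSub P R'ᶜ) (hs' : RootD.IsSymmSub P R'ᶜ)
    (i j k : ι) (h : P.root k = P.root i + P.root j) :
    (i ∈ R' ∧ j ∈ R' ∧ k ∈ R') ∨ (i ∉ R' ∧ j ∉ R' ∧ k ∉ R') := by
  by_cases hi : i ∈ R' <;> by_cases hj : j ∈ R' <;> by_cases hk : k ∈ R'
  · exact Or.inl ⟨hi, hj, hk⟩
  · exact absurd (hc hi hj h) hk
  · exact absurd (closedSymm_sub P hc hs h hk hi) hj
  · exact absurd (closedSymm_sub' P hc' hs' h hk hj) (fun hh => hh hi)
  · exact absurd (closedSymm_sub' P hc hs h hk hj) hi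
  · exact absurd (closedSymm_sub P hc' hs' h hk hi) (fun hh => hh hj)
  · exact absurd (hc' hi hj h) (fun hh => hh hk)
  · exact Or.inr ⟨hi, hj, hk⟩

theorem mem_of_not_orth [Finite ι] (R' : Set ι) (hc : RootD.IsClosedSub P R')
    (hs : RootD.IsSymmSub P R') (hc' : RootD.IsClosedSub P R'ᶜ) (hs' : RootD.IsSymmSub P R'ᶜ)
    (i j : ι) (hi : i ∈ R') (hij : ¬ P.IsOrthogonal i j) : j ∈ R' := by
  have hne : P.pairing i j ≠ 0 := by
    intro h0
    exact hij ⟨h0, P.pairing_eq_zero_iff'.mp h0⟩
  by_contra hj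
  rcases lt_or_gt_of_ne hne with hneg | hpos
  · by_cases h' : P.root i = - P.root j
    · have : i = P.reflectionPerm j j := P.root.injective (by rw [root_neg, h'])
      have h2 : P.reflectionPerm j j ∈ R'ᶜ := hs' hj
      exact h2 (this ▸ hi)
    · obtain ⟨k, hk⟩ := root_add_mem P hneg h'
      rcases partition_add P R' hc hs hc' hs' i j k hk with ⟨_, h2, _⟩ | ⟨h1, _, _⟩
      · exact hj h2
      · exact h1 hi
  · have hne' : i ≠ j := fun h => hj (h ▸ hi)
    obtain ⟨k, hk⟩ := root_sub_mem P hpos hne'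
    have hk' : P.root i = P.root k + P.root j := by rw [hk]; abel
    rcases partition_add P R' hc hs hc' hs' k j i hk' with ⟨_, h2, _⟩ | ⟨_, _, h3⟩
    · exact hj h2
    · exact h3 hi

theorem comp_closedSymm (i : ι) :
    RootD.IsClosedSub P {j : ι | Relation.ReflTransGen (fun a b : ι => ¬ P.IsOrthogonal a b) i j} ∧
      RootD.IsSymmSub P {j : ι | Relation.ReflTransGen (fun a b : ι => ¬ P.IsOrthogonal a b) i j} ∧
      RootD.IsClosedSub P {j : ι | Relation.ReflTransGen (fun a b : ι => ¬ P.IsOrthogonal a b) i j}ᶜ ∧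
      RootD.IsSymmSub P {j : ι | Relation.ReflTransGen (fun a b : ι => ¬ P.IsOrthogonal a b) i j}ᶜ := by
  have hsymm : ∀ a b, ¬ P.IsOrthogonal a b → ¬ P.IsOrthogonal b a := fun a b h h' => h ⟨h'.2, h'.1⟩
  have key : ∀ a b k, P.root k = P.root a + P.root b →
      ¬ P.IsOrthogonal a k ∨ ¬ P.IsOrthogonal b k := by
    intro a b k h
    by_contra hcon
    push Not at hcon
    have h1 : P.pairing k k = P.pairing a k + P.pairing b k := pairing_eq_add_of_root_eq_add h
    rw [pairing_same, hcon.1.1, hcon.2.1] at h1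
    norm_num at h1
  have negorth : ∀ a, ¬ P.IsOrthogonal a (P.reflectionPerm a a) := by
    intro a h
    have := h.1
    rw [pairing_reflectionPerm_self_right, pairing_same] at this
    norm_num at this
  refine ⟨?_, ?_, ?_, ?_⟩
  · intro a b k ha hb h
    rcases key a b k h with h1 | h1
    · exact Relation.ReflTransGen.tail ha h1
    · exact Relation.ReflTransGen.tail hb h1
  · intro a ha
    exact Relation.ReflTransGen.tail ha (negorth a)
  · intro a b k ha hb h hk
    rcases key a b k h with h1 | h1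
    · exact ha (Relation.ReflTransGen.tail hk (hsymm _ _ h1))
    · exact hb (Relation.ReflTransGen.tail hk (hsymm _ _ h1))
  · intro a ha hna
    apply ha
    have := Relation.ReflTransGen.tail hna (negorth (P.reflectionPerm a a))
    have e : P.reflectionPerm (P.reflectionPerm a a) (P.reflectionPerm a a) = a := by
      apply P.root.injective; rw [root_neg, root_neg, neg_neg]
    rwa [e] at this

theorem isPosSys_of_orderedAddHom {G : Type*} [AddCommGroup G] [PartialOrder G]
    [IsOrderedAddMonoid G] (φ : M →+ G) (hφ : ∀ i : ι, 0 < φ (P.root i) ∨ φ (P.root i) < 0) :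
    RootD.IsPosSys P {i : ι | 0 < φ (P.root i)} := by
  have hneg : ∀ i, φ (P.root (P.reflectionPerm i i)) = - φ (P.root i) := by
    intro i; rw [root_neg, map_neg]
  refine ⟨?_, ?_, ?_⟩
  · intro i hi h2
    change 0 < φ (P.root i) at hi; change 0 < φ (P.root (P.reflectionPerm i i)) at h2
    rw [hneg] at h2
    have : φ (P.root i) < 0 := neg_pos.mp h2
    exact lt_asymm hi this
  · intro i
    rcases hφ i with h | h
    · exact Or.inl h
    · right; change 0 < φ (P.root (P.reflectionPerm i i)); rw [hneg]; exact neg_pos.mpr h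
  · intro k n hn hk
    have key : ∀ x ∈ RootD.natSpan P {i : ι | 0 < φ (P.root i)}, 0 ≤ φ x := by
      intro x hx
      unfold RootD.natSpan at hx
      induction hx using AddSubmonoid.closure_induction with
      | mem x hx => obtain ⟨a, ha, rfl⟩ := hx; exact le_of_lt ha
      | zero => simp
      | add x y _ _ hx hy => rw [map_add]; exact add_nonneg hx hy
    have h1 := key _ hk
    rw [map_nsmul] at h1
    rcases hφ k with h | h
    · exact h
    · exfalso
      have h2 : 0 < n • (- φ (P.root k)) := nsmul_pos (neg_pos.mpr h) hn.ne'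
      rw [smul_neg, neg_pos] at h2
      exact lt_irrefl _ (lt_of_le_of_lt h1 h2)

theorem support_single_subset' {a : ι} {S : Set ι} (ha : a ∈ S) (n : ℤ) :
    (↑(Finsupp.single a n).support : Set ι) ⊆ S := by
  intro b hb
  have := Finsupp.support_single_subset hb
  rw [Finset.mem_singleton] at this
  exact this ▸ ha

theorem support_add_subset' {c d : ι →₀ ℤ} {S : Set ι} (hc : ↑c.support ⊆ S) (hd : ↑d.support ⊆ S) :
    (↑(c + d).support : Set ι) ⊆ S := by
  classical
  intro b hb
  rcases Finset.mem_union.mp (Finsupp.support_add hb) with h | h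
  exacts [hc h, hd h]

theorem mem_natSpan_iff {S : Set ι} {x : M} : x ∈ RootD.natSpan P S ↔
    ∃ c : ι →₀ ℤ, ↑c.support ⊆ S ∧ (∀ a, 0 ≤ c a) ∧ Finsupp.linearCombination ℤ P.root c = x := by
  constructor
  · intro hx
    unfold RootD.natSpan at hx
    induction hx using AddSubmonoid.closure_induction with
    | mem x hx =>
      obtain ⟨a, ha, rfl⟩ := hx
      refine ⟨Finsupp.single a 1, support_single_subset' ha 1, ?_, by simp⟩
      intro b
      classical
      rw [Finsupp.single_apply]
      split_ifs <;> norm_num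
    | zero => exact ⟨0, by simp, by simp, by simp⟩
    | add x y _ _ hx hy =>
      obtain ⟨c, hc1, hc2, hc3⟩ := hx
      obtain ⟨d, hd1, hd2, hd3⟩ := hy
      refine ⟨c + d, support_add_subset' hc1 hd1, ?_, by rw [map_add, hc3, hd3]⟩
      intro b
      rw [Finsupp.add_apply]
      exact add_nonneg (hc2 b) (hd2 b)
  · rintro ⟨c, hc1, hc2, rfl⟩
    rw [Finsupp.linearCombination_apply, Finsupp.sum]
    apply AddSubmonoid.sum_mem
    intro a ha
    have : c a • P.root a = (c a).toNat • P.root a := by
      conv_lhs => rw [← Int.toNat_of_nonneg (hc2 a)]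
      rw [natCast_zsmul]
    rw [this]
    exact AddSubmonoid.nsmul_mem _ (AddSubmonoid.subset_closure (Set.mem_image_of_mem P.root (hc1 ha))) _

theorem coeff_unique {Δ : Set ι} (hli : LinearIndepOn ℤ P.root Δ) {c c' : ι →₀ ℤ}
    (hc : ↑c.support ⊆ Δ) (hc' : ↑c'.support ⊆ Δ)
    (h : Finsupp.linearCombination ℤ P.root c = Finsupp.linearCombination ℤ P.root c') : c = c' := by
  have h1 : c - c' ∈ Finsupp.supported ℤ ℤ Δ :=
    Submodule.sub_mem _ ((Finsupp.mem_supported ℤ c).mpr hc) ((Finsupp.mem_supported ℤ c').mpr hc')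
  have h2 := linearIndepOn_iff.mp hli (c - c') h1 (by rw [map_sub, h, sub_self])
  exact sub_eq_zero.mp h2

theorem pairing_le_zero_of_mem_simpleSys [Finite ι] (Δ : Set ι) (hΔ : RootD.IsSimpleSys P Δ) (i j : ι)
    (hi : i ∈ Δ) (hj : j ∈ Δ) (hij : i ≠ j) : P.pairing j i ≤ 0 := by
  by_contra hpos
  push Not at hpos
  obtain ⟨k, hk⟩ := root_sub_mem P hpos (Ne.symm hij)
  classical
  have hsi : (↑(Finsupp.single i (1:ℤ)).support : Set ι) ⊆ Δ := support_single_subset' hi 1
  have hsj : (↑(Finsupp.single j (1:ℤ)).support : Set ι) ⊆ Δ := support_single_subset' hj 1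
  rcases hΔ.mem_or_neg_mem k with h | h
  · obtain ⟨c, hc1, hc2, hc3⟩ := (mem_natSpan_iff P).mp h
    have hcs : (↑(c + Finsupp.single i (1:ℤ)).support : Set ι) ⊆ Δ := support_add_subset' hc1 hsi
    have := coeff_unique P hΔ.linInd hcs hsj (by
      rw [map_add, hc3, hk]; simp)
    have h3 := DFunLike.congr_fun this i
    rw [Finsupp.add_apply, Finsupp.single_apply, Finsupp.single_apply, if_pos rfl, if_neg (Ne.symm hij)] at h3
    have := hc2 i
    omega
  · obtain ⟨c, hc1, hc2, hc3⟩ := (mem_natSpan_iff P).mp h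
    have hcs : (↑(c + Finsupp.single j (1:ℤ)).support : Set ι) ⊆ Δ := support_add_subset' hc1 hsj
    have := coeff_unique P hΔ.linInd hcs hsi (by
      rw [map_add, hc3, hk]; simp)
    have h3 := DFunLike.congr_fun this j
    rw [Finsupp.add_apply, Finsupp.single_apply, Finsupp.single_apply, if_pos rfl, if_neg hij] at h3
    have := hc2 j
    omega

end Groth.Agent.Lead.RootDBasic
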