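import Mathlib
import Groth.Agent.Lib.Lead.RootDBasic

namespace Groth.Agent.Lead.RootD2

open RootPairing RootD
open Groth.Agent.Lead.RootDBasic

variable {ι M N : Type*} [AddCommGroup M] [AddCommGroup N] (P : RootPairing ι ℤ M N)

theorem rootForm_root_self_pos [Fintype ι] (i : ι) : 0 < P.RootForm (P.root i) (P.root i) := by
  rw [P.rootForm_root_self]
  have h4 : (0:ℤ) < P.pairing i i * P.pairing i i := by rw [pairing_same]; norm_num
  exact lt_of_lt_of_le h4 (Finset.single_le_sum (f := fun j => P.pairing i j * P.pairing i j)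
    (fun j _ => mul_self_nonneg _) (Finset.mem_univ i))

theorem rootForm_root_mul [Fintype ι] (a : ι) (y : M) :
    P.RootForm (P.root a) (P.root a) * P.toLinearMap y (P.coroot a) = 2 * P.RootForm (P.root a) y := by
  have h := congrArg (P.toLinearMap y) (P.rootForm_self_smul_coroot a)
  rw [map_smul, map_nsmul, toLinearMap_apply_apply_Polarization] at h
  simpa [smul_eq_mul] using h

/-- total of the coefficients -/
noncomputable def tot (c : ι →₀ ℤ) : ℤ := Finsupp.linearCombination ℤ (fun _ : ι => (1:ℤ)) c

theorem tot_add (c d : ι →₀ ℤ) : tot (c + d) = tot c + tot d := by simp [tot]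
theorem tot_sub (c d : ι →₀ ℤ) : tot (c - d) = tot c - tot d := by simp [tot]
theorem tot_single (a : ι) (n : ℤ) : tot (Finsupp.single a n) = n := by simp [tot]
theorem tot_eq_sum (c : ι →₀ ℤ) : tot c = ∑ a ∈ c.support, c a := by
  simp [tot, Finsupp.linearCombination_apply, Finsupp.sum]
theorem tot_nonneg {c : ι →₀ ℤ} (hc : ∀ a, 0 ≤ c a) : 0 ≤ tot c := by
  rw [tot_eq_sum]; exact Finset.sum_nonneg (fun a _ => hc a)
theorem eq_zero_of_tot_eq_zero {c : ι →₀ ℤ} (hc : ∀ a, 0 ≤ c a) (h : tot c = 0) : c = 0 := by
  rw [tot_eq_sum] at h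
  have := (Finset.sum_eq_zero_iff_of_nonneg (fun a _ => hc a)).mp h
  ext a
  by_cases ha : a ∈ c.support
  · exact this a ha
  · simpa using Finsupp.notMem_support_iff.mp ha

theorem support_sub_subset' {c d : ι →₀ ℤ} {S : Set ι} (hc : ↑c.support ⊆ S) (hd : ↑d.support ⊆ S) :
    (↑(c - d).support : Set ι) ⊆ S := by
  classical
  intro b hb
  rcases Finset.mem_union.mp (Finsupp.support_sub hb) with h | h
  exacts [hc h, hd h]

theorem lc_apply_coroot (c : ι →₀ ℤ) (j : ι) :
    P.toLinearMap (Finsupp.linearCombination ℤ P.root c) (P.coroot j) = ∑ a ∈ c.support, c a * P.pairing a j := by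
  rw [Finsupp.linearCombination_apply, Finsupp.sum, map_sum, LinearMap.sum_apply]
  simp [smul_eq_mul]

theorem exists_pos_pairing [Finite ι] {c : ι →₀ ℤ} (hc : ∀ a, 0 ≤ c a) {k : ι}
    (h : Finsupp.linearCombination ℤ P.root c = P.root k) : ∃ a, 0 < c a ∧ 0 < P.pairing k a := by
  classical
  let _ : Fintype ι := Fintype.ofFinite ι
  by_contra hcon
  push Not at hcon
  have hB : 0 < P.RootForm (P.root k) (P.root k) := rootForm_root_self_pos P k
  have h1 : P.RootForm (P.root k) (P.root k) = ∑ a ∈ c.support, c a * P.RootForm (P.root a) (P.root k) := by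
    calc P.RootForm (P.root k) (P.root k)
        = P.RootForm (Finsupp.linearCombination ℤ P.root c) (P.root k) := by rw [h]
      _ = ∑ a ∈ c.support, c a * P.RootForm (P.root a) (P.root k) := by
          rw [Finsupp.linearCombination_apply, Finsupp.sum, map_sum, LinearMap.sum_apply]
          simp [smul_eq_mul]
  have h2 : ∑ a ∈ c.support, c a * P.RootForm (P.root a) (P.root k) ≤ 0 := by
    apply Finset.sum_nonpos
    intro a ha
    have hpos : 0 < c a := lt_of_le_of_ne (hc a) (Ne.symm (Finsupp.mem_support_iff.mp ha))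
    have hp := hcon a hpos
    have h3 := rootForm_root_mul P a (P.root k)
    have h4 := rootForm_root_self_pos P a
    rw [root_coroot_eq_pairing] at h3
    have h5 : P.RootForm (P.root a) (P.root k) ≤ 0 := by
      have : P.RootForm (P.root a) (P.root a) * P.pairing k a ≤ 0 :=
        mul_nonpos_of_nonneg_of_nonpos h4.le hp
      omega
    exact mul_nonpos_of_nonneg_of_nonpos (hc a) h5
  omega

/-- roots reachable from `T` by successively adding elements of `T`, all partial sums being roots -/
inductive Reach (T : Set ι) : ι → Prop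
  | base {a : ι} : a ∈ T → Reach T a
  | step {j t k : ι} : Reach T j → t ∈ T → P.root k = P.root j + P.root t → Reach T k

theorem reach_aux [Finite ι] (T : Set ι) : ∀ (n : ℕ) (c : ι →₀ ℤ) (k : ι), (↑c.support ⊆ T) →
    (∀ a, 0 ≤ c a) → tot c = n → Finsupp.linearCombination ℤ P.root c = P.root k → Reach P T k := by
  classical
  intro n
  induction n with
  | zero =>
    intro c k hs hc hsum h
    exfalso
    have : c = 0 := eq_zero_of_tot_eq_zero hc (by simpa using hsum)
    rw [this, map_zero] at h
    exact P.ne_zero k h.symm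
  | succ n ih =>
    intro c k hs hc hsum h
    by_cases hk : k ∈ T
    · exact Reach.base hk
    · obtain ⟨a, ha, hpa⟩ := exists_pos_pairing P hc h
      have haT : a ∈ T := hs (Finsupp.mem_support_iff.mpr ha.ne')
      have hne : k ≠ a := fun e => hk (e ▸ haT)
      obtain ⟨j, hj⟩ := root_sub_mem P hpa hne
      refine Reach.step (ih (c - Finsupp.single a 1) j ?_ ?_ ?_ ?_) haT (by rw [hj]; abel)
      · exact support_sub_subset' hs (support_single_subset' haT 1)
      · intro b
        rw [Finsupp.sub_apply, Finsupp.single_apply]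
        split_ifs with e
        · subst e; omega
        · simpa using hc b
      · rw [tot_sub, tot_single, hsum]; push_cast; ring
      · rw [map_sub, h, hj]; simp

theorem reach_of_mem_natSpan [Finite ι] (T : Set ι) (k : ι) (hk : P.root k ∈ RootD.natSpan P T) :
    Reach P T k := by
  obtain ⟨c, hc1, hc2, hc3⟩ := (mem_natSpan_iff P).mp hk
  have h0 := tot_nonneg hc2
  exact reach_aux P T (tot c).toNat c k hc1 hc2 (by rw [Int.toNat_of_nonneg h0]) hc3

theorem isClosedSub_iff_natSpan [Finite ι] (S : Set ι) :
    RootD.IsClosedSub P S ↔ ∀ k : ι, P.root k ∈ RootD.natSpan P S → k ∈ S := by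
  constructor
  · intro hcl k hk
    have := reach_of_mem_natSpan P S k hk
    clear hk
    induction this with
    | base h => exact h
    | step _ ht e ih => exact hcl ih ht e
  · intro h i j k hi hj e
    apply h
    rw [e]
    exact add_mem (AddSubmonoid.subset_closure (Set.mem_image_of_mem P.root hi))
      (AddSubmonoid.subset_closure (Set.mem_image_of_mem P.root hj))

end Groth.Agent.Lead.RootD2
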