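import Mathlib
import Groth.Agent.Lib.Lead.RootD2

namespace Groth.Agent.Lead.RootD3

open RootPairing RootD
open Groth.Agent.Lead.RootDBasic Groth.Agent.Lead.RootD2

variable {ι M N : Type*} [AddCommGroup M] [AddCommGroup N] (P : RootPairing ι ℤ M N)

theorem no_zero_comb_aux [Finite ι] (S : Set ι) (hP1 : ∀ i ∈ S, P.reflectionPerm i i ∉ S)
    (hcl : RootD.IsClosedSub P S) :
    ∀ (n : ℕ) (c : ι →₀ ℤ), ↑c.support ⊆ S → (∀ a, 0 ≤ c a) → tot c = n →
      Finsupp.linearCombination ℤ P.root c = 0 → c = 0 := by
  classical
  intro n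
  induction n with
  | zero => intro c _ hc ht _; exact eq_zero_of_tot_eq_zero hc (by simpa using ht)
  | succ n ih =>
    intro c hs hc ht h
    exfalso
    have hne : c ≠ 0 := by
      rintro rfl
      simp [tot] at ht
      omega
    obtain ⟨a0, ha0⟩ : ∃ a0, c a0 ≠ 0 := by
      by_contra hall; push Not at hall; exact hne (Finsupp.ext hall)
    have ha0pos : 0 < c a0 := lt_of_le_of_ne (hc a0) (Ne.symm ha0)
    have ha0S : a0 ∈ S := hs (Finsupp.mem_support_iff.mpr ha0)
    have h1 := lc_apply_coroot P c a0
    rw [h, map_zero, LinearMap.zero_apply] at h1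
    obtain ⟨b, hb, hbneg⟩ : ∃ b ∈ c.support, c b * P.pairing b a0 < 0 := by
      by_contra hcon
      push Not at hcon
      have hpos : 0 < ∑ a ∈ c.support, c a * P.pairing a a0 := by
        apply Finset.sum_pos' hcon
        exact ⟨a0, Finsupp.mem_support_iff.mpr ha0, by rw [pairing_same]; positivity⟩
      omega
    have hbpos : 0 < c b := lt_of_le_of_ne (hc b) (Ne.symm (Finsupp.mem_support_iff.mp hb))
    have hpneg : P.pairing b a0 < 0 := by
      by_contra hge; push Not at hge
      have := mul_nonneg hbpos.le hge
      omega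
    have hbS : b ∈ S := hs hb
    have hba : b ≠ a0 := by
      rintro rfl; rw [pairing_same] at hpneg; omega
    have hnn : P.root b ≠ - P.root a0 := by
      intro e
      have : b = P.reflectionPerm a0 a0 := P.root.injective (by rw [root_neg, e])
      exact hP1 a0 ha0S (this ▸ hbS)
    obtain ⟨k', hk'⟩ := root_add_mem P hpneg hnn
    have hk'S : k' ∈ S := hcl hbS ha0S hk'
    have hbk : b ≠ k' := by
      rintro rfl
      exact P.ne_zero a0 (by simpa using hk')
    have hak : a0 ≠ k' := by
      rintro rfl
      exact P.ne_zero b (by simpa using hk')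
    have hd0 : c - Finsupp.single b 1 - Finsupp.single a0 1 + Finsupp.single k' 1 = 0 := by
      apply ih
      · exact support_add_subset' (support_sub_subset' (support_sub_subset' hs
          (support_single_subset' hbS 1)) (support_single_subset' ha0S 1)) (support_single_subset' hk'S 1)
      · intro x
        have hbx := hc x
        simp only [Finsupp.add_apply, Finsupp.sub_apply, Finsupp.single_apply]
        rcases eq_or_ne b x with e1 | e1
        · subst e1
          have e2 : a0 ≠ b := Ne.symm hba
          simp only [if_pos rfl, if_neg e2]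
          split_ifs <;> omega
        · rcases eq_or_ne a0 x with e2 | e2
          · subst e2; simp only [if_neg e1, if_pos rfl]; split_ifs <;> omega
          · simp only [if_neg e1, if_neg e2]; split_ifs <;> omega
      · rw [tot_add, tot_sub, tot_sub, tot_single, tot_single, tot_single, ht]; push_cast; ring
      · rw [map_add, map_sub, map_sub, h]
        simp only [Finsupp.linearCombination_single, one_smul]
        rw [hk']; abel
    have h2 := DFunLike.congr_fun hd0 k'
    simp only [Finsupp.add_apply, Finsupp.sub_apply, Finsupp.single_apply, if_neg hbk, if_neg hak,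
      if_true, Finsupp.coe_zero, Pi.zero_apply] at h2
    have := hc k'
    omega

theorem no_zero_comb [Finite ι] (S : Set ι) (hP1 : ∀ i ∈ S, P.reflectionPerm i i ∉ S)
    (hcl : RootD.IsClosedSub P S) (c : ι →₀ ℤ) (hs : ↑c.support ⊆ S) (hc : ∀ a, 0 ≤ c a)
    (h : Finsupp.linearCombination ℤ P.root c = 0) : c = 0 :=
  no_zero_comb_aux P S hP1 hcl (tot c).toNat c hs hc (by rw [Int.toNat_of_nonneg (tot_nonneg hc)]) h

theorem smul_single_support {a : ι} {S : Set ι} (ha : a ∈ S) (n : ℤ) :
    (↑(Finsupp.single a n).support : Set ι) ⊆ S := support_single_subset' ha n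

/-- S5456 -/
theorem isPosSys_iff_closed [Finite ι] (S : Set ι) :
    RootD.IsPosSys P S ↔ ((∀ i ∈ S, P.reflectionPerm i i ∉ S) ∧ (∀ i : ι, i ∈ S ∨ P.reflectionPerm i i ∈ S) ∧
      RootD.IsClosedSub P S) := by
  classical
  constructor
  · intro h
    refine ⟨fun i hi => h.disjoint hi, h.cover, ?_⟩
    intro i j k hi hj e
    apply h.sat 1 one_pos
    rw [one_smul, e]
    exact add_mem (AddSubmonoid.subset_closure (Set.mem_image_of_mem P.root hi))
      (AddSubmonoid.subset_closure (Set.mem_image_of_mem P.root hj))
  · rintro ⟨h1, h2, h3⟩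
    refine ⟨fun i hi => h1 i hi, h2, ?_⟩
    intro k n hn hk
    by_contra hkS
    have hnk : P.reflectionPerm k k ∈ S := (h2 k).resolve_left hkS
    obtain ⟨c, hc1, hc2, hc3⟩ := (mem_natSpan_iff P).mp hk
    have h0 : c + Finsupp.single (P.reflectionPerm k k) (n : ℤ) = 0 := by
      apply no_zero_comb P S h1 h3
      · exact support_add_subset' hc1 (support_single_subset' hnk _)
      · intro a
        rw [Finsupp.add_apply, Finsupp.single_apply]
        have := hc2 a
        split_ifs <;> omega
      · rw [map_add, hc3, Finsupp.linearCombination_single, root_neg]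
        simp
    have h4 := DFunLike.congr_fun h0 (P.reflectionPerm k k)
    simp only [Finsupp.add_apply, Finsupp.single_apply, if_true, Finsupp.coe_zero, Pi.zero_apply] at h4
    have := hc2 (P.reflectionPerm k k)
    omega

end Groth.Agent.Lead.RootD3
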