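import Mathlib
import Groth.Agent.Lib.Lead.RootD3

namespace Groth.Agent.Lead.RootD4

open RootPairing RootD
open Groth.Agent.Lead.RootDBasic Groth.Agent.Lead.RootD2 Groth.Agent.Lead.RootD3

variable {ι M N : Type*} [AddCommGroup M] [AddCommGroup N] (P : RootPairing ι ℤ M N)

local notation "lc" => Finsupp.linearCombination ℤ P.root

theorem exists_coeff {Δ : Set ι} (hΔ : RootD.IsSimpleSys P Δ) (k : ι) :
    ∃ c : ι →₀ ℤ, ↑c.support ⊆ Δ ∧ lc c = P.root k ∧ ((∀ a, 0 ≤ c a) ∨ (∀ a, c a ≤ 0)) := by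
  rcases hΔ.mem_or_neg_mem k with h | h
  · obtain ⟨c, h1, h2, h3⟩ := (mem_natSpan_iff P).mp h
    exact ⟨c, h1, h3, Or.inl h2⟩
  · obtain ⟨c, h1, h2, h3⟩ := (mem_natSpan_iff P).mp h
    refine ⟨-c, by rwa [Finsupp.support_neg], by rw [map_neg, h3, neg_neg], Or.inr ?_⟩
    intro a
    rw [Finsupp.neg_apply]
    have := h2 a
    omega

theorem mem_posOf_iff {Δ : Set ι} {k : ι} : k ∈ RootD.posOf P Δ ↔
    ∃ c : ι →₀ ℤ, ↑c.support ⊆ Δ ∧ (∀ a, 0 ≤ c a) ∧ lc c = P.root k :=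
  mem_natSpan_iff P

theorem subset_posOf (Δ : Set ι) : Δ ⊆ RootD.posOf P Δ := fun i hi =>
  AddSubmonoid.subset_closure (Set.mem_image_of_mem P.root hi)

/-- S5448 -/
theorem isIndiv_of_mem_simpleSys (Δ : Set ι) (hΔ : RootD.IsSimpleSys P Δ)
    (i : ι) (hi : i ∈ Δ) : RootD.IsIndiv P i := by
  classical
  intro j hj
  obtain ⟨c, hc1, hc2, _⟩ := exists_coeff P hΔ j
  have h2c : (↑((2:ℤ) • c).support : Set ι) ⊆ Δ := by
    intro b hb
    apply hc1
    have := Finsupp.support_smul hb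
    exact this
  have := coeff_unique P hΔ.linInd h2c (support_single_subset' hi 1)
    (by rw [map_smul, hc2, hj]; simp)
  have h3 := DFunLike.congr_fun this i
  rw [Finsupp.smul_apply, Finsupp.single_apply, if_pos rfl, smul_eq_mul] at h3
  omega

theorem neg_mem_posOf_of_not_mem {Δ : Set ι} (hΔ : RootD.IsSimpleSys P Δ) {k : ι}
    (hk : k ∉ RootD.posOf P Δ) : P.reflectionPerm k k ∈ RootD.posOf P Δ := by
  rcases hΔ.mem_or_neg_mem k with h | h
  · exact absurd h hk
  · show P.root (P.reflectionPerm k k) ∈ RootD.natSpan P Δ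
    rw [root_neg]; exact h

/-- S5449, first half -/
theorem isPosSys_posOf [Finite ι] (Δ : Set ι) (hΔ : RootD.IsSimpleSys P Δ) :
    RootD.IsPosSys P (RootD.posOf P Δ) := by
  rw [isPosSys_iff_closed]
  refine ⟨?_, ?_, ?_⟩
  · intro k hk hnk
    obtain ⟨c, hc1, hc2, hc3⟩ := (mem_posOf_iff P).mp hk
    obtain ⟨d, hd1, hd2, hd3⟩ := (mem_posOf_iff P).mp hnk
    have h0 : c + d = 0 := by
      have := coeff_unique P hΔ.linInd (support_add_subset' hc1 hd1) (c' := 0) (by simp)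
        (by rw [map_add, hc3, hd3, root_neg]; simp)
      exact this
    have hc0 : c = 0 := by
      ext a
      have h1 := DFunLike.congr_fun h0 a
      rw [Finsupp.add_apply] at h1
      have := hc2 a; have := hd2 a
      simp only [Finsupp.coe_zero, Pi.zero_apply] at h1 ⊢
      omega
    rw [hc0, map_zero] at hc3
    exact P.ne_zero k hc3.symm
  · intro k
    by_cases hk : k ∈ RootD.posOf P Δ
    · exact Or.inl hk
    · exact Or.inr (neg_mem_posOf_of_not_mem P hΔ hk)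
  · intro i j k hi hj e
    show P.root k ∈ RootD.natSpan P Δ
    rw [e]; exact add_mem hi hj

/-- S5449 -/
theorem posOf_isPosSys_and_subset_iff [Finite ι] (Δ : Set ι) (hΔ : RootD.IsSimpleSys P Δ)
    (S : Set ι) (hS : RootD.IsPosSys P S) :
    RootD.IsPosSys P (RootD.posOf P Δ) ∧ (Δ ⊆ S ↔ S = RootD.posOf P Δ) := by
  refine ⟨isPosSys_posOf P Δ hΔ, ?_, ?_⟩
  · intro hsub
    have h1 : RootD.posOf P Δ ⊆ S := by
      intro k hk
      apply hS.sat 1 one_pos
      rw [one_smul]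
      exact AddSubmonoid.closure_mono (Set.image_mono hsub) hk
    apply Set.Subset.antisymm _ h1
    intro k hk
    by_contra hk'
    exact hS.disjoint hk (h1 (neg_mem_posOf_of_not_mem P hΔ hk'))
  · rintro rfl
    exact subset_posOf P Δ

theorem tot_pos_of_mem_posOf {c : ι →₀ ℤ} (hc : ∀ a, 0 ≤ c a) {k : ι} (h : lc c = P.root k) :
    1 ≤ tot c := by
  have h0 := tot_nonneg hc
  by_contra hlt
  have : tot c = 0 := by omega
  have := eq_zero_of_tot_eq_zero hc this
  rw [this, map_zero] at h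
  exact P.ne_zero k h.symm

/-- S5450 -/
theorem mem_simpleSys_iff_not_sum_two_pos [Finite ι] (Δ : Set ι) (hΔ : RootD.IsSimpleSys P Δ)
    (k : ι) (hk : k ∈ RootD.posOf P Δ) :
    k ∈ Δ ↔ ¬ ∃ i j : ι, i ∈ RootD.posOf P Δ ∧ j ∈ RootD.posOf P Δ ∧ P.root k = P.root i + P.root j := by
  classical
  constructor
  · rintro hkΔ ⟨i, j, hi, hj, e⟩
    obtain ⟨c, hc1, hc2, hc3⟩ := (mem_posOf_iff P).mp hi
    obtain ⟨d, hd1, hd2, hd3⟩ := (mem_posOf_iff P).mp hj
    have := coeff_unique P hΔ.linInd (support_single_subset' hkΔ 1) (support_add_subset' hc1 hd1)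
      (by rw [map_add, hc3, hd3, ← e]; simp)
    have ht := congrArg tot this
    rw [tot_single, tot_add] at ht
    have h1 := tot_pos_of_mem_posOf P hc2 hc3
    have h2 := tot_pos_of_mem_posOf P hd2 hd3
    omega
  · intro hno
    by_contra hkΔ
    obtain ⟨c, hc1, hc2, hc3⟩ := (mem_posOf_iff P).mp hk
    obtain ⟨a, ha, hpa⟩ := exists_pos_pairing P hc2 hc3
    have haΔ : a ∈ Δ := hc1 (Finsupp.mem_support_iff.mpr ha.ne')
    have hne : k ≠ a := fun e => hkΔ (e ▸ haΔ)
    obtain ⟨j, hj⟩ := root_sub_mem P hpa hne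
    apply hno
    refine ⟨j, a, ?_, subset_posOf P Δ haΔ, by rw [hj]; abel⟩
    rw [mem_posOf_iff]
    refine ⟨c - Finsupp.single a 1, support_sub_subset' hc1 (support_single_subset' haΔ 1), ?_, ?_⟩
    · intro b
      rw [Finsupp.sub_apply, Finsupp.single_apply]
      split_ifs with e
      · subst e; omega
      · simpa using hc2 b
    · rw [map_sub, hc3, hj]; simp

end Groth.Agent.Lead.RootD4
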