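import Mathlib
import Groth.Agent.Lib.Lead.RootD4

namespace Groth.Agent.Lead.RootD5

open RootPairing RootD
open Groth.Agent.Lead.RootDBasic Groth.Agent.Lead.RootD2 Groth.Agent.Lead.RootD3 Groth.Agent.Lead.RootD4

variable {ι M N : Type*} [AddCommGroup M] [AddCommGroup N] (P : RootPairing ι ℤ M N)

local notation "lc" => Finsupp.linearCombination ℤ P.root

theorem reflectionPerm_mem_posOf_aux [Finite ι] {Δ : Set ι} (hΔ : RootD.IsSimpleSys P Δ) {k a : ι}
    {c : ι →₀ ℤ} (hc1 : ↑c.support ⊆ Δ) (hc2 : ∀ x, 0 ≤ c x) (hc3 : lc c = P.root k) (ha : a ∈ Δ)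
    {b : ι} (hb : b ≠ a) (hcb : c b ≠ 0) :
    P.reflectionPerm a k ∈ RootD.posOf P Δ ∧
      lc (c - Finsupp.single a (P.pairing k a)) = P.root (P.reflectionPerm a k) ∧
      ∀ x, 0 ≤ (c - Finsupp.single a (P.pairing k a)) x := by
  classical
  have hlc : lc (c - Finsupp.single a (P.pairing k a)) = P.root (P.reflectionPerm a k) := by
    rw [root_reflectionPerm, reflection_apply_root, map_sub, hc3]; simp
  have hs' : (↑(c - Finsupp.single a (P.pairing k a)).support : Set ι) ⊆ Δ :=
    support_sub_subset' hc1 (support_single_subset' ha _)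
  obtain ⟨d, hd1, hd2, hd3⟩ := exists_coeff P hΔ (P.reflectionPerm a k)
  have hdc : d = c - Finsupp.single a (P.pairing k a) :=
    coeff_unique P hΔ.linInd hd1 hs' (by rw [hd2, hlc])
  have hpos : ∀ x, 0 ≤ d x := by
    rcases hd3 with hpos | hneg
    · exact hpos
    · exfalso
      have h1 := hneg b
      rw [hdc, Finsupp.sub_apply, Finsupp.single_apply, if_neg (Ne.symm hb)] at h1
      have := hc2 b
      omega
  refine ⟨(mem_posOf_iff P).mpr ⟨d, hd1, hpos, hd2⟩, hlc, ?_⟩
  rw [← hdc]; exact hpos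

theorem eq_single_of_forall_ne {c : ι →₀ ℤ} {a : ι} (h : ∀ b, b ≠ a → c b = 0) :
    c = Finsupp.single a (c a) := by
  classical
  ext b
  rw [Finsupp.single_apply]
  split_ifs with e
  · rw [e]
  · exact h b (Ne.symm e)

/-- S5466 -/
theorem reflectionPerm_mem_posOf_of_simple [Finite ι] (Δ : Set ι) (hΔ : RootD.IsSimpleSys P Δ)
    (k i : ι) (hk : k ∈ RootD.posOf P Δ) (hi : i ∈ Δ)
    (hli : LinearIndependent ℤ ![P.root k, P.root i]) :
    P.reflectionPerm i k ∈ RootD.posOf P Δ := by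
  obtain ⟨c, hc1, hc2, hc3⟩ := (mem_posOf_iff P).mp hk
  by_cases hex : ∃ b, b ≠ i ∧ c b ≠ 0
  · obtain ⟨b, hb, hcb⟩ := hex
    exact (reflectionPerm_mem_posOf_aux P hΔ hc1 hc2 hc3 hi hb hcb).1
  · exfalso
    push Not at hex
    have hc := eq_single_of_forall_ne hex
    rw [hc, Finsupp.linearCombination_single] at hc3
    rw [LinearIndependent.pair_iff] at hli
    have := hli 1 (-(c i)) (by rw [one_smul, neg_smul, hc3]; abel)
    exact one_ne_zero this.1

/-- S5467 -/
theorem exists_simple_pairing_pos_of_pos_not_simple [Finite ι] (Δ : Set ι) (hΔ : RootD.IsSimpleSys P Δ)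
    (k : ι) (hk : k ∈ RootD.posOf P Δ) (hkΔ : k ∉ Δ) (hind : RootD.IsIndiv P k) :
    ∃ i ∈ Δ, 0 < P.pairing k i ∧ P.reflectionPerm i k ∈ RootD.posOf P Δ := by
  obtain ⟨c, hc1, hc2, hc3⟩ := (mem_posOf_iff P).mp hk
  obtain ⟨a, ha, hpa⟩ := exists_pos_pairing P hc2 hc3
  have haΔ : a ∈ Δ := hc1 (Finsupp.mem_support_iff.mpr ha.ne')
  refine ⟨a, haΔ, hpa, ?_⟩
  by_cases hex : ∃ b, b ≠ a ∧ c b ≠ 0
  · obtain ⟨b, hb, hcb⟩ := hex
    exact (reflectionPerm_mem_posOf_aux P hΔ hc1 hc2 hc3 haΔ hb hcb).1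
  · exfalso
    push Not at hex
    have hc := eq_single_of_forall_ne hex
    rw [hc, Finsupp.linearCombination_single] at hc3
    have h2 : P.pairing k k = c a * P.pairing a k := by
      rw [← root_coroot_eq_pairing, ← hc3, map_smul, LinearMap.smul_apply, root_coroot_eq_pairing,
        smul_eq_mul]
    rw [pairing_same] at h2
    have hdvd : c a ∣ 2 := ⟨_, h2⟩
    have hle : c a ≤ 2 := Int.le_of_dvd (by norm_num) hdvd
    have h12 : c a = 1 ∨ c a = 2 := by omega
    rcases h12 with h1 | h1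
    · rw [h1, one_smul] at hc3
      exact hkΔ (P.root.injective hc3 ▸ haΔ)
    · rw [h1] at hc3
      exact hind a hc3

theorem refl_step [Finite ι] {Δ Δ' : Set ι} (hΔ : RootD.IsSimpleSys P Δ) (hsub : Δ' ⊆ Δ)
    {i : ι} (hi : i ∈ Δ') {k : ι} (hk : k ∈ RootD.posOf P Δ) (hk' : k ∉ RootD.inSpan P Δ') :
    P.reflectionPerm i k ∈ RootD.posOf P Δ ∧ P.reflectionPerm i k ∉ RootD.inSpan P Δ' := by
  have hroot_i : P.root i ∈ Submodule.span ℤ (P.root '' Δ') :=
    Submodule.subset_span (Set.mem_image_of_mem P.root hi)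
  constructor
  · obtain ⟨c, hc1, hc2, hc3⟩ := (mem_posOf_iff P).mp hk
    by_cases hex : ∃ b, b ≠ i ∧ c b ≠ 0
    · obtain ⟨b, hb, hcb⟩ := hex
      exact (reflectionPerm_mem_posOf_aux P hΔ hc1 hc2 hc3 (hsub hi) hb hcb).1
    · exfalso
      push Not at hex
      have hc := eq_single_of_forall_ne hex
      rw [hc, Finsupp.linearCombination_single] at hc3
      apply hk'
      show P.root k ∈ Submodule.span ℤ (P.root '' Δ')
      rw [← hc3]
      exact Submodule.smul_mem _ _ hroot_i
  · intro h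
    apply hk'
    change P.root (P.reflectionPerm i k) ∈ Submodule.span ℤ (P.root '' Δ') at h
    show P.root k ∈ Submodule.span ℤ (P.root '' Δ')
    rw [root_reflectionPerm, reflection_apply_root] at h
    have := Submodule.add_mem _ h (Submodule.smul_mem _ (P.pairing k i) hroot_i)
    simpa using this

/-- S5462 -/
theorem weylSub_mapsTo_pos_diff [Finite ι] (Δ Δ' : Set ι) (hΔ : RootD.IsSimpleSys P Δ) (hsub : Δ' ⊆ Δ)
    (g : P.Aut) (hg : g ∈ Subgroup.closure ((fun i : ι => Equiv.reflection P i) '' Δ'))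
    (k : ι) (hk : k ∈ RootD.posOf P Δ) (hk' : k ∉ RootD.inSpan P Δ') :
    g • k ∈ RootD.posOf P Δ ∧ g • k ∉ RootD.inSpan P Δ' := by
  revert k
  induction hg using Subgroup.closure_induction'' with
  | one => intro k hk hk'; rw [one_smul]; exact ⟨hk, hk'⟩
  | mem x hx =>
    obtain ⟨i, hi, rfl⟩ := hx
    intro k hk hk'
    exact refl_step P hΔ hsub hi hk hk'
  | inv_mem x hx =>
    obtain ⟨i, hi, rfl⟩ := hx
    intro k hk hk'
    rw [Equiv.reflection_inv]
    exact refl_step P hΔ hsub hi hk hk'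
  | mul x y _ _ hx hy =>
    intro k hk hk'
    rw [mul_smul]
    obtain ⟨h1, h2⟩ := hy k hk hk'
    exact hx _ h1 h2

theorem reflection_eq_of_two_smul [Finite ι] {k k' : ι} (h : P.root k = (2:ℤ) • P.root k') :
    Equiv.reflection P k = Equiv.reflection P k' := by
  have : Module.IsReflexive ℤ M := .of_isPerfPair P.toLinearMap
  have : Module.IsReflexive ℤ N := .of_isPerfPair P.flip.toLinearMap
  have : IsAddTorsionFree M := .of_isTorsionFree ℤ M
  have : IsAddTorsionFree N := .of_isTorsionFree ℤ N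
  have hco : P.coroot k' = (2:ℤ) • P.coroot k := coroot_eq_smul_coroot_iff.mpr h
  apply Equiv.weightHom_injective P
  apply LinearEquiv.ext
  intro x
  show Equiv.reflection P k • x = Equiv.reflection P k' • x
  rw [Equiv.reflection_smul, Equiv.reflection_smul, reflection_apply, reflection_apply, h]
  simp only [LinearMap.flip_apply]
  rw [hco, map_smul, smul_smul, smul_eq_mul, mul_comm]

theorem isIndiv_half [Finite ι] {k j : ι} (h : (2:ℤ) • P.root j = P.root k) : RootD.IsIndiv P j := by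
  intro j' hj'
  have h4 : P.root k = (4:ℤ) • P.root j' := by
    rw [← h, ← hj', smul_smul]; norm_num
  have h2 : P.pairing k k = 4 * P.pairing j' k := by
    rw [← root_coroot_eq_pairing, h4, map_smul, LinearMap.smul_apply, root_coroot_eq_pairing,
      smul_eq_mul]
  rw [pairing_same] at h2
  omega

/-- S5488 -/
theorem closure_reflection_indiv_eq_weylGroup [Finite ι] :
    Subgroup.closure ((fun i : ι => Equiv.reflection P i) '' {i : ι | RootD.IsIndiv P i}) = P.weylGroup := by
  apply le_antisymm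
  · exact Subgroup.closure_mono (Set.image_subset_range _ _)
  · unfold RootPairing.weylGroup
    rw [Subgroup.closure_le]
    rintro _ ⟨k, rfl⟩
    by_cases hk : RootD.IsIndiv P k
    · exact Subgroup.subset_closure (Set.mem_image_of_mem _ hk)
    · unfold RootD.IsIndiv at hk
      push Not at hk
      obtain ⟨j, hj⟩ := hk
      rw [reflection_eq_of_two_smul P hj.symm]
      exact Subgroup.subset_closure (Set.mem_image_of_mem _ (isIndiv_half P hj))

end Groth.Agent.Lead.RootD5
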