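import Mathlib
import Groth.Agent.Lib.Lead.RootD5

namespace Groth.Agent.Lead.RootD6

open RootPairing RootD
open Groth.Agent.Lead.RootDBasic Groth.Agent.Lead.RootD2 Groth.Agent.Lead.RootD3 Groth.Agent.Lead.RootD4
  Groth.Agent.Lead.RootD5

variable {ι M N : Type*} [AddCommGroup M] [AddCommGroup N] (P : RootPairing ι ℤ M N)

local notation "lc" => Finsupp.linearCombination ℤ P.root

theorem smul_neg_idx (g : P.Aut) (i : ι) :
    g • (P.reflectionPerm i i) = P.reflectionPerm (g • i) (g • i) :=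
  P.root.injective (by rw [← smul_root, root_neg, smul_neg, smul_root, root_neg])

theorem neg_neg_idx (k : ι) :
    P.reflectionPerm (P.reflectionPerm k k) (P.reflectionPerm k k) = k :=
  P.root.injective (by rw [root_neg, root_neg, neg_neg])

theorem isIndiv_smul (g : P.Aut) {k : ι} (h : RootD.IsIndiv P k) : RootD.IsIndiv P (g • k) := by
  intro j hj
  apply h (g⁻¹ • j)
  rw [← smul_root, smul_comm, hj, ← smul_root, inv_smul_smul]

theorem exists_other_coeff {Δ : Set ι} {k a : ι} {c : ι →₀ ℤ}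
    (hc3 : lc c = P.root k) (haΔ : a ∈ Δ) (hkΔ : k ∉ Δ) (hind : RootD.IsIndiv P k) (hca : 0 < c a) :
    ∃ b, b ≠ a ∧ c b ≠ 0 := by
  by_contra hex
  push Not at hex
  have hc := eq_single_of_forall_ne hex
  rw [hc, Finsupp.linearCombination_single] at hc3
  have h2 : P.pairing k k = c a * P.pairing a k := by
    rw [← root_coroot_eq_pairing, ← hc3, map_smul, LinearMap.smul_apply, root_coroot_eq_pairing,
      smul_eq_mul]
  rw [pairing_same] at h2
  have hdvd : c a ∣ 2 := ⟨_, h2⟩
  have hle : c a ≤ 2 := Int.le_of_dvd (by norm_num) hdvd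
  have h12 : c a = 1 ∨ c a = 2 := by omega
  rcases h12 with h1 | h1
  · rw [h1, one_smul] at hc3
    exact hkΔ (P.root.injective hc3 ▸ haΔ)
  · rw [h1] at hc3
    exact hind a hc3

theorem exists_conj_simple_aux [Finite ι] {Δ : Set ι} (hΔ : RootD.IsSimpleSys P Δ) :
    ∀ (n : ℕ) (k : ι) (c : ι →₀ ℤ), ↑c.support ⊆ Δ → (∀ a, 0 ≤ c a) → lc c = P.root k →
      tot c = n → RootD.IsIndiv P k →
      ∃ g ∈ Subgroup.closure ((fun i : ι => Equiv.reflection P i) '' Δ), ∃ i ∈ Δ, g • i = k := by
  intro n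
  induction n using Nat.strong_induction_on with
  | _ n ih =>
    intro k c hc1 hc2 hc3 ht hind
    by_cases hkΔ : k ∈ Δ
    · exact ⟨1, one_mem _, k, hkΔ, one_smul _ _⟩
    · obtain ⟨a, ha, hpa⟩ := exists_pos_pairing P hc2 hc3
      have haΔ : a ∈ Δ := hc1 (Finsupp.mem_support_iff.mpr ha.ne')
      obtain ⟨b, hb, hcb⟩ := exists_other_coeff P hc3 haΔ hkΔ hind ha
      obtain ⟨_, hlc, hnn⟩ := reflectionPerm_mem_posOf_aux P hΔ hc1 hc2 hc3 haΔ hb hcb
      have hs' : (↑(c - Finsupp.single a (P.pairing k a)).support : Set ι) ⊆ Δ :=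
        support_sub_subset' hc1 (support_single_subset' haΔ _)
      have htot : tot (c - Finsupp.single a (P.pairing k a)) = (n:ℤ) - P.pairing k a := by
        rw [tot_sub, tot_single, ht]
      have h0 := tot_nonneg hnn
      have hlt : (tot (c - Finsupp.single a (P.pairing k a))).toNat < n := by omega
      have hind' : RootD.IsIndiv P (P.reflectionPerm a k) := isIndiv_smul P (Equiv.reflection P a) hind
      obtain ⟨g, hg, i, hi, e⟩ := ih _ hlt (P.reflectionPerm a k) _ hs' hnn hlc
        (by rw [Int.toNat_of_nonneg h0]) hind'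
      refine ⟨Equiv.reflection P a * g,
        mul_mem (Subgroup.subset_closure (Set.mem_image_of_mem _ haΔ)) hg, i, hi, ?_⟩
      rw [mul_smul, e]
      exact P.reflectionPerm_self a k

/-- S5508 -/
theorem simple_reflections_generate_and_indivRoot_conjugate [Finite ι] (Δ : Set ι)
    (hΔ : RootD.IsSimpleSys P Δ) :
    Subgroup.closure ((fun i : ι => Equiv.reflection P i) '' Δ) = P.weylGroup ∧
      ∀ k : ι, RootD.IsIndiv P k → ∃ g : P.Aut, g ∈ P.weylGroup ∧ ∃ i ∈ Δ, g • i = k := by
  have hle : Subgroup.closure ((fun i : ι => Equiv.reflection P i) '' Δ) ≤ P.weylGroup :=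
    Subgroup.closure_mono (Set.image_subset_range _ _)
  have hA : ∀ k, RootD.IsIndiv P k →
      ∃ g ∈ Subgroup.closure ((fun i : ι => Equiv.reflection P i) '' Δ), ∃ i ∈ Δ, g • i = k := by
    intro k hind
    by_cases hk : k ∈ RootD.posOf P Δ
    · obtain ⟨c, hc1, hc2, hc3⟩ := (mem_posOf_iff P).mp hk
      exact exists_conj_simple_aux P hΔ (tot c).toNat k c hc1 hc2 hc3
        (by rw [Int.toNat_of_nonneg (tot_nonneg hc2)]) hind
    · have hnk := neg_mem_posOf_of_not_mem P hΔ hk
      obtain ⟨c, hc1, hc2, hc3⟩ := (mem_posOf_iff P).mp hnk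
      have hind' : RootD.IsIndiv P (P.reflectionPerm k k) :=
        isIndiv_smul P (Equiv.reflection P k) hind
      obtain ⟨g, hg, i, hi, e⟩ := exists_conj_simple_aux P hΔ (tot c).toNat _ c hc1 hc2 hc3
        (by rw [Int.toNat_of_nonneg (tot_nonneg hc2)]) hind'
      refine ⟨g * Equiv.reflection P i,
        mul_mem hg (Subgroup.subset_closure (Set.mem_image_of_mem _ hi)), i, hi, ?_⟩
      rw [mul_smul]
      show g • (P.reflectionPerm i i) = k
      rw [smul_neg_idx, e]
      exact neg_neg_idx P k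
  have key : ∀ k, RootD.IsIndiv P k →
      Equiv.reflection P k ∈ Subgroup.closure ((fun i : ι => Equiv.reflection P i) '' Δ) := by
    intro k hk
    obtain ⟨g, hg, i, hi, rfl⟩ := hA k hk
    rw [← conj_reflection]
    exact mul_mem (mul_mem hg (Subgroup.subset_closure (Set.mem_image_of_mem _ hi))) (inv_mem hg)
  refine ⟨le_antisymm hle ?_, fun k hk => ?_⟩
  · unfold RootPairing.weylGroup
    rw [Subgroup.closure_le]
    rintro _ ⟨k, rfl⟩
    by_cases hk : RootD.IsIndiv P k
    · exact key k hk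
    · unfold RootD.IsIndiv at hk
      push Not at hk
      obtain ⟨j, hj⟩ := hk
      rw [reflection_eq_of_two_smul P hj.symm]
      exact key j (isIndiv_half P hj)
  · obtain ⟨g, hg, i, hi, e⟩ := hA k hk
    exact ⟨g, hle hg, i, hi, e⟩

end Groth.Agent.Lead.RootD6
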