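import Mathlib
import Groth.Agent.Lib.Lead.RootD6

namespace Groth.Agent.Lead.RootD7

open RootPairing RootD
open Groth.Agent.Lead.RootDBasic Groth.Agent.Lead.RootD2

variable {ι M N : Type*} [AddCommGroup M] [AddCommGroup N] (P : RootPairing ι ℤ M N)

theorem eq_zero_of_mem_span_of_pairing_zero [Finite ι] {y : M}
    (hy : y ∈ Submodule.span ℤ (Set.range P.root)) (h : ∀ j, P.toLinearMap y (P.coroot j) = 0) : y = 0 := by
  let _ : Fintype ι := Fintype.ofFinite ι
  apply P.eq_zero_of_mem_rootSpan_of_rootForm_self_eq_zero hy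
  rw [rootForm_apply_apply]
  apply Finset.sum_eq_zero
  intro j _
  have : P.coroot' j y = 0 := h j
  rw [this, mul_zero]

theorem aut_eq_of_index_eq [Finite ι] (u u' : P.Aut)
    (hs : ∀ m : M, ∃ n : ℕ, 0 < n ∧ n • (u • m - m) ∈ Submodule.span ℤ (Set.range P.root))
    (hs' : ∀ m : M, ∃ n : ℕ, 0 < n ∧ n • (u' • m - m) ∈ Submodule.span ℤ (Set.range P.root))
    (hidx : ∀ i : ι, u • i = u' • i) : u = u' := by
  have : Module.IsReflexive ℤ M := .of_isPerfPair P.toLinearMap
  have : IsAddTorsionFree M := .of_isTorsionFree ℤ M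
  apply Equiv.weightHom_injective P
  apply LinearEquiv.ext
  intro m
  show u • m = u' • m
  obtain ⟨n, hn, h1⟩ := hs m
  obtain ⟨n', hn', h2⟩ := hs' m
  have h3 : (n * n') • (u • m - u' • m) ∈ Submodule.span ℤ (Set.range P.root) := by
    have e : (n * n') • (u • m - u' • m) = n' • (n • (u • m - m)) - n • (n' • (u' • m - m)) := by
      rw [smul_smul, smul_smul, mul_comm n' n, ← smul_sub]
      congr 1; abel
    rw [e]
    exact Submodule.sub_mem _ (Submodule.smul_of_tower_mem _ n' h1) (Submodule.smul_of_tower_mem _ n h2)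
  have h4 : (n * n') • (u • m - u' • m) = 0 := by
    apply eq_zero_of_mem_span_of_pairing_zero P h3
    intro j
    have e1 := toLinearMap_smul_coroot P u m (u⁻¹ • j)
    have e2 := toLinearMap_smul_coroot P u' m (u⁻¹ • j)
    rw [← hidx, smul_inv_smul] at e2
    rw [smul_inv_smul] at e1
    rw [map_nsmul, map_sub, LinearMap.smul_apply, LinearMap.sub_apply, e1, e2, sub_self, smul_zero]
  have h5 : u • m - u' • m = 0 :=
    (IsAddTorsionFree.nsmul_right_injective (Nat.mul_pos hn hn').ne') (by simpa using h4)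
  exact sub_eq_zero.mp h5

/-- S5477 -/
theorem aut_eq_one_of_fix_roots [Finite ι] (u : P.Aut)
    (hs : ∀ m : M, ∃ n : ℕ, 0 < n ∧ n • (u • m - m) ∈ Submodule.span ℤ (Set.range P.root))
    (hfix : ∀ i : ι, u • i = i) : u = 1 := by
  apply aut_eq_of_index_eq P u 1 hs
  · intro m; exact ⟨1, one_pos, by simp⟩
  · intro i; rw [hfix, one_smul]

/-- S5478 -/
theorem finite_autSemisimpleType [Finite ι] :
    Set.Finite {u : P.Aut | ∀ m : M, ∃ n : ℕ, 0 < n ∧ n • (u • m - m) ∈ Submodule.span ℤ (Set.range P.root)} := by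
  apply Set.Finite.of_finite_image (f := Equiv.indexHom P) (Set.toFinite _)
  intro u hu u' hu' e
  apply aut_eq_of_index_eq P u u' hu hu'
  intro i
  exact DFunLike.congr_fun e i

theorem weyl_sub_mem_span {w : P.Aut} (hw : w ∈ P.weylGroup) :
    ∀ m : M, w • m - m ∈ Submodule.span ℤ (Set.range P.root) := by
  induction hw using weylGroup.induction with
  | mem i =>
    intro m
    rw [Equiv.reflection_smul, reflection_apply, sub_sub_cancel_left]
    exact Submodule.neg_mem _ (Submodule.smul_mem _ _ (Submodule.subset_span (Set.mem_range_self i)))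
  | one => intro m; simp
  | mul x y _ _ hx hy =>
    intro m
    have e : (x * y) • m - m = (x • (y • m) - y • m) + (y • m - m) := by rw [mul_smul]; abel
    rw [e]
    exact Submodule.add_mem _ (hx _) (hy _)

/-- S5452 -/
theorem weylGroupToPerm_injective [Finite ι] : Function.Injective P.weylGroupToPerm := by
  rw [injective_iff_map_eq_one]
  rintro ⟨w, hw⟩ h
  have h1 : w = 1 := by
    apply aut_eq_one_of_fix_roots P w
    · intro m; exact ⟨1, one_pos, by simpa using weyl_sub_mem_span P hw m⟩
    · intro i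
      exact DFunLike.congr_fun h i
  exact Subtype.ext h1

end Groth.Agent.Lead.RootD7
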