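import Mathlib
import Groth.Agent.Lib.Lead.RootD7

namespace Groth.Agent.Lead.RootD8

open RootPairing RootD
open Groth.Agent.Lead.RootDBasic Groth.Agent.Lead.RootD2

variable {ι M N : Type*} [AddCommGroup M] [AddCommGroup N] (P : RootPairing ι ℤ M N)

theorem reflection_eq_of_root_eq_smul [Finite ι] {i j : ι} {t : ℤ} (h : P.root i = t • P.root j) :
    P.reflection i = P.reflection j := by
  have : Module.IsReflexive ℤ M := .of_isPerfPair P.toLinearMap
  have : Module.IsReflexive ℤ N := .of_isPerfPair P.flip.toLinearMap
  have : IsAddTorsionFree M := .of_isTorsionFree ℤ M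
  have : IsAddTorsionFree N := .of_isTorsionFree ℤ N
  have hco : P.coroot j = t • P.coroot i := coroot_eq_smul_coroot_iff.mpr h
  ext x
  rw [reflection_apply, reflection_apply, h]
  simp only [LinearMap.flip_apply]
  rw [hco, map_smul, smul_smul, smul_eq_mul, mul_comm]

/-- S5468 -/
theorem isOrthogonal_of_commute_reflection [Finite ι] (i j : ι)
    (hne : P.reflection i ≠ P.reflection j) (hc : Commute (P.reflection i) (P.reflection j)) :
    P.IsOrthogonal i j := by
  have : Module.IsReflexive ℤ M := .of_isPerfPair P.toLinearMap
  have : IsAddTorsionFree M := .of_isTorsionFree ℤ M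
  have h1 := LinearEquiv.congr_fun hc.eq (P.root j)
  simp only [LinearEquiv.mul_apply, reflection_apply_self, map_neg, reflection_apply_root, map_sub,
    map_smul] at h1
  have h2 : (2 * P.pairing j i) • P.root i = (P.pairing j i * P.pairing i j) • P.root j := by
    have h3 : (2 * P.pairing j i) • P.root i - (P.pairing j i * P.pairing i j) • P.root j =
        (-(P.root j - P.pairing j i • P.root i)) -
          (-P.root j - P.pairing j i • (P.root i - P.pairing i j • P.root j)) := by module
    rw [h1, sub_self] at h3
    exact sub_eq_zero.mp h3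
  by_cases hp : P.pairing j i = 0
  · exact ⟨P.pairing_eq_zero_iff'.mp hp, hp⟩
  · exfalso
    have h4 : (2:ℤ) • P.root i = P.pairing i j • P.root j := by
      have h5 : P.pairing j i • ((2:ℤ) • P.root i) = P.pairing j i • (P.pairing i j • P.root j) := by
        rw [smul_smul, smul_smul, mul_comm (P.pairing j i) 2]; exact h2
      exact smul_right_injective M hp h5
    have h6 : (2:ℤ) * 2 = P.pairing i j * P.pairing j i := by
      have := congrArg (fun x => P.toLinearMap x (P.coroot i)) h4
      simpa [smul_eq_mul] using this
    have hq : P.pairing i j ∣ 4 := ⟨P.pairing j i, by omega⟩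
    have hqle : P.pairing i j ≤ 4 := Int.le_of_dvd (by norm_num) hq
    have hqge : -4 ≤ P.pairing i j := by
      have : -P.pairing i j ∣ 4 := (neg_dvd).mpr hq
      have := Int.le_of_dvd (by norm_num) this
      omega
    have hcases : (∃ t : ℤ, P.root i = t • P.root j) ∨ (∃ t : ℤ, P.root j = t • P.root i) := by
      generalize hqdef : P.pairing i j = q at *
      generalize hpdef : P.pairing j i = p at *
      interval_cases q
      · left; exact ⟨-2, by
          have : (2:ℤ) • P.root i = (2:ℤ) • ((-2:ℤ) • P.root j) := by rw [h4, smul_smul]; norm_num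
          exact smul_right_injective M (two_ne_zero) this⟩
      · exfalso; omega
      · left; exact ⟨-1, by
          have : (2:ℤ) • P.root i = (2:ℤ) • ((-1:ℤ) • P.root j) := by rw [h4, smul_smul]; norm_num
          exact smul_right_injective M (two_ne_zero) this⟩
      · right; exact ⟨-2, by
          have : (-1:ℤ) • P.root j = (-1:ℤ) • ((-2:ℤ) • P.root i) := by rw [← h4, smul_smul]; norm_num
          exact smul_right_injective M (by norm_num : (-1:ℤ) ≠ 0) this⟩
      · exfalso; omega
      · right; exact ⟨2, by rw [h4, one_smul]⟩
      · left; exact ⟨1, by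
          have : (2:ℤ) • P.root i = (2:ℤ) • ((1:ℤ) • P.root j) := by rw [h4, smul_smul]; norm_num
          exact smul_right_injective M (two_ne_zero) this⟩
      · exfalso; omega
      · left; exact ⟨2, by
          have : (2:ℤ) • P.root i = (2:ℤ) • ((2:ℤ) • P.root j) := by rw [h4, smul_smul]; norm_num
          exact smul_right_injective M (two_ne_zero) this⟩
    rcases hcases with ⟨t, ht⟩ | ⟨t, ht⟩
    · exact hne (reflection_eq_of_root_eq_smul P ht)
    · exact hne (reflection_eq_of_root_eq_smul P ht).symm

/-- S5495 -/
theorem dvd_of_smul_eq_smul_indiv [Finite ι] (i j : ι) (hind : RootD.IsIndiv P i) (a b : ℤ) (hb : b ≠ 0)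
    (h : b • P.root j = a • P.root i) : b ∣ a := by
  have : Module.IsReflexive ℤ M := .of_isPerfPair P.toLinearMap
  have : IsAddTorsionFree M := .of_isTorsionFree ℤ M
  have e1 : b * P.pairing j i = a * 2 := by
    have := congrArg (fun x => P.toLinearMap x (P.coroot i)) h
    simpa [smul_eq_mul] using this
  have e2 : b * 2 = a * P.pairing i j := by
    have := congrArg (fun x => P.toLinearMap x (P.coroot j)) h
    simpa [smul_eq_mul] using this
  have ha : a ≠ 0 := by
    rintro rfl
    rw [zero_smul] at h
    exact P.ne_zero j ((smul_eq_zero.mp h).resolve_left hb)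
  have e3 : P.pairing j i * P.pairing i j = 4 := by
    have h3 : (a * b) * (P.pairing j i * P.pairing i j) = (a * b) * 4 := by
      calc (a * b) * (P.pairing j i * P.pairing i j)
          = (b * P.pairing j i) * (a * P.pairing i j) := by ring
        _ = (a * 2) * (b * 2) := by rw [e1, e2]
        _ = (a * b) * 4 := by ring
    exact mul_left_cancel₀ (mul_ne_zero ha hb) h3
  have hq : P.pairing i j ∣ 4 := ⟨P.pairing j i, by rw [← e3]; ring⟩
  have hqle : P.pairing i j ≤ 4 := Int.le_of_dvd (by norm_num) hq
  have hqge : -4 ≤ P.pairing i j := by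
    have : -P.pairing i j ∣ 4 := (neg_dvd).mpr hq
    have := Int.le_of_dvd (by norm_num) this
    omega
  generalize hqdef : P.pairing i j = q at *
  generalize hpdef : P.pairing j i = p at *
  interval_cases q
  · exfalso
    have hb2 : b = a * (-2) := by omega
    rw [hb2, mul_smul] at h
    have h5 := smul_right_injective M ha h
    apply hind (P.reflectionPerm j j)
    rw [root_neg, smul_neg, ← neg_smul]
    exact h5
  · exfalso; omega
  · exact ⟨-1, by omega⟩
  · exact ⟨-2, by omega⟩
  · exfalso; omega
  · exact ⟨2, by omega⟩
  · exact ⟨1, by omega⟩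
  · exfalso; omega
  · exfalso
    have hb2 : b = a * 2 := by omega
    rw [hb2, mul_smul] at h
    have h5 := smul_right_injective M ha h
    exact hind j h5

end Groth.Agent.Lead.RootD8
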