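import Mathlib
import Groth.Agent.Lib.Lead.RootD8

namespace Groth.Agent.Lead.RootD9

open RootPairing RootD
open Groth.Agent.Lead.RootDBasic Groth.Agent.Lead.RootD2

variable {ι M N : Type*} [AddCommGroup M] [AddCommGroup N] (P : RootPairing ι ℤ M N)

theorem rootForm_pos_iff_pairing_pos [Fintype ι] (a k : ι) :
    0 < P.RootForm (P.root a) (P.root k) ↔ 0 < P.pairing k a := by
  have h3 := rootForm_root_mul P a (P.root k)
  have h4 := rootForm_root_self_pos P a
  rw [root_coroot_eq_pairing] at h3
  constructor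
  · intro h
    by_contra hle
    push Not at hle
    have : P.RootForm (P.root a) (P.root a) * P.pairing k a ≤ 0 :=
      mul_nonpos_of_nonneg_of_nonpos h4.le hle
    omega
  · intro h
    have : 0 < P.RootForm (P.root a) (P.root a) * P.pairing k a := mul_pos h4 h
    omega

/-- S5489 -/
theorem exists_pairing_pos_sub_mem_of_nonnegComb [Finite ι] {n : ℕ} (a : Fin n → ι) (m : Fin n → ℕ)
    (k : ι) (hne : ∀ l, a l ≠ k) (c : ℕ) (hc : 0 < c) (hk : c • P.root k = ∑ l, m l • P.root (a l)) :
    ∃ l : Fin n, m l ≠ 0 ∧ 0 < P.pairing (a l) k ∧ P.root k - P.root (a l) ∈ Set.range P.root := by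
  classical
  let _ : Fintype ι := Fintype.ofFinite ι
  by_contra hcon
  push Not at hcon
  have hB := rootForm_root_self_pos P k
  have h1 : (c:ℤ) * P.RootForm (P.root k) (P.root k) =
      ∑ l, (m l : ℤ) * P.RootForm (P.root (a l)) (P.root k) := by
    have := congrArg (fun x => P.RootForm x (P.root k)) hk
    simpa [map_nsmul, map_sum, LinearMap.sum_apply, nsmul_eq_mul] using this
  have h2 : ∑ l, (m l : ℤ) * P.RootForm (P.root (a l)) (P.root k) ≤ 0 := by
    apply Finset.sum_nonpos
    intro l _
    by_cases hm : m l = 0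
    · simp [hm]
    · apply mul_nonpos_of_nonneg_of_nonpos (by positivity)
      by_contra hpos
      push Not at hpos
      have hp1 : 0 < P.pairing k (a l) := (rootForm_pos_iff_pairing_pos P (a l) k).mp hpos
      have hp2 : 0 < P.pairing (a l) k := by
        rw [← rootForm_pos_iff_pairing_pos]
        have hs := P.rootForm_symmetric.eq (P.root k) (P.root (a l))
        simp only [RingHom.id_apply] at hs
        rw [hs]; exact hpos
      exact hcon l hm hp2 (root_sub_mem P hp1 (Ne.symm (hne l)))
  have : 0 < (c:ℤ) * P.RootForm (P.root k) (P.root k) := mul_pos (by exact_mod_cast hc) hB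
  omega

theorem chain_of_reach {n : ℕ} (a : Fin n → ι) {k : ι} (h : Reach P (Set.range a) k) :
    ∃ (l : ℕ) (b : Fin l → Fin n), 0 < l ∧
      (∀ p : Fin l, ∃ j : ι, P.root j = ∑ q ∈ Finset.univ.filter (fun q : Fin l => q.val ≤ p.val), P.root (a (b q))) ∧
      P.root k = ∑ q, P.root (a (b q)) := by
  induction h with
  | base ha =>
    obtain ⟨i0, rfl⟩ := ha
    refine ⟨1, fun _ => i0, one_pos, ?_, by simp⟩
    intro p
    refine ⟨a i0, ?_⟩
    have : Finset.univ.filter (fun q : Fin 1 => q.val ≤ p.val) = Finset.univ := by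
      ext q; simp <;> omega
    rw [this]; simp
  | @step j t k' hr ht e ih =>
    obtain ⟨i1, rfl⟩ := ht
    obtain ⟨l', b', hl', hpart, htot⟩ := ih
    refine ⟨l' + 1, Fin.snoc b' i1, Nat.succ_pos _, ?_, ?_⟩
    · intro p
      rcases Fin.eq_castSucc_or_eq_last p with ⟨p', rfl⟩ | rfl
      · obtain ⟨j', hj'⟩ := hpart p'
        refine ⟨j', ?_⟩
        rw [hj', Finset.sum_filter, Finset.sum_filter, Fin.sum_univ_castSucc]
        have hlast : ¬ ((Fin.last l').val ≤ (Fin.castSucc p').val) := by
          simp only [Fin.val_last, Fin.val_castSucc]; omega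
        rw [if_neg hlast, add_zero]
        apply Finset.sum_congr rfl
        intro q _
        simp only [Fin.val_castSucc, Fin.snoc_castSucc]
      · refine ⟨k', ?_⟩
        have : Finset.univ.filter (fun q : Fin (l' + 1) => q.val ≤ (Fin.last l').val) = Finset.univ := by
          ext q; simp only [Finset.mem_filter, Finset.mem_univ, true_and, Fin.val_last, iff_true]; omega
        rw [this, Fin.sum_univ_castSucc]
        simp only [Fin.snoc_castSucc, Fin.snoc_last]
        rw [← htot, e]
    · rw [Fin.sum_univ_castSucc]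
      simp only [Fin.snoc_castSucc, Fin.snoc_last]
      rw [← htot, e]

/-- S5451 -/
theorem exists_chain_partialSums_roots [Finite ι] {n : ℕ} (a : Fin n → ι) (m : Fin n → ℕ)
    (_hm : ∀ i, 0 < m i) (k : ι) (hk : P.root k = ∑ i, m i • P.root (a i)) :
    ∃ (l : ℕ) (b : Fin l → Fin n), 0 < l ∧
      (∀ p : Fin l, ∃ j : ι, P.root j = ∑ q ∈ Finset.univ.filter (fun q : Fin l => q.val ≤ p.val), P.root (a (b q))) ∧
      P.root k = ∑ q, P.root (a (b q)) := by
  apply chain_of_reach P a
  apply reach_of_mem_natSpan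
  rw [hk]
  apply AddSubmonoid.sum_mem
  intro i _
  exact AddSubmonoid.nsmul_mem _ (AddSubmonoid.subset_closure (Set.mem_image_of_mem P.root (Set.mem_range_self i))) _

end Groth.Agent.Lead.RootD9
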