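import Mathlib

/-!
# Completing an element outside the minimal primes to a system of parameters inside `m^k`
-/

set_option autoImplicit false
set_option linter.style.haveILetI false
set_option linter.unusedSectionVars false

universe u

open IsLocalRing Pointwise

namespace Groth.Agent.Lead.SOP

variable {R : Type u} [CommRing R]

theorem radical_span_image_pow (s : Finset R) (n : ℕ) (hn : n ≠ 0) [DecidableEq R] :
    (Ideal.span ((s.image (· ^ n) : Finset R) : Set R)).radical =
      (Ideal.span (s : Set R)).radical := by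
  apply le_antisymm
  · apply Ideal.radical_mono
    rw [Ideal.span_le]
    intro x hx
    rw [Finset.mem_coe, Finset.mem_image] at hx
    obtain ⟨a, ha, rfl⟩ := hx
    exact Ideal.pow_mem_of_mem _ (Ideal.subset_span ha) n (Nat.pos_of_ne_zero hn)
  · rw [Ideal.radical_le_radical_iff, Ideal.span_le]
    intro a ha
    refine ⟨n, Ideal.subset_span ?_⟩
    rw [Finset.mem_coe, Finset.mem_image]
    exact ⟨a, ha, rfl⟩

/-- In a local ring, if `m` is a minimal prime over `K` then `m ≤ √K`. -/
theorem le_radical_of_mem_minimalPrimes [IsLocalRing R] (K : Ideal R)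
    (h : maximalIdeal R ∈ K.minimalPrimes) : maximalIdeal R ≤ K.radical := by
  rw [Ideal.radical_eq_sInf]
  refine le_sInf ?_
  rintro P ⟨hKP, hP⟩
  exact h.2 ⟨hP, hKP⟩ (IsLocalRing.le_maximalIdeal hP.ne_top)

variable [IsNoetherianRing R] [IsLocalRing R]

/-- `dim R/(f) + 1 ≤ dim R` if `f` lies in no minimal prime. -/
theorem ringKrullDim_quotient_succ_le (f : R) (hmin : ∀ p ∈ minimalPrimes R, f ∉ p) :
    ringKrullDim (R ⧸ Ideal.span {f}) + 1 ≤ ringKrullDim R := by
  have h := Module.supportDim_quotSMulTop_succ_le_of_notMem_minimalPrimes (R := R) (M := R)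
    (x := f) (by
      intro p hp
      rw [Module.annihilator_eq_bot.mpr inferInstance] at hp
      exact hmin p hp)
  have h2 : Ideal.span {f} = f • (⊤ : Ideal R) := by
    simp [← Submodule.ideal_span_singleton_smul]
  rw [Module.supportDim_self_eq_ringKrullDim, Module.supportDim_quotient_eq_ringKrullDim] at h
  rw [ringKrullDim_eq_of_ringEquiv (Ideal.quotientEquivAlgOfEq R h2).toRingEquiv]
  exact h

/-- **Main lemma**: `f` (in `m`, outside all minimal primes) can be completed by `d - 1`
elements of `m^(k+1)` to a system of parameters. -/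
theorem exists_sop (d : ℕ) (hd : ringKrullDim R = d) (f : R) (hf : f ∈ maximalIdeal R)
    (hmin : ∀ p ∈ minimalPrimes R, f ∉ p) (k : ℕ) :
    ∃ g : Fin (d - 1) → R, (∀ i, g i ∈ maximalIdeal R ^ (k + 1)) ∧
      maximalIdeal R ≤ (Ideal.span (insert f (Set.range g))).radical := by
  classical
  have hIm : Ideal.span {f} ≤ maximalIdeal R := by
    rw [Ideal.span_le, Set.singleton_subset_iff]
    exact hf
  haveI hp' : ((maximalIdeal R).map (Ideal.Quotient.mk (Ideal.span {f}))).IsPrime :=
    Ideal.isPrime_map_quotientMk_of_isPrime hIm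
  obtain ⟨s, hps, hs⟩ := Ideal.exists_finset_card_eq_height_of_isNoetherianRing
    ((maximalIdeal R).map (Ideal.Quotient.mk (Ideal.span {f})))
  -- cardinality bound
  have hcard : s.card + 1 ≤ d := by
    have h1 : (((maximalIdeal R).map (Ideal.Quotient.mk (Ideal.span {f}))).height : WithBot ℕ∞) ≤
        ringKrullDim (R ⧸ Ideal.span {f}) :=
      Ideal.height_le_ringKrullDim_of_ne_top hp'.ne_top
    have h2 := ringKrullDim_quotient_succ_le f hmin
    rw [hd] at h2
    have h3 : (((maximalIdeal R).map (Ideal.Quotient.mk (Ideal.span {f}))).height :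
        WithBot ℕ∞) + 1 ≤ (d : WithBot ℕ∞) := le_trans (by gcongr) h2
    rw [← hs] at h3
    exact_mod_cast h3
  -- replace by powers
  obtain ⟨s', hs'⟩ : ∃ s' : Finset (R ⧸ Ideal.span {f}), s' = s.image (· ^ (k + 1)) := ⟨_, rfl⟩
  have hps' : (maximalIdeal R).map (Ideal.Quotient.mk (Ideal.span {f})) ∈
      (Ideal.span (s' : Set (R ⧸ Ideal.span {f}))).minimalPrimes := by
    rw [← Ideal.radical_minimalPrimes, hs', radical_span_image_pow s (k + 1) (Nat.succ_ne_zero k),
      Ideal.radical_minimalPrimes]
    exact hps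
  have hsurj : Set.SurjOn (Ideal.Quotient.mk (Ideal.span {f}))
      ((maximalIdeal R ^ (k + 1) : Ideal R) : Set R) (s' : Set (R ⧸ Ideal.span {f})) := by
    intro y hy
    rw [hs', Finset.mem_coe, Finset.mem_image] at hy
    obtain ⟨a, ha, rfl⟩ := hy
    have ha' : a ∈ (maximalIdeal R).map (Ideal.Quotient.mk (Ideal.span {f})) :=
      hps.1.2 (Ideal.subset_span ha)
    obtain ⟨x, hx, rfl⟩ := (Ideal.mem_map_iff_of_surjective _
      Ideal.Quotient.mk_surjective).mp ha'
    exact ⟨x ^ (k + 1), Ideal.pow_mem_pow hx (k + 1), map_pow _ _ _⟩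
  obtain ⟨o, hosub, hoinj, hoimg⟩ := s'.exists_subset_injOn_image_eq_of_surjOn _ hsurj
  have hocard : o.card + 1 ≤ d := by
    have h1 : o.card = s'.card := by
      rw [← hoimg]
      exact (Finset.card_image_of_injOn hoinj).symm
    have h2 : s'.card ≤ s.card := by
      rw [hs']
      exact Finset.card_image_le
    omega
  -- `m` is minimal over `(f) + (o)`
  have hmin' : maximalIdeal R ∈ (Ideal.span {f} ⊔ Ideal.span (o : Set R)).minimalPrimes := by
    refine Ideal.mem_minimalPrimes_sup hIm ?_
    rw [Ideal.map_span, ← Finset.coe_image, hoimg]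
    exact hps'
  have hrad := le_radical_of_mem_minimalPrimes _ hmin'
  -- enumerate `o`
  obtain ⟨g, hg⟩ : ∃ g : Fin (d - 1) → R, g = fun (i : Fin (d - 1)) =>
      if h : (i : ℕ) < o.card then ((o.equivFin.symm (⟨(i : ℕ), h⟩ : Fin o.card) : o) : R)
      else (0 : R) := ⟨_, rfl⟩
  refine ⟨g, ?_, ?_⟩
  · intro i
    rw [hg]
    by_cases h : i.1 < o.card
    · simp only [dif_pos h]
      exact hosub (o.equivFin.symm ⟨i.1, h⟩).2
    · simp only [dif_neg h]
      exact zero_mem _
  · refine hrad.trans (Ideal.radical_mono ?_)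
    rw [sup_le_iff, Ideal.span_le, Ideal.span_le]
    constructor
    · rw [Set.singleton_subset_iff]
      exact Ideal.subset_span (Set.mem_insert _ _)
    · intro a ha
      apply Ideal.subset_span
      apply Set.mem_insert_of_mem
      obtain ⟨j, hj⟩ : ∃ j : Fin o.card, j = o.equivFin ⟨a, ha⟩ := ⟨_, rfl⟩
      refine ⟨⟨j.1, by omega⟩, ?_⟩
      rw [hg]
      simp only [dif_pos j.2]
      have : (⟨j.1, j.2⟩ : Fin o.card) = o.equivFin ⟨a, ha⟩ := hj
      rw [this, Equiv.symm_apply_apply]

/-- Perturbing `f` by an element of a high power of `m` does not change the ideal `(f, g)`. -/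
theorem span_insert_add_eq (f : R) {ι : Type*} (g : ι → R) (N0 : ℕ)
    (hN0 : maximalIdeal R ^ N0 ≤ Ideal.span (insert f (Set.range g)))
    (h : R) (hh : h ∈ maximalIdeal R ^ (N0 + 1)) :
    Ideal.span (insert (f + h) (Set.range g)) = Ideal.span (insert f (Set.range g)) := by
  have hh0 : h ∈ Ideal.span (insert f (Set.range g)) :=
    hN0 (Ideal.pow_le_pow_right (Nat.le_succ N0) hh)
  have hh1 : h ∈ maximalIdeal R • Ideal.span (insert f (Set.range g)) := by
    rw [smul_eq_mul]
    rw [pow_succ'] at hh
    exact Ideal.mul_mono_right hN0 hh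
  apply le_antisymm
  · rw [Ideal.span_le]
    intro x hx
    rcases hx with hx | hx
    · rw [hx]
      exact Ideal.add_mem _ (Ideal.subset_span (Set.mem_insert _ _)) hh0
    · exact Ideal.subset_span (Set.mem_insert_of_mem _ hx)
  · refine Submodule.le_of_le_smul_of_le_jacobson_bot
      (IsNoetherian.noetherian _) (IsLocalRing.maximalIdeal_le_jacobson ⊥) ?_
    rw [Ideal.span_le]
    intro x hx
    rcases hx with hx | hx
    · rw [hx]
      have h3 := Submodule.add_mem_sup
        (Ideal.subset_span (Set.mem_insert (f + h) (Set.range g)))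
        (Submodule.neg_mem _ hh1)
      rwa [add_neg_cancel_right] at h3
    · exact Submodule.mem_sup_left (Ideal.subset_span (Set.mem_insert_of_mem _ hx))

end Groth.Agent.Lead.SOP
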