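import Groth.Agent.Lib.Lead.ExtDD
import Groth.Agent.Lib.Helper25.LatDetB
import Groth.Agent.Lib.Helper13.InvGen
import Groth.Prelude.Def_C1

/-!
# The order of a rational section of an invertible module along a point

Calculus for `Cyc.secOrdAt L η x h s` when `η` is the generic point of an integral scheme.
-/

set_option autoImplicit false
universe u v
open CategoryTheory CategoryTheory.Limits AlgebraicGeometry Opposite TopologicalSpace
open Groth.Agent.Helper13.Inv

namespace Groth.Agent.Lead.SecOrd

section Alg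

variable {A : Type u} [CommRing A] {K : Type v} [Field K] [Algebra A K]

theorem ordFrac_algebraMap_unit (w : A) (hw : IsUnit w) :
    CycAlg.ordFrac A K (algebraMap A K w) = 0 := by
  by_cases h : IsNoetherianRing A ∧ Ring.KrullDimLE 1 A ∧ Nontrivial A ∧ IsFractionRing A K
  · obtain ⟨h1, h2, h3, h4⟩ := h
    have hi : Function.Injective (algebraMap A K) := IsFractionRing.injective A K
    haveI : IsDomain A := Function.Injective.isDomain (algebraMap A K) hi
    obtain ⟨w', hw'⟩ := hw.exists_right_inv
    have hne : w ≠ 0 := hw.ne_zero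
    have hne' : w' ≠ 0 := by
      rintro rfl
      simp at hw'
    have e1 := Groth.Agent.Helper25.LatDet.ordFrac_algebraMap (A := A) (K := K) hne
    have e2 := Groth.Agent.Helper25.LatDet.ordFrac_algebraMap (A := A) (K := K) hne'
    have e3 := Groth.Agent.Helper25.LatDet.ordFrac_mul (A := A) (K := K)
      (x := algebraMap A K w) (y := algebraMap A K w')
      ((map_ne_zero_iff _ hi).mpr hne) ((map_ne_zero_iff _ hi).mpr hne')
    rw [← map_mul, hw', map_one, Groth.Agent.Helper25.LatDet.ordFrac_one A K] at e3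
    omega
  · unfold CycAlg.ordFrac
    rw [dif_neg h]

theorem ordFrac_mul_unit (g : K) (w : A) (hw : IsUnit w) :
    CycAlg.ordFrac A K (g * algebraMap A K w) = CycAlg.ordFrac A K g := by
  by_cases h : IsNoetherianRing A ∧ Ring.KrullDimLE 1 A ∧ Nontrivial A ∧ IsFractionRing A K
  · obtain ⟨h1, h2, h3, h4⟩ := h
    have hi : Function.Injective (algebraMap A K) := IsFractionRing.injective A K
    haveI : IsDomain A := Function.Injective.isDomain (algebraMap A K) hi
    by_cases hg : g = 0
    · subst hg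
      rw [zero_mul]
    · rw [Groth.Agent.Helper25.LatDet.ordFrac_mul A K hg ((map_ne_zero_iff _ hi).mpr hw.ne_zero),
        ordFrac_algebraMap_unit w hw, add_zero]
  · unfold CycAlg.ordFrac
    simp only [dif_neg h]

theorem ordFrac_mul' (g g' : K) (hg : g ≠ 0) (hg' : g' ≠ 0) :
    CycAlg.ordFrac A K (g * g') = CycAlg.ordFrac A K g + CycAlg.ordFrac A K g' := by
  by_cases h : IsNoetherianRing A ∧ Ring.KrullDimLE 1 A ∧ Nontrivial A ∧ IsFractionRing A K
  · obtain ⟨h1, h2, h3, h4⟩ := h
    have hi : Function.Injective (algebraMap A K) := IsFractionRing.injective A K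
    haveI : IsDomain A := Function.Injective.isDomain (algebraMap A K) hi
    exact Groth.Agent.Helper25.LatDet.ordFrac_mul A K hg hg'
  · unfold CycAlg.ordFrac
    simp only [dif_neg h, add_zero]

theorem finite_height_one_of_mem {A : Type u} [CommRing A] [IsDomain A] [IsNoetherianRing A]
    (a : A) (ha : a ≠ 0) :
    {p : Ideal A | p.IsPrime ∧ p.height = 1 ∧ a ∈ p}.Finite := by
  refine (Ideal.finite_minimalPrimes_of_isNoetherianRing A (Ideal.span {a})).subset ?_
  rintro p ⟨hp, hht, hap⟩
  haveI := hp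
  refine ⟨⟨hp, (Ideal.span_singleton_le_iff_mem _).mpr hap⟩, ?_⟩
  rintro q ⟨hq, haq⟩ hqp
  haveI := hq
  by_contra hne
  have hlt : q < p := lt_of_le_of_ne hqp (fun h => hne (h ▸ le_rfl))
  have h1 := Ideal.height_strict_mono_of_isPrime hlt
  rw [hht] at h1
  have h0 : q.height = 0 := ENat.lt_one_iff_eq_zero.mp h1
  rw [Ideal.height_eq_zero_iff_eq_bot] at h0
  subst h0
  exact ha (by simpa using (Ideal.span_singleton_le_iff_mem _).mp haq)

end Alg

variable {X : Scheme.{u}} [IsIntegral X]

/-- the residue class at the generic point of the specialisation of a local function is the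
structure map of `LocQuot`. -/
theorem residue_spec (x : X) (r : X.presheaf.stalk x) :
    (X.residue (genericPoint X)).hom ((X.presheaf.stalkSpecializes (ExtDD.gen_spz x)).hom r) =
      algebraMap (Cyc.LocQuot x (genericPoint X) (ExtDD.gen_spz x))
        (X.residueField (genericPoint X))
        (Ideal.Quotient.mk (RingHom.ker (Cyc.specMap x (genericPoint X) (ExtDD.gen_spz x))) r) := by
  rfl

theorem secOrdAt_eq (L : X.Modules) (x : X)
    (t₀ : L.presheaf.stalk x)
    (hbij : Function.Bijective (fun r : X.presheaf.stalk x => r • t₀))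
    (hinj : ∀ c : X.presheaf.stalk (genericPoint X),
      c • (Submodule.Quotient.mk ((L.presheaf.stalkSpecializes (ExtDD.gen_spz x)).hom t₀) :
        Cyc.secFibre L (genericPoint X)) = 0 → c = 0)
    (φ₀ : X.presheaf.stalk (genericPoint X)) :
    Cyc.secOrdAt L (genericPoint X) x (ExtDD.gen_spz x)
      (φ₀ • (Submodule.Quotient.mk ((L.presheaf.stalkSpecializes (ExtDD.gen_spz x)).hom t₀) :
        Cyc.secFibre L (genericPoint X))) =
      Cyc.ordAt x (genericPoint X) (ExtDD.gen_spz x) ((X.residue (genericPoint X)).hom φ₀) := by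
  classical
  obtain ⟨T₀, hT₀⟩ : ∃ T₀ : Cyc.secFibre L (genericPoint X), T₀ =
      Submodule.Quotient.mk ((L.presheaf.stalkSpecializes (ExtDD.gen_spz x)).hom t₀) := ⟨_, rfl⟩
  rw [← hT₀] at hinj ⊢
  have fact : ∀ t : L.presheaf.stalk x, Submodule.span (X.presheaf.stalk x) {t} = ⊤ →
      ∃ u v : X.presheaf.stalk x, v * u = 1 ∧
        (Submodule.Quotient.mk ((L.presheaf.stalkSpecializes (ExtDD.gen_spz x)).hom t) :
          Cyc.secFibre L (genericPoint X)) =
          (X.presheaf.stalkSpecializes (ExtDD.gen_spz x)).hom u • T₀ := by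
    intro t ht
    obtain ⟨u, hu⟩ := hbij.2 t
    have hu' : u • t₀ = t := hu
    have h0 : t₀ ∈ Submodule.span (X.presheaf.stalk x) {t} := by rw [ht]; trivial
    obtain ⟨v, hv⟩ := Submodule.mem_span_singleton.mp h0
    refine ⟨u, v, ?_, ?_⟩
    · apply hbij.1
      show (v * u) • t₀ = (1 : X.presheaf.stalk x) • t₀
      rw [mul_smul, hu', hv, one_smul]
    · rw [← hu', ExtDD.spec_smul, hT₀]
      rfl
  have ht : ∃ t : L.presheaf.stalk x, Submodule.span (X.presheaf.stalk x) {t} = ⊤ := by
    refine ⟨t₀, ?_⟩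
    rw [eq_top_iff]
    intro m _
    obtain ⟨r, hr⟩ := hbij.2 m
    exact Submodule.mem_span_singleton.mpr ⟨r, hr⟩
  have ex : ∀ t : L.presheaf.stalk x, Submodule.span (X.presheaf.stalk x) {t} = ⊤ →
      ∃ φ : X.presheaf.stalk (genericPoint X), φ₀ • T₀ =
        φ • (Submodule.Quotient.mk ((L.presheaf.stalkSpecializes (ExtDD.gen_spz x)).hom t) :
          Cyc.secFibre L (genericPoint X)) := by
    intro t ht'
    obtain ⟨u, v, huv, hu⟩ := fact t ht'
    refine ⟨φ₀ * (X.presheaf.stalkSpecializes (ExtDD.gen_spz x)).hom v, ?_⟩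
    rw [hu, smul_smul, mul_assoc, ← map_mul, huv, map_one, mul_one]
  have key : ∀ t : L.presheaf.stalk x, Submodule.span (X.presheaf.stalk x) {t} = ⊤ →
      ∀ φ : X.presheaf.stalk (genericPoint X), φ₀ • T₀ =
        φ • (Submodule.Quotient.mk ((L.presheaf.stalkSpecializes (ExtDD.gen_spz x)).hom t) :
          Cyc.secFibre L (genericPoint X)) →
      Cyc.ordAt x (genericPoint X) (ExtDD.gen_spz x) ((X.residue (genericPoint X)).hom φ) =
        Cyc.ordAt x (genericPoint X) (ExtDD.gen_spz x) ((X.residue (genericPoint X)).hom φ₀) := by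
    intro t ht' φ hφ
    obtain ⟨u, v, huv, hu⟩ := fact t ht'
    rw [hu, smul_smul] at hφ
    have hz : (φ * (X.presheaf.stalkSpecializes (ExtDD.gen_spz x)).hom u - φ₀) • T₀ = 0 := by
      rw [sub_smul, ← hφ, sub_self]
    have hc := hinj _ hz
    have hφ₀ : φ₀ = φ * (X.presheaf.stalkSpecializes (ExtDD.gen_spz x)).hom u :=
      (sub_eq_zero.mp hc).symm
    rw [hφ₀, map_mul, residue_spec]
    have hunit : IsUnit (Ideal.Quotient.mk
        (RingHom.ker (Cyc.specMap x (genericPoint X) (ExtDD.gen_spz x))) u) :=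
      (IsUnit.of_mul_eq_one v (by rw [mul_comm]; exact huv)).map _
    exact (ordFrac_mul_unit _ _ hunit).symm
  unfold Cyc.secOrdAt
  split_ifs with h2
  · exact key _ (Classical.choose_spec ht) _ (Classical.choose_spec h2)
  · exact absurd (ex _ (Classical.choose_spec ht)) h2

theorem maximalIdeal_functionField :
    IsLocalRing.maximalIdeal (X.presheaf.stalk (genericPoint X)) = ⊥ := by
  have h : IsField (X.presheaf.stalk (genericPoint X)) :=
    (inferInstance : Field X.functionField).toIsField
  exact IsLocalRing.isField_iff_maximalIdeal_eq.mp h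

theorem mk_eq_zero_iff (L : X.Modules) (v : L.presheaf.stalk (genericPoint X)) :
    (Submodule.Quotient.mk v : Cyc.secFibre L (genericPoint X)) = 0 ↔ v = 0 := by
  rw [Submodule.Quotient.mk_eq_zero, maximalIdeal_functionField, Submodule.bot_smul,
    Submodule.mem_bot]

variable (L : X.Modules)

theorem secOrdAt_of_isGen (x : X) {W : X.Opens} (hx : x ∈ W) (e : Γ(L, W))
    (hex : IsGen L e x hx) (heη : IsGen L e (genericPoint X) (ExtDD.gen_mem hx))
    (φ₀ : X.presheaf.stalk (genericPoint X)) (h : genericPoint X ⤳ x) :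
    Cyc.secOrdAt L (genericPoint X) x h
      (Submodule.Quotient.mk (φ₀ • L.presheaf.germ W (genericPoint X) (ExtDD.gen_mem hx) e) :
        Cyc.secFibre L (genericPoint X)) =
      Cyc.ordAt x (genericPoint X) h ((X.residue (genericPoint X)).hom φ₀) := by
  have hsp := ExtDD.spec_germ L x hx e
  have hcore := secOrdAt_eq L x (L.presheaf.germ W x hx e) hex (by
    intro c hc
    rw [hsp] at hc
    have hc' : (Submodule.Quotient.mk
        (c • L.presheaf.germ W (genericPoint X) (ExtDD.gen_mem hx) e) :
        Cyc.secFibre L (genericPoint X)) = 0 := hc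
    rw [mk_eq_zero_iff] at hc'
    apply heη.1
    show c • _ = (0 : X.presheaf.stalk (genericPoint X)) • _
    rw [hc', zero_smul]) φ₀
  rw [hsp] at hcore
  exact hcore

theorem secOrdAt_eq_zero_of_isUnit (x : X) {W : X.Opens} (hx : x ∈ W) (e : Γ(L, W))
    (hex : IsGen L e x hx) (heη : IsGen L e (genericPoint X) (ExtDD.gen_mem hx))
    (w : X.presheaf.stalk x) (hw : IsUnit w) (h : genericPoint X ⤳ x) :
    Cyc.secOrdAt L (genericPoint X) x h
      (Submodule.Quotient.mk ((X.presheaf.stalkSpecializes (ExtDD.gen_spz x)).hom w •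
        L.presheaf.germ W (genericPoint X) (ExtDD.gen_mem hx) e) :
        Cyc.secFibre L (genericPoint X)) = 0 := by
  rw [secOrdAt_of_isGen L x hx e hex heη]
  show Cyc.ordAt x (genericPoint X) (ExtDD.gen_spz x) _ = 0
  rw [residue_spec]
  exact ordFrac_algebraMap_unit _ (hw.map _)

end Groth.Agent.Lead.SecOrd
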