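import Groth.Agent.Lib.Lead.SecOrd5

/-!
# The divisor of a global section of an invertible module is its zero scheme cycle
-/

set_option autoImplicit false
universe u v
open CategoryTheory CategoryTheory.Limits AlgebraicGeometry Opposite TopologicalSpace
open Groth.Agent.Helper13.Inv

namespace Groth.Agent.Lead.SecOrd

theorem ord_ringEquiv {R R' : Type*} [CommRing R] [CommRing R'] (e : R ≃+* R') (a : R) :
    Ring.ord R' (e a) = Ring.ord R a := by
  unfold Ring.ord
  rw [Module.length_quotient, Module.length_quotient]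
  have h : (Ideal.span {a} : Ideal R) = e.idealComapOrderIso (Ideal.span {e a}) := by
    rw [RingEquiv.idealComapOrderIso_apply]
    have h1 : (Ideal.span {e a} : Ideal R') = Ideal.map e (Ideal.span {a}) := by
      rw [Ideal.map_span, Set.image_singleton]
    rw [h1, Ideal.comap_map_of_bijective _ e.bijective]
  rw [h]
  exact (Order.coheight_orderIso e.idealComapOrderIso (Ideal.span {e a})).symm

variable {X : Scheme.{u}} [IsIntegral X]

theorem coheight_eq_one_of_immediate (x : X) (hne : ¬ x ⤳ genericPoint X)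
    (h : ∀ z : X, z ⤳ x → (z ⤳ genericPoint X) ∨ (x ⤳ z)) : Order.coheight x = 1 := by
  apply le_antisymm
  · rw [Order.coheight_le_iff']
    intro p hp
    have hlen : p.length ≤ 1 := by
      by_contra hlen
      push Not at hlen
      have h01 : p ⟨0, by omega⟩ < p ⟨1, by omega⟩ := p.strictMono (by simp [Fin.lt_def])
      have h12 : p ⟨1, by omega⟩ < p ⟨2, by omega⟩ := p.strictMono (by simp [Fin.lt_def])
      have hx0 : p ⟨0, by omega⟩ = x := hp
      rw [hx0] at h01
      have hzx : p ⟨1, by omega⟩ ⤳ x := Scheme.le_iff_specializes.mp h01.le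
      rcases h _ hzx with h3 | h3
      · have h4 : genericPoint X ≤ p ⟨1, by omega⟩ := Scheme.le_iff_specializes.mpr h3
        have h5 : p ⟨2, by omega⟩ ≤ genericPoint X :=
          Scheme.le_iff_specializes.mpr (ExtDD.gen_spz _)
        exact lt_irrefl _ (lt_of_le_of_lt h4 (lt_of_lt_of_le h12 h5))
      · have h4 : p ⟨1, by omega⟩ ≤ x := Scheme.le_iff_specializes.mpr h3
        exact lt_irrefl _ (lt_of_lt_of_le h01 h4)
    exact_mod_cast hlen
  · have hpos : 0 < Order.coheight x := by
      rw [Order.coheight_pos]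
      intro hmax
      have h1 : x ≤ genericPoint X := Scheme.le_iff_specializes.mpr (ExtDD.gen_spz x)
      exact hne (Scheme.le_iff_specializes.mp (hmax h1))
    exact Order.one_le_iff_pos.mpr hpos

theorem main_zeroSection (X : Scheme.{u}) [IsIntegral X] (δ : X → ℤ) (hX : Cyc.IsSetup X δ)
    (n : ℤ) (hn : δ (genericPoint X) = n) (L : X.Modules) (hL : PicF.IsInvertible L)
    (s : L.presheaf.obj (Opposite.op ⊤))
    (hs : (L.presheaf.germ ⊤ (genericPoint X) trivial) s ≠ 0) :
    Cyc.secDivFun δ L (genericPoint X)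
        (Submodule.Quotient.mk ((L.presheaf.germ ⊤ (genericPoint X) trivial) s)) =
      Cyc.zeroSectionFun δ (n - 1) L s := by
  haveI : IsLocallyNoetherian X := hX.1
  have hdimfun := hX.2.2
  funext x
  unfold Cyc.secDivFun Cyc.zeroSectionFun
  by_cases hδ : δ x + 1 = n
  · have hδ' : δ x = n - 1 := by omega
    have hcond : genericPoint X ⤳ x ∧ δ x + 1 = δ (genericPoint X) :=
      ⟨ExtDD.gen_spz x, by rw [hn]; exact hδ⟩
    rw [dif_pos hcond, if_pos hδ']
    -- `x` has codimension one
    have hne : ¬ x ⤳ genericPoint X := by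
      intro hxη
      by_cases hxe : x = genericPoint X
      · rw [hxe, hn] at hδ
        omega
      · have h1 := (hdimfun x (genericPoint X) hxη hxe).1
        rw [hn] at h1
        omega
    have himm : ∀ z : X, z ⤳ x → (z ⤳ genericPoint X) ∨ (x ⤳ z) := by
      intro z hzx
      by_cases hz1 : z = genericPoint X
      · exact Or.inl (hz1 ▸ specializes_rfl)
      · by_cases hz2 : z = x
        · exact Or.inr (hz2 ▸ specializes_rfl)
        · exfalso
          have h1 := (hdimfun (genericPoint X) z (ExtDD.gen_spz z) (fun h => hz1 h.symm)).1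
          have h2 := (hdimfun z x hzx hz2).1
          rw [hn] at h1
          omega
    have hco := coheight_eq_one_of_immediate x hne himm
    have hdim : ringKrullDim (X.presheaf.stalk x) = 1 := by
      rw [ringKrullDim_stalk_eq_coheight, hco]
      rfl
    -- local generator
    obtain ⟨W, hxW, e, he⟩ := (isInvertible_iff_exists_isGen L).1 hL x
    obtain ⟨g, hg⟩ := Groth.Agent.Helper23.RegMero.IsGenOn.exists_smul_eq (L := L) (e := e) he
      (L.presheaf.map (homOfLE (le_top : W ≤ ⊤)).op s)
    have hη : genericPoint X ∈ W := ExtDD.gen_mem hxW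
    obtain ⟨f₀, hf₀⟩ : ∃ f₀ : X.presheaf.stalk x, f₀ = X.presheaf.germ W x hxW g := ⟨_, rfl⟩
    obtain ⟨t₀, ht₀e⟩ : ∃ t₀ : L.presheaf.stalk x, t₀ = L.presheaf.germ W x hxW e := ⟨_, rfl⟩
    have hbij : Function.Bijective (fun r : X.presheaf.stalk x => r • t₀) := by
      rw [ht₀e]
      exact he x hxW
    have hgermx : L.presheaf.germ ⊤ x trivial s = f₀ • t₀ := by
      rw [hf₀, ht₀e, ← Mero.germ_smul, ← hg, TopCat.Presheaf.germ_res_apply]
    have hgermη : L.presheaf.germ ⊤ (genericPoint X) trivial s =
        (X.presheaf.stalkSpecializes (ExtDD.gen_spz x)).hom f₀ •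
          L.presheaf.germ W (genericPoint X) hη e := by
      rw [hf₀, ExtDD.specO_germ, ← Mero.germ_smul, ← hg, TopCat.Presheaf.germ_res_apply]
    have hf₀ne : f₀ ≠ 0 := by
      rintro rfl
      apply hs
      rw [hgermη, map_zero, zero_smul]
    -- the left hand side
    obtain ⟨i1, i2, i3, i4⟩ := locQuot_inst x hdim
    haveI : IsDomain (Cyc.LocQuot x (genericPoint X) (ExtDD.gen_spz x)) :=
      Function.Injective.isDomain _ (algebraMap_locQuot_injective x)
    have hπne : Ideal.Quotient.mk
        (RingHom.ker (Cyc.specMap x (genericPoint X) (ExtDD.gen_spz x))) f₀ ≠ 0 := by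
      intro h0
      apply hf₀ne
      have h1 : piEquiv x f₀ = 0 := h0
      exact (piEquiv x).injective (by rw [h1, map_zero])
    have hLHS : Cyc.secOrdAt L (genericPoint X) x hcond.1
        (Submodule.Quotient.mk ((L.presheaf.germ ⊤ (genericPoint X) trivial) s)) =
        ((Ring.ord (X.presheaf.stalk x) f₀).toNat : ℤ) := by
      rw [hgermη, secOrdAt_of_isGen L x hxW e (he x hxW) (he _ hη)]
      show CycAlg.ordFrac _ _ _ = _
      rw [residue_spec, Groth.Agent.Helper25.LatDet.ordFrac_algebraMap _ _ hπne]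
      have h1 := ord_ringEquiv (piEquiv x) f₀
      rw [piEquiv_apply] at h1
      rw [h1]
    rw [hLHS]
    have ht₀ : Submodule.span (X.presheaf.stalk x) {t₀} = ⊤ := by
      rw [eq_top_iff]
      intro m _
      obtain ⟨r, hr⟩ := hbij.2 m
      exact Submodule.mem_span_singleton.mpr ⟨r, hr⟩
    have key : ∀ t : L.presheaf.stalk x, Submodule.span (X.presheaf.stalk x) {t} = ⊤ →
        (∃ f : X.presheaf.stalk x, (L.presheaf.germ ⊤ x trivial) s = f • t) ∧
        ∀ f : X.presheaf.stalk x, (L.presheaf.germ ⊤ x trivial) s = f • t →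
          ((Module.length (X.presheaf.stalk x)
            (↥(X.presheaf.stalk x) ⧸ Ideal.span {f})).toNat : ℤ) =
            ((Ring.ord (X.presheaf.stalk x) f₀).toNat : ℤ) := by
      intro t ht
      obtain ⟨u, hu⟩ := hbij.2 t
      have hu' : u • t₀ = t := hu
      have h0 : t₀ ∈ Submodule.span (X.presheaf.stalk x) {t} := by rw [ht]; trivial
      obtain ⟨v, hv⟩ := Submodule.mem_span_singleton.mp h0
      have hvu : v * u = 1 := by
        apply hbij.1
        show (v * u) • t₀ = (1 : X.presheaf.stalk x) • t₀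
        rw [mul_smul, hu', hv, one_smul]
      refine ⟨⟨f₀ * v, by rw [hgermx, mul_smul, hv]⟩, ?_⟩
      intro f hf
      have hff : f₀ = f * u := by
        apply hbij.1
        show f₀ • t₀ = (f * u) • t₀
        rw [mul_smul, hu', ← hf, hgermx]
      have huu : IsUnit u := IsUnit.of_mul_eq_one v (by rw [mul_comm]; exact hvu)
      have hspan : (Ideal.span {f} : Ideal (X.presheaf.stalk x)) = Ideal.span {f₀} := by
        rw [Ideal.span_singleton_eq_span_singleton]
        exact ⟨huu.unit, by rw [hff]; rfl⟩
      rw [hspan]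
      rfl
    split_ifs with h1 h2
    · exact ((key _ (Classical.choose_spec h1)).2 _ (Classical.choose_spec h2)).symm
    · exact absurd ((key _ (Classical.choose_spec h1)).1) h2
    · exact absurd ⟨_, ht₀⟩ h1
  · have hδ' : ¬ δ x = n - 1 := by omega
    have hcond : ¬ (genericPoint X ⤳ x ∧ δ x + 1 = δ (genericPoint X)) := by
      rintro ⟨-, h⟩
      rw [hn] at h
      exact hδ h
    rw [dif_neg hcond, if_neg hδ']

end Groth.Agent.Lead.SecOrd
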