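import Groth.Agent.Lib.Lead.SecOrd3
import Groth.Agent.Lib.Helper13.WeakAss

/-!
# Orders of rational sections along arbitrary specialisations

The calculus of `Cyc.secOrdAt L ξ x h s` for an arbitrary specialisation `h : ξ ⤳ x` (no
integrality), the cap product `c₁(O_X) ∩ α` and the additivity `c₁(L) ∩ α + c₁(N) ∩ α =
c₁(L ⊗ N) ∩ α` up to rational equivalence.
-/

set_option autoImplicit false
universe u v
open CategoryTheory CategoryTheory.Limits AlgebraicGeometry Opposite TopologicalSpace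
open Groth.Agent.Helper13.Inv Groth.Agent.Helper13.WeakAss TensorProduct

namespace Groth.Agent.Lead.SecOrd

section Alg2

variable {A : Type u} [CommRing A] {K : Type v} [Field K] [Algebra A K]

theorem ordFrac_one' : CycAlg.ordFrac A K (1 : K) = 0 := by
  have h := ordFrac_algebraMap_unit (A := A) (K := K) 1 isUnit_one
  rwa [map_one] at h

theorem ordFrac_inv' (g : K) (hg : g ≠ 0) :
    CycAlg.ordFrac A K g⁻¹ = - CycAlg.ordFrac A K g := by
  have h := ordFrac_mul' (A := A) g g⁻¹ hg (inv_ne_zero hg)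
  rw [mul_inv_cancel₀ hg, ordFrac_one'] at h
  omega

theorem ordFrac_div' (g g' : K) (hg : g ≠ 0) (hg' : g' ≠ 0) :
    CycAlg.ordFrac A K (g / g') = CycAlg.ordFrac A K g - CycAlg.ordFrac A K g' := by
  rw [div_eq_mul_inv, ordFrac_mul' (A := A) g g'⁻¹ hg (inv_ne_zero hg'), ordFrac_inv' g' hg']
  ring

theorem ordFrac_pow' (g : K) (hg : g ≠ 0) (n : ℕ) :
    CycAlg.ordFrac A K (g ^ n) = n * CycAlg.ordFrac A K g := by
  induction n with
  | zero => rw [pow_zero, ordFrac_one']; simp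
  | succ n ih =>
    rw [pow_succ, ordFrac_mul' (A := A) _ _ (pow_ne_zero n hg) hg, ih]
    push_cast
    ring

theorem ordFrac_zpow' (g : K) (hg : g ≠ 0) (n : ℤ) :
    CycAlg.ordFrac A K (g ^ n) = n * CycAlg.ordFrac A K g := by
  obtain ⟨m, rfl | rfl⟩ := n.eq_nat_or_neg
  · rw [zpow_natCast, ordFrac_pow' g hg]
  · rw [zpow_neg, zpow_natCast, ordFrac_inv' _ (pow_ne_zero m hg), ordFrac_pow' g hg]
    ring

end Alg2

theorem finsum_subtype_of_support_subset {ι : Type*} {M : Type*} [AddCommMonoid M] (F : ι → M)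
    (s : Set ι) (h : Function.support F ⊆ s) : ∑ᶠ i : s, F i.1 = ∑ᶠ i, F i := by
  rw [finsum_set_coe_eq_finsum_mem (f := F) s, finsum_mem_def, Set.indicator_eq_self.mpr h]

variable {X : Scheme.{u}}

theorem spz_mem {W : X.Opens} {ξ x : X} (h : ξ ⤳ x) (hx : x ∈ W) : ξ ∈ W :=
  h.mem_open W.isOpen hx

theorem spec_germ' (M : X.Modules) {W : X.Opens} {ξ x : X} (h : ξ ⤳ x) (hx : x ∈ W)
    (s : Γ(M, W)) :
    (M.presheaf.stalkSpecializes h).hom (M.presheaf.germ W x hx s) =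
      M.presheaf.germ W ξ (spz_mem h hx) s := by
  have h' := TopCat.Presheaf.germ_stalkSpecializes M.presheaf hx h
  rw [← h']
  rfl

theorem specO_germ' {W : X.Opens} {ξ x : X} (h : ξ ⤳ x) (hx : x ∈ W) (s : Γ(X, W)) :
    (X.presheaf.stalkSpecializes h).hom (X.presheaf.germ W x hx s) =
      X.presheaf.germ W ξ (spz_mem h hx) s := by
  have h' := TopCat.Presheaf.germ_stalkSpecializes X.presheaf hx h
  rw [← h']
  rfl

theorem spec_smul' (M : X.Modules) {ξ x : X} (h : ξ ⤳ x) (r : X.presheaf.stalk x)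
    (v : M.presheaf.stalk x) :
    (M.presheaf.stalkSpecializes h).hom (r • v) =
      (X.presheaf.stalkSpecializes h).hom r • (M.presheaf.stalkSpecializes h).hom v := by
  obtain ⟨Ua, ha, a, rfl⟩ := TopCat.Presheaf.exists_germ_eq X.presheaf r
  obtain ⟨Uv, hv, s, rfl⟩ := TopCat.Presheaf.exists_germ_eq M.presheaf v
  rw [← TopCat.Presheaf.germ_res_apply X.presheaf (homOfLE (inf_le_left : Ua ⊓ Uv ≤ Ua)) x ⟨ha, hv⟩,
    ← TopCat.Presheaf.germ_res_apply M.presheaf (homOfLE (inf_le_right : Ua ⊓ Uv ≤ Uv)) x ⟨ha, hv⟩,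
    ← Mero.germ_smul, spec_germ' M h, spec_germ' M h, specO_germ' h, Mero.germ_smul]

theorem residue_spec' {ξ x : X} (h : ξ ⤳ x) (r : X.presheaf.stalk x) :
    (X.residue ξ).hom ((X.presheaf.stalkSpecializes h).hom r) =
      algebraMap (Cyc.LocQuot x ξ h) (X.residueField ξ)
        (Ideal.Quotient.mk (RingHom.ker (Cyc.specMap x ξ h)) r) := by
  rfl

theorem mk_smul_eq_zero_iff (L : X.Modules) (ξ : X) (l : L.presheaf.stalk ξ)
    (hl : Function.Bijective (fun r : X.presheaf.stalk ξ => r • l)) (c : X.presheaf.stalk ξ) :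
    (Submodule.Quotient.mk (c • l) : Cyc.secFibre L ξ) = 0 ↔ (X.residue ξ).hom c = 0 := by
  have hres : (X.residue ξ).hom c = 0 ↔ c ∈ IsLocalRing.maximalIdeal (X.presheaf.stalk ξ) :=
    IsLocalRing.residue_eq_zero_iff c
  have htop : (⊤ : Submodule (X.presheaf.stalk ξ) (L.presheaf.stalk ξ)) =
      Submodule.span (X.presheaf.stalk ξ) {l} := by
    symm
    rw [eq_top_iff]
    intro m _
    obtain ⟨r, hr⟩ := hl.2 m
    exact Submodule.mem_span_singleton.mpr ⟨r, hr⟩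
  rw [hres, Submodule.Quotient.mk_eq_zero, htop, Submodule.mem_smul_span_singleton]
  constructor
  · rintro ⟨y, hy, hyl⟩
    have : y = c := hl.1 hyl
    rwa [← this]
  · intro hc
    exact ⟨c, hc, rfl⟩

theorem secOrdAt_eq' (L : X.Modules) {ξ x : X} (h : ξ ⤳ x)
    (t₀ : L.presheaf.stalk x)
    (hbij : Function.Bijective (fun r : X.presheaf.stalk x => r • t₀))
    (hinj : ∀ c : X.presheaf.stalk ξ,
      c • (Submodule.Quotient.mk ((L.presheaf.stalkSpecializes h).hom t₀) :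
        Cyc.secFibre L ξ) = 0 → (X.residue ξ).hom c = 0)
    (φ₀ : X.presheaf.stalk ξ) :
    Cyc.secOrdAt L ξ x h
      (φ₀ • (Submodule.Quotient.mk ((L.presheaf.stalkSpecializes h).hom t₀) :
        Cyc.secFibre L ξ)) =
      Cyc.ordAt x ξ h ((X.residue ξ).hom φ₀) := by
  classical
  obtain ⟨T₀, hT₀⟩ : ∃ T₀ : Cyc.secFibre L ξ, T₀ =
      Submodule.Quotient.mk ((L.presheaf.stalkSpecializes h).hom t₀) := ⟨_, rfl⟩
  rw [← hT₀] at hinj ⊢
  have fact : ∀ t : L.presheaf.stalk x, Submodule.span (X.presheaf.stalk x) {t} = ⊤ →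
      ∃ u v : X.presheaf.stalk x, v * u = 1 ∧
        (Submodule.Quotient.mk ((L.presheaf.stalkSpecializes h).hom t) :
          Cyc.secFibre L ξ) =
          (X.presheaf.stalkSpecializes h).hom u • T₀ := by
    intro t ht
    obtain ⟨u, hu⟩ := hbij.2 t
    have hu' : u • t₀ = t := hu
    have h0 : t₀ ∈ Submodule.span (X.presheaf.stalk x) {t} := by rw [ht]; trivial
    obtain ⟨v, hv⟩ := Submodule.mem_span_singleton.mp h0
    refine ⟨u, v, ?_, ?_⟩
    · apply hbij.1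
      show (v * u) • t₀ = (1 : X.presheaf.stalk x) • t₀
      rw [mul_smul, hu', hv, one_smul]
    · rw [← hu', spec_smul' L h, hT₀]
      rfl
  have ht : ∃ t : L.presheaf.stalk x, Submodule.span (X.presheaf.stalk x) {t} = ⊤ := by
    refine ⟨t₀, ?_⟩
    rw [eq_top_iff]
    intro m _
    obtain ⟨r, hr⟩ := hbij.2 m
    exact Submodule.mem_span_singleton.mpr ⟨r, hr⟩
  have ex : ∀ t : L.presheaf.stalk x, Submodule.span (X.presheaf.stalk x) {t} = ⊤ →
      ∃ φ : X.presheaf.stalk ξ, φ₀ • T₀ =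
        φ • (Submodule.Quotient.mk ((L.presheaf.stalkSpecializes h).hom t) :
          Cyc.secFibre L ξ) := by
    intro t ht'
    obtain ⟨u, v, huv, hu⟩ := fact t ht'
    refine ⟨φ₀ * (X.presheaf.stalkSpecializes h).hom v, ?_⟩
    rw [hu, smul_smul, mul_assoc, ← map_mul, huv, map_one, mul_one]
  have key : ∀ t : L.presheaf.stalk x, Submodule.span (X.presheaf.stalk x) {t} = ⊤ →
      ∀ φ : X.presheaf.stalk ξ, φ₀ • T₀ =
        φ • (Submodule.Quotient.mk ((L.presheaf.stalkSpecializes h).hom t) :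
          Cyc.secFibre L ξ) →
      Cyc.ordAt x ξ h ((X.residue ξ).hom φ) =
        Cyc.ordAt x ξ h ((X.residue ξ).hom φ₀) := by
    intro t ht' φ hφ
    obtain ⟨u, v, huv, hu⟩ := fact t ht'
    rw [hu, smul_smul] at hφ
    have hz : (φ * (X.presheaf.stalkSpecializes h).hom u - φ₀) • T₀ = 0 := by
      rw [sub_smul, ← hφ, sub_self]
    have hc := hinj _ hz
    rw [map_sub, map_mul, sub_eq_zero] at hc
    rw [← hc, residue_spec' h]
    have hunit : IsUnit (Ideal.Quotient.mk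
        (RingHom.ker (Cyc.specMap x ξ h)) u) :=
      (IsUnit.of_mul_eq_one v (by rw [mul_comm]; exact huv)).map _
    exact (ordFrac_mul_unit _ _ hunit).symm
  unfold Cyc.secOrdAt
  split_ifs with h2
  · exact key _ (Classical.choose_spec ht) _ (Classical.choose_spec h2)
  · exact absurd (ex _ (Classical.choose_spec ht)) h2

theorem secOrdAt_of_isGen' (L : X.Modules) {ξ x : X} (h : ξ ⤳ x) {W : X.Opens} (hx : x ∈ W)
    (e : Γ(L, W)) (hex : IsGen L e x hx) (heξ : IsGen L e ξ (spz_mem h hx))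
    (φ₀ : X.presheaf.stalk ξ) :
    Cyc.secOrdAt L ξ x h
      (Submodule.Quotient.mk (φ₀ • L.presheaf.germ W ξ (spz_mem h hx) e) :
        Cyc.secFibre L ξ) =
      Cyc.ordAt x ξ h ((X.residue ξ).hom φ₀) := by
  have hsp := spec_germ' L h hx e
  have hcore := secOrdAt_eq' L h (L.presheaf.germ W x hx e) hex (by
    intro c hc
    rw [hsp] at hc
    have hc' : (Submodule.Quotient.mk (c • L.presheaf.germ W ξ (spz_mem h hx) e) :
        Cyc.secFibre L ξ) = 0 := hc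
    exact (mk_smul_eq_zero_iff L ξ _ heξ c).mp hc') φ₀
  rw [hsp] at hcore
  exact hcore

/-! ### The structure sheaf -/

theorem unitStalkEquiv_spec' {ξ x : X} (h : ξ ⤳ x)
    (v : (Coh.structureModule X).presheaf.stalk x) :
    unitStalkEquiv ξ (((Coh.structureModule X).presheaf.stalkSpecializes h).hom v) =
      (X.presheaf.stalkSpecializes h).hom (unitStalkEquiv x v) := by
  obtain ⟨W, hx, m, rfl⟩ := TopCat.Presheaf.exists_germ_eq (Coh.structureModule X).presheaf v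
  rw [spec_germ' _ h, unitStalkEquiv_germ, unitStalkEquiv_germ]
  exact (specO_germ' h hx m).symm

theorem spec_unit_one' {ξ x : X} (h : ξ ⤳ x) :
    ((Coh.structureModule X).presheaf.stalkSpecializes h).hom ((unitStalkEquiv x).symm 1) =
      (unitStalkEquiv ξ).symm 1 := by
  apply (unitStalkEquiv ξ).injective
  rw [unitStalkEquiv_spec', LinearEquiv.apply_symm_apply, LinearEquiv.apply_symm_apply, map_one]

theorem bijective_smul_unit_one (x : X) :
    Function.Bijective (fun r : X.presheaf.stalk x => r • (unitStalkEquiv x).symm 1) := by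
  have h2 : (fun r : X.presheaf.stalk x => r • (unitStalkEquiv x).symm 1) =
      (unitStalkEquiv x).symm := by
    funext r
    rw [← map_smul, smul_eq_mul, mul_one]
  rw [h2]
  exact (unitStalkEquiv x).symm.bijective

theorem secOrdAt_structure {ξ x : X} (h : ξ ⤳ x) (φ₀ : X.presheaf.stalk ξ) :
    Cyc.secOrdAt (Coh.structureModule X) ξ x h
      (Submodule.Quotient.mk ((unitStalkEquiv ξ).symm φ₀) :
        Cyc.secFibre (Coh.structureModule X) ξ) =
      Cyc.ordAt x ξ h ((X.residue ξ).hom φ₀) := by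
  have hcore := secOrdAt_eq' (Coh.structureModule X) h ((unitStalkEquiv x).symm 1)
    (bijective_smul_unit_one x) (by
      intro c hc
      rw [spec_unit_one' h] at hc
      exact (mk_smul_eq_zero_iff (Coh.structureModule X) ξ _ (bijective_smul_unit_one ξ) c).mp hc) φ₀
  rw [spec_unit_one' h] at hcore
  have h3 : φ₀ • (Submodule.Quotient.mk ((unitStalkEquiv ξ).symm 1) :
      Cyc.secFibre (Coh.structureModule X) ξ) =
      Submodule.Quotient.mk ((unitStalkEquiv ξ).symm φ₀) := by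
    rw [← Submodule.Quotient.mk_smul, ← map_smul, smul_eq_mul, mul_one]
  rw [h3] at hcore
  exact hcore

/-! ### Rational equivalence to zero of a combination of principal divisors -/

theorem ratEquivZero_of_eq (δ : X → ℤ) (k : ℤ) (α : AlgebraicCycle X ℤ)
    (hα : α ∈ Cyc.Zk X δ (k + 1)) (g : (ξ : X) → X.residueField ξ) (hg : ∀ ξ, g ξ ≠ 0)
    (γ : AlgebraicCycle X ℤ)
    (hγ : ∀ x, γ x = ∑ᶠ ξ : X, α ξ * Cyc.divFun δ ξ (g ξ) x) : Cyc.RatEquivZero δ k γ := by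
  classical
  refine ⟨↥(Function.support ⇑α), fun i => i.1, fun i => (g i.1) ^ (α i.1), ?_, ?_, ?_, ?_⟩
  · intro i
    by_contra hne
    exact i.2 (hα i.1 hne)
  · intro i
    exact zpow_ne_zero _ (hg i.1)
  · intro x
    obtain ⟨t, ht, hfin⟩ := α.supportLocallyFiniteWithinDomain x (Set.mem_univ x)
    obtain ⟨U, hUt, hUo, hxU⟩ := mem_nhds_iff.mp ht
    refine ⟨U, hUo, hxU, ?_⟩
    have hfin' : (U ∩ Function.support ⇑α).Finite :=
      hfin.subset (Set.inter_subset_inter_left _ hUt)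
    refine Set.Finite.of_injOn (f := fun i : ↥(Function.support ⇑α) => i.1) ?_
      Subtype.val_injective.injOn hfin'
    rintro i ⟨z, hz, hzU⟩
    have hsp : i.1 ⤳ z := specializes_iff_mem_closure.mpr hz
    exact ⟨hsp.mem_open hUo hzU, i.2⟩
  · intro x
    rw [hγ x]
    have hpt : ∀ ξ : X, Cyc.divFun δ ξ ((g ξ) ^ (α ξ)) x = α ξ * Cyc.divFun δ ξ (g ξ) x := by
      intro ξ
      unfold Cyc.divFun
      by_cases h : ξ ⤳ x ∧ δ x + 1 = δ ξ
      · rw [dif_pos h, dif_pos h]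
        exact ordFrac_zpow' _ (hg ξ) _
      · rw [dif_neg h, dif_neg h, mul_zero]
    have hsupp : Function.support (fun ξ : X => α ξ * Cyc.divFun δ ξ (g ξ) x) ⊆
        Function.support ⇑α := by
      intro ξ hξ hα0
      apply hξ
      show α ξ * _ = 0
      rw [hα0, zero_mul]
    rw [← finsum_subtype_of_support_subset _ _ hsupp]
    exact (finsum_congr (fun i => (hpt i.1).symm))

/-- `c₁(O_X) ∩ α` is rationally equivalent to zero. -/
theorem main_c1_structure (X : Scheme.{u}) (δ : X → ℤ) (k : ℤ) (α : AlgebraicCycle X ℤ)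
    (hα : α ∈ Cyc.Zk X δ (k + 1))
    (s : (ξ : X) → Cyc.secFibre (Coh.structureModule X) ξ) (hs : ∀ ξ, s ξ ≠ 0)
    (γ : AlgebraicCycle X ℤ)
    (hγ : ⇑γ = Cyc.c1CapFun δ (Coh.structureModule X) ⇑α s) : Cyc.RatEquivZero δ k γ := by
  classical
  have hex : ∀ ξ : X, ∃ g : X.residueField ξ, g ≠ 0 ∧ ∀ (x : X) (h : ξ ⤳ x),
      Cyc.secOrdAt (Coh.structureModule X) ξ x h (s ξ) = Cyc.ordAt x ξ h g := by
    intro ξ
    obtain ⟨v, hv⟩ := Submodule.Quotient.mk_surjective _ (s ξ)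
    obtain ⟨φ, hφ⟩ : ∃ φ, φ = unitStalkEquiv ξ v := ⟨_, rfl⟩
    have hvφ : v = (unitStalkEquiv ξ).symm φ := by rw [hφ, LinearEquiv.symm_apply_apply]
    refine ⟨(X.residue ξ).hom φ, ?_, ?_⟩
    · intro h0
      apply hs ξ
      rw [← hv, hvφ]
      have h1 := (mk_smul_eq_zero_iff (Coh.structureModule X) ξ _
        (bijective_smul_unit_one ξ) φ).mpr h0
      rw [← map_smul, smul_eq_mul, mul_one] at h1
      exact h1
    · intro x h
      rw [← hv, hvφ]
      exact secOrdAt_structure h φ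
  choose g hg0 hg using hex
  apply ratEquivZero_of_eq δ k α hα g hg0 γ
  intro x
  rw [hγ]
  show (∑ᶠ ξ : X, α ξ * Cyc.secDivFun δ (Coh.structureModule X) ξ (s ξ) x) = _
  refine finsum_congr (fun ξ => ?_)
  congr 1
  unfold Cyc.secDivFun Cyc.divFun
  by_cases h : ξ ⤳ x ∧ δ x + 1 = δ ξ
  · rw [dif_pos h, dif_pos h]
    exact hg ξ x h.1
  · rw [dif_neg h, dif_neg h]

/-! ### Tensor products -/

theorem isGen_tmul' (L N : X.Modules) {W : X.Opens} (eL : Γ(L, W)) (eN : Γ(N, W)) (z : X)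
    (hz : z ∈ W) (hL : IsGen L eL z hz) (hN : IsGen N eN z hz) :
    IsGen (CohB1.tensorMod L N) (Groth.Agent.Helper13.Tensor.tmul L N eL eN) z hz := by
  unfold IsGen
  rw [← Groth.Agent.Helper13.Tensor.stalkTensorEquiv_germ]
  have h1 := bijective_smul_tmul _ _ hL hN
  have h2 : (fun r : X.presheaf.stalk z => r • (Groth.Agent.Helper13.Tensor.stalkTensorEquiv L N z)
      (L.presheaf.germ W z hz eL ⊗ₜ N.presheaf.germ W z hz eN)) =
      (Groth.Agent.Helper13.Tensor.stalkTensorEquiv L N z) ∘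
        (fun r : X.presheaf.stalk z => r • (L.presheaf.germ W z hz eL ⊗ₜ N.presheaf.germ W z hz eN)) := by
    funext r
    simp only [Function.comp_apply, map_smul]
  rw [h2]
  exact (LinearEquiv.bijective _).comp h1

theorem exists_gens' (L N : X.Modules) (hL : PicF.IsInvertible L) (hN : PicF.IsInvertible N)
    (x : X) : ∃ (W : X.Opens) (_ : x ∈ W) (eL : Γ(L, W)) (eN : Γ(N, W)),
      (∀ (z : X) (hz : z ∈ W), IsGen L eL z hz) ∧ (∀ (z : X) (hz : z ∈ W), IsGen N eN z hz) := by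
  obtain ⟨U₁, hx₁, e₁, he₁⟩ := (isInvertible_iff_exists_isGen L).1 hL x
  obtain ⟨U₂, hx₂, e₂, he₂⟩ := (isInvertible_iff_exists_isGen N).1 hN x
  refine ⟨U₁ ⊓ U₂, ⟨hx₁, hx₂⟩, L.presheaf.map (homOfLE inf_le_left).op e₁,
    N.presheaf.map (homOfLE inf_le_right).op e₂, ?_, ?_⟩
  · intro z hz
    exact (isGen_res L (homOfLE inf_le_left) e₁ z hz).mpr (he₁ z hz.1)
  · intro z hz
    exact (isGen_res N (homOfLE inf_le_right) e₂ z hz).mpr (he₂ z hz.2)

theorem residue_eq_of_mk_eq (L : X.Modules) (ξ : X) (l : L.presheaf.stalk ξ)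
    (hl : Function.Bijective (fun r : X.presheaf.stalk ξ => r • l)) (a a' : X.presheaf.stalk ξ)
    (h : (Submodule.Quotient.mk (a • l) : Cyc.secFibre L ξ) = Submodule.Quotient.mk (a' • l)) :
    (X.residue ξ).hom a = (X.residue ξ).hom a' := by
  have h0 : (Submodule.Quotient.mk ((a - a') • l) : Cyc.secFibre L ξ) = 0 := by
    rw [sub_smul, Submodule.Quotient.mk_sub, h, sub_self]
  have h1 := (mk_smul_eq_zero_iff L ξ l hl (a - a')).mp h0
  rwa [map_sub, sub_eq_zero] at h1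

theorem residue_ne_zero_of_mk_ne_zero (L : X.Modules) (ξ : X) (l : L.presheaf.stalk ξ)
    (hl : Function.Bijective (fun r : X.presheaf.stalk ξ => r • l)) (a : X.presheaf.stalk ξ)
    (h : (Submodule.Quotient.mk (a • l) : Cyc.secFibre L ξ) ≠ 0) :
    (X.residue ξ).hom a ≠ 0 :=
  fun h0 => h ((mk_smul_eq_zero_iff L ξ l hl a).mpr h0)

theorem bijective_smul_stalkTensor (L N : X.Modules) (ξ : X)
    (l : L.presheaf.stalk ξ) (n : N.presheaf.stalk ξ)
    (hl : Function.Bijective (fun r : X.presheaf.stalk ξ => r • l))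
    (hn : Function.Bijective (fun r : X.presheaf.stalk ξ => r • n)) :
    Function.Bijective (fun r : X.presheaf.stalk ξ =>
      r • Groth.Agent.Helper13.Tensor.stalkTensorEquiv L N ξ (l ⊗ₜ n)) := by
  have h1 := bijective_smul_tmul l n hl hn
  have h2 : (fun r : X.presheaf.stalk ξ =>
      r • Groth.Agent.Helper13.Tensor.stalkTensorEquiv L N ξ (l ⊗ₜ n)) =
      (Groth.Agent.Helper13.Tensor.stalkTensorEquiv L N ξ) ∘
        (fun r : X.presheaf.stalk ξ => r • (l ⊗ₜ[X.presheaf.stalk ξ] n)) := by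
    funext r
    simp only [Function.comp_apply, map_smul]
  rw [h2]
  exact (LinearEquiv.bijective _).comp h1

theorem ratio_indep (L N : X.Modules) (ξ : X)
    (l l' : L.presheaf.stalk ξ) (n n' : N.presheaf.stalk ξ)
    (hl : Function.Bijective (fun r : X.presheaf.stalk ξ => r • l))
    (hn : Function.Bijective (fun r : X.presheaf.stalk ξ => r • n))
    (a a' b b' c c' : X.presheaf.stalk ξ)
    (hsL : (Submodule.Quotient.mk (a • l) : Cyc.secFibre L ξ) = Submodule.Quotient.mk (a' • l'))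
    (hL0 : (Submodule.Quotient.mk (a • l) : Cyc.secFibre L ξ) ≠ 0)
    (hsN : (Submodule.Quotient.mk (b • n) : Cyc.secFibre N ξ) = Submodule.Quotient.mk (b' • n'))
    (hN0 : (Submodule.Quotient.mk (b • n) : Cyc.secFibre N ξ) ≠ 0)
    (hsT : (Submodule.Quotient.mk
        (c • Groth.Agent.Helper13.Tensor.stalkTensorEquiv L N ξ (l ⊗ₜ n)) :
        Cyc.secFibre (CohB1.tensorMod L N) ξ) =
      Submodule.Quotient.mk
        (c' • Groth.Agent.Helper13.Tensor.stalkTensorEquiv L N ξ (l' ⊗ₜ n')))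
    (hT0 : (Submodule.Quotient.mk
        (c • Groth.Agent.Helper13.Tensor.stalkTensorEquiv L N ξ (l ⊗ₜ n)) :
        Cyc.secFibre (CohB1.tensorMod L N) ξ) ≠ 0) :
    (X.residue ξ).hom a * (X.residue ξ).hom b / (X.residue ξ).hom c =
      (X.residue ξ).hom a' * (X.residue ξ).hom b' / (X.residue ξ).hom c' := by
  obtain ⟨u, hu⟩ := hl.2 l'
  obtain ⟨v, hv⟩ := hn.2 n'
  have hu' : u • l = l' := hu
  have hv' : v • n = n' := hv
  have hτ := bijective_smul_stalkTensor L N ξ l n hl hn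
  have hτ' : Groth.Agent.Helper13.Tensor.stalkTensorEquiv L N ξ (l' ⊗ₜ n') =
      (u * v) • Groth.Agent.Helper13.Tensor.stalkTensorEquiv L N ξ (l ⊗ₜ n) := by
    rw [← hu', ← hv', TensorProduct.smul_tmul_smul, map_smul]
  have ha : (X.residue ξ).hom a = (X.residue ξ).hom a' * (X.residue ξ).hom u := by
    have h1 := residue_eq_of_mk_eq L ξ l hl a (a' * u) (by rw [hsL, ← hu', smul_smul])
    rw [h1, map_mul]
  have hb : (X.residue ξ).hom b = (X.residue ξ).hom b' * (X.residue ξ).hom v := by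
    have h1 := residue_eq_of_mk_eq N ξ n hn b (b' * v) (by rw [hsN, ← hv', smul_smul])
    rw [h1, map_mul]
  have hc : (X.residue ξ).hom c =
      (X.residue ξ).hom c' * ((X.residue ξ).hom u * (X.residue ξ).hom v) := by
    have h1 := residue_eq_of_mk_eq (CohB1.tensorMod L N) ξ _ hτ c (c' * (u * v))
      (by rw [hsT, hτ', smul_smul])
    rw [h1, map_mul, map_mul]
  have ha0 := residue_ne_zero_of_mk_ne_zero L ξ l hl a hL0
  have hb0 := residue_ne_zero_of_mk_ne_zero N ξ n hn b hN0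
  have hc0 := residue_ne_zero_of_mk_ne_zero (CohB1.tensorMod L N) ξ _ hτ c hT0
  rw [ha] at ha0
  rw [hb] at hb0
  rw [hc] at hc0
  have hu0 : (X.residue ξ).hom u ≠ 0 := right_ne_zero_of_mul ha0
  have hv0 : (X.residue ξ).hom v ≠ 0 := right_ne_zero_of_mul hb0
  have hc'0 : (X.residue ξ).hom c' ≠ 0 := left_ne_zero_of_mul hc0
  rw [ha, hb, hc, div_eq_div_iff (mul_ne_zero hc'0 (mul_ne_zero hu0 hv0)) hc'0]
  ring

theorem exists_ratio (L N : X.Modules) (hL : PicF.IsInvertible L) (hN : PicF.IsInvertible N)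
    (ξ : X) (sL : Cyc.secFibre L ξ) (hsL : sL ≠ 0) (sN : Cyc.secFibre N ξ) (hsN : sN ≠ 0)
    (sT : Cyc.secFibre (CohB1.tensorMod L N) ξ) (hsT : sT ≠ 0) :
    ∃ f : X.residueField ξ, f ≠ 0 ∧ ∀ (x : X) (h : ξ ⤳ x),
      Cyc.secOrdAt L ξ x h sL + Cyc.secOrdAt N ξ x h sN -
        Cyc.secOrdAt (CohB1.tensorMod L N) ξ x h sT = Cyc.ordAt x ξ h f := by
  obtain ⟨vL, rfl⟩ := Submodule.Quotient.mk_surjective _ sL
  obtain ⟨vN, rfl⟩ := Submodule.Quotient.mk_surjective _ sN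
  obtain ⟨vT, rfl⟩ := Submodule.Quotient.mk_surjective _ sT
  have loc : ∀ (x : X) (h : ξ ⤳ x), ∃ (W : X.Opens) (hx : x ∈ W) (eL : Γ(L, W)) (eN : Γ(N, W))
      (a b c : X.presheaf.stalk ξ),
      (∀ (z : X) (hz : z ∈ W), IsGen L eL z hz) ∧ (∀ (z : X) (hz : z ∈ W), IsGen N eN z hz) ∧
      vL = a • L.presheaf.germ W ξ (spz_mem h hx) eL ∧
      vN = b • N.presheaf.germ W ξ (spz_mem h hx) eN ∧
      vT = c • (CohB1.tensorMod L N).presheaf.germ W ξ (spz_mem h hx)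
        (Groth.Agent.Helper13.Tensor.tmul L N eL eN) := by
    intro x h
    obtain ⟨W, hx, eL, eN, hgL, hgN⟩ := exists_gens' L N hL hN x
    obtain ⟨a, ha⟩ := (hgL _ (spz_mem h hx)).2 vL
    obtain ⟨b, hb⟩ := (hgN _ (spz_mem h hx)).2 vN
    obtain ⟨c, hc⟩ := (isGen_tmul' L N eL eN _ (spz_mem h hx) (hgL _ _) (hgN _ _)).2 vT
    exact ⟨W, hx, eL, eN, a, b, c, hgL, hgN, ha.symm, hb.symm, hc.symm⟩
  obtain ⟨W₀, hξ₀, eL₀, eN₀, a₀, b₀, c₀, hgL₀, hgN₀, hL₀, hN₀, hT₀⟩ := loc ξ specializes_rfl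
  have hgT₀ := isGen_tmul' L N eL₀ eN₀ ξ hξ₀ (hgL₀ _ _) (hgN₀ _ _)
  have ha₀ : (X.residue ξ).hom a₀ ≠ 0 :=
    residue_ne_zero_of_mk_ne_zero L ξ _ (hgL₀ ξ hξ₀) a₀ (by rw [← hL₀]; exact hsL)
  have hb₀ : (X.residue ξ).hom b₀ ≠ 0 :=
    residue_ne_zero_of_mk_ne_zero N ξ _ (hgN₀ ξ hξ₀) b₀ (by rw [← hN₀]; exact hsN)
  have hc₀ : (X.residue ξ).hom c₀ ≠ 0 :=
    residue_ne_zero_of_mk_ne_zero (CohB1.tensorMod L N) ξ _ hgT₀ c₀ (by rw [← hT₀]; exact hsT)
  refine ⟨(X.residue ξ).hom a₀ * (X.residue ξ).hom b₀ / (X.residue ξ).hom c₀,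
    div_ne_zero (mul_ne_zero ha₀ hb₀) hc₀, ?_⟩
  intro x h
  obtain ⟨W, hx, eL, eN, a, b, c, hgL, hgN, hL1, hN1, hT1⟩ := loc x h
  have hξW : ξ ∈ W := spz_mem h hx
  have hgT := isGen_tmul' L N eL eN ξ hξW (hgL _ _) (hgN _ _)
  have ha : (X.residue ξ).hom a ≠ 0 :=
    residue_ne_zero_of_mk_ne_zero L ξ _ (hgL ξ hξW) a (by rw [← hL1]; exact hsL)
  have hb : (X.residue ξ).hom b ≠ 0 :=
    residue_ne_zero_of_mk_ne_zero N ξ _ (hgN ξ hξW) b (by rw [← hN1]; exact hsN)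
  have hc : (X.residue ξ).hom c ≠ 0 :=
    residue_ne_zero_of_mk_ne_zero (CohB1.tensorMod L N) ξ _ hgT c (by rw [← hT1]; exact hsT)
  have hratio : (X.residue ξ).hom a₀ * (X.residue ξ).hom b₀ / (X.residue ξ).hom c₀ =
      (X.residue ξ).hom a * (X.residue ξ).hom b / (X.residue ξ).hom c := by
    refine ratio_indep L N ξ (L.presheaf.germ W₀ ξ hξ₀ eL₀) (L.presheaf.germ W ξ hξW eL)
      (N.presheaf.germ W₀ ξ hξ₀ eN₀) (N.presheaf.germ W ξ hξW eN) (hgL₀ ξ hξ₀) (hgN₀ ξ hξ₀)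
      a₀ a b₀ b c₀ c ?_ ?_ ?_ ?_ ?_ ?_
    · rw [← hL₀, ← hL1]
    · rw [← hL₀]; exact hsL
    · rw [← hN₀, ← hN1]
    · rw [← hN₀]; exact hsN
    · rw [Groth.Agent.Helper13.Tensor.stalkTensorEquiv_germ,
        Groth.Agent.Helper13.Tensor.stalkTensorEquiv_germ, ← hT₀, ← hT1]
    · rw [Groth.Agent.Helper13.Tensor.stalkTensorEquiv_germ, ← hT₀]; exact hsT
  rw [hratio]
  have e1 := secOrdAt_of_isGen' L h hx eL (hgL x hx) (hgL ξ hξW) a
  have e2 := secOrdAt_of_isGen' N h hx eN (hgN x hx) (hgN ξ hξW) b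
  have e3 := secOrdAt_of_isGen' (CohB1.tensorMod L N) h hx
    (Groth.Agent.Helper13.Tensor.tmul L N eL eN)
    (isGen_tmul' L N eL eN x hx (hgL _ _) (hgN _ _)) hgT c
  rw [← hL1] at e1
  rw [← hN1] at e2
  rw [← hT1] at e3
  rw [e1, e2, e3]
  unfold Cyc.ordAt
  rw [ordFrac_div' _ _ (mul_ne_zero ha hb) hc, ordFrac_mul' _ _ ha hb]

/-- `c₁(L) ∩ α + c₁(N) ∩ α` is rationally equivalent to `c₁(L ⊗ N) ∩ α`. -/
theorem main_c1_tensor (X : Scheme.{u}) (δ : X → ℤ) (L N : X.Modules)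
    (hL : PicF.IsInvertible L) (hN : PicF.IsInvertible N) (k : ℤ) (α : AlgebraicCycle X ℤ)
    (hα : α ∈ Cyc.Zk X δ (k + 1))
    (sL : (ξ : X) → Cyc.secFibre L ξ) (hsL : ∀ ξ, sL ξ ≠ 0)
    (sN : (ξ : X) → Cyc.secFibre N ξ) (hsN : ∀ ξ, sN ξ ≠ 0)
    (sT : (ξ : X) → Cyc.secFibre (CohB1.tensorMod L N) ξ) (hsT : ∀ ξ, sT ξ ≠ 0)
    (γL γN γT : AlgebraicCycle X ℤ) (hγL : ⇑γL = Cyc.c1CapFun δ L ⇑α sL)
    (hγN : ⇑γN = Cyc.c1CapFun δ N ⇑α sN)
    (hγT : ⇑γT = Cyc.c1CapFun δ (CohB1.tensorMod L N) ⇑α sT) :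
    Cyc.RatEquiv δ k (γL + γN) γT := by
  classical
  have hex := fun ξ => exists_ratio L N hL hN ξ (sL ξ) (hsL ξ) (sN ξ) (hsN ξ) (sT ξ) (hsT ξ)
  choose f hf0 hf using hex
  show Cyc.RatEquivZero δ k (γL + γN - γT)
  apply ratEquivZero_of_eq δ k α hα f hf0
  intro x
  have hfin : {ξ : X | α ξ ≠ 0 ∧ ξ ⤳ x}.Finite := by
    obtain ⟨t, ht, hfin⟩ := α.supportLocallyFiniteWithinDomain x (Set.mem_univ x)
    obtain ⟨U, hUt, hUo, hxU⟩ := mem_nhds_iff.mp ht
    refine hfin.subset ?_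
    rintro ξ ⟨hξ, hsp⟩
    exact ⟨hUt (hsp.mem_open hUo hxU), hξ⟩
  have hsd : ∀ (M : X.Modules) (s : (ξ : X) → Cyc.secFibre M ξ),
      Function.HasFiniteSupport (fun ξ : X => α ξ * Cyc.secDivFun δ M ξ (s ξ) x) := by
    intro M s
    refine hfin.subset ?_
    intro ξ hξ
    refine ⟨fun h0 => hξ (by show α ξ * _ = 0; rw [h0, zero_mul]), ?_⟩
    by_contra hsp
    apply hξ
    show α ξ * Cyc.secDivFun δ M ξ (s ξ) x = 0
    unfold Cyc.secDivFun
    rw [dif_neg (fun h => hsp h.1), mul_zero]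
  have hLN : Function.HasFiniteSupport (fun ξ : X => α ξ * Cyc.secDivFun δ L ξ (sL ξ) x +
      α ξ * Cyc.secDivFun δ N ξ (sN ξ) x) := by
    refine ((hsd L sL).union (hsd N sN)).subset ?_
    intro ξ hξ
    by_contra hnot
    rw [Set.mem_union, not_or] at hnot
    apply hξ
    have h1 : α ξ * Cyc.secDivFun δ L ξ (sL ξ) x = 0 := by
      by_contra h
      exact hnot.1 h
    have h2 : α ξ * Cyc.secDivFun δ N ξ (sN ξ) x = 0 := by
      by_contra h
      exact hnot.2 h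
    show α ξ * Cyc.secDivFun δ L ξ (sL ξ) x + α ξ * Cyc.secDivFun δ N ξ (sN ξ) x = 0
    rw [h1, h2, add_zero]
  have e1 := finsum_add_distrib (hsd L sL) (hsd N sN)
  have e2 := finsum_sub_distrib hLN (hsd (CohB1.tensorMod L N) sT)
  have e3 : (∑ᶠ ξ : X, (α ξ * Cyc.secDivFun δ L ξ (sL ξ) x + α ξ * Cyc.secDivFun δ N ξ (sN ξ) x -
      α ξ * Cyc.secDivFun δ (CohB1.tensorMod L N) ξ (sT ξ) x)) =
      ∑ᶠ ξ : X, α ξ * Cyc.divFun δ ξ (f ξ) x := by
    refine finsum_congr (fun ξ => ?_)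
    rw [← mul_add, ← mul_sub]
    congr 1
    unfold Cyc.secDivFun Cyc.divFun
    by_cases h : ξ ⤳ x ∧ δ x + 1 = δ ξ
    · rw [dif_pos h, dif_pos h, dif_pos h, dif_pos h]
      exact hf ξ x h.1
    · rw [dif_neg h, dif_neg h, dif_neg h, dif_neg h]
      ring
  rw [Function.locallyFinsuppWithin.coe_sub, Function.locallyFinsuppWithin.coe_add,
    Pi.sub_apply, Pi.add_apply, hγL, hγN, hγT]
  show (∑ᶠ ξ : X, α ξ * Cyc.secDivFun δ L ξ (sL ξ) x) +
      (∑ᶠ ξ : X, α ξ * Cyc.secDivFun δ N ξ (sN ξ) x) -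
      (∑ᶠ ξ : X, α ξ * Cyc.secDivFun δ (CohB1.tensorMod L N) ξ (sT ξ) x) = _
  rw [← e1, ← e2]
  exact e3

end Groth.Agent.Lead.SecOrd
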