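import Groth.Agent.Lib.Lead.SecOrd17
import Groth.Agent.Lib.Lead.SecOrd11

/-!
# Principal divisors: transport along open immersions and local finiteness

* `ordFrac_ringEquiv`: `CycAlg.ordFrac` is invariant under compatible ring isomorphisms;
* `ordAt_openImmersion`: `Cyc.ordAt` is compatible with open immersions;
* `finite_support_divFun_affine`: the divisor of a nonzero rational function on the closure of a
  point of a locally Noetherian scheme has finite support on every affine open;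
* `main_restrict`: the localisation sequence for cycles modulo rational equivalence (exactness in
  the middle).
-/

set_option autoImplicit false
universe u v
open CategoryTheory CategoryTheory.Limits AlgebraicGeometry Opposite TopologicalSpace

namespace Groth.Agent.Lead.SecOrd

section Transport

variable {A A' : Type u} [CommRing A] [CommRing A'] {K K' : Type v} [Field K] [Field K']
  [Algebra A K] [Algebra A' K']

theorem ordFrac_zero' : CycAlg.ordFrac A K (0 : K) = 0 := by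
  by_cases h : IsNoetherianRing A ∧ Ring.KrullDimLE 1 A ∧ Nontrivial A ∧ IsFractionRing A K
  · obtain ⟨h1, h2, h3, h4⟩ := h
    have hi : Function.Injective (algebraMap A K) := IsFractionRing.injective A K
    haveI : IsDomain A := Function.Injective.isDomain (algebraMap A K) hi
    rw [Groth.Agent.Helper25.LatDet.ordFrac_unfold, map_zero]
    rfl
  · unfold CycAlg.ordFrac
    rw [dif_neg h]

theorem cond_of_ringEquiv (e : A ≃+* A') (eK : K ≃+* K')
    (hcomm : ∀ a, eK (algebraMap A K a) = algebraMap A' K' (e a))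
    (h : IsNoetherianRing A ∧ Ring.KrullDimLE 1 A ∧ Nontrivial A ∧ IsFractionRing A K) :
    IsNoetherianRing A' ∧ Ring.KrullDimLE 1 A' ∧ Nontrivial A' ∧ IsFractionRing A' K' := by
  obtain ⟨h1, h2, h3, h4⟩ := h
  have hi : Function.Injective (algebraMap A K) := IsFractionRing.injective A K
  haveI : IsDomain A := Function.Injective.isDomain (algebraMap A K) hi
  have hcomm' : ∀ a', algebraMap A' K' a' = eK (algebraMap A K (e.symm a')) := by
    intro a'
    rw [hcomm, RingEquiv.apply_symm_apply]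
  have hi' : Function.Injective (algebraMap A' K') := by
    intro x y hxy
    rw [hcomm', hcomm'] at hxy
    exact e.symm.injective (hi (eK.injective hxy))
  refine ⟨isNoetherianRing_of_ringEquiv A e, ?_, e.symm.surjective.nontrivial, ?_⟩
  · rw [Ring.krullDimLE_iff] at h2 ⊢
    rw [← ringKrullDim_eq_of_ringEquiv e]
    exact h2
  · haveI : FaithfulSMul A' K' := (faithfulSMul_iff_algebraMap_injective A' K').mpr hi'
    refine IsFractionRing.of_field (R := A') (K := K') ?_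
    intro z
    obtain ⟨a, b, hb, hab⟩ := IsFractionRing.div_surjective (A := A) (eK.symm z)
    refine ⟨e a, e b, ?_⟩
    rw [← hcomm, ← hcomm, ← map_div₀, hab, RingEquiv.apply_symm_apply]

theorem ordFrac_ringEquiv (e : A ≃+* A') (eK : K ≃+* K')
    (hcomm : ∀ a, eK (algebraMap A K a) = algebraMap A' K' (e a)) (g : K) :
    CycAlg.ordFrac A' K' (eK g) = CycAlg.ordFrac A K g := by
  by_cases h : IsNoetherianRing A ∧ Ring.KrullDimLE 1 A ∧ Nontrivial A ∧ IsFractionRing A K
  · have h' := cond_of_ringEquiv e eK hcomm h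
    obtain ⟨h1, h2, h3, h4⟩ := h
    obtain ⟨h1', h2', h3', h4'⟩ := h'
    have hi : Function.Injective (algebraMap A K) := IsFractionRing.injective A K
    haveI : IsDomain A := Function.Injective.isDomain (algebraMap A K) hi
    have hi' : Function.Injective (algebraMap A' K') := IsFractionRing.injective A' K'
    haveI : IsDomain A' := Function.Injective.isDomain (algebraMap A' K') hi'
    by_cases hg : g = 0
    · subst hg
      rw [map_zero, ordFrac_zero', ordFrac_zero']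
    · obtain ⟨a, b, hb, hab⟩ := IsFractionRing.div_surjective (A := A) g
      have hb0 : b ≠ 0 := nonZeroDivisors.ne_zero hb
      have ha0 : a ≠ 0 := by
        rintro rfl
        apply hg
        rw [← hab, map_zero, zero_div]
      have hea0 : e a ≠ 0 := fun h0 => ha0 (e.injective (by rw [h0, map_zero]))
      have heb0 : e b ≠ 0 := fun h0 => hb0 (e.injective (by rw [h0, map_zero]))
      rw [← hab, map_div₀, hcomm, hcomm,
        ordFrac_div' _ _ ((map_ne_zero_iff _ hi').mpr hea0) ((map_ne_zero_iff _ hi').mpr heb0),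
        ordFrac_div' _ _ ((map_ne_zero_iff _ hi).mpr ha0) ((map_ne_zero_iff _ hi).mpr hb0),
        Groth.Agent.Helper25.LatDet.ordFrac_algebraMap (A := A') (K := K') hea0,
        Groth.Agent.Helper25.LatDet.ordFrac_algebraMap (A := A') (K := K') heb0,
        Groth.Agent.Helper25.LatDet.ordFrac_algebraMap (A := A) (K := K) ha0,
        Groth.Agent.Helper25.LatDet.ordFrac_algebraMap (A := A) (K := K) hb0,
        ord_ringEquiv, ord_ringEquiv]
  · have h' : ¬ (IsNoetherianRing A' ∧ Ring.KrullDimLE 1 A' ∧ Nontrivial A' ∧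
        IsFractionRing A' K') := by
      intro h'
      apply h
      refine cond_of_ringEquiv e.symm eK.symm ?_ h'
      intro a'
      apply eK.injective
      rw [RingEquiv.apply_symm_apply, hcomm, RingEquiv.apply_symm_apply]
    unfold CycAlg.ordFrac
    rw [dif_neg h, dif_neg h']

end Transport

theorem ordAt_openImmersion {U' X : Scheme.{u}} (j : U' ⟶ X) [IsOpenImmersion j] (u ξ : U')
    (h : ξ ⤳ u) (h' : j ξ ⤳ j u) (g : X.residueField (j ξ)) :
    Cyc.ordAt u ξ h ((j.residueFieldMap ξ).hom g) = Cyc.ordAt (j u) (j ξ) h' g := by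
  unfold Cyc.ordAt
  obtain ⟨e₀, he₀⟩ : ∃ e₀ : X.presheaf.stalk (j u) ≃+* U'.presheaf.stalk u,
      ∀ x, e₀ x = (j.stalkMap u).hom x :=
    ⟨(asIso (j.stalkMap u)).commRingCatIsoToRingEquiv, fun _ => rfl⟩
  obtain ⟨eK, heK⟩ : ∃ eK : X.residueField (j ξ) ≃+* U'.residueField ξ,
      ∀ x, eK x = (j.residueFieldMap ξ).hom x :=
    ⟨(asIso (j.residueFieldMap ξ)).commRingCatIsoToRingEquiv, fun _ => rfl⟩
  have hsq : ∀ x : X.presheaf.stalk (j u),
      eK (Cyc.specMap (j u) (j ξ) h' x) = Cyc.specMap u ξ h (e₀ x) := by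
    intro x
    rw [heK, he₀]
    show (j.residueFieldMap ξ).hom ((X.residue (j ξ)).hom ((X.presheaf.stalkSpecializes h').hom x)) =
      (U'.residue ξ).hom ((U'.presheaf.stalkSpecializes h).hom ((j.stalkMap u).hom x))
    have h2 : (j.stalkMap ξ).hom ((X.presheaf.stalkSpecializes h').hom x) =
        (U'.presheaf.stalkSpecializes h).hom ((j.stalkMap u).hom x) :=
      AlgebraicGeometry.Scheme.Hom.stalkSpecializes_stalkMap_apply j ξ u h x
    rw [← h2]
    have h1 := congrArg (fun φ => φ.hom ((X.presheaf.stalkSpecializes h').hom x))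
      (AlgebraicGeometry.Scheme.residue_residueFieldMap j ξ)
    exact h1
  have hker : RingHom.ker (Cyc.specMap u ξ h) =
      (RingHom.ker (Cyc.specMap (j u) (j ξ) h')).map
        (e₀ : X.presheaf.stalk (j u) →+* U'.presheaf.stalk u) := by
    apply le_antisymm
    · intro y hy
      have hy' : e₀.symm y ∈ RingHom.ker (Cyc.specMap (j u) (j ξ) h') := by
        rw [RingHom.mem_ker] at hy ⊢
        apply eK.injective
        rw [hsq, e₀.apply_symm_apply, hy, map_zero]
      have h3 := Ideal.mem_map_of_mem (e₀ : X.presheaf.stalk (j u) →+* U'.presheaf.stalk u) hy'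
      rw [RingEquiv.coe_toRingHom, e₀.apply_symm_apply] at h3
      exact h3
    · rw [Ideal.map_le_iff_le_comap]
      intro x hx
      rw [Ideal.mem_comap, RingHom.mem_ker] at *
      rw [RingEquiv.coe_toRingHom, ← hsq, hx, map_zero]
  obtain ⟨e, he⟩ : ∃ e : Cyc.LocQuot (j u) (j ξ) h' ≃+* Cyc.LocQuot u ξ h,
      ∀ x, e (Ideal.Quotient.mk _ x) = Ideal.Quotient.mk _ (e₀ x) :=
    ⟨Ideal.quotientEquiv _ _ e₀ hker, fun x => Ideal.quotientEquiv_mk _ _ e₀ hker x⟩
  have hcomm : ∀ a, eK (algebraMap (Cyc.LocQuot (j u) (j ξ) h') (X.residueField (j ξ)) a) =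
      algebraMap (Cyc.LocQuot u ξ h) (U'.residueField ξ) (e a) := by
    intro a
    obtain ⟨x, rfl⟩ := Ideal.Quotient.mk_surjective a
    rw [he]
    exact hsq x
  have hfinal := ordFrac_ringEquiv e eK hcomm g
  rw [heK] at hfinal
  exact hfinal

variable {X : Scheme.{u}}

theorem primeIdealOf_le_iff {V : X.Opens} (hV : IsAffineOpen V) {y z : X} (hy : y ∈ V)
    (hz : z ∈ V) :
    (hV.primeIdealOf ⟨y, hy⟩).asIdeal ≤ (hV.primeIdealOf ⟨z, hz⟩).asIdeal ↔ y ⤳ z := by
  have h1 : (hV.primeIdealOf ⟨y, hy⟩).asIdeal ≤ (hV.primeIdealOf ⟨z, hz⟩).asIdeal ↔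
      hV.primeIdealOf ⟨y, hy⟩ ⤳ hV.primeIdealOf ⟨z, hz⟩ :=
    PrimeSpectrum.le_iff_specializes _ _
  have h2 := (hV.fromSpec.isOpenEmbedding.isInducing.specializes_iff
    (x := hV.primeIdealOf ⟨y, hy⟩) (y := hV.primeIdealOf ⟨z, hz⟩))
  rw [hV.fromSpec_primeIdealOf, hV.fromSpec_primeIdealOf] at h2
  exact h1.trans h2.symm

theorem isUnit_germ_iff {V : X.Opens} (hV : IsAffineOpen V) {y : X} (hy : y ∈ V) (c : Γ(X, V)) :
    IsUnit (X.presheaf.germ V y hy c) ↔ c ∉ (hV.primeIdealOf ⟨y, hy⟩).asIdeal := by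
  letI := TopCat.Presheaf.algebra_section_stalk X.presheaf (⟨y, hy⟩ : V)
  haveI := hV.isLocalization_stalk ⟨y, hy⟩
  exact IsLocalization.AtPrime.isUnit_to_map_iff (X.presheaf.stalk y)
    (hV.primeIdealOf ⟨y, hy⟩).asIdeal c

theorem finite_immediate_not_unit [IsLocallyNoetherian X] (δ : X → ℤ) (hδ : Cyc.IsDimFun X δ)
    (ξ : X) {V : X.Opens} (hV : IsAffineOpen V) (hξV : ξ ∈ V) (c : Γ(X, V))
    (hc : IsUnit (X.presheaf.germ V ξ hξV c)) :
    {y : X | ∃ hy : y ∈ V, ξ ⤳ y ∧ δ y + 1 = δ ξ ∧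
      ¬ IsUnit (X.presheaf.germ V y hy c)}.Finite := by
  classical
  haveI : IsNoetherianRing Γ(X, V) := IsLocallyNoetherian.component_noetherian ⟨V, hV⟩
  obtain ⟨P, hP⟩ : ∃ P, P = (hV.primeIdealOf ⟨ξ, hξV⟩).asIdeal := ⟨_, rfl⟩
  have hcP : c ∉ P := by
    rw [hP]
    exact (isUnit_germ_iff hV hξV c).mp hc
  let g : X → Ideal Γ(X, V) := fun y =>
    if hy : y ∈ V then (hV.primeIdealOf ⟨y, hy⟩).asIdeal else ⊤
  refine Set.Finite.of_injOn (f := g) (t := (P ⊔ Ideal.span {c}).minimalPrimes) ?_ ?_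
    (Ideal.finite_minimalPrimes_of_isNoetherianRing _ _)
  · rintro y ⟨hy, hsp, hdim, hnu⟩
    simp only [g, dif_pos hy]
    have hcQ : c ∈ (hV.primeIdealOf ⟨y, hy⟩).asIdeal := by
      by_contra hcQ
      exact hnu ((isUnit_germ_iff hV hy c).mpr hcQ)
    have hPQ : P ≤ (hV.primeIdealOf ⟨y, hy⟩).asIdeal := by
      rw [hP]
      exact (primeIdealOf_le_iff hV hξV hy).mpr hsp
    refine ⟨⟨(hV.primeIdealOf ⟨y, hy⟩).isPrime,
      sup_le hPQ ((Ideal.span_singleton_le_iff_mem _).mpr hcQ)⟩, ?_⟩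
    rintro Q' ⟨hQ'p, hIQ'⟩ hQ'Q
    obtain ⟨z, hz⟩ : ∃ z : X, z = hV.fromSpec ⟨Q', hQ'p⟩ := ⟨_, rfl⟩
    have hzV : z ∈ V := by
      have h0 : z ∈ Set.range hV.fromSpec := by
        rw [hz]
        exact Set.mem_range_self _
      rw [hV.range_fromSpec] at h0
      exact h0
    have hpz : hV.primeIdealOf ⟨z, hzV⟩ = ⟨Q', hQ'p⟩ := by
      apply hV.fromSpec.isOpenEmbedding.injective
      rw [hV.fromSpec_primeIdealOf]
      exact hz
    have hQ'eq : (hV.primeIdealOf ⟨z, hzV⟩).asIdeal = Q' := by rw [hpz]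
    have hξz : ξ ⤳ z := by
      rw [← primeIdealOf_le_iff hV hξV hzV, hQ'eq, ← hP]
      exact le_trans le_sup_left hIQ'
    have hzy : z ⤳ y := by
      rw [← primeIdealOf_le_iff hV hzV hy, hQ'eq]
      exact hQ'Q
    have hcQ' : c ∈ Q' := hIQ' (Ideal.mem_sup_right (Ideal.mem_span_singleton_self c))
    have hne : ξ ≠ z := by
      intro h0
      apply hcP
      rw [hP]
      have h1 : (hV.primeIdealOf ⟨ξ, hξV⟩).asIdeal = (hV.primeIdealOf ⟨z, hzV⟩).asIdeal := by
        congr 2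
        exact Subtype.ext h0
      rw [h1, hQ'eq]
      exact hcQ'
    have h1 := (hδ ξ z hξz hne).1
    by_cases hzy' : z = y
    · have h2 : (hV.primeIdealOf ⟨y, hy⟩).asIdeal = (hV.primeIdealOf ⟨z, hzV⟩).asIdeal := by
        congr 2
        exact Subtype.ext hzy'.symm
      rw [h2, hQ'eq]
    · have h2 := (hδ z y hzy hzy').1
      omega
  · rintro y ⟨hy, -, -, -⟩ y' ⟨hy', -, -, -⟩ hyy'
    simp only [g, dif_pos hy, dif_pos hy'] at hyy'
    have h3 : hV.primeIdealOf ⟨y, hy⟩ = hV.primeIdealOf ⟨y', hy'⟩ := PrimeSpectrum.ext hyy'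
    have h1 := hV.fromSpec_primeIdealOf ⟨y, hy⟩
    have h2 := hV.fromSpec_primeIdealOf ⟨y', hy'⟩
    rw [h3] at h1
    exact h1.symm.trans h2

theorem finite_support_divFun_affine [IsLocallyNoetherian X] (δ : X → ℤ)
    (hδ : Cyc.IsDimFun X δ) (ξ : X) (f : X.residueField ξ) (hf : f ≠ 0) {V : X.Opens}
    (hV : IsAffineOpen V) :
    ((V : Set X) ∩ Function.support (Cyc.divFun δ ξ f)).Finite := by
  classical
  by_cases hξV : ξ ∈ V
  · letI := TopCat.Presheaf.algebra_section_stalk X.presheaf (⟨ξ, hξV⟩ : V)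
    haveI := hV.isLocalization_stalk ⟨ξ, hξV⟩
    obtain ⟨φ, hφ⟩ := X.residue_surjective ξ f
    have hφ' : (X.residue ξ).hom φ = f := hφ
    obtain ⟨⟨a, b⟩, hab⟩ := IsLocalization.surj (hV.primeIdealOf ⟨ξ, hξV⟩).asIdeal.primeCompl φ
    have hab' : φ * X.presheaf.germ V ξ hξV (b : Γ(X, V)) = X.presheaf.germ V ξ hξV a := hab
    have hbu : IsUnit (X.presheaf.germ V ξ hξV (b : Γ(X, V))) :=
      (isUnit_germ_iff hV hξV _).mpr b.2
    have hφu : IsUnit φ := by
      by_contra hnu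
      apply hf
      rw [← hφ']
      exact (IsLocalRing.residue_eq_zero_iff φ).mpr ((IsLocalRing.mem_maximalIdeal φ).mpr hnu)
    have hau : IsUnit (X.presheaf.germ V ξ hξV a) := by
      rw [← hab']
      exact hφu.mul hbu
    have hfin := (finite_immediate_not_unit δ hδ ξ hV hξV a hau).union
      (finite_immediate_not_unit δ hδ ξ hV hξV (b : Γ(X, V)) hbu)
    refine hfin.subset ?_
    rintro y ⟨hyV, hy⟩
    by_contra hnot
    apply hy
    show Cyc.divFun δ ξ f y = 0
    unfold Cyc.divFun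
    by_cases h : ξ ⤳ y ∧ δ y + 1 = δ ξ
    · rw [dif_pos h]
      have hua : IsUnit (X.presheaf.germ V y hyV a) := by
        by_contra hn
        exact hnot (Or.inl ⟨hyV, h.1, h.2, hn⟩)
      have hub : IsUnit (X.presheaf.germ V y hyV (b : Γ(X, V))) := by
        by_contra hn
        exact hnot (Or.inr ⟨hyV, h.1, h.2, hn⟩)
      have e1 : f * (X.residue ξ).hom (X.presheaf.germ V ξ hξV (b : Γ(X, V))) =
          (X.residue ξ).hom (X.presheaf.germ V ξ hξV a) := by
        rw [← hφ', ← map_mul, hab']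
      rw [← specO_germ' h.1 hyV a, ← specO_germ' h.1 hyV (b : Γ(X, V)), residue_spec' h.1,
        residue_spec' h.1] at e1
      have e2 := ordFrac_mul_unit (A := Cyc.LocQuot y ξ h.1) f _
        (hub.map (Ideal.Quotient.mk (RingHom.ker (Cyc.specMap y ξ h.1))))
      have e3 := ordFrac_algebraMap_unit (A := Cyc.LocQuot y ξ h.1) (K := X.residueField ξ) _
        (hua.map (Ideal.Quotient.mk (RingHom.ker (Cyc.specMap y ξ h.1))))
      unfold Cyc.ordAt
      rw [← e2, e1, e3]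
    · rw [dif_neg h]
  · refine Set.Finite.subset Set.finite_empty ?_
    rintro y ⟨hyV, hy⟩
    exfalso
    apply hy
    show Cyc.divFun δ ξ f y = 0
    unfold Cyc.divFun
    rw [dif_neg]
    rintro ⟨hsp, -⟩
    exact hξV (hsp.mem_open V.isOpen hyV)

theorem finite_mem_affine_of_locallyFinite [IsLocallyNoetherian X] (U : X.Opens) {ι : Type*}
    (ξ : ι → (↑U : Scheme.{u}))
    (hlf : ∀ x : (↑U : Scheme.{u}), ∃ W : Set (↑U : Scheme.{u}), IsOpen W ∧ x ∈ W ∧
      {i | (closure {ξ i} ∩ W).Nonempty}.Finite)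
    {V : X.Opens} (hV : IsAffineOpen V) : {i | U.ι (ξ i) ∈ V}.Finite := by
  classical
  have hc : IsCompact ((V : Set X) ∩ U) := by
    apply (noetherianSpace_set_iff (V : Set X)).mp
    · convert! noetherianSpace_of_isAffineOpen V hV
      apply IsLocallyNoetherian.component_noetherian ⟨V, hV⟩
    · exact Set.inter_subset_left
  have hcK : IsCompact (U.ι ⁻¹' ((V : Set X) ∩ U)) := by
    apply U.ι.isOpenEmbedding.isInducing.isCompact_preimage' hc
    rw [Scheme.Opens.range_ι]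
    exact Set.inter_subset_right
  choose W hWo huW hWfin using hlf
  obtain ⟨t, ht⟩ := hcK.elim_nhds_subcover' (fun u _ => W u)
    (fun u _ => (hWo u).mem_nhds (huW u))
  refine Set.Finite.subset (t.finite_toSet.biUnion (fun u _ => hWfin u.1)) ?_
  intro i hi
  have hi' : ξ i ∈ U.ι ⁻¹' ((V : Set X) ∩ U) := by
    refine ⟨hi, ?_⟩
    have : U.ι (ξ i) ∈ Set.range U.ι := Set.mem_range_self _
    rw [Scheme.Opens.range_ι] at this
    exact this
  obtain ⟨u, hut, hu⟩ := Set.mem_iUnion₂.mp (ht hi')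
  exact Set.mem_iUnion₂.mpr ⟨u, Finset.mem_coe.mpr hut,
    ⟨ξ i, subset_closure (Set.mem_singleton _), hu⟩⟩

theorem exists_affine_nhd (x : X) : ∃ V : X.Opens, IsAffineOpen V ∧ x ∈ V := by
  obtain ⟨V, hV, hxV, -⟩ := Opens.isBasis_iff_nbhd.mp X.isBasis_affineOpens
    (show x ∈ (⊤ : X.Opens) from trivial)
  exact ⟨V, hV, hxV⟩

/-- Exactness in the middle of the localisation sequence for cycles modulo rational
equivalence. -/
theorem main_restrict (X : Scheme.{u}) (δ : X → ℤ) (hX : Cyc.IsSetup X δ) (U : X.Opens) (k : ℤ)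
    (α β : AlgebraicCycle X ℤ) (hα : α ∈ Cyc.Zk X δ k) (hβ : β ∈ Cyc.Zk X δ k)
    (αU βU : AlgebraicCycle (↑U : Scheme.{u}) ℤ) (hαU : ∀ u : ↥U, αU u = α (U.ι u))
    (hβU : ∀ u : ↥U, βU u = β (U.ι u))
    (h : Cyc.RatEquiv (fun u : ↥U => δ (U.ι u)) k αU βU) :
    ∃ γ : AlgebraicCycle X ℤ, γ ∈ Cyc.Zk X δ k ∧ (∀ x : X, x ∈ U → γ x = 0) ∧
      Cyc.RatEquiv δ k α (β + γ) := by
  classical
  obtain ⟨hN, -, hδ⟩ := hX
  haveI := hN
  obtain ⟨ι, ξ, f, hξδ, hf0, hlf, hsum⟩ := h
  have hex : ∀ i, ∃ f' : X.residueField (U.ι (ξ i)),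
      (U.ι.residueFieldMap (ξ i)).hom f' = f i := by
    intro i
    refine ⟨(asIso (U.ι.residueFieldMap (ξ i))).commRingCatIsoToRingEquiv.symm (f i), ?_⟩
    exact (asIso (U.ι.residueFieldMap (ξ i))).commRingCatIsoToRingEquiv.apply_symm_apply (f i)
  choose f' hf' using hex
  have hf'0 : ∀ i, f' i ≠ 0 := fun i h0 => hf0 i (by rw [← hf' i, h0, map_zero])
  have hdiv : ∀ i (u : (↑U : Scheme.{u})),
      Cyc.divFun (fun u : ↥U => δ (U.ι u)) (ξ i) (f i) u =
        Cyc.divFun δ (U.ι (ξ i)) (f' i) (U.ι u) := by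
    intro i u
    unfold Cyc.divFun
    have hspz : U.ι (ξ i) ⤳ U.ι u ↔ ξ i ⤳ u :=
      U.ι.isOpenEmbedding.isInducing.specializes_iff
    by_cases hc : ξ i ⤳ u ∧ δ (U.ι u) + 1 = δ (U.ι (ξ i))
    · have hc' : U.ι (ξ i) ⤳ U.ι u ∧ δ (U.ι u) + 1 = δ (U.ι (ξ i)) := ⟨hspz.mpr hc.1, hc.2⟩
      rw [dif_pos hc, dif_pos hc', ← hf' i]
      exact ordAt_openImmersion U.ι u (ξ i) hc.1 hc'.1 (f' i)
    · have hc' : ¬ (U.ι (ξ i) ⤳ U.ι u ∧ δ (U.ι u) + 1 = δ (U.ι (ξ i))) :=
        fun h' => hc ⟨hspz.mp h'.1, h'.2⟩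
      rw [dif_neg hc, dif_neg hc']
  have hVfin : ∀ (V : X.Opens), IsAffineOpen V → {i | U.ι (ξ i) ∈ V}.Finite :=
    fun V hV => finite_mem_affine_of_locallyFinite U ξ hlf hV
  obtain ⟨D, hD⟩ : ∃ D : X → ℤ, D = fun x => ∑ᶠ i, Cyc.divFun δ (U.ι (ξ i)) (f' i) x :=
    ⟨_, rfl⟩
  have hDsupp : ∀ z ∈ (Set.univ : Set X), ∃ t ∈ nhds z, Set.Finite (t ∩ Function.support D) := by
    intro z _
    obtain ⟨V, hV, hzV⟩ := exists_affine_nhd z
    refine ⟨V, V.isOpen.mem_nhds hzV, ?_⟩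
    refine Set.Finite.subset ((hVfin V hV).biUnion (fun i _ =>
      finite_support_divFun_affine δ hδ (U.ι (ξ i)) (f' i) (hf'0 i) hV)) ?_
    rintro y ⟨hyV, hy⟩
    have hex : ∃ i, Cyc.divFun δ (U.ι (ξ i)) (f' i) y ≠ 0 := by
      by_contra hall
      push Not at hall
      apply hy
      show D y = 0
      rw [hD]
      exact finsum_eq_zero_of_forall_eq_zero hall
    obtain ⟨i, hi⟩ := hex
    have hiV : U.ι (ξ i) ∈ V := by
      by_contra hnV
      apply hi
      unfold Cyc.divFun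
      rw [dif_neg]
      rintro ⟨hsp, -⟩
      exact hnV (hsp.mem_open V.isOpen hyV)
    exact Set.mem_iUnion₂.mpr ⟨i, hiV, hyV, hi⟩
  obtain ⟨Dc, hDc⟩ : ∃ Dc : AlgebraicCycle X ℤ, ∀ x, Dc x = D x :=
    ⟨{ toFun := D, supportWithinDomain' := Set.subset_univ _,
       supportLocallyFiniteWithinDomain' := hDsupp }, fun _ => rfl⟩
  have hDzk : ∀ x, δ x ≠ k → D x = 0 := by
    intro x hx
    rw [hD]
    apply finsum_eq_zero_of_forall_eq_zero
    intro i
    unfold Cyc.divFun
    by_cases hc : U.ι (ξ i) ⤳ x ∧ δ x + 1 = δ (U.ι (ξ i))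
    · exfalso
      apply hx
      have h1 : δ (U.ι (ξ i)) = k + 1 := hξδ i
      omega
    · rw [dif_neg hc]
  refine ⟨α - β - Dc, ?_, ?_, ?_⟩
  · intro x hx
    rw [Function.locallyFinsuppWithin.coe_sub, Function.locallyFinsuppWithin.coe_sub,
      Pi.sub_apply, Pi.sub_apply, hα x hx, hβ x hx, hDc, hDzk x hx]
    ring
  · intro x hxU
    obtain ⟨u, rfl⟩ : ∃ u : (↑U : Scheme.{u}), U.ι u = x := by
      have : x ∈ Set.range U.ι := by
        rw [Scheme.Opens.range_ι]
        exact hxU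
      exact this
    have h1 := hsum u
    rw [Function.locallyFinsuppWithin.coe_sub, Pi.sub_apply, hαU, hβU] at h1
    have h2 : D (U.ι u) =
        ∑ᶠ i, Cyc.divFun (fun u : ↥U => δ (U.ι u)) (ξ i) (f i) u := by
      rw [hD]
      exact finsum_congr (fun i => (hdiv i u).symm)
    rw [Function.locallyFinsuppWithin.coe_sub, Function.locallyFinsuppWithin.coe_sub,
      Pi.sub_apply, Pi.sub_apply, hDc, h2, ← h1]
    ring
  · show Cyc.RatEquivZero δ k (α - (β + (α - β - Dc)))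
    have hDc' : α - (β + (α - β - Dc)) = Dc := by abel
    rw [hDc']
    refine ⟨ι, fun i => U.ι (ξ i), f', hξδ, hf'0, ?_, ?_⟩
    · intro x
      obtain ⟨V, hV, hxV⟩ := exists_affine_nhd x
      refine ⟨V, V.isOpen, hxV, (hVfin V hV).subset ?_⟩
      rintro i ⟨z, hz, hzV⟩
      exact (specializes_iff_mem_closure.mpr hz).mem_open V.isOpen hzV
    · intro x
      rw [hDc, hD]

end Groth.Agent.Lead.SecOrd
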