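import Groth.Agent.Lib.Lead.SecOrd1

/-!
# Local finiteness of the divisor of a rational section of an invertible module
-/

set_option autoImplicit false
universe u v
open CategoryTheory CategoryTheory.Limits AlgebraicGeometry Opposite TopologicalSpace
open Groth.Agent.Helper13.Inv

namespace Groth.Agent.Lead.SecOrd

variable {X : Scheme.{u}} [IsIntegral X]

theorem finite_codim_one_not_unit [IsLocallyNoetherian X] {W : X.Opens} (hW : IsAffineOpen W)
    [Nonempty W] (a : Γ(X, W)) (ha : a ≠ 0) :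
    {x : X | ∃ hx : x ∈ W, ringKrullDim (X.presheaf.stalk x) = 1 ∧
      ¬ IsUnit (X.presheaf.germ W x hx a)}.Finite := by
  classical
  haveI : IsNoetherianRing Γ(X, W) := IsLocallyNoetherian.component_noetherian ⟨W, hW⟩
  let g : X → Ideal Γ(X, W) := fun x =>
    if hx : x ∈ W then (hW.primeIdealOf ⟨x, hx⟩).asIdeal else ⊤
  refine Set.Finite.of_injOn (f := g) (t := {p | p.IsPrime ∧ p.height = 1 ∧ a ∈ p}) ?_ ?_
    (finite_height_one_of_mem a ha)
  · rintro x ⟨hx, hdim, hnu⟩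
    simp only [g, dif_pos hx]
    letI := TopCat.Presheaf.algebra_section_stalk X.presheaf (⟨x, hx⟩ : W)
    haveI := hW.isLocalization_stalk ⟨x, hx⟩
    refine ⟨(hW.primeIdealOf ⟨x, hx⟩).isPrime, ?_, ?_⟩
    · have h1 := IsLocalization.AtPrime.ringKrullDim_eq_height (hW.primeIdealOf ⟨x, hx⟩).asIdeal
        (X.presheaf.stalk x)
      rw [hdim] at h1
      exact_mod_cast h1.symm
    · by_contra hmem
      apply hnu
      have h2 := (IsLocalization.AtPrime.isUnit_to_map_iff (X.presheaf.stalk x)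
        (hW.primeIdealOf ⟨x, hx⟩).asIdeal a).mpr hmem
      exact h2
  · rintro x ⟨hx, -, -⟩ x' ⟨hx', -, -⟩ hxx'
    simp only [g, dif_pos hx, dif_pos hx'] at hxx'
    have h1 := hW.fromSpec_primeIdealOf ⟨x, hx⟩
    have h2 := hW.fromSpec_primeIdealOf ⟨x', hx'⟩
    have h3 : hW.primeIdealOf ⟨x, hx⟩ = hW.primeIdealOf ⟨x', hx'⟩ := PrimeSpectrum.ext hxx'
    rw [h3] at h1
    exact h1.symm.trans h2

theorem main (X : Scheme.{u}) [IsIntegral X] [IsLocallyNoetherian X] (L : X.Modules)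
    (hL : PicF.IsInvertible L) (s : Cyc.secFibre L (genericPoint ↥X)) (hs : s ≠ 0) :
    LocallyFinite (fun x : {x : ↥X // ringKrullDim ↑(X.presheaf.stalk x) = 1 ∧
        Cyc.secOrdAt L (genericPoint ↥X) x
          ((genericPoint_spec ↥X).specializes (Set.mem_univ x)) s ≠ 0} =>
      closure ({x.1} : Set ↥X)) := by
  intro y
  obtain ⟨U₀, hyU₀, e₀, he₀⟩ := (isInvertible_iff_exists_isGen L).1 hL y
  obtain ⟨W, hW, hyW, hWU⟩ := Opens.isBasis_iff_nbhd.mp X.isBasis_affineOpens hyU₀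
  haveI : Nonempty W := ⟨⟨y, hyW⟩⟩
  obtain ⟨e, he⟩ : ∃ e : Γ(L, W), e = L.presheaf.map (homOfLE hWU).op e₀ := ⟨_, rfl⟩
  have hgen : ∀ (z : X) (hz : z ∈ W), IsGen L e z hz := fun z hz => by
    rw [he]
    exact (isGen_res L (homOfLE hWU) e₀ z hz).mpr (he₀ z (hWU hz))
  have hη : genericPoint X ∈ W := ExtDD.gen_mem hyW
  obtain ⟨s', rfl⟩ := Submodule.Quotient.mk_surjective _ s
  obtain ⟨φ₀, hφ₀⟩ := (hgen _ hη).2 s'
  have hφ₀' : φ₀ • L.presheaf.germ W (genericPoint X) hη e = s' := hφ₀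
  haveI := functionField_isFractionRing_of_isAffineOpen X W hW
  obtain ⟨a, b, hb, hab⟩ := IsFractionRing.div_surjective (A := Γ(X, W)) (φ₀ : X.functionField)
  have hb0 : b ≠ 0 := nonZeroDivisors.ne_zero hb
  have ha0 : a ≠ 0 := by
    rintro rfl
    apply hs
    rw [map_zero, zero_div] at hab
    rw [← hφ₀', ← hab, zero_smul]
    rfl
  have hA : ∀ c : Γ(X, W), algebraMap Γ(X, W) X.functionField c =
      X.presheaf.germ W (genericPoint X) hη c := fun c => rfl
  have hB : algebraMap Γ(X, W) X.functionField b ≠ 0 := by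
    rw [hA]
    intro h0
    apply hb0
    apply germ_injective_of_isIntegral X (genericPoint X) hη
    rw [h0, map_zero]
  refine ⟨W, W.2.mem_nhds hyW, ?_⟩
  have hfin := (finite_codim_one_not_unit hW a ha0).union (finite_codim_one_not_unit hW b hb0)
  refine Set.Finite.of_injOn (f := fun i => i.1) ?_ (Subtype.val_injective.injOn) hfin
  rintro ⟨x, hdim, hord⟩ ⟨z, hz, hzW⟩
  have hz' : z ∈ closure ({x} : Set X) := hz
  have hxW : x ∈ W := (specializes_iff_mem_closure.mpr hz').mem_open W.2 hzW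
  by_contra hnot
  apply hord
  have hua : IsUnit (X.presheaf.germ W x hxW a) := by
    by_contra h
    exact hnot (Or.inl ⟨hxW, hdim, h⟩)
  have hub : IsUnit (X.presheaf.germ W x hxW b) := by
    by_contra h
    exact hnot (Or.inr ⟨hxW, hdim, h⟩)
  obtain ⟨ub, hub'⟩ := hub
  obtain ⟨w, hw⟩ : ∃ w : X.presheaf.stalk x, w = X.presheaf.germ W x hxW a * ↑ub⁻¹ := ⟨_, rfl⟩
  have hwu : IsUnit w := by
    rw [hw]
    exact hua.mul (Units.isUnit _)
  have hwb : w * X.presheaf.germ W x hxW b = X.presheaf.germ W x hxW a := by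
    rw [hw, ← hub', mul_assoc, Units.inv_mul, mul_one]
  have hspec : (X.presheaf.stalkSpecializes (ExtDD.gen_spz x)).hom w = φ₀ := by
    have h1 : (X.presheaf.stalkSpecializes (ExtDD.gen_spz x)).hom w *
        algebraMap Γ(X, W) X.functionField b = algebraMap Γ(X, W) X.functionField a := by
      rw [hA, hA, ← ExtDD.specO_germ x hxW b, ← ExtDD.specO_germ x hxW a, ← map_mul, hwb]
    rw [← hab]
    exact (eq_div_iff hB).mpr h1
  have hfinal := secOrdAt_eq_zero_of_isUnit L x hxW e (hgen x hxW) (hgen _ hη) w hwu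
    ((genericPoint_spec ↥X).specializes (Set.mem_univ x))
  rw [hspec, hφ₀'] at hfinal
  exact hfinal

end Groth.Agent.Lead.SecOrd
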