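import Groth.Agent.Lib.Lead.SecOrd20
import Groth.Agent.S1861

/-!
# Flat pullback of principal divisors

For `f : X ⟶ Y` flat, locally of finite type, of relative dimension `r`, `Y` integral and `g` a
nonzero rational function on `Y`: `f^* div(g) = Σ_ξ length(O_{X,ξ}) · div(g|_ξ)`, the sum over the
generic points `ξ` of `X` (`main_pull`), and its special case for integral `X`
(`main_pull_integral`).
-/

set_option autoImplicit false
universe u v
open CategoryTheory CategoryTheory.Limits AlgebraicGeometry Opposite TopologicalSpace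
open scoped Pointwise

namespace Groth.Agent.Lead.SecOrd

/-- Every point of a quasi-sober `T₀` space is a specialization of a maximal point. -/
theorem exists_maximal_generization {T : Type*} [TopologicalSpace T] [QuasiSober T] [T0Space T]
    (x : T) : ∃ ξ : T, (∀ x' : T, x' ⤳ ξ → x' = ξ) ∧ ξ ⤳ x := by
  have hirr : IsIrreducible (irreducibleComponent x) := isIrreducible_irreducibleComponent
  have hcl : IsClosed (irreducibleComponent x) := isClosed_irreducibleComponent
  obtain ⟨ξ, hξ⟩ := QuasiSober.sober hirr hcl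
  have hdef : closure ({ξ} : Set T) = irreducibleComponent x := hξ.def
  refine ⟨ξ, ?_, ?_⟩
  · intro x' hx'
    have h1 : irreducibleComponent x ⊆ closure ({x'} : Set T) := by
      rw [← hdef]
      exact specializes_iff_closure_subset.mp hx'
    have h2 : closure ({x'} : Set T) = irreducibleComponent x :=
      eq_irreducibleComponent (isIrreducible_singleton.closure.isPreirreducible) h1
    have h3 : ξ ⤳ x' := by
      rw [specializes_iff_closure_subset, h2, hdef]
    exact (hx'.antisymm h3).eq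
  · rw [specializes_iff_mem_closure, hdef]
    exact mem_irreducibleComponent

/-- Below a bound on `δ`, every point has a generization in its fibre which is maximal there. -/
theorem exists_fibre_maximal {X Y : Scheme.{u}} (f : X ⟶ Y) (δX : X → ℤ)
    (hdX : Cyc.IsDimFun X δX) (N : ℤ) (hb : ∀ x' : X, δX x' ≤ N) (x : X) :
    ∃ x' : X, x' ⤳ x ∧ f x' = f x ∧
      ∀ x'' : X, f x'' ∈ closure ({f x'} : Set Y) → x'' ⤳ x' → x'' = x' := by
  obtain ⟨ub, ⟨x', hx'x, hfx', hδ'⟩, hub⟩ := Int.exists_greatest_of_bdd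
    (P := fun z => ∃ x' : X, x' ⤳ x ∧ f x' = f x ∧ δX x' = z)
    ⟨N, by rintro z ⟨x', -, -, rfl⟩; exact hb x'⟩ ⟨δX x, x, specializes_rfl, rfl, rfl⟩
  refine ⟨x', hx'x, hfx', ?_⟩
  intro x'' hcl hsp
  by_contra hne
  have h1 : f x' ⤳ f x'' := specializes_iff_mem_closure.mpr hcl
  have h2 : f x'' ⤳ f x' := hsp.map f.continuous
  have h3 : f x'' = f x := ((h2.antisymm h1).eq).trans hfx'
  have h4 := hub (δX x'') ⟨x'', hsp.trans hx'x, h3, rfl⟩
  have h5 := (hdX x'' x' hsp hne).1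
  omega

section Defs

open Classical

/-- The prime of `O_{X,x}` of a generization `ξ` of `x` (the closed point otherwise). -/
noncomputable def genPrime {X : Scheme.{u}} (x ξ : X) : PrimeSpectrum (X.presheaf.stalk x) :=
  if h : ξ ⤳ x then ⟨RingHom.ker (Cyc.specMap x ξ h), inferInstance⟩
  else IsLocalRing.closedPoint (X.presheaf.stalk x)

/-- `length(O_{X,ξ}) · ord_{O_{X,x}/𝔭_ξ}(f₀)` for a generization `ξ` of `x`. -/
noncomputable def genTerm {X : Scheme.{u}} (x : X) (f₀ : X.presheaf.stalk x) (ξ : X) : ℤ :=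
  if h : ξ ⤳ x then
    ((Module.length (X.presheaf.stalk ξ) (X.presheaf.stalk ξ)).toNat : ℤ) *
      ((Ring.ord (Cyc.LocQuot x ξ h)
        (Ideal.Quotient.mk (RingHom.ker (Cyc.specMap x ξ h)) f₀)).toNat : ℤ)
  else 0

end Defs

variable {X : Scheme.{u}}

theorem genPrime_eq {x ξ : X} (h : ξ ⤳ x) :
    genPrime x ξ = ⟨RingHom.ker (Cyc.specMap x ξ h), inferInstance⟩ := dif_pos h

theorem genTerm_eq {x ξ : X} (h : ξ ⤳ x) (f₀ : X.presheaf.stalk x) :
    genTerm x f₀ ξ = ((Module.length (X.presheaf.stalk ξ) (X.presheaf.stalk ξ)).toNat : ℤ) *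
      ((Ring.ord (Cyc.LocQuot x ξ h)
        (Ideal.Quotient.mk (RingHom.ker (Cyc.specMap x ξ h)) f₀)).toNat : ℤ) := dif_pos h

theorem ker_mem_minimalPrimes [IsLocallyNoetherian X] {x ξ : X}
    (hA : ringKrullDim (X.presheaf.stalk x) = 1) (h : ξ ⤳ x) (hne : ξ ≠ x) :
    RingHom.ker (Cyc.specMap x ξ h) ∈ minimalPrimes (X.presheaf.stalk x) := by
  by_contra hnm
  have h1 := Groth.Agent.Lib.Helper26.LenE.eq_maximal_of_not_minimal hA
    (⟨RingHom.ker (Cyc.specMap x ξ h), inferInstance⟩ :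
      PrimeSpectrum (X.presheaf.stalk x)) hnm
  exact hne ((ker_specMap_eq_maximalIdeal_iff h).mp h1)

theorem bijOn_genPrime [IsLocallyNoetherian X] (x : X)
    (hA : ringKrullDim (X.presheaf.stalk x) = 1) :
    Set.BijOn (genPrime x) {ξ : X | ξ ⤳ x ∧ ξ ≠ x}
      {q : PrimeSpectrum (X.presheaf.stalk x) |
        q.asIdeal ∈ minimalPrimes (X.presheaf.stalk x)} := by
  refine ⟨?_, ?_, ?_⟩
  · rintro ξ ⟨h, hne⟩
    show (genPrime x ξ).asIdeal ∈ minimalPrimes (X.presheaf.stalk x)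
    rw [genPrime_eq h]
    exact ker_mem_minimalPrimes hA h hne
  · rintro ξ ⟨h, -⟩ ξ' ⟨h', -⟩ hee
    rw [genPrime_eq h, genPrime_eq h'] at hee
    exact eq_of_ker_specMap_eq h h' (congrArg PrimeSpectrum.asIdeal hee)
  · intro q hq
    haveI := q.isPrime
    obtain ⟨ξ, h, hqξ⟩ :=
      Groth.Agent.Helper23.RegPull.exists_generization_of_isPrime X x q.asIdeal
    have hker : RingHom.ker (Cyc.specMap x ξ h) = q.asIdeal := by
      rw [ker_specMap h, ← hqξ]
    refine ⟨ξ, ⟨h, ?_⟩, ?_⟩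
    · intro hξx
      have h1 := (ker_specMap_eq_maximalIdeal_iff h).mpr hξx
      rw [hker] at h1
      exact Groth.Agent.Lib.Helper26.LenE.ne_maximal_of_minimal hA q hq h1
    · rw [genPrime_eq h]
      exact PrimeSpectrum.ext hker

theorem finite_generizations [IsLocallyNoetherian X] (x : X)
    (hA : ringKrullDim (X.presheaf.stalk x) = 1) : {ξ : X | ξ ⤳ x ∧ ξ ≠ x}.Finite :=
  (bijOn_genPrime x hA).finite_iff_finite.mpr Groth.Agent.Lib.Helper26.LenG.finite_minimal

/-- At a point `x` with one-dimensional local ring and a nonzerodivisor `f₀`: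
`length(O_x/f₀) = Σ_ξ length(O_ξ) · ord_{O_x/𝔭_ξ}(f₀)` over the proper generizations of `x`. -/
theorem length_eq_finsum_gen [IsLocallyNoetherian X] (x : X)
    (hA : ringKrullDim (X.presheaf.stalk x) = 1) (f₀ : X.presheaf.stalk x)
    (hnzd : f₀ ∈ nonZeroDivisors (X.presheaf.stalk x)) :
    ((Module.length (X.presheaf.stalk x)
      (↥(X.presheaf.stalk x) ⧸ Ideal.span {f₀})).toNat : ℤ) =
      ∑ᶠ ξ ∈ {ξ : X | ξ ⤳ x ∧ ξ ≠ x}, genTerm x f₀ ξ := by
  classical
  have hK : Groth.Agent.Lib.Helper26.LenA.K f₀ (X.presheaf.stalk x) = ⊥ := by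
    show LinearMap.ker (LinearMap.lsmul (X.presheaf.stalk x) (X.presheaf.stalk x) f₀) = ⊥
    rw [LinearMap.ker_eq_bot']
    intro a ha
    have h1 : f₀ * a = 0 := ha
    exact (mul_left_mem_nonZeroDivisors_eq_zero_iff hnzd).mp h1
  have hform := Groth.Agent.Lib.Helper26.LenE.formula_regular hA hnzd (X.presheaf.stalk x) hK
  have hsmul : f₀ • (⊤ : Submodule (X.presheaf.stalk x) (X.presheaf.stalk x)) =
      Ideal.span {f₀} := by
    ext y
    rw [Submodule.mem_smul_pointwise_iff_exists, Ideal.mem_span_singleton']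
    constructor
    · rintro ⟨z, -, rfl⟩
      exact ⟨z, by rw [smul_eq_mul, mul_comm]⟩
    · rintro ⟨z, rfl⟩
      exact ⟨z, trivial, by rw [smul_eq_mul, mul_comm]⟩
  have hlen : Module.length (X.presheaf.stalk x) (↥(X.presheaf.stalk x) ⧸ Ideal.span {f₀}) =
      Module.length (X.presheaf.stalk x) (↥(X.presheaf.stalk x) ⧸
        f₀ • (⊤ : Submodule (X.presheaf.stalk x) (X.presheaf.stalk x))) :=
    (Submodule.quotEquivOfEq _ _ hsmul.symm).length_eq
  have hfin := Groth.Agent.Lib.Helper26.LenG.finite_minimal (A := X.presheaf.stalk x)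
  rw [Groth.Agent.Lib.Helper26.LenG.finsum_min_eq] at hform
  have hmemT : ∀ q ∈ hfin.toFinset, q.asIdeal ∈ minimalPrimes (X.presheaf.stalk x) :=
    fun q hq => (Set.Finite.mem_toFinset hfin).mp hq
  have hcast : (∑ q ∈ hfin.toFinset,
      Ring.ord (↥(X.presheaf.stalk x) ⧸ q.asIdeal) (Ideal.Quotient.mk q.asIdeal f₀) *
        Groth.Agent.Lib.Helper26.CycSeq1.ell q.asIdeal (X.presheaf.stalk x)) =
      ((∑ q ∈ hfin.toFinset,
        (Ring.ord (↥(X.presheaf.stalk x) ⧸ q.asIdeal) (Ideal.Quotient.mk q.asIdeal f₀)).toNat *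
        (Groth.Agent.Lib.Helper26.CycSeq1.ell q.asIdeal (X.presheaf.stalk x)).toNat : ℕ) :
          ℕ∞) := by
    rw [Nat.cast_sum]
    refine Finset.sum_congr rfl (fun q hq => ?_)
    rw [Nat.cast_mul,
      ENat.natCast_toNat (Groth.Agent.Lib.Helper26.LenF.ord_ne_top hA q.asIdeal
        (Groth.Agent.Lib.Helper26.LenE.notMem_of_mem_minimalPrimes hnzd (hmemT q hq))),
      ENat.natCast_toNat (Groth.Agent.Lib.Helper26.LenF.ell_ne_top q.asIdeal (hmemT q hq)
        (X.presheaf.stalk x))]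
  have hLHS2 : ((Module.length (X.presheaf.stalk x)
      (↥(X.presheaf.stalk x) ⧸ Ideal.span {f₀})).toNat : ℤ) =
      ∑ q ∈ hfin.toFinset,
        ((Groth.Agent.Lib.Helper26.CycSeq1.ell q.asIdeal (X.presheaf.stalk x)).toNat : ℤ) *
        ((Ring.ord (↥(X.presheaf.stalk x) ⧸ q.asIdeal)
          (Ideal.Quotient.mk q.asIdeal f₀)).toNat : ℤ) := by
    rw [hlen, hform, hcast, ENat.toNat_coe]
    push_cast
    exact Finset.sum_congr rfl (fun q _ => mul_comm _ _)
  rw [hLHS2]
  obtain ⟨Gq, hGq⟩ : ∃ Gq : PrimeSpectrum (X.presheaf.stalk x) → ℤ, Gq = fun q =>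
      ((Groth.Agent.Lib.Helper26.CycSeq1.ell q.asIdeal (X.presheaf.stalk x)).toNat : ℤ) *
        ((Ring.ord (↥(X.presheaf.stalk x) ⧸ q.asIdeal)
          (Ideal.Quotient.mk q.asIdeal f₀)).toNat : ℤ) := ⟨_, rfl⟩
  have hval : ∀ ξ ∈ {ξ : X | ξ ⤳ x ∧ ξ ≠ x}, genTerm x f₀ ξ = Gq (genPrime x ξ) := by
    rintro ξ ⟨h, hne⟩
    rw [genTerm_eq h, genPrime_eq h, hGq]
    have hell : Groth.Agent.Lib.Helper26.CycSeq1.ell (RingHom.ker (Cyc.specMap x ξ h))
        (X.presheaf.stalk x) = Module.length (X.presheaf.stalk ξ) (X.presheaf.stalk ξ) := by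
      letI : Algebra (X.presheaf.stalk x) (X.presheaf.stalk ξ) :=
        (X.presheaf.stalkSpecializes h).hom.toAlgebra
      haveI : (Ideal.comap (X.presheaf.stalkSpecializes h).hom
        (IsLocalRing.maximalIdeal (X.presheaf.stalk ξ))).IsPrime := Ideal.comap_isPrime _ _
      haveI hloc := Groth.Agent.Helper23.RegPull.isLocalization_stalkSpecializes X h
      exact ell_eq_of_eq (RingHom.ker (Cyc.specMap x ξ h)) _ (ker_specMap h)
    show (_ : ℤ) * _ = ((Groth.Agent.Lib.Helper26.CycSeq1.ell (RingHom.ker (Cyc.specMap x ξ h))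
      (X.presheaf.stalk x)).toNat : ℤ) * ((Ring.ord (Cyc.LocQuot x ξ h)
        (Ideal.Quotient.mk (RingHom.ker (Cyc.specMap x ξ h)) f₀)).toNat : ℤ)
    rw [hell]
  rw [finsum_mem_eq_of_bijOn (genPrime x) (bijOn_genPrime x hA) hval,
    finsum_mem_eq_finite_toFinset_sum Gq hfin, hGq]

/-- Flat local homomorphisms multiply colengths of principal ideals by the length of the closed
fibre. -/
theorem length_quot_map_span {A B : Type u} [CommRing A] [CommRing B] [IsLocalRing A]
    [IsLocalRing B] [Algebra A B] [IsLocalHom (algebraMap A B)] [Module.Flat A B] (a : A) :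
    Module.length B (B ⧸ Ideal.span {algebraMap A B a}) =
      Module.length A (A ⧸ Ideal.span {a}) *
        Module.length B (B ⧸ (IsLocalRing.maximalIdeal A).map (algebraMap A B)) := by
  have h1 := IsLocalRing.length_baseChange A B (A ⧸ Ideal.span {a})
  have h2 := (Algebra.TensorProduct.quotIdealMapEquivTensorQuot B
    (Ideal.span {a})).toLinearEquiv.length_eq
  rw [← h1, ← h2, Ideal.map_span, Set.image_singleton]

theorem residueFieldMap_specMap {X Y : Scheme.{u}} (f : X ⟶ Y) {ξ x : X} (h : ξ ⤳ x)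
    (h' : f ξ ⤳ f x) (a : Y.presheaf.stalk (f x)) :
    (f.residueFieldMap ξ).hom (Cyc.specMap (f x) (f ξ) h' a) =
      Cyc.specMap x ξ h ((f.stalkMap x).hom a) := by
  show (f.residueFieldMap ξ).hom ((Y.residue (f ξ)).hom
      ((Y.presheaf.stalkSpecializes h').hom a)) =
    (X.residue ξ).hom ((X.presheaf.stalkSpecializes h).hom ((f.stalkMap x).hom a))
  have h2 : (f.stalkMap ξ).hom ((Y.presheaf.stalkSpecializes h').hom a) =
      (X.presheaf.stalkSpecializes h).hom ((f.stalkMap x).hom a) :=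
    AlgebraicGeometry.Scheme.Hom.stalkSpecializes_stalkMap_apply f ξ x h a
  rw [← h2]
  have h1 := congrArg (fun φ => φ.hom ((Y.presheaf.stalkSpecializes h').hom a))
    (AlgebraicGeometry.Scheme.residue_residueFieldMap f ξ)
  exact h1

theorem pullback_fraction {X Y : Scheme.{u}} (f : X ⟶ Y) {ξ x : X} (h : ξ ⤳ x) {ζ : Y}
    (hζ : ζ ⤳ f x) (e : ζ = f ξ) (a b : Y.presheaf.stalk (f x)) :
    (f.residueFieldMap ξ) ((Y.residueFieldCongr e).hom
        (Cyc.specMap (f x) ζ hζ a / Cyc.specMap (f x) ζ hζ b)) =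
      Cyc.specMap x ξ h ((f.stalkMap x).hom a) / Cyc.specMap x ξ h ((f.stalkMap x).hom b) := by
  subst e
  show (f.residueFieldMap ξ).hom (Cyc.specMap (f x) (f ξ) hζ a / Cyc.specMap (f x) (f ξ) hζ b) = _
  rw [map_div₀, residueFieldMap_specMap f h hζ a, residueFieldMap_specMap f h hζ b]

theorem surjective_specMap_of_eq {Y : Scheme.{u}} {y ζ : Y} (h : ζ ⤳ y) (e : ζ = y) :
    Function.Surjective (Cyc.specMap y ζ h) := by
  subst e
  intro z
  obtain ⟨a, ha⟩ := Y.residue_surjective ζ z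
  refine ⟨a, ?_⟩
  show (Y.residue ζ).hom ((Y.presheaf.stalkSpecializes h).hom a) = z
  have h1 : (Y.presheaf.stalkSpecializes h).hom a = a := by
    have h2 := TopCat.Presheaf.stalkSpecializes_refl Y.presheaf ζ
    have h3 := congrArg (fun φ => φ.hom a) h2
    exact h3
  rw [h1]
  exact ha

theorem exists_div_specMap {x ξ : X} (h : ξ ⤳ x) (g : X.residueField ξ) (hg : g ≠ 0) :
    ∃ a b : X.presheaf.stalk x, a ∉ RingHom.ker (Cyc.specMap x ξ h) ∧
      b ∉ RingHom.ker (Cyc.specMap x ξ h) ∧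
      g = Cyc.specMap x ξ h a / Cyc.specMap x ξ h b := by
  haveI := isFractionRing_locQuot h
  obtain ⟨a', b', hb', hab⟩ := IsFractionRing.div_surjective (A := Cyc.LocQuot x ξ h) g
  obtain ⟨a, rfl⟩ := Ideal.Quotient.mk_surjective a'
  obtain ⟨b, rfl⟩ := Ideal.Quotient.mk_surjective b'
  refine ⟨a, b, ?_, ?_, hab.symm⟩
  · intro ha
    apply hg
    rw [← hab, Ideal.Quotient.eq_zero_iff_mem.mpr ha, map_zero, zero_div]
  · intro hb
    exact nonZeroDivisors.ne_zero hb' (Ideal.Quotient.eq_zero_iff_mem.mpr hb)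

theorem ordAt_div_eq [IsLocallyNoetherian X] {x ξ : X}
    (hA : ringKrullDim (X.presheaf.stalk x) = 1) (h : ξ ⤳ x) (a b : X.presheaf.stalk x)
    (ha : a ∉ RingHom.ker (Cyc.specMap x ξ h)) (hb : b ∉ RingHom.ker (Cyc.specMap x ξ h)) :
    Cyc.ordAt x ξ h (Cyc.specMap x ξ h a / Cyc.specMap x ξ h b) =
      ((Ring.ord (Cyc.LocQuot x ξ h)
        (Ideal.Quotient.mk (RingHom.ker (Cyc.specMap x ξ h)) a)).toNat : ℤ) -
      ((Ring.ord (Cyc.LocQuot x ξ h)
        (Ideal.Quotient.mk (RingHom.ker (Cyc.specMap x ξ h)) b)).toNat : ℤ) := by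
  unfold Cyc.ordAt
  haveI : Ring.KrullDimLE 1 (Cyc.LocQuot x ξ h) :=
    Groth.Agent.Lib.Helper26.LenF.krullDimLE_quot hA _
  haveI : IsFractionRing (Cyc.LocQuot x ξ h) (X.residueField ξ) := isFractionRing_locQuot h
  have hne_a : Ideal.Quotient.mk (RingHom.ker (Cyc.specMap x ξ h)) a ≠ 0 :=
    fun h0 => ha (Ideal.Quotient.eq_zero_iff_mem.mp h0)
  have hne_b : Ideal.Quotient.mk (RingHom.ker (Cyc.specMap x ξ h)) b ≠ 0 :=
    fun h0 => hb (Ideal.Quotient.eq_zero_iff_mem.mp h0)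
  have hinj := algebraMap_locQuot_injective' h
  have h1 : Cyc.specMap x ξ h a = algebraMap (Cyc.LocQuot x ξ h) (X.residueField ξ)
      (Ideal.Quotient.mk (RingHom.ker (Cyc.specMap x ξ h)) a) := rfl
  have h2 : Cyc.specMap x ξ h b = algebraMap (Cyc.LocQuot x ξ h) (X.residueField ξ)
      (Ideal.Quotient.mk (RingHom.ker (Cyc.specMap x ξ h)) b) := rfl
  rw [h1, h2, ordFrac_div' (A := Cyc.LocQuot x ξ h) _ _
      (fun h0 => hne_a (hinj (h0.trans (map_zero _).symm)))
      (fun h0 => hne_b (hinj (h0.trans (map_zero _).symm))),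
    Groth.Agent.Helper25.LatDet.ordFrac_algebraMap (A := Cyc.LocQuot x ξ h)
      (K := X.residueField ξ) hne_a,
    Groth.Agent.Helper25.LatDet.ordFrac_algebraMap (A := Cyc.LocQuot x ξ h)
      (K := X.residueField ξ) hne_b]

theorem pullFun_pos' {X Y : Scheme.{u}} (f : X ⟶ Y) (δX : X → ℤ) (δY : Y → ℤ) (r : ℤ)
    (α : Y → ℤ) (x : X) (h : δX x = δY (f x) + r) :
    Cyc.pullFun f δX δY r α x = α (f x) * ((Module.length (X.presheaf.stalk x)
      (X.presheaf.stalk x ⧸ Ideal.map (f.stalkMap x).hom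
        (IsLocalRing.maximalIdeal (Y.presheaf.stalk (f x))))).toNat : ℤ) := by
  unfold Cyc.pullFun
  rw [if_pos h]

theorem pullFun_neg' {X Y : Scheme.{u}} (f : X ⟶ Y) (δX : X → ℤ) (δY : Y → ℤ) (r : ℤ)
    (α : Y → ℤ) (x : X) (h : ¬ δX x = δY (f x) + r) :
    Cyc.pullFun f δX δY r α x = 0 := by
  unfold Cyc.pullFun
  rw [if_neg h]

theorem divFun_pos' (δ : X → ℤ) {ξ x : X} (g : X.residueField ξ) (h : ξ ⤳ x)
    (h2 : δ x + 1 = δ ξ) : Cyc.divFun δ ξ g x = Cyc.ordAt x ξ h g := by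
  unfold Cyc.divFun
  rw [dif_pos ⟨h, h2⟩]

theorem divFun_neg' (δ : X → ℤ) {ξ x : X} (g : X.residueField ξ)
    (h : ¬ (ξ ⤳ x ∧ δ x + 1 = δ ξ)) : Cyc.divFun δ ξ g x = 0 := by
  unfold Cyc.divFun
  rw [dif_neg h]

/-- Flat pullback of a principal divisor, coefficientwise: `f^* div(g) = Σ_ξ length(O_ξ) div(g|_ξ)`
over the maximal points `ξ` of `X`. -/
theorem main_pull (X Y : Scheme.{u}) [IsIntegral Y] (δX : X → ℤ) (δY : Y → ℤ)
    (hX : Cyc.IsSetup X δX) (hY : Cyc.IsSetup Y δY) (f : X ⟶ Y) [Flat f]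
    [LocallyOfFiniteType f] (r : ℕ) (hr : Cyc.HasRelDim f r) (hδ : Cyc.DeltaCompat f δX δY)
    (ζ : Y) (hζ : ζ = genericPoint Y) (g : Y.residueField ζ) (hg : g ≠ 0) (x : X) :
    Cyc.pullFun f δX δY r (Cyc.divFun δY ζ g) x =
      ∑ᶠ ξ : {ξ : X // (∀ x' : X, x' ⤳ ξ → x' = ξ) ∧ f ξ = ζ},
        ((Module.length (X.presheaf.stalk ξ.1) (X.presheaf.stalk ξ.1)).toNat : ℤ) *
          Cyc.divFun δX ξ.1
            (f.residueFieldMap ξ.1 ((Y.residueFieldCongr ξ.2.2.symm).hom g)) x := by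
  classical
  have hNX : IsLocallyNoetherian X := hX.1
  have hNY : IsLocallyNoetherian Y := hY.1
  have hdX : Cyc.IsDimFun X δX := hX.2.2
  have hdY : Cyc.IsDimFun Y δY := hY.2.2
  have hζy : ∀ y : Y, ζ ⤳ y := by
    intro y
    rw [hζ]
    exact (genericPoint_spec Y).specializes (Set.mem_univ y)
  have hFa : ∀ ξ : X, (∀ x' : X, x' ⤳ ξ → x' = ξ) → f ξ = ζ ∧ δX ξ = δY ζ + r := by
    intro ξ hξ
    exact Groth.Agent.S1861.result X Y δX δY hX hY f r hr hδ ζ ξ
      (specializes_iff_mem_closure.mp (hζy _)) (fun x' _ h => hξ x' h)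
  have hbound : ∀ x' : X, δX x' ≤ δY ζ + r := by
    intro x'
    obtain ⟨ξ, hξmax, hξx'⟩ := exists_maximal_generization x'
    have h1 := (hFa ξ hξmax).2
    by_cases he : ξ = x'
    · rw [← he, h1]
    · have h2 := (hdX ξ x' hξx' he).1
      omega
  have hboundY : ∀ y : Y, δY y ≤ δY ζ := by
    intro y
    by_cases he : ζ = y
    · rw [he]
    · have h2 := (hdY ζ y (hζy y) he).1
      omega
  by_cases hP : δX x = δY (f x) + r
  swap
  · -- the point is not of the expected dimension over its image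
    rw [pullFun_neg' f δX δY r _ x hP]
    symm
    apply finsum_eq_zero_of_forall_eq_zero
    rintro ⟨ξ, hξmax, hfξ⟩
    show ((Module.length (X.presheaf.stalk ξ) (X.presheaf.stalk ξ)).toNat : ℤ) *
      Cyc.divFun δX ξ (f.residueFieldMap ξ ((Y.residueFieldCongr hfξ.symm).hom g)) x = 0
    by_cases hc : ξ ⤳ x ∧ δX x + 1 = δX ξ
    swap
    · rw [divFun_neg' δX _ hc, mul_zero]
    obtain ⟨h, hdim⟩ := hc
    rw [divFun_pos' δX _ h hdim]
    have hδξ := (hFa ξ hξmax).2
    obtain ⟨x', hx'x, hfx', hx'max⟩ := exists_fibre_maximal f δX hdX (δY ζ + r) hbound x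
    have h1 := (Groth.Agent.S1861.result X Y δX δY hX hY f r hr hδ (f x') x'
      (subset_closure rfl) hx'max).2
    rw [hfx'] at h1
    have hne : x' ≠ x := by
      rintro rfl
      exact hP h1
    have h2 := (hdX x' x hx'x hne).1
    have h3 := hbound x'
    have hfx : ζ = f x := by
      by_contra hne'
      have h4 := (hdY ζ (f x) (hζy _) hne').1
      omega
    have h' : f ξ ⤳ f x := h.map f.continuous
    have hfξx : f ξ = f x := hfξ.trans hfx
    obtain ⟨u, hu⟩ := surjective_specMap_of_eq h' hfξx ((Y.residueFieldCongr hfξ.symm).hom g)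
    have hg'0 : (Y.residueFieldCongr hfξ.symm).hom g ≠ 0 := fun h0 =>
      hg ((Y.residueFieldCongr hfξ.symm).hom.hom.injective (h0.trans (map_zero _).symm))
    have hunit : IsUnit u := by
      by_contra hnu
      have hm : u ∈ IsLocalRing.maximalIdeal (Y.presheaf.stalk (f x)) :=
        (IsLocalRing.mem_maximalIdeal u).mpr hnu
      rw [← (ker_specMap_eq_maximalIdeal_iff h').mpr hfξx, RingHom.mem_ker, hu] at hm
      exact hg'0 hm
    have hφu : IsUnit ((f.stalkMap x).hom u) := hunit.map _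
    have hval : (f.residueFieldMap ξ) ((Y.residueFieldCongr hfξ.symm).hom g) =
        Cyc.specMap x ξ h ((f.stalkMap x).hom u) := by
      rw [← hu]
      exact residueFieldMap_specMap f h h' u
    rw [hval]
    have hz : Cyc.ordAt x ξ h (Cyc.specMap x ξ h ((f.stalkMap x).hom u)) = 0 := by
      unfold Cyc.ordAt
      exact ordFrac_algebraMap_unit (A := Cyc.LocQuot x ξ h) (K := X.residueField ξ)
        (Ideal.Quotient.mk _ ((f.stalkMap x).hom u)) (hφu.map _)
    rw [hz, mul_zero]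
  by_cases hQ : δY (f x) + 1 = δY ζ
  swap
  · -- the image is not of codimension one
    rw [pullFun_pos' f δX δY r _ x hP, divFun_neg' δY g (fun hc => hQ hc.2), zero_mul]
    symm
    apply finsum_eq_zero_of_forall_eq_zero
    rintro ⟨ξ, hξmax, hfξ⟩
    show ((Module.length (X.presheaf.stalk ξ) (X.presheaf.stalk ξ)).toNat : ℤ) *
      Cyc.divFun δX ξ (f.residueFieldMap ξ ((Y.residueFieldCongr hfξ.symm).hom g)) x = 0
    have hδξ := (hFa ξ hξmax).2
    rw [divFun_neg' δX _ (fun hc => hQ (by have := hc.2; omega)), mul_zero]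
  -- the main case
  have hxk : δX x + 1 = δY ζ + r := by omega
  have hζx : ζ ⤳ f x := hζy _
  have hζne : ζ ≠ f x := by
    intro he
    rw [← he] at hQ
    omega
  have hcoY := coheight_eq_one_of_dimFun δY hdY (δY ζ - 1)
    (fun y => by have := hboundY y; omega) (f x) (by omega) ⟨ζ, hζx, hζne⟩
  have hA1 : ringKrullDim (Y.presheaf.stalk (f x)) = 1 := by
    rw [ringKrullDim_stalk_eq_coheight, hcoY]
    rfl
  obtain ⟨ξ₀, hξ₀max, hξ₀x⟩ := exists_maximal_generization x
  have hδξ₀ := (hFa ξ₀ hξ₀max).2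
  have hξ₀ne : ξ₀ ≠ x := by
    intro he
    rw [he] at hδξ₀
    omega
  have hcoX := coheight_eq_one_of_dimFun δX hdX (δX x)
    (fun x' => by have := hbound x'; omega) x rfl ⟨ξ₀, hξ₀x, hξ₀ne⟩
  have hB1 : ringKrullDim (X.presheaf.stalk x) = 1 := by
    rw [ringKrullDim_stalk_eq_coheight, hcoX]
    rfl
  -- write `g` as a fraction
  obtain ⟨a, b, ha, hb, hgab⟩ := exists_div_specMap hζx g hg
  have hkerY : RingHom.ker (Cyc.specMap (f x) ζ hζx) = ⊥ := by
    have hmin := ker_mem_minimalPrimes hA1 hζx hζne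
    rw [IsDomain.minimalPrimes_eq_singleton_bot] at hmin
    exact hmin
  have ha0 : a ≠ 0 := fun h0 => ha (by rw [h0]; exact Ideal.zero_mem _)
  have hb0 : b ≠ 0 := fun h0 => hb (by rw [h0]; exact Ideal.zero_mem _)
  letI alg : Algebra (Y.presheaf.stalk (f x)) (X.presheaf.stalk x) :=
    (f.stalkMap x).hom.toAlgebra
  haveI hflat : Module.Flat (Y.presheaf.stalk (f x)) (X.presheaf.stalk x) :=
    AlgebraicGeometry.Flat.stalkMap f x
  haveI hloc : IsLocalHom (algebraMap (Y.presheaf.stalk (f x)) (X.presheaf.stalk x)) :=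
    f.toLRSHom.prop x
  have hnzd : ∀ c : Y.presheaf.stalk (f x), c ≠ 0 →
      (f.stalkMap x).hom c ∈ nonZeroDivisors (X.presheaf.stalk x) := by
    intro c hc0
    have reg : IsSMulRegular (Y.presheaf.stalk (f x)) c := by
      intro u v huv
      exact mul_left_cancel₀ hc0 huv
    have regB : IsSMulRegular (X.presheaf.stalk x)
        (algebraMap (Y.presheaf.stalk (f x)) (X.presheaf.stalk x) c) := reg.of_flat
    rw [mem_nonZeroDivisors_iff_right]
    intro d hd
    apply regB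
    show (f.stalkMap x).hom c * d = (f.stalkMap x).hom c * 0
    rw [mul_zero, mul_comm]
    exact hd
  have hnzd_a := hnzd a ha0
  have hnzd_b := hnzd b hb0
  -- the left hand side
  obtain ⟨e, he⟩ : ∃ e : Y.presheaf.stalk (f x) ≃+* Cyc.LocQuot (f x) ζ hζx,
      ∀ c, e c = Ideal.Quotient.mk (RingHom.ker (Cyc.specMap (f x) ζ hζx)) c := by
    refine ⟨RingEquiv.ofBijective (Ideal.Quotient.mk (RingHom.ker (Cyc.specMap (f x) ζ hζx)))
      ⟨?_, Ideal.Quotient.mk_surjective⟩, fun _ => rfl⟩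
    rw [injective_iff_map_eq_zero]
    intro c hc
    have h1 := Ideal.Quotient.eq_zero_iff_mem.mp hc
    rw [hkerY] at h1
    exact (Submodule.mem_bot _).mp h1
  have hordA : ∀ c, Ring.ord (Cyc.LocQuot (f x) ζ hζx)
      (Ideal.Quotient.mk (RingHom.ker (Cyc.specMap (f x) ζ hζx)) c) =
      Ring.ord (Y.presheaf.stalk (f x)) c := by
    intro c
    rw [← he c]
    exact ord_ringEquiv e c
  have hL : Cyc.ordAt (f x) ζ hζx g =
      ((Ring.ord (Y.presheaf.stalk (f x)) a).toNat : ℤ) -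
        ((Ring.ord (Y.presheaf.stalk (f x)) b).toNat : ℤ) := by
    rw [hgab, ordAt_div_eq hA1 hζx a b ha hb, hordA a, hordA b]
  rw [pullFun_pos' f δX δY r _ x hP, divFun_pos' δY g hζx hQ, hL]
  -- the right hand side
  obtain ⟨G, hG⟩ : ∃ G : Set X, G = {ξ : X | ξ ⤳ x ∧ ξ ≠ x} := ⟨_, rfl⟩
  have hGfin : G.Finite := by
    rw [hG]
    exact finite_generizations x hB1
  have hGmax : ∀ ξ ∈ G, ∀ x' : X, x' ⤳ ξ → x' = ξ := by
    intro ξ hξ x' hx'
    rw [hG] at hξ
    by_contra hne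
    have h1 := (hdX ξ x hξ.1 hξ.2).1
    have h2 := (hdX x' ξ hx' hne).1
    have h3 := hbound x'
    omega
  have hterm : ∀ ξ : {ξ : X // (∀ x' : X, x' ⤳ ξ → x' = ξ) ∧ f ξ = ζ},
      ((Module.length (X.presheaf.stalk ξ.1) (X.presheaf.stalk ξ.1)).toNat : ℤ) *
          Cyc.divFun δX ξ.1
            (f.residueFieldMap ξ.1 ((Y.residueFieldCongr ξ.2.2.symm).hom g)) x =
        G.indicator (fun ξ => genTerm x ((f.stalkMap x).hom a) ξ -
          genTerm x ((f.stalkMap x).hom b) ξ) ξ.1 := by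
    rintro ⟨ξ, hξmax, hfξ⟩
    show ((Module.length (X.presheaf.stalk ξ) (X.presheaf.stalk ξ)).toNat : ℤ) *
      Cyc.divFun δX ξ (f.residueFieldMap ξ ((Y.residueFieldCongr hfξ.symm).hom g)) x =
      G.indicator (fun ξ => genTerm x ((f.stalkMap x).hom a) ξ -
          genTerm x ((f.stalkMap x).hom b) ξ) ξ
    have hδξ := (hFa ξ hξmax).2
    by_cases h : ξ ⤳ x
    swap
    · rw [divFun_neg' δX _ (fun hc => h hc.1), mul_zero, Set.indicator_of_notMem]
      rw [hG]
      exact fun hc => h hc.1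
    have hne : ξ ≠ x := by
      intro he
      rw [he] at hδξ
      omega
    have hmem : ξ ∈ G := by
      rw [hG]
      exact ⟨h, hne⟩
    rw [Set.indicator_of_mem hmem, divFun_pos' δX _ h (by omega), genTerm_eq h, genTerm_eq h,
      ← mul_sub]
    congr 1
    have hval : (f.residueFieldMap ξ) ((Y.residueFieldCongr hfξ.symm).hom g) =
        Cyc.specMap x ξ h ((f.stalkMap x).hom a) / Cyc.specMap x ξ h ((f.stalkMap x).hom b) := by
      rw [hgab]
      exact pullback_fraction f h hζx hfξ.symm a b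
    rw [hval]
    have hmin := ker_mem_minimalPrimes hB1 h hne
    exact ordAt_div_eq hB1 h _ _
      (Groth.Agent.Lib.Helper26.LenE.notMem_of_mem_minimalPrimes hnzd_a hmin)
      (Groth.Agent.Lib.Helper26.LenE.notMem_of_mem_minimalPrimes hnzd_b hmin)
  have hsum : (∑ᶠ ξ : {ξ : X // (∀ x' : X, x' ⤳ ξ → x' = ξ) ∧ f ξ = ζ},
      ((Module.length (X.presheaf.stalk ξ.1) (X.presheaf.stalk ξ.1)).toNat : ℤ) *
          Cyc.divFun δX ξ.1
            (f.residueFieldMap ξ.1 ((Y.residueFieldCongr ξ.2.2.symm).hom g)) x) =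
      ∑ᶠ ξ ∈ G, (genTerm x ((f.stalkMap x).hom a) ξ - genTerm x ((f.stalkMap x).hom b) ξ) := by
    rw [finsum_congr hterm, finsum_mem_def]
    have hsupp : Function.support (G.indicator (fun ξ => genTerm x ((f.stalkMap x).hom a) ξ -
        genTerm x ((f.stalkMap x).hom b) ξ)) ⊆
        {ξ : X | (∀ x' : X, x' ⤳ ξ → x' = ξ) ∧ f ξ = ζ} := by
      intro ξ hξ
      have hξG : ξ ∈ G := Set.mem_of_indicator_ne_zero hξ
      exact ⟨hGmax ξ hξG, (hFa ξ (hGmax ξ hξG)).1⟩
    exact finsum_subtype_of_support_subset _ _ hsupp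
  rw [hsum, finsum_mem_sub_distrib _ _ hGfin, hG,
    ← length_eq_finsum_gen x hB1 _ hnzd_a, ← length_eq_finsum_gen x hB1 _ hnzd_b]
  have hlenA : Module.length (X.presheaf.stalk x)
      (X.presheaf.stalk x ⧸ Ideal.span {(f.stalkMap x).hom a}) =
      Ring.ord (Y.presheaf.stalk (f x)) a * Module.length (X.presheaf.stalk x)
        (X.presheaf.stalk x ⧸ Ideal.map (f.stalkMap x).hom
          (IsLocalRing.maximalIdeal (Y.presheaf.stalk (f x)))) :=
    length_quot_map_span (A := Y.presheaf.stalk (f x)) (B := X.presheaf.stalk x) a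
  have hlenB : Module.length (X.presheaf.stalk x)
      (X.presheaf.stalk x ⧸ Ideal.span {(f.stalkMap x).hom b}) =
      Ring.ord (Y.presheaf.stalk (f x)) b * Module.length (X.presheaf.stalk x)
        (X.presheaf.stalk x ⧸ Ideal.map (f.stalkMap x).hom
          (IsLocalRing.maximalIdeal (Y.presheaf.stalk (f x)))) :=
    length_quot_map_span (A := Y.presheaf.stalk (f x)) (B := X.presheaf.stalk x) b
  rw [hlenA, hlenB, ENat.toNat_mul, ENat.toNat_mul]
  push_cast
  ring

/-- Flat pullback of a principal divisor between integral schemes. -/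
theorem main_pull_integral (X Y : Scheme.{u}) [IsIntegral X] [IsIntegral Y] (δX : X → ℤ)
    (δY : Y → ℤ) (hX : Cyc.IsSetup X δX) (hY : Cyc.IsSetup Y δY) (f : X ⟶ Y) [Flat f]
    [LocallyOfFiniteType f] (r : ℕ) (hr : Cyc.HasRelDim f r) (hδ : Cyc.DeltaCompat f δX δY)
    (g : Y.residueField (f (genericPoint X))) (hg : g ≠ 0) :
    Cyc.pullFun f δX δY r (Cyc.divFun δY (f (genericPoint X)) g) =
      Cyc.divFun δX (genericPoint X) (f.residueFieldMap (genericPoint X) g) := by
  funext x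
  have hηx : ∀ x' : X, genericPoint X ⤳ x' := fun x' =>
    (genericPoint_spec X).specializes (Set.mem_univ x')
  have hηmax : ∀ x' : X, x' ⤳ genericPoint X → x' = genericPoint X := fun x' h =>
    (h.antisymm (hηx x')).eq
  have hηY : ∀ y : Y, genericPoint Y ⤳ y := fun y =>
    (genericPoint_spec Y).specializes (Set.mem_univ y)
  have hζ : f (genericPoint X) = genericPoint Y :=
    (Groth.Agent.S1861.result X Y δX δY hX hY f r hr hδ (genericPoint Y) (genericPoint X)
      (specializes_iff_mem_closure.mp (hηY _)) (fun x' _ h => hηmax x' h)).1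
  rw [main_pull X Y δX δY hX hY f r hr hδ (f (genericPoint X)) hζ g hg x]
  rw [finsum_eq_single _ (⟨genericPoint X, hηmax, rfl⟩ :
    {ξ : X // (∀ x' : X, x' ⤳ ξ → x' = ξ) ∧ f ξ = f (genericPoint X)})]
  · show ((Module.length (X.presheaf.stalk (genericPoint X))
        (X.presheaf.stalk (genericPoint X))).toNat : ℤ) *
      Cyc.divFun δX (genericPoint X) (f.residueFieldMap (genericPoint X) g) x = _
    have hlen : Module.length (X.presheaf.stalk (genericPoint X))
        (X.presheaf.stalk (genericPoint X)) = 1 := by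
      rw [Module.length_eq_one_iff, isSimpleModule_self_iff_isUnit]
      refine ⟨inferInstance, fun c hc => ?_⟩
      by_contra hnu
      have hm : c ∈ IsLocalRing.maximalIdeal (X.presheaf.stalk (genericPoint X)) :=
        (IsLocalRing.mem_maximalIdeal c).mpr hnu
      rw [maximalIdeal_functionField] at hm
      exact hc ((Submodule.mem_bot _).mp hm)
    rw [hlen]
    simp
  · rintro ⟨ξ, hξmax, hfξ⟩ hne
    exfalso
    apply hne
    exact Subtype.ext (hξmax _ (hηx ξ)).symm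

end Groth.Agent.Lead.SecOrd
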