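import Groth.Agent.Lib.Lead.SecOrd22
import Groth.Agent.Lib.Helper14.FibreDimBC

/-!
# Flat pullback of cycles and base change
-/

set_option autoImplicit false
universe u v
open CategoryTheory CategoryTheory.Limits AlgebraicGeometry Opposite TopologicalSpace

namespace Groth.Agent.Lead.SecOrd

/-- A point maximal in its fibre for a composite `p' ≫ p` with `p'` flat is maximal in its
`p'`-fibre and its image is maximal in its `p`-fibre. -/
theorem maximal_of_maximal_comp {X X' X'' : Scheme.{u}} (p : X' ⟶ X) (p' : X'' ⟶ X') [Flat p']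
    (x'' : X'') (hmax : ∀ y, (p' ≫ p) y = (p' ≫ p) x'' → y ⤳ x'' → y = x'') :
    (∀ y, p' y = p' x'' → y ⤳ x'' → y = x'') ∧
      (∀ z, p z = p (p' x'') → z ⤳ p' x'' → z = p' x'') := by
  refine ⟨?_, ?_⟩
  · intro y hy hyx
    apply hmax y ?_ hyx
    rw [Scheme.Hom.comp_apply, Scheme.Hom.comp_apply, hy]
  · intro z hz hzx
    obtain ⟨y, hy, hpy⟩ := AlgebraicGeometry.Flat.generalizingMap p' hzx
    have h1 : y = x'' := by
      apply hmax y ?_ hy
      rw [Scheme.Hom.comp_apply, Scheme.Hom.comp_apply, hpy, hz]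
    rw [← hpy, h1]

/-- At a point maximal in its fibre the dimension function jumps by the relative dimension. -/
theorem delta_of_fibre_maximal (X Y : Scheme.{u}) (δX : X → ℤ) (δY : Y → ℤ)
    (hX : Cyc.IsSetup X δX) (hY : Cyc.IsSetup Y δY) (f : X ⟶ Y) [Flat f] [LocallyOfFiniteType f]
    (r : ℕ) (hr : Cyc.HasRelDim f r) (hδ : Cyc.DeltaCompat f δX δY) (x : X)
    (hmax : ∀ y, f y = f x → y ⤳ x → y = x) : δX x = δY (f x) + r :=
  (Groth.Agent.S1861.result X Y δX δY hX hY f r hr hδ (f x) x (subset_closure rfl) (by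
    intro x' hcl hsp
    apply hmax x' ?_ hsp
    have h1 : f x ⤳ f x' := specializes_iff_mem_closure.mpr hcl
    have h2 : f x' ⤳ f x := hsp.map f.continuous
    exact (h2.antisymm h1).eq)).2

theorem length_congr_hom {Y X : Scheme.{u}} (h1 h2 : Y ⟶ X) (e : h1 = h2) (y : Y) :
    Module.length (Y.presheaf.stalk y) (Y.presheaf.stalk y ⧸
        Ideal.map (h1.stalkMap y).hom (IsLocalRing.maximalIdeal (X.presheaf.stalk (h1 y)))) =
      Module.length (Y.presheaf.stalk y) (Y.presheaf.stalk y ⧸
        Ideal.map (h2.stalkMap y).hom (IsLocalRing.maximalIdeal (X.presheaf.stalk (h2 y)))) := by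
  subst e
  rfl

/-- Flat pullback commutes with flat base change, coefficientwise. -/
theorem main_baseChange_comm (X X' Y : Scheme.{u}) (f : Y ⟶ X) (p : X' ⟶ X) [Flat f]
    [LocallyOfFiniteType f] [Flat p] (r : ℕ) (hr : Cyc.HasRelDim f r) (δ : X → ℤ) (δ' : X' → ℤ)
    (δY : Y → ℤ) (δY' : ↥(pullback f p) → ℤ) (hX : Cyc.IsSetup X δ) (hY : Cyc.IsSetup Y δY)
    (hf : Cyc.DeltaCompat f δY δ) (hf' : Cyc.DeltaCompat (pullback.snd f p) δY' δ') (c : ℤ)
    (hc : ∀ x' : X', (∀ y, p y = p x' → y ⤳ x' → y = x') → δ' x' = δ (p x') + c)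
    (hcY : ∀ y' : ↥(pullback f p), (∀ y, pullback.fst f p y = pullback.fst f p y' → y ⤳ y' →
      y = y') → δY' y' = δY (pullback.fst f p y') + c) (α : X → ℤ) :
    Cyc.HasRelDim (pullback.snd f p) r ∧
      Cyc.pullFun (pullback.snd f p) δY' δ' r (Cyc.pullFun p δ' δ c α) =
        Cyc.pullFun (pullback.fst f p) δY' δY c (Cyc.pullFun f δY δ r α) := by
  have hsq : IsPullback (pullback.fst f p) (pullback.snd f p) f p := IsPullback.of_hasPullback f p
  refine ⟨Groth.Agent.Helper14.FibreDimBC.hasRelDim hsq r hr, ?_⟩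
  funext y'
  have hcond : pullback.fst f p ≫ f = pullback.snd f p ≫ p := pullback.condition
  have hpt : ∀ z : ↥(pullback f p), f (pullback.fst f p z) = p (pullback.snd f p z) := by
    intro z
    have h1 := congrArg (fun h : pullback f p ⟶ X => h z) hcond
    simpa [Scheme.Hom.comp_apply] using h1
  have hptc : ∀ z : ↥(pullback f p), (pullback.fst f p ≫ f) z = (pullback.snd f p ≫ p) z := by
    intro z
    rw [hcond]
  -- lengths
  have hT1 := length_comp (pullback.snd f p) p y'
  have hT2 := length_comp (pullback.fst f p) f y'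
  have hT12 := length_congr_hom _ _ hcond y'
  rw [hT2] at hT12
  rw [hT1] at hT12
  -- maximality in the fibres of the composites
  have hkeyB : (∀ y, (pullback.fst f p ≫ f) y = (pullback.fst f p ≫ f) y' → y ⤳ y' → y = y') →
      δY' y' = δY (pullback.fst f p y') + c ∧
        δY (pullback.fst f p y') = δ (f (pullback.fst f p y')) + r := by
    intro hmax
    obtain ⟨h1, h2⟩ := maximal_of_maximal_comp f (pullback.fst f p) y' hmax
    exact ⟨hcY y' h1, delta_of_fibre_maximal Y X δY δ hY hX f r hr hf _ h2⟩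
  have hkeyA : (∀ y, (pullback.snd f p ≫ p) y = (pullback.snd f p ≫ p) y' → y ⤳ y' → y = y') →
      δY' y' = δ' (pullback.snd f p y') + r ∧
        δ' (pullback.snd f p y') = δ (p (pullback.snd f p y')) + c := by
    intro hmax
    obtain ⟨h1, h2⟩ := maximal_of_maximal_comp p (pullback.snd f p) y' hmax
    refine ⟨?_, hc _ h2⟩
    have h3 := Groth.Agent.Helper14.FibreDimBC.maximal_map hsq y' h1
    have h4 := delta_of_fibre_maximal Y X δY δ hY hX f r hr hf _ h3
    have h5 := Groth.Agent.Helper14.FibreDimBC.trdeg_eq_of_maximal hsq y' h1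
    obtain ⟨n', hn', hδn'⟩ := hf' y'
    obtain ⟨n, hn, hδn⟩ := hf (pullback.fst f p y')
    have hnn : n' = n := by
      have h6 : (n' : Cardinal) = n := by
        rw [← hn', ← hn]
        exact h5
      exact_mod_cast h6
    omega
  have hδpt : δ (f (pullback.fst f p y')) = δ (p (pullback.snd f p y')) := by rw [hpt y']
  have hαpt : α (f (pullback.fst f p y')) = α (p (pullback.snd f p y')) := by rw [hpt y']
  by_cases hA : δY' y' = δ' (pullback.snd f p y') + r ∧
      δ' (pullback.snd f p y') = δ (p (pullback.snd f p y')) + c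
  · obtain ⟨hA1, hA2⟩ := hA
    rw [pullFun_pos' (pullback.snd f p) δY' δ' r _ y' hA1,
      pullFun_pos' p δ' δ c _ (pullback.snd f p y') hA2]
    by_cases hB : δY' y' = δY (pullback.fst f p y') + c ∧
        δY (pullback.fst f p y') = δ (f (pullback.fst f p y')) + r
    · obtain ⟨hB1, hB2⟩ := hB
      rw [pullFun_pos' (pullback.fst f p) δY' δY c _ y' hB1,
        pullFun_pos' f δY δ r _ (pullback.fst f p y') hB2, hαpt, mul_assoc, mul_assoc,
        ← Nat.cast_mul, ← Nat.cast_mul, ← ENat.toNat_mul, ← ENat.toNat_mul, hT12]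
    · have hnmax : ¬ (∀ y, (pullback.fst f p ≫ f) y = (pullback.fst f p ≫ f) y' → y ⤳ y' →
          y = y') := fun hmax => hB (hkeyB hmax)
      push Not at hnmax
      obtain ⟨z, hpz, hzx, hzne⟩ := hnmax
      have hpz' : (pullback.snd f p ≫ p) z = (pullback.snd f p ≫ p) y' := by
        rw [← hptc z, ← hptc y']
        exact hpz
      have htop := length_fibre_eq_top (pullback.snd f p ≫ p) y' z hzx hzne hpz'
      rw [hT1] at htop
      have hR : Cyc.pullFun (pullback.fst f p) δY' δY c (Cyc.pullFun f δY δ r α) y' = 0 := by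
        by_cases hB1 : δY' y' = δY (pullback.fst f p y') + c
        · rw [pullFun_pos' (pullback.fst f p) δY' δY c _ y' hB1,
            pullFun_neg' f δY δ r _ (pullback.fst f p y') (fun hB2 => hB ⟨hB1, hB2⟩), zero_mul]
        · exact pullFun_neg' (pullback.fst f p) δY' δY c _ y' hB1
      rw [hR, mul_assoc, ← Nat.cast_mul, ← ENat.toNat_mul, htop, ENat.toNat_top]
      simp
  · have hL : Cyc.pullFun (pullback.snd f p) δY' δ' r (Cyc.pullFun p δ' δ c α) y' = 0 := by
      by_cases hA1 : δY' y' = δ' (pullback.snd f p y') + r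
      · rw [pullFun_pos' (pullback.snd f p) δY' δ' r _ y' hA1,
          pullFun_neg' p δ' δ c _ (pullback.snd f p y') (fun hA2 => hA ⟨hA1, hA2⟩), zero_mul]
      · exact pullFun_neg' (pullback.snd f p) δY' δ' r _ y' hA1
    rw [hL]
    by_cases hB : δY' y' = δY (pullback.fst f p y') + c ∧
        δY (pullback.fst f p y') = δ (f (pullback.fst f p y')) + r
    · obtain ⟨hB1, hB2⟩ := hB
      have hnmax : ¬ (∀ y, (pullback.snd f p ≫ p) y = (pullback.snd f p ≫ p) y' → y ⤳ y' →
          y = y') := fun hmax => hA (hkeyA hmax)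
      push Not at hnmax
      obtain ⟨z, hpz, hzx, hzne⟩ := hnmax
      have hpz' : (pullback.fst f p ≫ f) z = (pullback.fst f p ≫ f) y' := by
        rw [hptc z, hptc y']
        exact hpz
      have htop := length_fibre_eq_top (pullback.fst f p ≫ f) y' z hzx hzne hpz'
      rw [hT2] at htop
      rw [pullFun_pos' (pullback.fst f p) δY' δY c _ y' hB1,
        pullFun_pos' f δY δ r _ (pullback.fst f p y') hB2, mul_assoc, ← Nat.cast_mul,
        ← ENat.toNat_mul, htop, ENat.toNat_top]
      simp
    · symm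
      by_cases hB1 : δY' y' = δY (pullback.fst f p y') + c
      · rw [pullFun_pos' (pullback.fst f p) δY' δY c _ y' hB1,
          pullFun_neg' f δY δ r _ (pullback.fst f p y') (fun hB2 => hB ⟨hB1, hB2⟩), zero_mul]
      · exact pullFun_neg' (pullback.fst f p) δY' δY c _ y' hB1

/-- The dimension function at the generic points of a flat base change of an integral scheme. -/
theorem main_delta_baseChange (S S' X : Scheme.{u}) (δS : S → ℤ) (δS' : S' → ℤ) (g : S' ⟶ S)
    [Flat g] (c : ℤ)
    (hc : ∀ s' : S', (∀ y, g y = g s' → y ⤳ s' → y = s') → δS' s' = δS (g s') + c) (a : X ⟶ S)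
    [IsIntegral X] (δX : X → ℤ) (hX : Cyc.DeltaCompat a δX δS) (δX' : ↥(pullback a g) → ℤ)
    (hX' : Cyc.DeltaCompat (pullback.snd a g) δX' δS') (k : ℤ) (hk : δX (genericPoint X) = k)
    (x' : ↥(pullback a g)) (hx' : ∀ y : ↥(pullback a g), y ⤳ x' → y = x') :
    δX' x' = k + c := by
  have hsq : IsPullback (pullback.fst a g) (pullback.snd a g) a g := IsPullback.of_hasPullback a g
  have hcond : pullback.fst a g ≫ a = pullback.snd a g ≫ g := pullback.condition
  have hpt : a (pullback.fst a g x') = g (pullback.snd a g x') := by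
    have h1 := congrArg (fun h : pullback a g ⟶ S => h x') hcond
    simpa [Scheme.Hom.comp_apply] using h1
  -- the image in `X` is the generic point
  have hη : pullback.fst a g x' = genericPoint X := by
    have h1 : genericPoint X ⤳ pullback.fst a g x' :=
      (genericPoint_spec X).specializes (Set.mem_univ _)
    obtain ⟨w, hw, hπw⟩ := AlgebraicGeometry.Flat.generalizingMap (pullback.fst a g) h1
    rw [← hπw, hx' w hw]
  -- the image in `S'` is maximal in its fibre
  have hmaxS' := Groth.Agent.Helper14.FibreDimBC.maximal_map hsq.flip x'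
    (fun w' _ hw => hx' w' hw)
  have h1 := hc _ hmaxS'
  have h2 := Groth.Agent.Helper14.FibreDimBC.trdeg_eq_of_maximal hsq x' (fun w' _ hw => hx' w' hw)
  obtain ⟨n', hn', hδn'⟩ := hX' x'
  obtain ⟨n, hn, hδn⟩ := hX (pullback.fst a g x')
  have hnn : n' = n := by
    have h6 : (n' : Cardinal) = n := by
      rw [← hn', ← hn]
      exact h2
    exact_mod_cast h6
  have h3 : δX (pullback.fst a g x') = k := by rw [hη, hk]
  have h4 : δS (a (pullback.fst a g x')) = δS (g (pullback.snd a g x')) := by rw [hpt]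
  omega

end Groth.Agent.Lead.SecOrd
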