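import Groth.Agent.Lib.Lead.SecOrd24

/-!
# Flat pullback of a principal divisor of an integral closed subscheme

For `f : X ⟶ Y` flat and a nonzero rational function `g` on the closure of a point `ξ'` of `Y`:
`f^* div(g) = Σ_ξ length(O_{X,ξ}/𝔪_{ξ'} O_{X,ξ}) · div(g|_ξ)`, the sum over the maximal points
`ξ` of the fibre of `f` over `ξ'` (`main_pull_gen`).
-/

set_option autoImplicit false
universe u v
open CategoryTheory CategoryTheory.Limits AlgebraicGeometry Opposite TopologicalSpace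
open scoped Pointwise

namespace Groth.Agent.Lead.SecOrd

variable {X : Scheme.{u}}

theorem map_ker_specMap {x ξ : X} (h : ξ ⤳ x) :
    (RingHom.ker (Cyc.specMap x ξ h)).map (X.presheaf.stalkSpecializes h).hom =
      IsLocalRing.maximalIdeal (X.presheaf.stalk ξ) := by
  letI : Algebra (X.presheaf.stalk x) (X.presheaf.stalk ξ) :=
    (X.presheaf.stalkSpecializes h).hom.toAlgebra
  haveI : (Ideal.comap (X.presheaf.stalkSpecializes h).hom
    (IsLocalRing.maximalIdeal (X.presheaf.stalk ξ))).IsPrime := Ideal.comap_isPrime _ _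
  haveI hloc := Groth.Agent.Helper23.RegPull.isLocalization_stalkSpecializes X h
  rw [ker_specMap h]
  exact IsLocalization.AtPrime.map_eq_maximalIdeal _ (X.presheaf.stalk ξ)

theorem map_map_ker_specMap {X Y : Scheme.{u}} (f : X ⟶ Y) {ξ x : X} (h : ξ ⤳ x)
    (h' : f ξ ⤳ f x) :
    ((RingHom.ker (Cyc.specMap (f x) (f ξ) h')).map (f.stalkMap x).hom).map
        (X.presheaf.stalkSpecializes h).hom =
      Ideal.map (f.stalkMap ξ).hom (IsLocalRing.maximalIdeal (Y.presheaf.stalk (f ξ))) := by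
  rw [← map_ker_specMap h', Ideal.map_map, Ideal.map_map]
  congr 1
  ext a
  exact (AlgebraicGeometry.Scheme.Hom.stalkSpecializes_stalkMap_apply f ξ x h a).symm

theorem length_quot_sup_span {A : Type u} [CommRing A] (𝔭 : Ideal A) (a : A) :
    Module.length A (A ⧸ (𝔭 ⊔ Ideal.span {a})) =
      Ring.ord (A ⧸ 𝔭) (Ideal.Quotient.mk 𝔭 a) := by
  have h1 : Ideal.span {Ideal.Quotient.mk 𝔭 a} =
      (Ideal.span {a}).map (Ideal.Quotient.mk 𝔭) := by
    rw [Ideal.map_span, Set.image_singleton]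
  have hI : (Ideal.span {Ideal.Quotient.mk 𝔭 a}).comap (Ideal.Quotient.mk 𝔭) =
      𝔭 ⊔ Ideal.span {a} := by
    rw [h1, Ideal.comap_map_of_surjective _ Ideal.Quotient.mk_surjective,
      ← RingHom.ker_eq_comap_bot, Ideal.mk_ker, sup_comm]
  unfold Ring.ord
  rw [← hI]
  exact length_quot_comap (Ideal.Quotient.mk 𝔭) Ideal.Quotient.mk_surjective _

theorem length_quot_map_sup {A B : Type u} [CommRing A] [CommRing B] [IsLocalRing A]
    [IsLocalRing B] [Algebra A B] [IsLocalHom (algebraMap A B)] [Module.Flat A B]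
    (𝔭 : Ideal A) (a : A) :
    Module.length B (B ⧸ (𝔭.map (algebraMap A B) ⊔ Ideal.span {algebraMap A B a})) =
      Ring.ord (A ⧸ 𝔭) (Ideal.Quotient.mk 𝔭 a) *
        Module.length B (B ⧸ (IsLocalRing.maximalIdeal A).map (algebraMap A B)) := by
  have h1 : 𝔭.map (algebraMap A B) ⊔ Ideal.span {algebraMap A B a} =
      (𝔭 ⊔ Ideal.span {a}).map (algebraMap A B) := by
    rw [Ideal.map_sup, Ideal.map_span, Set.image_singleton]
  rw [h1, length_quot_map_ideal, length_quot_sup_span]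

theorem toNat_finsum_mem_cast {ι : Type*} (G : Set ι) (hG : G.Finite) (F : ι → ℕ∞)
    (hF : ∀ i ∈ G, F i ≠ ⊤) :
    ((∑ᶠ i ∈ G, F i).toNat : ℤ) = ∑ᶠ i ∈ G, ((F i).toNat : ℤ) := by
  rw [finsum_mem_eq_finite_toFinset_sum _ hG, finsum_mem_eq_finite_toFinset_sum _ hG]
  exact Groth.Agent.Helper25.LatDet.toNat_sum_cast _ F
    (fun i hi => hF i ((Set.Finite.mem_toFinset hG).mp hi))

theorem ord_locQuot_ne_top [IsLocallyNoetherian X] {x ξ : X} (h : ξ ⤳ x)
    (hdim : Ring.KrullDimLE 1 (Cyc.LocQuot x ξ h)) (a : X.presheaf.stalk x)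
    (ha : a ∉ RingHom.ker (Cyc.specMap x ξ h)) :
    Ring.ord (Cyc.LocQuot x ξ h) (Ideal.Quotient.mk (RingHom.ker (Cyc.specMap x ξ h)) a) ≠ ⊤ := by
  haveI := hdim
  apply Ring.ord_ne_top
  rw [mem_nonZeroDivisors_iff_ne_zero]
  intro h0
  exact ha (Ideal.Quotient.eq_zero_iff_mem.mp h0)

/-- Flat pullback of the principal divisor of a rational function on the closure of a point. -/
theorem main_pull_gen (X Y : Scheme.{u}) [IsLocallyNoetherian X] [IsLocallyNoetherian Y]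
    (δX : X → ℤ) (δY : Y → ℤ) (hdX : Cyc.IsDimFun X δX) (hdY : Cyc.IsDimFun Y δY)
    (f : X ⟶ Y) [Flat f] (c : ℤ)
    (hc : ∀ x : X, (∀ z, f z = f x → z ⤳ x → z = x) → δX x = δY (f x) + c)
    (ξ' : Y) (g : Y.residueField ξ') (hg : g ≠ 0) (x : X) :
    Cyc.pullFun f δX δY c (Cyc.divFun δY ξ' g) x =
      ∑ᶠ ξ : {ξ : X // f ξ = ξ' ∧ ∀ z, f z = f ξ → z ⤳ ξ → z = ξ},
        ((Module.length (X.presheaf.stalk ξ.1) (X.presheaf.stalk ξ.1 ⧸
            Ideal.map (f.stalkMap ξ.1).hom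
              (IsLocalRing.maximalIdeal (Y.presheaf.stalk (f ξ.1))))).toNat : ℤ) *
          Cyc.divFun δX ξ.1
            (f.residueFieldMap ξ.1 ((Y.residueFieldCongr ξ.2.1.symm).hom g)) x := by
  classical
  have hδS : ∀ ξ : X, f ξ = ξ' → (∀ z, f z = f ξ → z ⤳ ξ → z = ξ) → δX ξ = δY ξ' + c := by
    intro ξ hfξ hmax
    rw [hc ξ hmax, hfξ]
  by_cases hP : δX x = δY (f x) + c
  swap
  · -- the point is not of the expected dimension over its image
    rw [pullFun_neg' f δX δY c _ x hP]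
    symm
    apply finsum_eq_zero_of_forall_eq_zero
    rintro ⟨ξ, hfξ, hξmax⟩
    show ((Module.length (X.presheaf.stalk ξ) (X.presheaf.stalk ξ ⧸
            Ideal.map (f.stalkMap ξ).hom
              (IsLocalRing.maximalIdeal (Y.presheaf.stalk (f ξ))))).toNat : ℤ) *
      Cyc.divFun δX ξ (f.residueFieldMap ξ ((Y.residueFieldCongr hfξ.symm).hom g)) x = 0
    by_cases hcc : ξ ⤳ x ∧ δX x + 1 = δX ξ
    swap
    · rw [divFun_neg' δX _ hcc, mul_zero]
    obtain ⟨h, hdim⟩ := hcc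
    rw [divFun_pos' δX _ h hdim]
    have hδξ := hδS ξ hfξ hξmax
    obtain ⟨x', hx'x, hfx', hx'max⟩ := exists_fibre_maximal' f x
    have h1 := hc x' hx'max
    have h1' : δY (f x') = δY (f x) := by rw [hfx']
    have hne : x' ≠ x := by
      intro he
      apply hP
      rw [← he]
      omega
    have h2 := (hdX x' x hx'x hne).1
    have h' : f ξ ⤳ f x := h.map f.continuous
    have h5 : δY (f ξ) = δY ξ' := by rw [hfξ]
    have hfξx : f ξ = f x := by
      by_contra hne'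
      have h4 := (hdY (f ξ) (f x) h' hne').1
      omega
    obtain ⟨u, hu⟩ := surjective_specMap_of_eq h' hfξx ((Y.residueFieldCongr hfξ.symm).hom g)
    have hg'0 : (Y.residueFieldCongr hfξ.symm).hom g ≠ 0 := fun h0 =>
      hg ((Y.residueFieldCongr hfξ.symm).hom.hom.injective (h0.trans (map_zero _).symm))
    have hunit : IsUnit u := by
      by_contra hnu
      have hm : u ∈ IsLocalRing.maximalIdeal (Y.presheaf.stalk (f x)) :=
        (IsLocalRing.mem_maximalIdeal u).mpr hnu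
      rw [← (ker_specMap_eq_maximalIdeal_iff h').mpr hfξx, RingHom.mem_ker, hu] at hm
      exact hg'0 hm
    have hφu : IsUnit ((f.stalkMap x).hom u) := hunit.map _
    have hval : (f.residueFieldMap ξ) ((Y.residueFieldCongr hfξ.symm).hom g) =
        Cyc.specMap x ξ h ((f.stalkMap x).hom u) := by
      rw [← hu]
      exact residueFieldMap_specMap f h h' u
    rw [hval]
    have hz : Cyc.ordAt x ξ h (Cyc.specMap x ξ h ((f.stalkMap x).hom u)) = 0 := by
      unfold Cyc.ordAt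
      exact ordFrac_algebraMap_unit (A := Cyc.LocQuot x ξ h) (K := X.residueField ξ)
        (Ideal.Quotient.mk _ ((f.stalkMap x).hom u)) (hφu.map _)
    rw [hz, mul_zero]
  by_cases hQ : ξ' ⤳ f x ∧ δY (f x) + 1 = δY ξ'
  swap
  · -- the image is not a codimension one point of the closure of `ξ'`
    rw [pullFun_pos' f δX δY c _ x hP, divFun_neg' δY g hQ, zero_mul]
    symm
    apply finsum_eq_zero_of_forall_eq_zero
    rintro ⟨ξ, hfξ, hξmax⟩
    show ((Module.length (X.presheaf.stalk ξ) (X.presheaf.stalk ξ ⧸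
            Ideal.map (f.stalkMap ξ).hom
              (IsLocalRing.maximalIdeal (Y.presheaf.stalk (f ξ))))).toNat : ℤ) *
      Cyc.divFun δX ξ (f.residueFieldMap ξ ((Y.residueFieldCongr hfξ.symm).hom g)) x = 0
    have hδξ := hδS ξ hfξ hξmax
    rw [divFun_neg' δX _ (fun hcc => hQ ⟨by rw [← hfξ]; exact hcc.1.map f.continuous,
      by have := hcc.2; omega⟩), mul_zero]
  -- the main case
  obtain ⟨hsp, hQ2⟩ := hQ
  have hxmax : ∀ z, f z = f x → z ⤳ x → z = x := by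
    intro z hfz hzx
    by_contra hne
    obtain ⟨z', hz'z, hfz', hz'max⟩ := exists_fibre_maximal' f z
    have h1 := hc z' hz'max
    have h2 : δY (f z') = δY (f x) := by rw [hfz', hfz]
    have h3 := (hdX z x hzx hne).1
    by_cases he : z' = z
    · have h5 : δX z' = δX z := by rw [he]
      omega
    · have h4 := (hdX z' z hz'z he).1
      omega
  have hdimY : Ring.KrullDimLE 1 (Cyc.LocQuot (f x) ξ' hsp) :=
    krullDimLE_locQuot_of_delta δY hdY hsp hQ2
  obtain ⟨a, b, ha, hb, hgab⟩ := exists_div_specMap hsp g hg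
  letI alg : Algebra (Y.presheaf.stalk (f x)) (X.presheaf.stalk x) :=
    (f.stalkMap x).hom.toAlgebra
  haveI hflat : Module.Flat (Y.presheaf.stalk (f x)) (X.presheaf.stalk x) :=
    AlgebraicGeometry.Flat.stalkMap f x
  haveI hloc : IsLocalHom (algebraMap (Y.presheaf.stalk (f x)) (X.presheaf.stalk x)) :=
    f.toLRSHom.prop x
  obtain ⟨𝔭, h𝔭⟩ : ∃ 𝔭 : Ideal (Y.presheaf.stalk (f x)),
      𝔭 = RingHom.ker (Cyc.specMap (f x) ξ' hsp) := ⟨_, rfl⟩
  haveI h𝔭prime : 𝔭.IsPrime := by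
    rw [h𝔭]
    infer_instance
  obtain ⟨I, hI⟩ : ∃ I : Ideal (X.presheaf.stalk x), I = 𝔭.map (f.stalkMap x).hom := ⟨_, rfl⟩
  have hkey : ∀ (z : X) (hz : z ⤳ x), z ≠ x → I ≤ RingHom.ker (Cyc.specMap x z hz) →
      f z = ξ' ∧ (∀ w, f w = f z → w ⤳ z → w = z) ∧ δX z = δX x + 1 := by
    intro z hz hne hIz
    have hz' : f z ⤳ f x := hz.map f.continuous
    have hle : RingHom.ker (Cyc.specMap (f x) ξ' hsp) ≤
        RingHom.ker (Cyc.specMap (f x) (f z) hz') := by
      intro a' ha'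
      apply (stalkMap_mem_ker_iff f hz hz' a').mp
      apply hIz
      rw [hI, h𝔭]
      exact Ideal.mem_map_of_mem _ ha'
    have hsp2 : ξ' ⤳ f z := specializes_of_ker_specMap_le hz' hsp hle
    have hfz : f z = ξ' := by
      by_contra hne2
      have h1 := (hdY ξ' (f z) hsp2 (fun e => hne2 e.symm)).1
      by_cases he : f z = f x
      · exact hne (hxmax z he hz)
      · have h2 := (hdY (f z) (f x) hz' he).1
        omega
    obtain ⟨z', hz'z, hfz', hz'max⟩ := exists_fibre_maximal' f z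
    have h1 := hc z' hz'max
    have h2 : δY (f z') = δY ξ' := by rw [hfz', hfz]
    have h3 := (hdX z x hz hne).1
    have hzz : z' = z := by
      by_contra he
      have h4 := (hdX z' z hz'z he).1
      omega
    have h5 : δX z' = δX z := by rw [hzz]
    refine ⟨hfz, ?_, by omega⟩
    rw [← hzz]
    exact hz'max
  have hprime_cases : ∀ p : PrimeSpectrum (X.presheaf.stalk x), I ≤ p.asIdeal →
      p.asIdeal = IsLocalRing.maximalIdeal (X.presheaf.stalk x) ∨
      ∃ (z : X) (hz : z ⤳ x), z ≠ x ∧ RingHom.ker (Cyc.specMap x z hz) = p.asIdeal ∧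
        f z = ξ' ∧ δX z = δX x + 1 := by
    intro p hIp
    haveI := p.isPrime
    obtain ⟨z, hz, hq⟩ :=
      Groth.Agent.Helper23.RegPull.exists_generization_of_isPrime X x p.asIdeal
    have hker : RingHom.ker (Cyc.specMap x z hz) = p.asIdeal := by
      rw [ker_specMap hz, ← hq]
    by_cases he : z = x
    · left
      rw [← hker]
      exact (ker_specMap_eq_maximalIdeal_iff hz).mpr he
    · right
      obtain ⟨k1, -, k3⟩ := hkey z hz he (by rw [hker]; exact hIp)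
      exact ⟨z, hz, he, hker, k1, k3⟩
  have hH1 : ∀ p p' : PrimeSpectrum (X.presheaf.stalk x), I ≤ p.asIdeal → p < p' →
      p'.asIdeal = IsLocalRing.maximalIdeal (X.presheaf.stalk x) := by
    intro p p' hIp hlt
    have hle : p.asIdeal ≤ p'.asIdeal := hlt.le
    rcases hprime_cases p' (hIp.trans hle) with hm | ⟨z', hz', hne', hker', -, hδ'⟩
    · exact hm
    exfalso
    rcases hprime_cases p hIp with hm | ⟨z, hz, hne, hker, -, hδz⟩
    · have h1 : p' ≤ p := by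
        show p'.asIdeal ≤ p.asIdeal
        rw [hm]
        exact IsLocalRing.le_maximalIdeal p'.2.ne_top
      exact absurd hlt (not_lt_of_ge h1)
    · have hzz' : z ⤳ z' :=
        specializes_of_ker_specMap_le hz' hz (by rw [hker, hker']; exact hle)
      have hne2 : z ≠ z' := by
        intro e
        have h3 : p.asIdeal = p'.asIdeal :=
          hker.symm.trans ((ker_specMap_congr e hz hz').trans hker')
        exact hlt.ne (PrimeSpectrum.ext h3)
      have h4 := (hdX z z' hzz' hne2).1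
      omega
  have hH2 : ∀ (u₀ : Y.presheaf.stalk (f x)), u₀ ∉ 𝔭 →
      ∀ p : PrimeSpectrum (X.presheaf.stalk x), I ≤ p.asIdeal →
      (f.stalkMap x).hom u₀ ∈ p.asIdeal →
      p.asIdeal = IsLocalRing.maximalIdeal (X.presheaf.stalk x) := by
    intro u₀ hu₀ p hIp hup
    rcases hprime_cases p hIp with hm | ⟨z, hz, hne, hker, hfz, -⟩
    · exact hm
    exfalso
    apply hu₀
    have hz' : f z ⤳ f x := hz.map f.continuous
    rw [← hker] at hup
    have h3 := (stalkMap_mem_ker_iff f hz hz' u₀).mp hup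
    rw [h𝔭, ker_specMap_congr hfz.symm hsp hz']
    exact h3
  have hH3 : ∀ (u₀ : Y.presheaf.stalk (f x)), u₀ ∉ 𝔭 → ∀ b' : X.presheaf.stalk x,
      (f.stalkMap x).hom u₀ * b' ∈ I → b' ∈ I := by
    intro u₀ hu₀ b' hb'
    rw [hI] at hb' ⊢
    exact mem_map_of_mul_mem 𝔭 u₀ hu₀ b' hb'
  have ha𝔭 : a ∉ 𝔭 := by
    rw [h𝔭]
    exact ha
  have hb𝔭 : b ∉ 𝔭 := by
    rw [h𝔭]
    exact hb
  obtain ⟨G, hG⟩ : ∃ G : Set X, G = {ξ : X | ξ ⤳ x ∧ ξ ≠ x ∧
      ∀ h : ξ ⤳ x, I ≤ RingHom.ker (Cyc.specMap x ξ h)} := ⟨_, rfl⟩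
  have hGfin : G.Finite := by
    rw [hG]
    exact (length_gen_decomp x I ((f.stalkMap x).hom a) hH1 (hH2 a ha𝔭) (hH3 a ha𝔭)).1
  obtain ⟨L, hL⟩ : ∃ L : ℕ∞, L = Module.length (X.presheaf.stalk x) (X.presheaf.stalk x ⧸
      Ideal.map (f.stalkMap x).hom (IsLocalRing.maximalIdeal (Y.presheaf.stalk (f x)))) :=
    ⟨_, rfl⟩
  have hLtop : L ≠ ⊤ := by
    rw [hL]
    exact length_fibre_ne_top f x hxmax
  have hlenA : ∀ u₀ : Y.presheaf.stalk (f x), Module.length (X.presheaf.stalk x)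
      (X.presheaf.stalk x ⧸ (I ⊔ Ideal.span {(f.stalkMap x).hom u₀})) =
      Ring.ord (Cyc.LocQuot (f x) ξ' hsp)
        (Ideal.Quotient.mk (RingHom.ker (Cyc.specMap (f x) ξ' hsp)) u₀) * L := by
    intro u₀
    rw [hI, h𝔭, hL]
    exact length_quot_map_sup (A := Y.presheaf.stalk (f x)) (B := X.presheaf.stalk x)
      (RingHom.ker (Cyc.specMap (f x) ξ' hsp)) u₀
  have hGmem : ∀ ξ ∈ G, f ξ = ξ' ∧ (∀ w, f w = f ξ → w ⤳ ξ → w = ξ) ∧ δX ξ = δX x + 1 := by
    intro ξ hξ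
    rw [hG] at hξ
    obtain ⟨h, hne, hIξ⟩ := hξ
    exact hkey ξ h hne (hIξ h)
  have hmemG : ∀ ξ : X, f ξ = ξ' → (∀ w, f w = f ξ → w ⤳ ξ → w = ξ) → ξ ⤳ x → ξ ∈ G := by
    intro ξ hfξ hξmax h
    have hδξ := hδS ξ hfξ hξmax
    rw [hG]
    refine ⟨h, ?_, ?_⟩
    · intro e
      rw [e] at hδξ
      omega
    · intro h2
      rw [hI, Ideal.map_le_iff_le_comap]
      intro a' ha'
      rw [Ideal.mem_comap]
      have h' : f ξ ⤳ f x := h2.map f.continuous
      apply (stalkMap_mem_ker_iff f h2 h' a').mpr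
      rw [← ker_specMap_congr hfξ.symm hsp h', ← h𝔭]
      exact ha'
  have hN : ∀ ξ ∈ G, ∀ h : ξ ⤳ x, Module.length (X.presheaf.stalk ξ)
        (X.presheaf.stalk ξ ⧸ I.map (X.presheaf.stalkSpecializes h).hom) =
      Module.length (X.presheaf.stalk ξ) (X.presheaf.stalk ξ ⧸ Ideal.map (f.stalkMap ξ).hom
        (IsLocalRing.maximalIdeal (Y.presheaf.stalk (f ξ)))) := by
    intro ξ hξ h
    obtain ⟨hfξ, -, -⟩ := hGmem ξ hξ
    have h' : f ξ ⤳ f x := h.map f.continuous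
    have hIξ : I.map (X.presheaf.stalkSpecializes h).hom = Ideal.map (f.stalkMap ξ).hom
        (IsLocalRing.maximalIdeal (Y.presheaf.stalk (f ξ))) := by
      rw [hI, h𝔭, ker_specMap_congr hfξ.symm hsp h']
      exact map_map_ker_specMap f h h'
    rw [hIξ]
  have hdimX : ∀ ξ ∈ G, ∀ h : ξ ⤳ x, Ring.KrullDimLE 1 (Cyc.LocQuot x ξ h) := by
    intro ξ hξ h
    obtain ⟨-, -, hδξ⟩ := hGmem ξ hξ
    exact krullDimLE_locQuot_of_delta δX hdX h (by omega)
  have hnotmem : ∀ (u₀ : Y.presheaf.stalk (f x)), u₀ ∉ 𝔭 → ∀ ξ ∈ G, ∀ h : ξ ⤳ x,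
      (f.stalkMap x).hom u₀ ∉ RingHom.ker (Cyc.specMap x ξ h) := by
    intro u₀ hu₀ ξ hξ h hmem
    obtain ⟨hfξ, -, -⟩ := hGmem ξ hξ
    have h' : f ξ ⤳ f x := h.map f.continuous
    apply hu₀
    have h3 := (stalkMap_mem_ker_iff f h h' u₀).mp hmem
    rw [h𝔭, ker_specMap_congr hfξ.symm hsp h']
    exact h3
  have hTfin : ∀ (u₀ : Y.presheaf.stalk (f x)), u₀ ∉ 𝔭 → ∀ ξ ∈ G,
      genTermE x I ((f.stalkMap x).hom u₀) ξ ≠ ⊤ := by
    intro u₀ hu₀ ξ hξ
    have h : ξ ⤳ x := by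
      rw [hG] at hξ
      exact hξ.1
    obtain ⟨hfξ, hξmax, -⟩ := hGmem ξ hξ
    rw [genTermE_eq h, hN ξ hξ h]
    exact WithTop.mul_ne_top (length_fibre_ne_top f ξ hξmax)
      (ord_locQuot_ne_top h (hdimX ξ hξ h) _ (hnotmem u₀ hu₀ ξ hξ h))
  have hEq : ∀ (u₀ : Y.presheaf.stalk (f x)), u₀ ∉ 𝔭 →
      ((Ring.ord (Cyc.LocQuot (f x) ξ' hsp)
        (Ideal.Quotient.mk (RingHom.ker (Cyc.specMap (f x) ξ' hsp)) u₀)).toNat : ℤ) *
          (L.toNat : ℤ) =
      ∑ᶠ ξ ∈ G, ((genTermE x I ((f.stalkMap x).hom u₀) ξ).toNat : ℤ) := by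
    intro u₀ hu₀
    obtain ⟨-, hE⟩ := length_gen_decomp x I ((f.stalkMap x).hom u₀) hH1 (hH2 u₀ hu₀) (hH3 u₀ hu₀)
    rw [← hG, hlenA u₀] at hE
    rw [← toNat_finsum_mem_cast G hGfin _ (hTfin u₀ hu₀), ← hE, ENat.toNat_mul]
    push_cast
    rfl
  have hLHS : Cyc.ordAt (f x) ξ' hsp g =
      ((Ring.ord (Cyc.LocQuot (f x) ξ' hsp)
        (Ideal.Quotient.mk (RingHom.ker (Cyc.specMap (f x) ξ' hsp)) a)).toNat : ℤ) -
      ((Ring.ord (Cyc.LocQuot (f x) ξ' hsp)
        (Ideal.Quotient.mk (RingHom.ker (Cyc.specMap (f x) ξ' hsp)) b)).toNat : ℤ) := by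
    rw [hgab]
    exact ordAt_div_eq' hsp hdimY a b ha hb
  have hterm : ∀ ξ : {ξ : X // f ξ = ξ' ∧ ∀ z, f z = f ξ → z ⤳ ξ → z = ξ},
      ((Module.length (X.presheaf.stalk ξ.1) (X.presheaf.stalk ξ.1 ⧸
            Ideal.map (f.stalkMap ξ.1).hom
              (IsLocalRing.maximalIdeal (Y.presheaf.stalk (f ξ.1))))).toNat : ℤ) *
          Cyc.divFun δX ξ.1
            (f.residueFieldMap ξ.1 ((Y.residueFieldCongr ξ.2.1.symm).hom g)) x =
        G.indicator (fun ξ => ((genTermE x I ((f.stalkMap x).hom a) ξ).toNat : ℤ) -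
          ((genTermE x I ((f.stalkMap x).hom b) ξ).toNat : ℤ)) ξ.1 := by
    rintro ⟨ξ, hfξ, hξmax⟩
    show ((Module.length (X.presheaf.stalk ξ) (X.presheaf.stalk ξ ⧸
            Ideal.map (f.stalkMap ξ).hom
              (IsLocalRing.maximalIdeal (Y.presheaf.stalk (f ξ))))).toNat : ℤ) *
      Cyc.divFun δX ξ (f.residueFieldMap ξ ((Y.residueFieldCongr hfξ.symm).hom g)) x =
      G.indicator (fun ξ => ((genTermE x I ((f.stalkMap x).hom a) ξ).toNat : ℤ) -
          ((genTermE x I ((f.stalkMap x).hom b) ξ).toNat : ℤ)) ξ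
    by_cases h : ξ ⤳ x
    swap
    · rw [divFun_neg' δX _ (fun hcc => h hcc.1), mul_zero, Set.indicator_of_notMem]
      rw [hG]
      exact fun hcc => h hcc.1
    have hmem : ξ ∈ G := hmemG ξ hfξ hξmax h
    obtain ⟨-, -, hδξ⟩ := hGmem ξ hmem
    rw [Set.indicator_of_mem hmem, divFun_pos' δX _ h (by omega)]
    have hval : (f.residueFieldMap ξ) ((Y.residueFieldCongr hfξ.symm).hom g) =
        Cyc.specMap x ξ h ((f.stalkMap x).hom a) / Cyc.specMap x ξ h ((f.stalkMap x).hom b) := by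
      rw [hgab]
      exact pullback_fraction f h hsp hfξ.symm a b
    rw [hval, ordAt_div_eq' h (hdimX ξ hmem h) _ _ (hnotmem a ha𝔭 ξ hmem h)
      (hnotmem b hb𝔭 ξ hmem h)]
    have hT : ∀ u₀ : Y.presheaf.stalk (f x),
        ((genTermE x I ((f.stalkMap x).hom u₀) ξ).toNat : ℤ) =
        ((Module.length (X.presheaf.stalk ξ) (X.presheaf.stalk ξ ⧸
            Ideal.map (f.stalkMap ξ).hom
              (IsLocalRing.maximalIdeal (Y.presheaf.stalk (f ξ))))).toNat : ℤ) *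
          ((Ring.ord (Cyc.LocQuot x ξ h) (Ideal.Quotient.mk (RingHom.ker (Cyc.specMap x ξ h))
            ((f.stalkMap x).hom u₀))).toNat : ℤ) := by
      intro u₀
      rw [genTermE_eq h, hN ξ hmem h, ENat.toNat_mul]
      push_cast
      rfl
    show _ = ((genTermE x I ((f.stalkMap x).hom a) ξ).toNat : ℤ) -
          ((genTermE x I ((f.stalkMap x).hom b) ξ).toNat : ℤ)
    rw [hT a, hT b]
    ring
  have hsum : (∑ᶠ ξ : {ξ : X // f ξ = ξ' ∧ ∀ z, f z = f ξ → z ⤳ ξ → z = ξ},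
      ((Module.length (X.presheaf.stalk ξ.1) (X.presheaf.stalk ξ.1 ⧸
            Ideal.map (f.stalkMap ξ.1).hom
              (IsLocalRing.maximalIdeal (Y.presheaf.stalk (f ξ.1))))).toNat : ℤ) *
          Cyc.divFun δX ξ.1
            (f.residueFieldMap ξ.1 ((Y.residueFieldCongr ξ.2.1.symm).hom g)) x) =
      ∑ᶠ ξ ∈ G, (((genTermE x I ((f.stalkMap x).hom a) ξ).toNat : ℤ) -
          ((genTermE x I ((f.stalkMap x).hom b) ξ).toNat : ℤ)) := by
    rw [finsum_congr hterm, finsum_mem_def]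
    have hsupp : Function.support (G.indicator (fun ξ =>
        ((genTermE x I ((f.stalkMap x).hom a) ξ).toNat : ℤ) -
          ((genTermE x I ((f.stalkMap x).hom b) ξ).toNat : ℤ))) ⊆
        {ξ : X | f ξ = ξ' ∧ ∀ z, f z = f ξ → z ⤳ ξ → z = ξ} := by
      intro ξ hξ
      have hξG : ξ ∈ G := Set.mem_of_indicator_ne_zero hξ
      obtain ⟨k1, k2, -⟩ := hGmem ξ hξG
      exact ⟨k1, k2⟩
    exact finsum_subtype_of_support_subset _ _ hsupp
  rw [hsum, finsum_mem_sub_distrib _ _ hGfin, ← hEq a ha𝔭, ← hEq b hb𝔭,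
    pullFun_pos' f δX δY c _ x hP, divFun_pos' δY g hsp hQ2, hLHS, ← hL]
  ring

end Groth.Agent.Lead.SecOrd
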