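import Groth.Agent.Lib.Lead.SecOrd25
import Groth.Agent.Lib.Helper14.AffOpensFinite

/-!
# Flat pullback preserves rational equivalence

`ratEquivZero_pull`: for a flat morphism `p : X' ⟶ X` with the induced (shifted) dimension function
upstairs, the coefficientwise flat pullback of a cycle rationally equivalent to zero is
rationally equivalent to zero.
-/

set_option autoImplicit false
universe u v
open CategoryTheory CategoryTheory.Limits AlgebraicGeometry Opposite TopologicalSpace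
open scoped Pointwise

namespace Groth.Agent.Lead.SecOrd

theorem finsum_sigma' {ι : Type*} {β : ι → Type*} {M : Type*} [AddCommMonoid M]
    (f : (Σ i, β i) → M) (hf : (Function.support f).Finite) :
    ∑ᶠ x, f x = ∑ᶠ i, ∑ᶠ b, f ⟨i, b⟩ := by
  classical
  have hI : ∀ i, (Function.support fun b => f ⟨i, b⟩).Finite := by
    intro i
    have h1 : (Function.support fun b => f ⟨i, b⟩) = Sigma.mk i ⁻¹' Function.support f := rfl
    rw [h1]
    exact hf.preimage (sigma_mk_injective.injOn)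
  have hO : (Function.support fun i => ∑ᶠ b, f ⟨i, b⟩) ⊆ ↑(hf.toFinset.image Sigma.fst) := by
    intro i hi
    have hne : ∑ᶠ b, f ⟨i, b⟩ ≠ 0 := hi
    obtain ⟨b, hb⟩ : ∃ b, f ⟨i, b⟩ ≠ 0 := by
      by_contra hcon
      push Not at hcon
      exact hne (finsum_eq_zero_of_forall_eq_zero hcon)
    rw [Finset.coe_image, Set.mem_image]
    exact ⟨⟨i, b⟩, Finset.mem_coe.mpr ((Set.Finite.mem_toFinset hf).mpr hb), rfl⟩
  have h2 : ∑ᶠ x, f x = ∑ x ∈ hf.toFinset, f x :=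
    finsum_eq_sum_of_support_subset f (by rw [Set.Finite.coe_toFinset])
  have h3 : ∀ i, ∑ᶠ b, f ⟨i, b⟩ = ∑ b ∈ (hI i).toFinset, f ⟨i, b⟩ := fun i =>
    finsum_eq_sum_of_support_subset _ (by rw [Set.Finite.coe_toFinset])
  have h4 : ∑ᶠ i, ∑ᶠ b, f ⟨i, b⟩ =
      ∑ i ∈ hf.toFinset.image Sigma.fst, ∑ b ∈ (hI i).toFinset, f ⟨i, b⟩ := by
    rw [finsum_eq_sum_of_support_subset _ hO]
    exact Finset.sum_congr rfl (fun i _ => h3 i)
  rw [h2, h4, ← Finset.sum_sigma]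
  apply Finset.sum_subset
  · rintro ⟨i, b⟩ hx
    have hx' : f ⟨i, b⟩ ≠ 0 := (Set.Finite.mem_toFinset hf).mp hx
    rw [Finset.mem_sigma]
    refine ⟨Finset.mem_image.mpr ⟨⟨i, b⟩, hx, rfl⟩, ?_⟩
    exact (Set.Finite.mem_toFinset (hI i)).mpr hx'
  · intro x _ hx
    by_contra hne
    exact hx ((Set.Finite.mem_toFinset hf).mpr hne)

variable {X : Scheme.{u}}

theorem pullFun_finsum {X Y : Scheme.{u}} (f : X ⟶ Y) (δX : X → ℤ) (δY : Y → ℤ) (c : ℤ)
    {ι : Type*} (D : ι → Y → ℤ) (x : X) :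
    Cyc.pullFun f δX δY c (fun y => ∑ᶠ i, D i y) x = ∑ᶠ i, Cyc.pullFun f δX δY c (D i) x := by
  by_cases h : δX x = δY (f x) + c
  · rw [pullFun_pos' f δX δY c _ x h, finsum_mul]
    exact finsum_congr (fun i => (pullFun_pos' f δX δY c (D i) x h).symm)
  · rw [pullFun_neg' f δX δY c _ x h]
    symm
    exact finsum_eq_zero_of_forall_eq_zero (fun i => pullFun_neg' f δX δY c (D i) x h)

theorem pullFun_sub {X Y : Scheme.{u}} (f : X ⟶ Y) (δX : X → ℤ) (δY : Y → ℤ) (c : ℤ)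
    (a b : Y → ℤ) :
    Cyc.pullFun f δX δY c (a - b) = Cyc.pullFun f δX δY c a - Cyc.pullFun f δX δY c b := by
  funext x
  by_cases h : δX x = δY (f x) + c
  · rw [Pi.sub_apply, pullFun_pos' f δX δY c _ x h, pullFun_pos' f δX δY c _ x h,
      pullFun_pos' f δX δY c _ x h, Pi.sub_apply, sub_mul]
  · rw [Pi.sub_apply, pullFun_neg' f δX δY c _ x h, pullFun_neg' f δX δY c _ x h,
      pullFun_neg' f δX δY c _ x h, sub_zero]

theorem divFun_pow (δ : X → ℤ) (ξ : X) (g : X.residueField ξ) (hg : g ≠ 0) (n : ℕ) (x : X) :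
    Cyc.divFun δ ξ (g ^ n) x = n * Cyc.divFun δ ξ g x := by
  by_cases h : ξ ⤳ x ∧ δ x + 1 = δ ξ
  · rw [divFun_pos' δ _ h.1 h.2, divFun_pos' δ _ h.1 h.2]
    unfold Cyc.ordAt
    exact ordFrac_pow' (A := Cyc.LocQuot x ξ h.1) g hg n
  · rw [divFun_neg' δ _ h, divFun_neg' δ _ h, mul_zero]

/-- The maximal points of the fibre over `y`. -/
abbrev FibMax {X Y : Scheme.{u}} (f : X ⟶ Y) (y : Y) : Type u :=
  {ζ : X // f ζ = y ∧ ∀ z, f z = f ζ → z ⤳ ζ → z = ζ}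

theorem finite_fibre_maximal_in_affine {X Y : Scheme.{u}} [IsLocallyNoetherian X] (f : X ⟶ Y)
    (V : X.Opens) (hV : IsAffineOpen V) (y : Y) :
    {ζ : X | ζ ∈ V ∧ f ζ = y ∧ ∀ z, f z = f ζ → z ⤳ ζ → z = ζ}.Finite := by
  haveI : IsNoetherianRing Γ(X, V) := IsLocallyNoetherian.component_noetherian ⟨V, hV⟩
  haveI : NoetherianSpace ↥V := noetherianSpace_of_isAffineOpen V hV
  haveI : QuasiSober ↥V := V.isOpen.isOpenEmbedding_subtypeVal.quasiSober
  have hCcl : IsClosed {v : ↥V | f v.1 ∈ closure ({y} : Set Y)} :=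
    isClosed_closure.preimage (f.continuous.comp continuous_subtype_val)
  have hfin := Groth.Agent.Helper14.AffOpensFinite.finite_maximal_points _ hCcl
  refine (hfin.image Subtype.val).subset ?_
  rintro ζ ⟨hζV, hfζ, hmax⟩
  refine ⟨⟨ζ, hζV⟩, ⟨?_, ?_⟩, rfl⟩
  · show f ζ ∈ closure {y}
    rw [hfζ]
    exact subset_closure rfl
  · intro η hη hηζ
    have h1 : η.1 ⤳ ζ := hηζ.map continuous_subtype_val
    have h2 : y ⤳ f η.1 := specializes_iff_mem_closure.mpr hη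
    have h3 : f η.1 ⤳ f ζ := h1.map f.continuous
    have h4 : f η.1 = f ζ := by
      rw [hfζ] at h3 ⊢
      exact (h3.antisymm h2).eq
    exact Subtype.ext (hmax η.1 h4 h1)

theorem finite_idx {X X' : Scheme.{u}} [IsLocallyNoetherian X'] (p : X' ⟶ X) {ι : Type u}
    (ξ : ι → X) (J : Set ι) (hJ : J.Finite) (V : X'.Opens) (hV : IsAffineOpen V)
    (T : Set (Σ i, FibMax p (ξ i))) (hT : ∀ j ∈ T, j.1 ∈ J ∧ j.2.1 ∈ V) : T.Finite := by
  have hM : ∀ i, {ζ : X' | ζ ∈ V ∧ p ζ = ξ i ∧ ∀ z, p z = p ζ → z ⤳ ζ → z = ζ}.Finite :=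
    fun i => finite_fibre_maximal_in_affine p V hV (ξ i)
  obtain ⟨t, ht⟩ : ∃ t : Set (ι × X'), t = ⋃ i ∈ J, (fun ζ : X' => (i, ζ)) ''
      {ζ : X' | ζ ∈ V ∧ p ζ = ξ i ∧ ∀ z, p z = p ζ → z ⤳ ζ → z = ζ} := ⟨_, rfl⟩
  have htfin : t.Finite := by
    rw [ht]
    exact hJ.biUnion (fun i _ => (hM i).image _)
  obtain ⟨φ, hφ⟩ : ∃ φ : (Σ i, FibMax p (ξ i)) → ι × X', φ = fun j => (j.1, j.2.1) := ⟨_, rfl⟩
  have hmaps : Set.MapsTo φ T t := by
    intro j hj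
    obtain ⟨hi, hζV⟩ := hT j hj
    rw [ht, hφ]
    exact Set.mem_biUnion hi ⟨j.2.1, ⟨hζV, j.2.2.1, j.2.2.2⟩, rfl⟩
  have hinj : Set.InjOn φ T := by
    intro j _ j' _ he
    rw [hφ] at he
    have h1 : j.1 = j'.1 := congrArg Prod.fst he
    have h2 : j.2.1 = j'.2.1 := congrArg Prod.snd he
    obtain ⟨i, ζ, hζ⟩ := j
    obtain ⟨i', ζ', hζ'⟩ := j'
    obtain rfl : i = i' := h1
    obtain rfl : ζ = ζ' := h2
    rfl
  exact Set.Finite.of_injOn hmaps hinj htfin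

/-- The restriction of the rational function `g i` to a maximal point of the fibre. -/
noncomputable def pullRes {X X' : Scheme.{u}} (p : X' ⟶ X) {ι : Type u} (ξ : ι → X)
    (g : (i : ι) → X.residueField (ξ i)) (j : Σ i, FibMax p (ξ i)) : X'.residueField j.2.1 :=
  (p.residueFieldMap j.2.1).hom ((X.residueFieldCongr j.2.2.1.symm).hom.hom (g j.1))

/-- The multiplicity of a maximal point of the fibre. -/
noncomputable def pullMult {X X' : Scheme.{u}} (p : X' ⟶ X) {ι : Type u} (ξ : ι → X)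
    (j : Σ i, FibMax p (ξ i)) : ℕ :=
  (Module.length (X'.presheaf.stalk j.2.1) (X'.presheaf.stalk j.2.1 ⧸
    Ideal.map (p.stalkMap j.2.1).hom
      (IsLocalRing.maximalIdeal (X.presheaf.stalk (p j.2.1))))).toNat

theorem pullRes_ne_zero {X X' : Scheme.{u}} (p : X' ⟶ X) {ι : Type u} (ξ : ι → X)
    (g : (i : ι) → X.residueField (ξ i)) (hg0 : ∀ i, g i ≠ 0) (j : Σ i, FibMax p (ξ i)) :
    pullRes p ξ g j ≠ 0 := by
  intro h0
  apply hg0 j.1
  have h1 : (X.residueFieldCongr j.2.2.1.symm).hom.hom (g j.1) = 0 :=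
    (p.residueFieldMap j.2.1).hom.injective
      (h0.trans (map_zero (p.residueFieldMap j.2.1).hom).symm)
  exact (X.residueFieldCongr j.2.2.1.symm).hom.hom.injective
    (h1.trans (map_zero (X.residueFieldCongr j.2.2.1.symm).hom.hom).symm)

/-- Flat pullback preserves rational equivalence to zero. -/
theorem ratEquivZero_pull (X X' : Scheme.{u}) [IsLocallyNoetherian X] [IsLocallyNoetherian X']
    (δ : X → ℤ) (δ' : X' → ℤ) (hd : Cyc.IsDimFun X δ) (hd' : Cyc.IsDimFun X' δ')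
    (p : X' ⟶ X) [Flat p] (c : ℤ)
    (hc : ∀ x' : X', (∀ y, p y = p x' → y ⤳ x' → y = x') → δ' x' = δ (p x') + c) (k : ℤ)
    (α : AlgebraicCycle X ℤ) (h0 : Cyc.RatEquivZero δ k α) (α' : AlgebraicCycle X' ℤ)
    (hα' : ⇑α' = Cyc.pullFun p δ' δ c ⇑α) : Cyc.RatEquivZero δ' (k + c) α' := by
  classical
  obtain ⟨ι, ξ, g, hδξ, hg0, hlf, hsum⟩ := h0
  have hgres0 := pullRes_ne_zero p ξ g hg0
  refine ⟨(Σ i, FibMax p (ξ i)), fun j => j.2.1,
    fun j => pullRes p ξ g j ^ pullMult p ξ j, ?_, ?_, ?_, ?_⟩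
  · intro j
    have h1 := hc j.2.1 j.2.2.2
    have h2 : δ (p j.2.1) = δ (ξ j.1) := by rw [j.2.2.1]
    have h3 := hδξ j.1
    show δ' j.2.1 = k + c + 1
    omega
  · intro j
    exact pow_ne_zero _ (hgres0 j)
  · intro x'
    obtain ⟨U, hUo, hxU, hUfin⟩ := hlf (p x')
    have hxW : x' ∈ (⟨p ⁻¹' U, hUo.preimage p.continuous⟩ : X'.Opens) := hxU
    obtain ⟨V, hVaff, hxV, hVW⟩ := exists_isAffineOpen_mem_and_subset hxW
    refine ⟨V.1, V.2, hxV, ?_⟩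
    refine finite_idx p ξ _ hUfin V hVaff _ ?_
    rintro ⟨i, ζ, hζ1, hζ2⟩ ⟨w, hw1, hw2⟩
    have hζw : ζ ⤳ w := specializes_iff_mem_closure.mpr hw1
    have hζV : ζ ∈ V := hζw.mem_open V.2 hw2
    refine ⟨⟨ξ i, subset_closure rfl, ?_⟩, hζV⟩
    rw [← hζ1]
    exact hVW hζV
  · intro x'
    have hαfun : ⇑α = fun x => ∑ᶠ i, Cyc.divFun δ (ξ i) (g i) x := funext hsum
    rw [hα', hαfun, pullFun_finsum]
    have hstep : ∀ i, Cyc.pullFun p δ' δ c (Cyc.divFun δ (ξ i) (g i)) x' =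
        ∑ᶠ ζ : FibMax p (ξ i),
          Cyc.divFun δ' ζ.1 (pullRes p ξ g ⟨i, ζ⟩ ^ pullMult p ξ ⟨i, ζ⟩) x' := by
      intro i
      rw [main_pull_gen X' X δ' δ hd' hd p c hc (ξ i) (g i) (hg0 i) x']
      refine finsum_congr (fun ζ => ?_)
      rw [divFun_pow δ' ζ.1 _ (hgres0 ⟨i, ζ⟩)]
      rfl
    rw [finsum_congr hstep]
    symm
    refine finsum_sigma' (fun j : (Σ i, FibMax p (ξ i)) =>
      Cyc.divFun δ' j.2.1 (pullRes p ξ g j ^ pullMult p ξ j) x') ?_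
    obtain ⟨U, hUo, hxU, hUfin⟩ := hlf (p x')
    obtain ⟨V, hVaff, hxV, -⟩ := exists_isAffineOpen_mem_and_subset (x := x') (U := ⊤) trivial
    refine finite_idx p ξ _ hUfin V hVaff _ ?_
    rintro ⟨i, ζ, hζ1, hζ2⟩ hj
    have hne : Cyc.divFun δ' ζ (pullRes p ξ g ⟨i, ⟨ζ, hζ1, hζ2⟩⟩ ^
        pullMult p ξ ⟨i, ⟨ζ, hζ1, hζ2⟩⟩) x' ≠ 0 := hj
    have hζx : ζ ⤳ x' := by
      by_contra hns
      exact hne (divFun_neg' δ' _ (fun hcc => hns hcc.1))
    refine ⟨⟨p x', ?_, hxU⟩, hζx.mem_open V.2 hxV⟩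
    apply specializes_iff_mem_closure.mp
    rw [← hζ1]
    exact hζx.map p.continuous

end Groth.Agent.Lead.SecOrd
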