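import Groth.Agent.Lib.Lead.SecOrd2
import Groth.Agent.Lib.Helper13.TensorStalk

/-!
# Additivity of the order of rational sections under tensor product
-/

set_option autoImplicit false
universe u v
open CategoryTheory CategoryTheory.Limits AlgebraicGeometry Opposite TopologicalSpace
open Groth.Agent.Helper13.Inv TensorProduct

namespace Groth.Agent.Lead.SecOrd

theorem bijective_smul_tmul {O A B : Type u} [CommRing O] [AddCommGroup A] [Module O A]
    [AddCommGroup B] [Module O B] (a : A) (b : B)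
    (ha : Function.Bijective (fun r : O => r • a)) (hb : Function.Bijective (fun r : O => r • b)) :
    Function.Bijective (fun r : O => r • (a ⊗ₜ[O] b)) := by
  let eA : O ≃ₗ[O] A := LinearEquiv.ofBijective (LinearMap.toSpanSingleton O A a) ha
  let eB : O ≃ₗ[O] B := LinearEquiv.ofBijective (LinearMap.toSpanSingleton O B b) hb
  let E : O ≃ₗ[O] (A ⊗[O] B) := (TensorProduct.lid O O).symm.trans (TensorProduct.congr eA eB)
  have hE : (fun r : O => r • (a ⊗ₜ[O] b)) = E := by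
    funext r
    show r • (a ⊗ₜ[O] b) = (TensorProduct.congr eA eB) ((TensorProduct.lid O O).symm r)
    rw [TensorProduct.lid_symm_apply, TensorProduct.congr_tmul]
    show r • (a ⊗ₜ[O] b) = ((1 : O) • a) ⊗ₜ[O] (r • b)
    rw [one_smul, TensorProduct.tmul_smul]
  rw [hE]
  exact E.bijective

variable {X : Scheme.{u}} [IsIntegral X]

theorem isGen_tmul (L N : X.Modules) {W : X.Opens} (eL : Γ(L, W)) (eN : Γ(N, W)) (z : X)
    (hz : z ∈ W) (hL : IsGen L eL z hz) (hN : IsGen N eN z hz) :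
    IsGen (CohB1.tensorMod L N) (Groth.Agent.Helper13.Tensor.tmul L N eL eN) z hz := by
  unfold IsGen
  rw [← Groth.Agent.Helper13.Tensor.stalkTensorEquiv_germ]
  have h1 := bijective_smul_tmul _ _ hL hN
  have h2 : (fun r : X.presheaf.stalk z => r • (Groth.Agent.Helper13.Tensor.stalkTensorEquiv L N z)
      (L.presheaf.germ W z hz eL ⊗ₜ N.presheaf.germ W z hz eN)) =
      (Groth.Agent.Helper13.Tensor.stalkTensorEquiv L N z) ∘
        (fun r : X.presheaf.stalk z => r • (L.presheaf.germ W z hz eL ⊗ₜ N.presheaf.germ W z hz eN)) := by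
    funext r
    simp only [Function.comp_apply, map_smul]
  rw [h2]
  exact (LinearEquiv.bijective _).comp h1

theorem residue_ne_zero {φ : X.presheaf.stalk (genericPoint X)} (hφ : φ ≠ 0) :
    (X.residue (genericPoint X)).hom φ ≠ 0 := by
  intro h0
  apply hφ
  have h1 : IsLocalRing.residue (X.presheaf.stalk (genericPoint X)) φ = 0 := h0
  rw [IsLocalRing.residue_eq_zero_iff, maximalIdeal_functionField] at h1
  exact h1

theorem exists_gens (L N : X.Modules) (hL : PicF.IsInvertible L) (hN : PicF.IsInvertible N)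
    (x : X) : ∃ (W : X.Opens) (_ : x ∈ W) (eL : Γ(L, W)) (eN : Γ(N, W)),
      (∀ (z : X) (hz : z ∈ W), IsGen L eL z hz) ∧ (∀ (z : X) (hz : z ∈ W), IsGen N eN z hz) := by
  obtain ⟨U₁, hx₁, e₁, he₁⟩ := (isInvertible_iff_exists_isGen L).1 hL x
  obtain ⟨U₂, hx₂, e₂, he₂⟩ := (isInvertible_iff_exists_isGen N).1 hN x
  refine ⟨U₁ ⊓ U₂, ⟨hx₁, hx₂⟩, L.presheaf.map (homOfLE inf_le_left).op e₁,
    N.presheaf.map (homOfLE inf_le_right).op e₂, ?_, ?_⟩
  · intro z hz
    exact (isGen_res L (homOfLE inf_le_left) e₁ z hz).mpr (he₁ z hz.1)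
  · intro z hz
    exact (isGen_res N (homOfLE inf_le_right) e₂ z hz).mpr (he₂ z hz.2)

theorem main_tensor (X : Scheme.{u}) [IsIntegral X] [IsLocallyNoetherian X] (L N : X.Modules)
    (hL : PicF.IsInvertible L) (hN : PicF.IsInvertible N)
    (s : Cyc.secFibre L (genericPoint ↥X)) (hs : s ≠ 0)
    (t : Cyc.secFibre N (genericPoint ↥X)) (ht : t ≠ 0) :
    ∃ w : Cyc.secFibre (CohB1.tensorMod L N) (genericPoint ↥X), w ≠ 0 ∧
      ∀ (x : ↥X), ringKrullDim ↑(X.presheaf.stalk x) = 1 →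
        Cyc.secOrdAt (CohB1.tensorMod L N) (genericPoint ↥X) x
            ((genericPoint_spec ↥X).specializes (Set.mem_univ x)) w =
          Cyc.secOrdAt L (genericPoint ↥X) x
              ((genericPoint_spec ↥X).specializes (Set.mem_univ x)) s +
            Cyc.secOrdAt N (genericPoint ↥X) x
              ((genericPoint_spec ↥X).specializes (Set.mem_univ x)) t := by
  obtain ⟨s', rfl⟩ := Submodule.Quotient.mk_surjective _ s
  obtain ⟨t', rfl⟩ := Submodule.Quotient.mk_surjective _ t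
  have hs' : s' ≠ 0 := fun h => hs ((mk_eq_zero_iff L s').mpr h)
  have ht' : t' ≠ 0 := fun h => ht ((mk_eq_zero_iff N t').mpr h)
  have loc : ∀ x : X, ∃ (W : X.Opens) (hx : x ∈ W) (eL : Γ(L, W)) (eN : Γ(N, W))
      (φ ψ : X.presheaf.stalk (genericPoint X)),
      (∀ (z : X) (hz : z ∈ W), IsGen L eL z hz) ∧ (∀ (z : X) (hz : z ∈ W), IsGen N eN z hz) ∧
      φ ≠ 0 ∧ ψ ≠ 0 ∧
      s' = φ • L.presheaf.germ W (genericPoint X) (ExtDD.gen_mem hx) eL ∧
      t' = ψ • N.presheaf.germ W (genericPoint X) (ExtDD.gen_mem hx) eN ∧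
      Groth.Agent.Helper13.Tensor.stalkTensorEquiv L N (genericPoint X) (s' ⊗ₜ t') =
        (φ * ψ) • (CohB1.tensorMod L N).presheaf.germ W (genericPoint X) (ExtDD.gen_mem hx)
          (Groth.Agent.Helper13.Tensor.tmul L N eL eN) := by
    intro x
    obtain ⟨W, hx, eL, eN, hgL, hgN⟩ := exists_gens L N hL hN x
    obtain ⟨φ, hφ⟩ := (hgL _ (ExtDD.gen_mem hx)).2 s'
    obtain ⟨ψ, hψ⟩ := (hgN _ (ExtDD.gen_mem hx)).2 t'
    have hφ' : φ • L.presheaf.germ W (genericPoint X) (ExtDD.gen_mem hx) eL = s' := hφ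
    have hψ' : ψ • N.presheaf.germ W (genericPoint X) (ExtDD.gen_mem hx) eN = t' := hψ
    refine ⟨W, hx, eL, eN, φ, ψ, hgL, hgN, ?_, ?_, hφ'.symm, hψ'.symm, ?_⟩
    · rintro rfl
      exact hs' (by rw [← hφ', zero_smul])
    · rintro rfl
      exact ht' (by rw [← hψ', zero_smul])
    · rw [← hφ', ← hψ', TensorProduct.smul_tmul_smul, map_smul,
        Groth.Agent.Helper13.Tensor.stalkTensorEquiv_germ]
  refine ⟨Submodule.Quotient.mk
    (Groth.Agent.Helper13.Tensor.stalkTensorEquiv L N (genericPoint X) (s' ⊗ₜ t')), ?_, ?_⟩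
  · obtain ⟨W, hx, eL, eN, φ, ψ, hgL, hgN, hφ, hψ, hs1, ht1, hst⟩ := loc (genericPoint X)
    rw [Ne, mk_eq_zero_iff, hst]
    intro h0
    have hg := isGen_tmul L N eL eN _ (ExtDD.gen_mem hx) (hgL _ _) (hgN _ _)
    have h1 : φ * ψ = 0 := by
      apply hg.1
      show (φ * ψ) • _ = (0 : X.presheaf.stalk (genericPoint X)) • _
      rw [h0, zero_smul]
    exact mul_ne_zero hφ hψ h1
  · intro x _
    obtain ⟨W, hx, eL, eN, φ, ψ, hgL, hgN, hφ, hψ, hs1, ht1, hst⟩ := loc x
    rw [hst, hs1, ht1]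
    rw [secOrdAt_of_isGen (CohB1.tensorMod L N) x hx (Groth.Agent.Helper13.Tensor.tmul L N eL eN)
        (isGen_tmul L N eL eN _ hx (hgL _ _) (hgN _ _))
        (isGen_tmul L N eL eN _ (ExtDD.gen_mem hx) (hgL _ _) (hgN _ _)),
      secOrdAt_of_isGen L x hx eL (hgL _ _) (hgL _ _),
      secOrdAt_of_isGen N x hx eN (hgN _ _) (hgN _ _), map_mul]
    exact ordFrac_mul' _ _ (residue_ne_zero hφ) (residue_ne_zero hψ)

end Groth.Agent.Lead.SecOrd
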