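import Groth.Agent.Lib.Lead.SecOrd3

/-!
# Comparison of `Cyc.ordAt` at the generic point with Mathlib's `Ring.ordFrac` of the local ring
-/

set_option autoImplicit false
universe u v
open CategoryTheory CategoryTheory.Limits AlgebraicGeometry Opposite TopologicalSpace
open Groth.Agent.Helper13.Inv

namespace Groth.Agent.Lead.SecOrd

section DVR

variable {A : Type u} [CommRing A] [IsDomain A] [IsDiscreteValuationRing A]
  {K : Type v} [Field K] [Algebra A K] [IsFractionRing A K]

theorem ordFrac_eq_of_valuation_like (v : K → ℤ)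
    (hmul : ∀ g g' : K, g ≠ 0 → g' ≠ 0 → v (g * g') = v g + v g')
    (hunit : ∀ u : A, IsUnit u → v (algebraMap A K u) = 0)
    (ϖ : A) (hϖ : Irreducible ϖ) (hv : v (algebraMap A K ϖ) = 1)
    (g : K) (hg : g ≠ 0) :
    Ring.ordFrac A g = WithZero.exp (v g) := by
  have hi : Function.Injective (algebraMap A K) := IsFractionRing.injective A K
  have hϖK : algebraMap A K ϖ ≠ 0 := (map_ne_zero_iff _ hi).mpr hϖ.ne_zero
  have hv1 : v 1 = 0 := by
    have h1 := hmul 1 1 one_ne_zero one_ne_zero
    rw [mul_one] at h1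
    omega
  have hpow : ∀ n : ℕ, v (algebraMap A K ϖ ^ n) = n := by
    intro n
    induction n with
    | zero => simpa using hv1
    | succ n ih =>
      rw [pow_succ, hmul _ _ (pow_ne_zero _ hϖK) hϖK, ih, hv]
      push_cast
      ring
  have hA : ∀ a : A, a ≠ 0 →
      Ring.ordFrac A (algebraMap A K a) = WithZero.exp (v (algebraMap A K a)) := by
    intro a ha
    obtain ⟨n, u, hu⟩ := IsDiscreteValuationRing.eq_unit_mul_pow_irreducible ha hϖ
    subst hu
    have huK : algebraMap A K (u : A) ≠ 0 := (map_ne_zero_iff _ hi).mpr u.isUnit.ne_zero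
    rw [map_mul, map_pow, map_mul, map_pow, Ring.ordFrac_of_isUnit u.isUnit,
      Ring.ordFrac_irreducible hϖ, one_mul, hmul _ _ huK (pow_ne_zero _ hϖK),
      hunit _ u.isUnit, hpow, zero_add, ← WithZero.exp_nsmul]
    simp
  obtain ⟨a, b, hb, rfl⟩ := IsFractionRing.div_surjective (A := A) g
  have hb0 : b ≠ 0 := nonZeroDivisors.ne_zero hb
  have ha0 : a ≠ 0 := by
    rintro rfl
    simp at hg
  have hbK : algebraMap A K b ≠ 0 := (map_ne_zero_iff _ hi).mpr hb0
  have h1 : v (algebraMap A K a) =
      v (algebraMap A K a / algebraMap A K b) + v (algebraMap A K b) := by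
    rw [← hmul _ _ hg hbK, div_mul_cancel₀ _ hbK]
  rw [map_div₀, hA a ha0, hA b hb0, h1, WithZero.exp_add, mul_div_assoc,
    div_self WithZero.exp_ne_zero, mul_one]

end DVR

variable {X : Scheme.{u}} [IsIntegral X]

theorem residue_injective :
    Function.Injective (X.residue (genericPoint X)).hom := by
  rw [injective_iff_map_eq_zero]
  intro φ hφ
  by_contra h
  exact residue_ne_zero h hφ

theorem spec_injective (x : X) :
    Function.Injective (X.presheaf.stalkSpecializes (ExtDD.gen_spz x)).hom :=
  IsFractionRing.injective (X.presheaf.stalk x) X.functionField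

theorem specMap_injective (x : X) :
    Function.Injective (Cyc.specMap x (genericPoint X) (ExtDD.gen_spz x)) := by
  intro a b hab
  have h1 : (X.residue (genericPoint X)).hom
      ((X.presheaf.stalkSpecializes (ExtDD.gen_spz x)).hom a) =
      (X.residue (genericPoint X)).hom
        ((X.presheaf.stalkSpecializes (ExtDD.gen_spz x)).hom b) := hab
  exact spec_injective x (residue_injective h1)

noncomputable def piEquiv (x : X) :
    X.presheaf.stalk x ≃+* Cyc.LocQuot x (genericPoint X) (ExtDD.gen_spz x) :=
  RingEquiv.ofBijective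
    (Ideal.Quotient.mk (RingHom.ker (Cyc.specMap x (genericPoint X) (ExtDD.gen_spz x))))
    ⟨by
      rw [injective_iff_map_eq_zero]
      intro a ha
      rw [Ideal.Quotient.eq_zero_iff_mem, RingHom.mem_ker] at ha
      exact specMap_injective x (by rw [ha, map_zero]), Ideal.Quotient.mk_surjective⟩

theorem piEquiv_apply (x : X) (r : X.presheaf.stalk x) :
    piEquiv x r =
      Ideal.Quotient.mk (RingHom.ker (Cyc.specMap x (genericPoint X) (ExtDD.gen_spz x))) r := rfl

theorem algebraMap_locQuot_injective (x : X) :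
    Function.Injective (algebraMap (Cyc.LocQuot x (genericPoint X) (ExtDD.gen_spz x))
      (X.residueField (genericPoint X))) := by
  intro a b hab
  obtain ⟨a, rfl⟩ := (piEquiv x).surjective a
  obtain ⟨b, rfl⟩ := (piEquiv x).surjective b
  rw [piEquiv_apply, piEquiv_apply, ← residue_spec, ← residue_spec] at hab
  rw [spec_injective x (residue_injective hab)]

theorem residue_surjective :
    Function.Surjective (X.residue (genericPoint X)).hom :=
  IsLocalRing.residue_surjective

theorem locQuot_inst [IsLocallyNoetherian X] (x : X)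
    (hx : ringKrullDim (X.presheaf.stalk x) = 1) :
    IsNoetherianRing (Cyc.LocQuot x (genericPoint X) (ExtDD.gen_spz x)) ∧
      Ring.KrullDimLE 1 (Cyc.LocQuot x (genericPoint X) (ExtDD.gen_spz x)) ∧
      Nontrivial (Cyc.LocQuot x (genericPoint X) (ExtDD.gen_spz x)) ∧
      IsFractionRing (Cyc.LocQuot x (genericPoint X) (ExtDD.gen_spz x))
        (X.residueField (genericPoint X)) := by
  refine ⟨inferInstance, ?_, (piEquiv x).injective.nontrivial, ?_⟩
  · rw [Ring.krullDimLE_iff, ← ringKrullDim_eq_of_ringEquiv (piEquiv x), hx]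
    rfl
  · haveI : FaithfulSMul (Cyc.LocQuot x (genericPoint X) (ExtDD.gen_spz x))
        (X.residueField (genericPoint X)) :=
      (faithfulSMul_iff_algebraMap_injective _ _).mpr (algebraMap_locQuot_injective x)
    apply IsFractionRing.of_field
    intro z
    obtain ⟨g, rfl⟩ := residue_surjective (X := X) z
    obtain ⟨a, b, hb, rfl⟩ := IsFractionRing.div_surjective (A := X.presheaf.stalk x)
      (g : X.functionField)
    refine ⟨piEquiv x a, piEquiv x b, ?_⟩
    rw [piEquiv_apply, piEquiv_apply, ← residue_spec, ← residue_spec, map_div₀]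
    rfl

theorem ordAt_eq_of_dvr [IsLocallyNoetherian X] (x : X)
    (hx : ringKrullDim (X.presheaf.stalk x) = 1)
    [IsDiscreteValuationRing (X.presheaf.stalk x)] (g : X.functionField) (hg : g ≠ 0)
    (h : genericPoint X ⤳ x) :
    Ring.ordFrac (X.presheaf.stalk x) g =
      WithZero.exp (Cyc.ordAt x (genericPoint X) h ((X.residue (genericPoint X)).hom g)) := by
  obtain ⟨h1, h2, h3, h4⟩ := locQuot_inst x hx
  haveI : IsDomain (Cyc.LocQuot x (genericPoint X) (ExtDD.gen_spz x)) :=
    Function.Injective.isDomain _ (algebraMap_locQuot_injective x)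
  haveI : IsPrincipalIdealRing (Cyc.LocQuot x (genericPoint X) (ExtDD.gen_spz x)) :=
    IsPrincipalIdealRing.of_surjective (piEquiv x).toRingHom (piEquiv x).surjective
  obtain ⟨ϖ, hϖ⟩ := IsDiscreteValuationRing.exists_irreducible (X.presheaf.stalk x)
  refine ordFrac_eq_of_valuation_like
    (fun g => Cyc.ordAt x (genericPoint X) h ((X.residue (genericPoint X)).hom g))
    ?_ ?_ ϖ hϖ ?_ g hg
  · intro g g' hg hg'
    show CycAlg.ordFrac _ _ _ = CycAlg.ordFrac _ _ _ + CycAlg.ordFrac _ _ _
    rw [map_mul]
    exact ordFrac_mul' _ _ (residue_ne_zero hg) (residue_ne_zero hg')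
  · intro w hw
    show CycAlg.ordFrac (Cyc.LocQuot x (genericPoint X) (ExtDD.gen_spz x))
      (X.residueField (genericPoint X)) ((X.residue (genericPoint X)).hom
        ((X.presheaf.stalkSpecializes (ExtDD.gen_spz x)).hom w)) = 0
    rw [residue_spec]
    exact ordFrac_algebraMap_unit _ (hw.map _)
  · show CycAlg.ordFrac (Cyc.LocQuot x (genericPoint X) (ExtDD.gen_spz x))
      (X.residueField (genericPoint X)) ((X.residue (genericPoint X)).hom
        ((X.presheaf.stalkSpecializes (ExtDD.gen_spz x)).hom ϖ)) = 1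
    rw [residue_spec]
    have hirr : Irreducible (Ideal.Quotient.mk
        (RingHom.ker (Cyc.specMap x (genericPoint X) (ExtDD.gen_spz x))) ϖ) :=
      (MulEquiv.irreducible_iff (piEquiv x).toMulEquiv).mpr hϖ
    rw [Groth.Agent.Helper25.LatDet.ordFrac_algebraMap _ _ hirr.ne_zero,
      Ring.ord_of_irreducible hirr]
    rfl

end Groth.Agent.Lead.SecOrd
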