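import Groth.Agent.Lib.Lead.SecOrd4
import Groth.Agent.Lib.Lead.PicPunct
import Groth.Agent.Lib.Helper13.GlobGen
import Groth.Agent.Lib.Helper13.InvQCoh
import Groth.Agent.Lib.Helper23.RegMero1

/-!
# An invertible module with a rational section whose divisor is principal is trivial
-/

set_option autoImplicit false
universe u v
open CategoryTheory CategoryTheory.Limits AlgebraicGeometry Opposite TopologicalSpace
open Groth.Agent.Helper13.Inv RefHull

namespace Groth.Agent.Lead.SecOrd

variable {X : Scheme.{u}} [IsIntegral X]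

theorem isUnit_germ_of_codim_one [IsLocallyNoetherian X] {W : X.Opens} (hW : IsAffineOpen W)
    [Nonempty W] (g : Γ(X, W)) (hg : g ≠ 0)
    (h : ∀ (z : X) (hz : z ∈ W), ringKrullDim (X.presheaf.stalk z) = 1 →
      IsUnit (X.presheaf.germ W z hz g))
    (y : X) (hy : y ∈ W) : IsUnit (X.presheaf.germ W y hy g) := by
  classical
  haveI : IsNoetherianRing Γ(X, W) := IsLocallyNoetherian.component_noetherian ⟨W, hW⟩
  by_contra hnu
  have hmem : g ∈ (hW.primeIdealOf ⟨y, hy⟩).asIdeal := by
    letI := TopCat.Presheaf.algebra_section_stalk X.presheaf (⟨y, hy⟩ : W)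
    haveI := hW.isLocalization_stalk ⟨y, hy⟩
    by_contra hmem
    exact hnu ((IsLocalization.AtPrime.isUnit_to_map_iff (X.presheaf.stalk y)
      (hW.primeIdealOf ⟨y, hy⟩).asIdeal g).mpr hmem)
  obtain ⟨q, hqmin, hqp⟩ := Ideal.exists_minimalPrimes_le (I := Ideal.span {g})
    (J := (hW.primeIdealOf ⟨y, hy⟩).asIdeal) ((Ideal.span_singleton_le_iff_mem _).mpr hmem)
  haveI hqprime : q.IsPrime := hqmin.1.1
  have hgq : g ∈ q := (Ideal.span_singleton_le_iff_mem _).mp hqmin.1.2
  have hht : q.height = 1 := by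
    have h1 : q.height ≤ 1 :=
      Ideal.height_le_one_of_isPrincipal_of_mem_minimalPrimes (Ideal.span {g}) q hqmin
    have h0 : q.height ≠ 0 := by
      rw [Ne, Ideal.height_eq_zero_iff_eq_bot]
      rintro rfl
      exact hg (by simpa using hgq)
    exact le_antisymm h1 (ENat.one_le_iff_ne_zero.mpr h0)
  have hzW : hW.fromSpec ⟨q, hqprime⟩ ∈ W := by
    have h1 : hW.fromSpec ⟨q, hqprime⟩ ∈ hW.fromSpec.opensRange := ⟨_, rfl⟩
    rw [hW.opensRange_fromSpec] at h1
    exact h1
  letI := TopCat.Presheaf.algebra_section_stalk X.presheaf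
    (⟨hW.fromSpec ⟨q, hqprime⟩, hzW⟩ : W)
  haveI hloc : IsLocalization.AtPrime (X.presheaf.stalk (hW.fromSpec ⟨q, hqprime⟩)) q :=
    hW.isLocalization_stalk' ⟨q, hqprime⟩ hzW
  have hdimz : ringKrullDim (X.presheaf.stalk (hW.fromSpec ⟨q, hqprime⟩)) = 1 := by
    rw [IsLocalization.AtPrime.ringKrullDim_eq_height q
      (X.presheaf.stalk (hW.fromSpec ⟨q, hqprime⟩)), hht]
    rfl
  have hu := h _ hzW hdimz
  exact (IsLocalization.AtPrime.isUnit_to_map_iff
    (X.presheaf.stalk (hW.fromSpec ⟨q, hqprime⟩)) q g).mp hu hgq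

theorem exists_unit_of_ord_eq [IsLocallyNoetherian X] (hX : Pi1.IsNormalScheme X)
    (L : X.Modules) (f : X.functionField) (hf : f ≠ 0) (fi : X.presheaf.stalk (genericPoint X))
    (hfi : fi = (f⁻¹ : X.functionField))
    (x : X) (hdim : ringKrullDim (X.presheaf.stalk x) = 1)
    {W : X.Opens} (hx : x ∈ W) (e : Γ(L, W)) (hex : IsGen L e x hx)
    (heη : IsGen L e (genericPoint X) (ExtDD.gen_mem hx))
    (φ : X.presheaf.stalk (genericPoint X)) (hφ : φ ≠ 0)
    (h : Cyc.secOrdAt L (genericPoint X) x (genericPoint_specializes x)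
      (Submodule.Quotient.mk (φ • L.presheaf.germ W (genericPoint X) (ExtDD.gen_mem hx) e) :
        Cyc.secFibre L (genericPoint X)) = Scheme.ord f x) :
    ∃ u : X.presheaf.stalk x, IsUnit u ∧
      fi * φ = (X.presheaf.stalkSpecializes (ExtDD.gen_spz x)).hom u := by
  haveI := (hX x).2
  have hco : Order.coheight x = 1 := by
    have h1 := ringKrullDim_stalk_eq_coheight x
    rw [hdim] at h1
    exact_mod_cast h1.symm
  have hpid : IsPrincipalIdealRing (X.presheaf.stalk x) :=
    Groth.Agent.Lead.FreeLoc.isPrincipalIdealRing_of_dim_le_one _ (le_of_eq hdim)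
  haveI : IsDiscreteValuationRing (X.presheaf.stalk x) :=
    { toIsPrincipalIdealRing := hpid
      toIsLocalRing := inferInstance
      not_a_field' := by
        intro hbot
        have hfld : IsField (X.presheaf.stalk x) :=
          IsLocalRing.isField_iff_maximalIdeal_eq.mpr hbot
        have h0 := ringKrullDim_eq_zero_of_isField hfld
        rw [hdim] at h0
        exact one_ne_zero h0 }
  rw [secOrdAt_of_isGen L x hx e hex heη] at h
  have h1 := ordAt_eq_of_dvr x hdim (φ : X.functionField) hφ (genericPoint_specializes x)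
  rw [h] at h1
  have h2 : Ring.ordFrac (X.presheaf.stalk x) f = WithZero.exp (Scheme.ord f x) :=
    (Scheme.ord_eq_iff hco hf (n := Scheme.ord f x)).mp rfl
  obtain ⟨u, hu⟩ := Ring.associated_of_ordFrac_eq (R := X.presheaf.stalk x)
    (φ : X.functionField) f (h1.trans h2.symm)
  refine ⟨↑u⁻¹, Units.isUnit _, ?_⟩
  have hu' : algebraMap (X.presheaf.stalk x) X.functionField ↑u * φ = f := by
    rw [← hu, Units.smul_def, Algebra.smul_def]
  have hu0 : algebraMap (X.presheaf.stalk x) X.functionField ↑u ≠ 0 := by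
    intro h0
    rw [h0, zero_mul] at hu'
    exact hf hu'.symm
  show fi * φ = algebraMap (X.presheaf.stalk x) X.functionField ↑u⁻¹
  rw [hfi, ← hu', mul_inv, mul_assoc, inv_mul_cancel₀ hφ, mul_one, map_units_inv]

theorem main_trivial (X : Scheme.{u}) [IsIntegral X] [IsLocallyNoetherian X]
    (hX : Pi1.IsNormalScheme X) (L : X.Modules) (hL : PicF.IsInvertible L)
    (s : Cyc.secFibre L (genericPoint ↥X)) (hs : s ≠ 0) (f : ↑X.functionField) (hf : f ≠ 0)
    (h : ∀ x : ↥X, Order.coheight x = 1 →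
      Cyc.secOrdAt L (genericPoint ↥X) x (genericPoint_specializes x) s = Scheme.ord f x) :
    Nonempty (L ≅ Coh.structureModule X) := by
  obtain ⟨s', rfl⟩ := Submodule.Quotient.mk_surjective _ s
  have hs' : s' ≠ 0 := fun h0 => hs ((mk_eq_zero_iff L s').mpr h0)
  haveI hq : L.IsQuasicoherent := isQuasicoherent_of_isInvertible L hL
  have hcoh : Coh.IsCoh L :=
    ⟨hq, Groth.Agent.Helper13.GlobGen.isFiniteType_of_isInvertible L hL⟩
  have hrefl : IsReflexive L := by
    rw [Groth.Agent.Lead.HomSh.isReflexive_iff_forall_isReflexiveAt _ hcoh]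
    intro x
    obtain ⟨U, hxU, e, he⟩ := (isInvertible_iff_exists_isGen L).1 hL x
    have hb : Function.Bijective (LinearMap.toSpanSingleton (X.presheaf.stalk x)
        (L.presheaf.stalk x) (L.presheaf.germ U x hxU e)) := he x hxU
    unfold IsReflexiveAt
    exact Module.equiv (LinearEquiv.ofBijective _ hb)
  have hn : ∀ x : X, IsIntegrallyClosed (X.presheaf.stalk x) := fun x => (hX x).2
  obtain ⟨fi, hfi⟩ : ∃ fi : X.presheaf.stalk (genericPoint X), fi = (f⁻¹ : X.functionField) :=
    ⟨_, rfl⟩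
  have hfi0 : fi ≠ 0 := by
    rw [hfi]
    exact inv_ne_zero hf
  have key : ∀ (x : X), ringKrullDim (X.presheaf.stalk x) = 1 →
      ∀ {W : X.Opens} (hx : x ∈ W) (e : Γ(L, W)),
      IsGen L e x hx → IsGen L e (genericPoint X) (ExtDD.gen_mem hx) →
      ∀ φ : X.presheaf.stalk (genericPoint X),
        s' = φ • L.presheaf.germ W (genericPoint X) (ExtDD.gen_mem hx) e →
      ∃ u : X.presheaf.stalk x, IsUnit u ∧
        fi * φ = (X.presheaf.stalkSpecializes (ExtDD.gen_spz x)).hom u := by
    intro x hdim W hx e hex heη φ hφ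
    have hφ0 : φ ≠ 0 := by
      rintro rfl
      exact hs' (by rw [hφ, zero_smul])
    have hco : Order.coheight x = 1 := by
      have h1 := ringKrullDim_stalk_eq_coheight x
      rw [hdim] at h1
      exact_mod_cast h1.symm
    have hx1 := h x hco
    rw [hφ] at hx1
    exact exists_unit_of_ord_eq hX L f hf fi hfi x hdim hx e hex heη φ hφ0 hx1
  have hrange : ∀ x : X, ringKrullDim (X.presheaf.stalk x) = 1 →
      fi • s' ∈ Set.range (L.presheaf.stalkSpecializes (ExtDD.gen_spz x)).hom := by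
    intro x hdim
    obtain ⟨W, hx, e, he⟩ := (isInvertible_iff_exists_isGen L).1 hL x
    obtain ⟨φ, hφ⟩ := (he _ (ExtDD.gen_mem hx)).2 s'
    have hφ' : φ • L.presheaf.germ W (genericPoint X) (ExtDD.gen_mem hx) e = s' := hφ
    obtain ⟨u, hu, hfu⟩ := key x hdim hx e (he x hx) (he _ _) φ hφ'.symm
    refine ⟨u • L.presheaf.germ W x hx e, ?_⟩
    rw [ExtDD.spec_smul, ExtDD.spec_germ, ← hfu, ← hφ', smul_smul]
  obtain ⟨σ, hσ⟩ := ExtDD.exists_global_section hn L hcoh hrefl (fi • s') hrange
  have hgen : ∀ y : X, IsGen L σ y trivial := by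
    intro y
    obtain ⟨U₀, hyU₀, e₀, he₀⟩ := (isInvertible_iff_exists_isGen L).1 hL y
    obtain ⟨W, hW, hyW, hWU⟩ := Opens.isBasis_iff_nbhd.mp X.isBasis_affineOpens hyU₀
    haveI : Nonempty W := ⟨⟨y, hyW⟩⟩
    obtain ⟨e, he⟩ : ∃ e : Γ(L, W), e = L.presheaf.map (homOfLE hWU).op e₀ := ⟨_, rfl⟩
    have hge : ∀ (z : X) (hz : z ∈ W), IsGen L e z hz := fun z hz => by
      rw [he]
      exact (isGen_res L (homOfLE hWU) e₀ z hz).mpr (he₀ z (hWU hz))
    have hη : genericPoint X ∈ W := ExtDD.gen_mem hyW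
    obtain ⟨φ, hφ⟩ := (hge _ hη).2 s'
    have hφ' : φ • L.presheaf.germ W (genericPoint X) hη e = s' := hφ
    have hφ0 : φ ≠ 0 := by
      rintro rfl
      exact hs' (by rw [← hφ', zero_smul])
    obtain ⟨g, hg⟩ := Groth.Agent.Helper23.RegMero.IsGenOn.exists_smul_eq (L := L) (e := e) hge
      (L.presheaf.map (homOfLE (le_top : W ≤ ⊤)).op σ)
    have hgη : X.presheaf.germ W (genericPoint X) hη g = fi * φ := by
      apply (hge _ hη).1
      show X.presheaf.germ W (genericPoint X) hη g • L.presheaf.germ W (genericPoint X) hη e =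
        (fi * φ) • L.presheaf.germ W (genericPoint X) hη e
      rw [← Mero.germ_smul, ← hg, TopCat.Presheaf.germ_res_apply, hσ, ← hφ', smul_smul]
    have hg0 : g ≠ 0 := by
      rintro rfl
      rw [map_zero] at hgη
      exact mul_ne_zero hfi0 hφ0 hgη.symm
    have hcod1 : ∀ (z : X) (hz : z ∈ W), ringKrullDim (X.presheaf.stalk z) = 1 →
        IsUnit (X.presheaf.germ W z hz g) := by
      intro z hz hdim
      obtain ⟨u, hu, hfu⟩ := key z hdim hz e (hge z hz) (hge _ _) φ hφ'.symm
      have h1 : (X.presheaf.stalkSpecializes (ExtDD.gen_spz z)).hom (X.presheaf.germ W z hz g) =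
          (X.presheaf.stalkSpecializes (ExtDD.gen_spz z)).hom u := by
        rw [ExtDD.specO_germ, hgη, hfu]
      rw [spec_injective z h1]
      exact hu
    have hunit : IsUnit (X.presheaf.germ W y hyW g) :=
      isUnit_germ_of_codim_one hW g hg0 hcod1 y hyW
    have hgerm : L.presheaf.germ ⊤ y trivial σ =
        X.presheaf.germ W y hyW g • L.presheaf.germ W y hyW e := by
      rw [← Mero.germ_smul, ← hg, TopCat.Presheaf.germ_res_apply]
    unfold IsGen
    rw [hgerm]
    obtain ⟨ug, hug⟩ := hunit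
    have h2 : (fun r : X.presheaf.stalk y =>
        r • (X.presheaf.germ W y hyW g • L.presheaf.germ W y hyW e)) =
        (fun r : X.presheaf.stalk y => r • L.presheaf.germ W y hyW e) ∘
          (fun r : X.presheaf.stalk y => r * ↑ug) := by
      funext r
      simp only [Function.comp_apply, hug, mul_smul]
    rw [h2]
    exact (hge y hyW).comp (Units.mulRight_bijective ug)
  haveI := isIso_homOfSec L σ hgen
  exact ⟨(asIso (Groth.Agent.Helper13.LocFree.homOfSec L σ)).symm⟩

end Groth.Agent.Lead.SecOrd
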