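import Mathlib
import Groth.Agent.Lib.Helper25.ShStabFormal

/-!
# (L1) for the strict positivity project: a degree drop under `P(X+n) - P(X)`
-/

set_option autoImplicit false
universe u

open Polynomial

namespace Groth.Agent.Lead.ShiftDeg

open Groth.Agent.Helper25.ShStabFormal

theorem natDegree_shift (R : ℚ[X]) (n : ℕ) : (R.comp (X + C (n : ℚ))).natDegree = R.natDegree := by
  rw [natDegree_comp, natDegree_X_add_C, mul_one]

theorem leadingCoeff_shift (R : ℚ[X]) (n : ℕ) :
    (R.comp (X + C (n : ℚ))).leadingCoeff = R.leadingCoeff := by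
  rw [leadingCoeff_comp (by rw [natDegree_X_add_C]; exact one_ne_zero), leadingCoeff_X_add_C,
    one_pow, mul_one]

theorem eval_shift (R : ℚ[X]) (n : ℕ) (x : ℚ) :
    (R.comp (X + C (n : ℚ))).eval x = R.eval (x + n) := by
  rw [eval_comp, eval_add, eval_X, eval_C]

/-- the coefficients of `P(X+n) - P(X)` vanish from `natDegree P` on -/
theorem coeff_shift_sub (P : ℚ[X]) (n : ℕ) (e : ℕ) (he : P.natDegree ≤ e) :
    (P.comp (X + C (n : ℚ)) - P).coeff e = 0 := by
  rw [coeff_sub]
  rcases he.lt_or_eq with h | h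
  · rw [coeff_eq_zero_of_natDegree_lt (by rw [natDegree_shift]; exact h),
      coeff_eq_zero_of_natDegree_lt h, sub_zero]
  · have h1 : (P.comp (X + C (n : ℚ))).coeff e = (P.comp (X + C (n : ℚ))).leadingCoeff := by
      rw [leadingCoeff, natDegree_shift, h]
    have h2 : P.coeff e = P.leadingCoeff := by rw [leadingCoeff, h]
    rw [h1, h2, leadingCoeff_shift, sub_self]

/-- (L1) -/
theorem natDegree_lt_of_shift_le (P R : ℚ[X]) (n : ℕ) (hR : R ≠ 0)
    (hR0 : ∃ N : ℕ, ∀ m : ℕ, N ≤ m → 0 ≤ R.eval (m : ℚ))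
    (h : ∃ N : ℕ, ∀ m : ℕ, N ≤ m →
      R.eval ((m : ℚ) + n) ≤ P.eval ((m : ℚ) + n) - P.eval (m : ℚ)) :
    R.natDegree < P.natDegree := by
  by_contra hlt
  rw [not_lt] at hlt
  set e := R.natDegree with he
  set R' := R.comp (X + C (n : ℚ)) with hR'
  set D := P.comp (X + C (n : ℚ)) - P with hD
  -- `R'` has positive leading coefficient
  have hR'deg : R'.natDegree = e := natDegree_shift R n
  have hR'nn : ∃ N : ℕ, ∀ m : ℕ, N ≤ m → 0 ≤ R'.eval (m : ℚ) := by
    obtain ⟨N, hN⟩ := hR0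
    refine ⟨N, fun m hm => ?_⟩
    rw [hR', eval_shift]
    have := hN (m + n) (le_trans hm (Nat.le_add_right _ _))
    simpa using this
  have hc : 0 ≤ R'.coeff e := coeff_nonneg_of_eventually_nonneg R' e hR'deg.le hR'nn
  have hc' : R'.coeff e = R.leadingCoeff := by
    have : R'.coeff e = R'.leadingCoeff := by rw [leadingCoeff, hR'deg]
    rw [this, hR', leadingCoeff_shift]
  have hlc : 0 < R.leadingCoeff := by
    rcases (hc' ▸ hc).lt_or_eq with h1 | h1
    · exact h1
    · exact absurd (leadingCoeff_eq_zero.mp h1.symm) hR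
  -- `Q = D - R'` is eventually nonnegative of degree `≤ e`
  have hDdeg : D.natDegree ≤ e := by
    refine (natDegree_sub_le _ _).trans (max_le ?_ hlt)
    rw [natDegree_shift]; exact hlt
  have hQdeg : (D - R').natDegree ≤ e :=
    (natDegree_sub_le _ _).trans (max_le hDdeg hR'deg.le)
  have hQnn : ∃ N : ℕ, ∀ m : ℕ, N ≤ m → 0 ≤ (D - R').eval (m : ℚ) := by
    obtain ⟨N, hN⟩ := h
    refine ⟨N, fun m hm => ?_⟩
    rw [eval_sub, hD, eval_sub, hR', eval_shift, eval_shift]
    have := hN m hm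
    linarith
  have hq := coeff_nonneg_of_eventually_nonneg (D - R') e hQdeg hQnn
  rw [coeff_sub, hD, coeff_shift_sub P n e hlt, hc'] at hq
  linarith

end Groth.Agent.Lead.ShiftDeg
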