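import Mathlib
import Groth.Agent.Lib.Lead.SkReg1

/-!
# Spreading out a regular sequence from a localization at a prime to a basic open set

If `depth M_p ≥ r` there are `g ∉ p` and `f₁, …, f_r ∈ p` forming a weakly regular sequence on `M_{gg'}`
for every `g'`.
-/

set_option autoImplicit false
set_option linter.style.haveILetI false
set_option linter.unusedSectionVars false

universe u

open LocCoh IsLocalRing RingTheory.Sequence

namespace Groth.Agent.Lead.SkReg

open Groth.Agent.Lead

section Gen

variable {A : Type u} [CommRing A]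

/-- `(M/xM)_S ≅ M_S / x M_S`. -/
noncomputable def locQuotEquiv (S : Submonoid A) (x : A) (M : Type u)
    [AddCommGroup M] [Module A M] :
    LocalizedModule S (QuotSMulTop x M) ≃ₗ[Localization S]
      QuotSMulTop (algebraMap A (Localization S) x) (LocalizedModule S M) :=
  (IsLocalizedModule.isBaseChange S (Localization S)
      (LocalizedModule.mkLinearMap S (QuotSMulTop x M))).equiv.symm ≪≫ₗ
    (QuotSMulTop.algebraMapTensorEquivTensorQuotSMulTop x M (Localization S)).symm ≪≫ₗ
    QuotSMulTop.congr _ (IsLocalizedModule.isBaseChange S (Localization S)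
      (LocalizedModule.mkLinearMap S M)).equiv

/-- If the kernel of `a` on `M` is `S`-torsion then `a` is regular on `S⁻¹M`. -/
theorem isSMulRegular_localized_of_ker (S : Submonoid A) (M : Type u) [AddCommGroup M]
    [Module A M] (a : A) (h : ∀ m : M, a • m = 0 → ∃ t ∈ S, t • m = 0) :
    IsSMulRegular (LocalizedModule S M) (algebraMap A (Localization S) a) := by
  rw [isSMulRegular_iff_right_eq_zero_of_smul]
  intro z hz
  induction z using LocalizedModule.induction_on with
  | h m s =>
    rw [algebraMap_smul, LocalizedModule.smul'_mk, ← LocalizedModule.zero_mk s,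
      LocalizedModule.mk_eq] at hz
    obtain ⟨u, hu⟩ := hz
    rw [smul_zero, smul_zero, Submonoid.smul_def, Submonoid.smul_def] at hu
    have h1 : a • (((u : A) * (s : A)) • m) = 0 := by
      rw [smul_comm, mul_smul]
      exact hu
    obtain ⟨t, ht, htm⟩ := h _ h1
    rw [← LocalizedModule.zero_mk s, LocalizedModule.mk_eq]
    refine ⟨⟨t * ((u : A) * (s : A)), S.mul_mem ht (S.mul_mem u.2 s.2)⟩, ?_⟩
    rw [smul_zero, smul_zero, Submonoid.smul_def, Submonoid.smul_def]
    change (t * ((u : A) * (s : A))) • (s : A) • m = 0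
    rw [smul_comm, mul_smul, htm, smul_zero]

end Gen

variable {A : Type u} [CommRing A] [IsNoetherianRing A]

/-- A regular element on `M_p` has kernel on `M` killed by powers of some `g ∉ p`. -/
theorem spread (p : Ideal A) [p.IsPrime] (M : Type u) [AddCommGroup M] [Module A M]
    [Module.Finite A M] (a : A)
    (hreg : IsSMulRegular (LocalizedModule p.primeCompl M)
      (algebraMap A (Localization.AtPrime p) a)) :
    ∃ g : A, g ∉ p ∧ ∀ m : M, a • m = 0 → ∃ n : ℕ, g ^ n • m = 0 := by
  obtain ⟨K, hK⟩ : ∃ K : Submodule A M, K = LinearMap.ker (LinearMap.lsmul A M a) := ⟨_, rfl⟩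
  have hKmem : ∀ m : M, m ∈ K ↔ a • m = 0 := by
    intro m
    rw [hK, LinearMap.mem_ker, LinearMap.lsmul_apply]
  haveI : Module.Finite A K := Module.Finite.iff_fg.2 (IsNoetherian.noetherian K)
  haveI : Subsingleton (LocalizedModule p.primeCompl K) := by
    rw [LocalizedModule.subsingleton_iff]
    intro k
    have h1 : a • (k : M) = 0 := (hKmem _).1 k.2
    have h2 : (algebraMap A (Localization.AtPrime p) a) •
        LocalizedModule.mkLinearMap p.primeCompl M (k : M) = 0 := by
      rw [algebraMap_smul, ← map_smul, h1, map_zero]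
    have h3 : LocalizedModule.mkLinearMap p.primeCompl M (k : M) = 0 :=
      hreg.right_eq_zero_of_smul h2
    obtain ⟨r, hr, hrk⟩ := LocalizedModule.mem_ker_mkLinearMap_iff.1 (LinearMap.mem_ker.2 h3)
    exact ⟨r, hr, Subtype.ext hrk⟩
  obtain ⟨g, hg, hsub⟩ := LocalizedModule.exists_subsingleton_away (M := K) p
  refine ⟨g, hg, fun m hm => ?_⟩
  obtain ⟨t, ⟨n, rfl⟩, ht⟩ := (LocalizedModule.subsingleton_iff
    (S := Submonoid.powers g)).1 hsub ⟨m, (hKmem m).2 hm⟩
  exact ⟨n, congrArg Subtype.val ht⟩

/-- **Spreading out a regular sequence.** -/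
theorem exists_spread (p : Ideal A) [hp : p.IsPrime] : ∀ (r : ℕ) (M : Type u) [AddCommGroup M]
    [Module A M] [Module.Finite A M] [Nontrivial (LocalizedModule p.primeCompl M)],
    (r : ℕ∞) ≤ LocCoh.depth (Localization.AtPrime p) (LocalizedModule p.primeCompl M) →
    ∃ g : A, g ∉ p ∧ ∃ fs : List A, fs.length = r ∧ (∀ f ∈ fs, f ∈ p) ∧
      ∀ g' : A, IsWeaklyRegular (LocalizedModule (Submonoid.powers (g * g')) M)
        (fs.map (algebraMap A (Localization (Submonoid.powers (g * g'))))) := by
  intro r
  induction r with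
  | zero =>
    intro M _ _ _ _ _
    refine ⟨1, fun h => hp.ne_top ((Ideal.eq_top_iff_one p).2 h), [], rfl, ?_, fun g' => ?_⟩
    · intro f hf
      exact absurd hf (List.not_mem_nil)
    · rw [List.map_nil]
      exact IsWeaklyRegular.nil _ _
  | succ r ih =>
    intro M _ _ _ _ hr
    have h1 : (1 : ℕ∞) ≤
        LocCoh.depth (Localization.AtPrime p) (LocalizedModule p.primeCompl M) :=
      le_trans (by exact_mod_cast Nat.succ_le_succ (Nat.zero_le r)) hr
    obtain ⟨a, hap, hareg⟩ := FinRes.exists_regular_of_one_le_depth p M h1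
    obtain ⟨g₁, hg₁, hK⟩ := spread p M a hareg
    haveI : Nontrivial (LocalizedModule p.primeCompl (QuotSMulTop a M)) :=
      nontrivial_localized_quotSMulTop p M a hap
    have hd := FinRes.depth_localized_quotSMulTop_add_one p M a hap hareg
    have hr' : (r : ℕ∞) ≤ LocCoh.depth (Localization.AtPrime p)
        (LocalizedModule p.primeCompl (QuotSMulTop a M)) := by
      rw [← hd, Nat.cast_succ] at hr
      exact (ENat.add_le_add_iff_right (by simp)).mp hr
    obtain ⟨g₂, hg₂, fs', hlen, hmem, hwr⟩ := ih (QuotSMulTop a M) hr'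
    refine ⟨g₁ * g₂, ?_, a :: fs', by rw [List.length_cons, hlen], ?_, ?_⟩
    · exact fun h => (hp.mem_or_mem h).elim hg₁ hg₂
    · intro f hf
      rcases List.mem_cons.1 hf with rfl | hf
      · exact hap
      · exact hmem f hf
    · intro g'
      rw [List.map_cons, isWeaklyRegular_cons_iff]
      constructor
      · apply isSMulRegular_localized_of_ker
        intro m hm
        obtain ⟨n, hn⟩ := hK m hm
        refine ⟨(g₁ * g₂ * g') ^ n, ⟨n, rfl⟩, ?_⟩
        have h2 : (g₁ * g₂ * g') ^ n = (g₂ * g') ^ n * g₁ ^ n := by ring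
        rw [h2, mul_smul, hn, smul_zero]
      · have key : ∀ x y : A, x = y →
            IsWeaklyRegular (LocalizedModule (Submonoid.powers x) (QuotSMulTop a M))
              (fs'.map (algebraMap A (Localization (Submonoid.powers x)))) →
            IsWeaklyRegular (LocalizedModule (Submonoid.powers y) (QuotSMulTop a M))
              (fs'.map (algebraMap A (Localization (Submonoid.powers y)))) := by
          intro x y h
          subst h
          exact id
        have h2 := key _ _ (by ring : g₂ * (g₁ * g') = g₁ * g₂ * g') (hwr (g₁ * g'))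
        exact ((locQuotEquiv (Submonoid.powers (g₁ * g₂ * g')) a M).isWeaklyRegular_congr _).mp h2

end Groth.Agent.Lead.SkReg
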