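import Mathlib
import Groth.Agent.Lib.Lead.SnapperFinal
import Groth.Agent.Lib.Helper6.CoeffOnes

/-!
# Intersection with an effective Cartier divisor (top coefficients of Snapper polynomials)
-/

set_option autoImplicit false

universe u

open CategoryTheory CategoryTheory.Limits AlgebraicGeometry Opposite TopologicalSpace

namespace Groth.Agent.Lead.SnapperCartier

open Groth.Agent.Lead.EulerK0 Groth.Agent.Lead.EffDeg Groth.Agent.Lead.DegTensor
  Groth.Agent.Lead.PolyDeg Groth.Agent.Lead.Snapper Groth.Agent.Lead.SnapperComp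
  Groth.Agent.Lead.SnapperFinal Groth.Agent.Helper13.Tensor

section Reindex

variable {X : Scheme.{u}}

/-- dropping a first exponent equal to zero -/
theorem tensorPows_cons_zero (F : X.Modules) : ∀ (e : ℕ) (L : Fin (e + 1) → X.Modules)
    (n : Fin (e + 1) → ℕ), n 0 = 0 →
    Nonempty (Curv2.tensorPows F (e + 1) L n ≅
      Curv2.tensorPows F e (fun j => L j.succ) (fun j => n j.succ))
  | 0, L, n, h0 => by
    have e0 : Curv2.tensorPows F 1 L n = CohB1.tensorMod F (Coh.structureModule X) := by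
      show CohB1.tensorMod F (CohB1.tensorPow (L (Fin.last 0)) (n (Fin.last 0))) = _
      have : n (Fin.last 0) = 0 := h0
      rw [this]
      rfl
    exact ⟨eqToIso e0 ≪≫ rid F⟩
  | e + 1, L, n, h0 => by
    obtain ⟨ih⟩ := tensorPows_cons_zero F e (fun j => L j.castSucc) (fun j => n j.castSucc) h0
    exact ⟨mapIso ih (Iso.refl _)⟩

end Reindex

section Main

variable (k : Type u) [Field k] {X : Scheme.{u}} [X.Over (Spec (CommRingCat.of k))]
  [IsProper (X ↘ Spec (CommRingCat.of k))]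

/-- `χ(E ⊗ O(D)) = χ(E) + χ(O_D ⊗ E ⊗ O(D))` -/
theorem euler_twist_divisor (D : X.IdealSheafData) (L : X.Modules) (hL : PicF.IsInvertible L)
    (hLD : ClSub.IsInverseOf L (ClSub.idealMod D))
    (n : ℕ) (E : X.Modules) (hE : FlatMod.IsFinLocFreeOfRank n E) :
    Curv2.euler k X (CohB1.tensorMod E L) =
      Curv2.euler k X E + Curv2.euler k X (CohB1.tensorMod (ClSub.quotMod D) (CohB1.tensorMod E L)) := by
  haveI : IsNoetherian X := isNoetherian_of_proper' k X
  obtain ⟨eLD⟩ := hLD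
  have hO : Coh.IsCoh (Coh.structureModule X) := isCoh_structureModule
  have hLc : Coh.IsCoh L := Groth.Agent.Helper13.CurveDeg.isCoh_of_isInvertible L hL
  have hI : Coh.IsCoh (ClSub.idealMod D) := Groth.Agent.Helper24.PtIdeal.isCoh_idealMod D
  have hQ : Coh.IsCoh (ClSub.quotMod D) := Groth.Agent.Helper24.PtIdeal.isCoh_quotMod D
  have hEc : Coh.IsCoh E :=
    isCoh_of_iso (Groth.Agent.Helper13.Tensor.rid E)
      (Groth.Agent.Helper13.K0Tensor.isCoh_tensor E n hE _ hO)
  have hGr : FlatMod.IsFinLocFreeOfRank n (CohB1.tensorMod E L) :=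
    isFinLocFreeOfRank_tensor E n hE L (isFinLocFreeOfRank_one_of_isInvertible L hL)
  have hG : Coh.IsCoh (CohB1.tensorMod E L) :=
    Groth.Agent.Helper13.K0Tensor.isCoh_tensor E n hE L hLc
  have hT := Groth.Agent.Helper13.TensorFunctor.tensorSC_shortExact_of_flat
    (Groth.Agent.Helper24.PtIdeal.idealSC D) (Groth.Agent.Helper24.PtIdeal.idealSC_shortExact D)
    (CohB1.tensorMod E L) (fun x => flat_stalk_of_rank _ n hGr x)
  have h₁ : Coh.IsCoh (CohB1.tensorMod (ClSub.idealMod D) (CohB1.tensorMod E L)) :=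
    isCoh_of_iso (Groth.Agent.Helper13.Tensor.braid _ _)
      (Groth.Agent.Helper13.K0Tensor.isCoh_tensor _ n hGr _ hI)
  have h₂ : Coh.IsCoh (CohB1.tensorMod (Coh.structureModule X) (CohB1.tensorMod E L)) :=
    isCoh_of_iso (Groth.Agent.Helper13.Tensor.lid _).symm hG
  have h₃ : Coh.IsCoh (CohB1.tensorMod (ClSub.quotMod D) (CohB1.tensorMod E L)) :=
    isCoh_of_iso (Groth.Agent.Helper13.Tensor.braid _ _)
      (Groth.Agent.Helper13.K0Tensor.isCoh_tensor _ n hGr _ hQ)
  have hadd := Groth.Agent.Helper13.EulerAdd.euler_additive k _ hT h₁ h₂ h₃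
  change Curv2.euler k X (CohB1.tensorMod (Coh.structureModule X) (CohB1.tensorMod E L)) =
    Curv2.euler k X (CohB1.tensorMod (ClSub.idealMod D) (CohB1.tensorMod E L)) +
    Curv2.euler k X (CohB1.tensorMod (ClSub.quotMod D) (CohB1.tensorMod E L)) at hadd
  have e₂ := euler_iso k (Groth.Agent.Helper13.Tensor.lid (CohB1.tensorMod E L)) h₂ hG
  let i₁ : CohB1.tensorMod (ClSub.idealMod D) (CohB1.tensorMod E L) ≅ E :=
    Groth.Agent.Helper13.Tensor.braid _ _ ≪≫
      Groth.Agent.Helper13.Tensor.assoc E L (ClSub.idealMod D) ≪≫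
      Groth.Agent.Helper13.Tensor.mapIso (Iso.refl E) eLD ≪≫
      Groth.Agent.Helper13.Tensor.rid E
  have e₁ := euler_iso k i₁ h₁ hEc
  rw [e₂, e₁] at hadd
  exact hadd

theorem s7648 (hA : NewtonHyp)
    (e : ℕ) (hX : topologicalKrullDim X = e + 1) (D : X.IdealSheafData)
    (L : Fin (e + 1) → X.Modules) (hL : ∀ j, PicF.IsInvertible (L j))
    (hLD : ClSub.IsInverseOf (L 0) (ClSub.idealMod D))
    (P : MvPolynomial (Fin (e + 1)) ℚ) (Q : MvPolynomial (Fin e) ℚ)
    (hP : ∀ n : Fin (e + 1) → ℕ, (Curv2.euler k X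
      (Curv2.tensorPows (Coh.structureModule X) (e + 1) L n) : ℚ) =
        MvPolynomial.eval (fun i => (n i : ℚ)) P)
    (hQ : ∀ n : Fin e → ℕ, (Curv2.euler k X
      (Curv2.tensorPows (ClSub.quotMod D) e (fun j => L j.succ) n) : ℚ) =
        MvPolynomial.eval (fun i => (n i : ℚ)) Q)
    (hDl : ∀ (P R : MvPolynomial (Fin (e + 1)) ℚ) (Q : MvPolynomial (Fin e) ℚ),
      P.totalDegree ≤ e + 1 →
      (∀ n : Fin (e + 1) → ℕ,
        MvPolynomial.eval (fun i => (((n + Pi.single 0 1 : Fin (e + 1) → ℕ) i : ℕ) : ℚ)) P -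
          MvPolynomial.eval (fun i => (n i : ℚ)) P =
          MvPolynomial.eval (fun i => (((n + Pi.single 0 1 : Fin (e + 1) → ℕ) i : ℕ) : ℚ)) R) →
      (∀ m : Fin e → ℕ,
        MvPolynomial.eval (fun i => (((Fin.cons 0 m : Fin (e + 1) → ℕ) i : ℕ) : ℚ)) R =
          MvPolynomial.eval (fun i => (m i : ℚ)) Q) →
      MvPolynomial.coeff (Finsupp.equivFunOnFinite.symm fun _ : Fin (e + 1) => 1) P =
        MvPolynomial.coeff (Finsupp.equivFunOnFinite.symm fun _ : Fin e => 1) Q) :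
    MvPolynomial.coeff (Finsupp.equivFunOnFinite.symm fun _ : Fin (e + 1) => 1) P =
      MvPolynomial.coeff (Finsupp.equivFunOnFinite.symm fun _ : Fin e => 1) Q := by
  haveI : IsNoetherian X := isNoetherian_of_proper' k X
  have hL1 : ∀ i, FlatMod.IsFinLocFreeOfRank 1 (L i) :=
    fun i => isFinLocFreeOfRank_one_of_isInvertible _ (hL i)
  have hO : Coh.IsCoh (Coh.structureModule X) := isCoh_structureModule
  have hQc : Coh.IsCoh (ClSub.quotMod D) := Groth.Agent.Helper24.PtIdeal.isCoh_quotMod D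
  have hdim : ∀ M : X.Modules, topologicalKrullDim ↥(CohB1.support M) ≤ ((e + 1 : ℕ) : WithBot ℕ∞) := by
    intro M
    refine (topologicalKrullDim_subspace_le X _).trans ?_
    rw [hX]
    push_cast
    exact le_rfl
  -- degree of `P`
  obtain ⟨P₀, hP₀, hev₀⟩ := s1528 k hA (Coh.structureModule X) hO (e + 1) (hdim _) (e + 1) L hL
  have hPP : P = P₀ := Groth.Agent.Helper6.CoeffOnes.eq_of_eval_nat_eq P P₀
    (fun n => by rw [← hP n, ← hev₀ n])
  have hPdeg : P.totalDegree ≤ e + 1 := hPP ▸ hP₀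
  -- the polynomial of `O_D`
  obtain ⟨R, -, hRe⟩ := s1528 k hA (ClSub.quotMod D) hQc (e + 1) (hdim _) (e + 1) L hL
  refine hDl P R Q hPdeg (fun n => ?_) (fun m => ?_)
  · rw [← hP, ← hP, ← hRe]
    have hT := rank_one_tw (e + 1) L hL1 n
    have hT' := rank_one_tw (e + 1) L hL1 (n + Pi.single 0 1)
    obtain ⟨e1⟩ := tw_step (e + 1) L n (n + Pi.single 0 1) 0 (by simp)
      (fun j hj => by simp [Pi.single_eq_of_ne hj])
    have hTc : Coh.IsCoh (tw (e + 1) L n) :=
      Groth.Agent.Helper13.CurveDeg.isCoh_of_isInvertible _ (isInvertible_tw (e + 1) L hL n)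
    have hTc' : Coh.IsCoh (tw (e + 1) L (n + Pi.single 0 1)) :=
      Groth.Agent.Helper13.CurveDeg.isCoh_of_isInvertible _ (isInvertible_tw (e + 1) L hL _)
    have s1 := euler_twist_divisor k D (L 0) (hL 0) hLD 1 (tw (e + 1) L n) hT
    have s2 := euler_iso k e1 hTc' (isCoh_of_iso e1 hTc')
    obtain ⟨e2⟩ := tensorPows_iso (ClSub.quotMod D) (e + 1) L (n + Pi.single 0 1)
    have hc2 := isCoh_tensor_right _ 1 hT' _ hQc
    have s3 := euler_iso k (e2 ≪≫ mapIso (Iso.refl _) e1) (isCoh_of_iso e2.symm hc2)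
      (isCoh_of_iso (mapIso (Iso.refl _) e1) hc2)
    change Curv2.euler k X (tw (e + 1) L (n + Pi.single 0 1)) = _ at s2
    have : Curv2.euler k X (tw (e + 1) L (n + Pi.single 0 1)) - Curv2.euler k X (tw (e + 1) L n) =
        Curv2.euler k X (Curv2.tensorPows (ClSub.quotMod D) (e + 1) L (n + Pi.single 0 1)) := by
      rw [s2, s1, s3]
      ring
    exact_mod_cast this
  · rw [← hRe, ← hQ]
    obtain ⟨e3⟩ := tensorPows_cons_zero (ClSub.quotMod D) e L (Fin.cons 0 m) rfl
    have hT := rank_one_tw (e + 1) L hL1 (Fin.cons 0 m)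
    obtain ⟨e2⟩ := tensorPows_iso (ClSub.quotMod D) (e + 1) L (Fin.cons 0 m)
    have hc2 := isCoh_tensor_right _ 1 hT _ hQc
    have hc1 := isCoh_of_iso e2.symm hc2
    have := euler_iso k e3 hc1 (isCoh_of_iso e3 hc1)
    exact_mod_cast this

end Main

end Groth.Agent.Lead.SnapperCartier
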