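import Groth.Agent.Lib.Lead.TFDense
import Groth.Agent.Lib.Lead.IsoPt
import Groth.Agent.Lib.Lead.ZClos5

/-!
# Torsion-free quotients agreeing on a dense open agree (lead)
-/

set_option autoImplicit false
universe u
open CategoryTheory CategoryTheory.Limits AlgebraicGeometry Opposite TopologicalSpace
open IsLocalRing

namespace Groth.Agent.Lead.TFQuot

variable {X : Scheme.{u}}

/-- on a scheme with Noetherian underlying space, a dense open contains every point whose local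
ring is a field. -/
theorem mem_of_dense_of_isField [NoetherianSpace X] (U : X.Opens) (hU : Dense (U : Set X))
    (η : X) (hF : IsField (X.presheaf.stalk η)) : η ∈ U := by
  have hcomp : closure ({η} : Set X) ∈ irreducibleComponents X := by
    refine ⟨isIrreducible_singleton.closure, fun Z hZ hηZ => ?_⟩
    obtain ⟨η', hη'⟩ := QuasiSober.sober hZ.closure isClosed_closure
    have h1 : closure ({η'} : Set X) = closure Z := hη'
    have hsp : η' ⤳ η := by
      rw [specializes_iff_mem_closure, h1]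
      exact subset_closure (hηZ (subset_closure rfl))
    have hηη' := Groth.Agent.Lead.IsoPt.eq_of_specializes_of_isField η η' hF hsp
    subst hηη'
    rw [h1]
    exact subset_closure
  obtain ⟨O, hO, hne, hsub⟩ :=
    NoetherianSpace.exists_isOpen_nonempty_subset_irreducibleComponent _ hcomp
  obtain ⟨u, huO, huU⟩ := hU.inter_open_nonempty O hO hne
  have hsp : η ⤳ u := specializes_iff_mem_closure.2 (hsub huO)
  exact hsp.mem_open U.isOpen huU

/-- if two quotients of `E` agree over a dense open `U` and the second is torsion-free, then a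
section killed by the first quotient map is killed by the second. -/
theorem app_eq_zero_of_app_eq_zero [IsReduced X] [IsLocallyNoetherian X] [NoetherianSpace X]
    (E F₁ F₂ : X.Modules) [F₂.IsQuasicoherent] (ht₂ : TorSh.IsTorsionFree F₂)
    (q₁ : E ⟶ F₁) (q₂ : E ⟶ F₂) (U : X.Opens) (hU : Dense (U : Set X))
    (φ : F₁.restrict U.ι ⟶ F₂.restrict U.ι)
    (hφ : (Scheme.Modules.restrictFunctor U.ι).map q₁ ≫ φ =
      (Scheme.Modules.restrictFunctor U.ι).map q₂)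
    (W : X.Opens) (e : Γ(E, W)) (he : q₁.app W e = 0) : q₂.app W e = 0 := by
  apply Groth.Agent.Lead.TFDense.eq_zero_of_germ_eq_zero_of_isField F₂ ht₂
  intro η hηW hfield
  have hηU : η ∈ U := mem_of_dense_of_isField U hU η hfield
  have hMW : U.ι ''ᵁ (U.ι ⁻¹ᵁ W) ≤ W := U.ι.image_preimage_le W
  have hηM : η ∈ U.ι ''ᵁ (U.ι ⁻¹ᵁ W) := ⟨⟨η, hηU⟩, hηW, rfl⟩
  obtain ⟨e₁, he₁⟩ : ∃ e₁ : Γ(E, U.ι ''ᵁ (U.ι ⁻¹ᵁ W)),
      e₁ = E.presheaf.map (homOfLE hMW).op e := ⟨_, rfl⟩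
  have h1 : q₁.app (U.ι ''ᵁ (U.ι ⁻¹ᵁ W)) e₁ = 0 := by
    rw [he₁, Groth.Agent.Lead.ZClos1.app_map, he, map_zero]
  have h2 : q₂.app (U.ι ''ᵁ (U.ι ⁻¹ᵁ W)) e₁ = 0 := by
    have h3 := congrArg (fun g => g.app (U.ι ⁻¹ᵁ W)) hφ
    have h4 := congr($h3 e₁)
    have h5 : φ.app (U.ι ⁻¹ᵁ W) (q₁.app (U.ι ''ᵁ (U.ι ⁻¹ᵁ W)) e₁) =
        q₂.app (U.ι ''ᵁ (U.ι ⁻¹ᵁ W)) e₁ := h4
    rw [← h5, h1]
    exact map_zero (ConcreteCategory.hom (φ.app (U.ι ⁻¹ᵁ W)))
  have h6 : F₂.presheaf.germ W η hηW (q₂.app W e) =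
      F₂.presheaf.germ (U.ι ''ᵁ (U.ι ⁻¹ᵁ W)) η hηM (q₂.app (U.ι ''ᵁ (U.ι ⁻¹ᵁ W)) e₁) := by
    rw [he₁, Groth.Agent.Lead.ZClos1.app_map, TopCat.Presheaf.germ_res_apply]
  rw [h6, h2, map_zero]

/-- **Torsion-free quotients of `E` which are isomorphic (as quotients) over a dense open are
isomorphic.** -/
theorem exists_iso_of_iso_restrict [IsReduced X] [IsLocallyNoetherian X] [NoetherianSpace X]
    (E F₁ F₂ : X.Modules) [F₁.IsQuasicoherent] [F₂.IsQuasicoherent]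
    (ht₁ : TorSh.IsTorsionFree F₁) (ht₂ : TorSh.IsTorsionFree F₂)
    (q₁ : E ⟶ F₁) (q₂ : E ⟶ F₂) [Epi q₁] [Epi q₂]
    (U : X.Opens) (hU : Dense (U : Set X))
    (φ : F₁.restrict U.ι ≅ F₂.restrict U.ι)
    (hφ : (Scheme.Modules.restrictFunctor U.ι).map q₁ ≫ φ.hom =
      (Scheme.Modules.restrictFunctor U.ι).map q₂) :
    ∃ ψ : F₁ ≅ F₂, q₁ ≫ ψ.hom = q₂ ∧ (Scheme.Modules.restrictFunctor U.ι).map ψ.hom = φ.hom := by
  have hφ' : (Scheme.Modules.restrictFunctor U.ι).map q₂ ≫ φ.inv =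
      (Scheme.Modules.restrictFunctor U.ι).map q₁ := by
    rw [← hφ, Category.assoc, Iso.hom_inv_id, Category.comp_id]
  have h12 : kernel.ι q₁ ≫ q₂ = 0 := by
    apply Scheme.Modules.hom_ext
    intro W
    ext t
    have h1 : q₁.app W ((kernel.ι q₁).app W t) = 0 := by
      have h2 := congrArg (fun g => g.app W) (kernel.condition q₁)
      exact congr($h2 t)
    exact app_eq_zero_of_app_eq_zero E F₁ F₂ ht₂ q₁ q₂ U hU φ.hom hφ W _ h1
  have h21 : kernel.ι q₂ ≫ q₁ = 0 := by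
    apply Scheme.Modules.hom_ext
    intro W
    ext t
    have h1 : q₂.app W ((kernel.ι q₂).app W t) = 0 := by
      have h2 := congrArg (fun g => g.app W) (kernel.condition q₂)
      exact congr($h2 t)
    exact app_eq_zero_of_app_eq_zero E F₂ F₁ ht₁ q₂ q₁ U hU φ.inv hφ' W _ h1
  have e1 : q₁ ≫ Abelian.epiDesc q₁ q₂ h12 = q₂ := Abelian.comp_epiDesc q₁ q₂ h12
  have e2 : q₂ ≫ Abelian.epiDesc q₂ q₁ h21 = q₁ := Abelian.comp_epiDesc q₂ q₁ h21
  refine ⟨⟨Abelian.epiDesc q₁ q₂ h12, Abelian.epiDesc q₂ q₁ h21, ?_, ?_⟩, e1, ?_⟩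
  · rw [← cancel_epi q₁, ← Category.assoc, e1, e2, Category.comp_id]
  · rw [← cancel_epi q₂, ← Category.assoc, e2, e1, Category.comp_id]
  · haveI : Epi ((Scheme.Modules.restrictFunctor U.ι).map q₁) := inferInstance
    rw [← cancel_epi ((Scheme.Modules.restrictFunctor U.ι).map q₁), ← Functor.map_comp, e1, hφ]

end Groth.Agent.Lead.TFQuot
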