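import Mathlib
import Groth.Agent.Lib.Lead.Cat1
import Groth.Agent.Lib.Lead.RLR7
import Groth.Agent.Lib.Lead.FE1

/-!
# Dimension theory of finite type algebras over a field: maximal chains
-/

set_option autoImplicit false
set_option linter.style.haveILetI false
set_option linter.unusedSectionVars false

universe u

open LocCoh IsLocalRing

namespace Groth.Agent.Lead.Var

open Groth.Agent.Helper14

/-- Every maximal ideal of `k[x₁,…,xₙ]` has height `n`. -/
theorem height_of_isMaximal_mvPolynomial (k : Type u) [Field k] :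
    ∀ (n : ℕ) (M : Ideal (MvPolynomial (Fin n) k)) [M.IsMaximal], M.height = (n : ℕ∞) := by
  intro n
  induction n with
  | zero =>
    intro M hM
    have h1 : (M.height : WithBot ℕ∞) ≤ ringKrullDim (MvPolynomial (Fin 0) k) :=
      Ideal.height_le_ringKrullDim_of_ne_top hM.ne_top
    have hc : ((Nat.card (Fin 0) : ℕ) : WithBot ℕ∞) = 0 := by simp
    rw [MvPolynomial.ringKrullDim_of_isNoetherianRing, ringKrullDim_eq_zero_of_field, hc,
      add_zero] at h1
    have h2 : M.height ≤ 0 := by exact_mod_cast h1
    have h3 : M.height = 0 := by simpa using h2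
    rw [h3]
    simp
  | succ n ih =>
    intro M hM
    let e : MvPolynomial (Fin (n + 1)) k ≃+* Polynomial (MvPolynomial (Fin n) k) :=
      (MvPolynomial.finSuccEquiv k n).toRingEquiv
    let M' : Ideal (Polynomial (MvPolynomial (Fin n) k)) := M.map e
    haveI hM' : M'.IsMaximal := Ideal.map_isMaximal_of_equiv e
    have hp : (M'.under (MvPolynomial (Fin n) k)) = M'.comap Polynomial.C := by
      rw [Ideal.under_def, Polynomial.algebraMap_eq]
    haveI hpm : (M'.under (MvPolynomial (Fin n) k)).IsMaximal := by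
      rw [hp]
      exact Polynomial.isMaximal_comap_C_of_isJacobsonRing M'
    have h1 := Polynomial.height_eq_height_add_one (M'.under (MvPolynomial (Fin n) k)) M'
    have h2 : M'.height = M.height := RingEquiv.height_map e M
    rw [← h2, h1, ih (M'.under (MvPolynomial (Fin n) k))]
    push_cast
    rfl

/-- Along a saturated chain of primes of a quotient `A` of `P = k[x₁,…,xₙ]` ending at a maximal
ideal, `n = ht (f⁻¹ c.head) + length`. -/
theorem chain_formula (k A : Type u) [Field k] [CommRing A] [Algebra k A] (n : ℕ)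
    (f : MvPolynomial (Fin n) k →ₐ[k] A) (hf : Function.Surjective f)
    (c : LTSeries (PrimeSpectrum A)) (hmax : c.last.asIdeal.IsMaximal)
    (hsat : ∀ i : Fin c.length, c i.castSucc ⋖ c i.succ) :
    (n : ℕ∞) = (c.head.asIdeal.comap f.toRingHom).height + (c.length : ℕ∞) := by
  haveI : IsRegularRing k := inferInstance
  haveI : LocCoh.IsCohenMacaulayRing k := Fib.isCohenMacaulayRing_of_isRegularRing k
  haveI hCM : LocCoh.IsCohenMacaulayRing (MvPolynomial (Fin n) k) :=
    Fib.isCohenMacaulayRing_mvPolynomial (Fin n)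
  have hf' : Function.Surjective f.toRingHom := hf
  let e := specEmbOfSurjective f.toRingHom hf'
  let c' : LTSeries (PrimeSpectrum (MvPolynomial (Fin n) k)) := c.map e e.strictMono
  have hs' : ∀ i : Fin c'.length, c' (Fin.castSucc i) ⋖ c' (Fin.succ i) := by
    intro i
    have := hsat i
    exact ((isUpperSet_range_specEmbOfSurjective f.toRingHom hf').ordConnected.apply_covBy_apply_iff
      e).mpr this
  have h1 := Cat.height_chain (MvPolynomial (Fin n) k)
    (fun q _ => hCM.isCohenMacaulayLocalRing_localization q) c' hs' c'.length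
    (Nat.lt_succ_self _)
  have hlast : (c' ⟨c'.length, Nat.lt_succ_self _⟩).asIdeal = c.last.asIdeal.comap f.toRingHom :=
    rfl
  have hhead : c'.head.asIdeal = c.head.asIdeal.comap f.toRingHom := rfl
  have hlen : c'.length = c.length := rfl
  haveI : (c.last.asIdeal.comap f.toRingHom).IsMaximal :=
    Ideal.comap_isMaximal_of_surjective f.toRingHom hf'
  rw [hlast, hhead, hlen, height_of_isMaximal_mvPolynomial k n] at h1
  exact h1

/-- In a finite type domain over a field, every maximal chain of primes has length `dim A`. -/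
theorem length_eq_ringKrullDim_of_maximal_chain (k A : Type u) [Field k] [CommRing A]
    [IsDomain A] [Algebra k A] [Algebra.FiniteType k A] (c : LTSeries (PrimeSpectrum A))
    (h0 : c.head.asIdeal = ⊥) (hmax : c.last.asIdeal.IsMaximal)
    (hsat : ∀ i : Fin c.length, c i.castSucc ⋖ c i.succ) :
    (c.length : WithBot ℕ∞) = ringKrullDim A := by
  obtain ⟨n, f, hf⟩ := Algebra.FiniteType.iff_quotient_mvPolynomial''.mp
    (inferInstance : Algebra.FiniteType k A)
  have h1 := chain_formula k A n f hf c hmax hsat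
  have hf' : Function.Surjective f.toRingHom := hf
  set 𝔭 : Ideal (MvPolynomial (Fin n) k) := RingHom.ker f.toRingHom with h𝔭
  have hker : c.head.asIdeal.comap f.toRingHom = 𝔭 := by
    rw [h0, h𝔭, RingHom.ker_eq_comap_bot]
  haveI : 𝔭.IsPrime := RingHom.ker_isPrime f.toRingHom
  rw [hker] at h1
  have h2 : (c.length : WithBot ℕ∞) ≤ ringKrullDim A := Order.LTSeries.length_le_krullDim c
  have h3 := RLR.height_add_ringKrullDim_quotient_le 𝔭
  have h4 : ringKrullDim (MvPolynomial (Fin n) k ⧸ 𝔭) = ringKrullDim A :=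
    ringKrullDim_eq_of_ringEquiv (RingHom.quotientKerEquivOfSurjective hf')
  have h5 : ringKrullDim (MvPolynomial (Fin n) k) = (n : WithBot ℕ∞) := by
    rw [MvPolynomial.ringKrullDim_of_isNoetherianRing, ringKrullDim_eq_zero_of_field, zero_add]
    simp
  rw [h4, h5] at h3
  have h6 : ((n : ℕ∞) : WithBot ℕ∞) = ((𝔭.height + (c.length : ℕ∞) : ℕ∞) : WithBot ℕ∞) := by
    rw [← h1]
  have h7 : (n : WithBot ℕ∞) = (𝔭.height : WithBot ℕ∞) + (c.length : WithBot ℕ∞) := by
    have : ((n : ℕ∞) : WithBot ℕ∞) = (n : WithBot ℕ∞) := rfl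
    rw [← this, h6]
    push_cast
    rfl
  rw [h7] at h3
  have hne : 𝔭.height ≠ ⊤ := Ideal.height_ne_top_of_isPrime
  have h8 : (𝔭.height : WithBot ℕ∞) + ringKrullDim A =
      (𝔭.height : WithBot ℕ∞) + (c.length : WithBot ℕ∞) :=
    le_antisymm h3 (by gcongr)
  rw [add_comm, add_comm (𝔭.height : WithBot ℕ∞)] at h8
  exact (FE.withBot_add_right_cancel hne h8).symm

end Groth.Agent.Lead.Var
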