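import Groth.Agent.Lib.Lead.RegSec
import Groth.Agent.Lib.Lead.IdealOfMono
import Groth.Agent.Lib.Helper13.InvDual
import Groth.Agent.Lib.Helper13.TensorFunctor
import Groth.Agent.Lib.Helper13.TensorAssoc
import Groth.Agent.Lib.Helper13.TensorUnit
import Groth.Agent.Lib.Helper13.SemiLocal7
import Groth.Agent.Lib.Helper13.InvQCoh
import Groth.Agent.Lib.Helper13.PbInv
import Groth.Agent.S8914

/-!
# Zero divisors of regular sections of invertible modules (lead)
-/

set_option autoImplicit false
universe u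
open CategoryTheory CategoryTheory.Limits AlgebraicGeometry Opposite TopologicalSpace TensorProduct
open Groth.Agent.Helper13.QCoh Groth.Agent.Helper13.FinType Groth.Agent.Helper13.LocFree
open Groth.Agent.Helper13.IdealData Groth.Agent.Helper13.EffCartier
open Groth.Agent.Helper13.Inv Groth.Agent.Helper13.WeakAss Groth.Agent.Helper13.GenLoc
open Groth.Agent.Helper13.Tensor Groth.Agent.Helper13.InvDual

namespace Groth.Agent.Lead.ZeroDiv

variable {X : Scheme.{u}}

/-- the stalks of an invertible module are flat. -/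
theorem flat_stalk_of_isInvertible (J : X.Modules) (hJ : PicF.IsInvertible J) (x : X) :
    Module.Flat (X.presheaf.stalk x) (J.presheaf.stalk x) := by
  obtain ⟨U, hxU, e, he⟩ := (isInvertible_iff_exists_isGen (L := J)).1 hJ x
  have hb : Function.Bijective (LinearMap.toSpanSingleton (X.presheaf.stalk x)
      (J.presheaf.stalk x) (J.presheaf.germ U x hxU e)) := he x hxU
  exact Module.Flat.of_linearEquiv (LinearEquiv.ofBijective _ hb).symm

/-- uniqueness of tensor inverses. -/
theorem nonempty_iso_of_inverse (M A B : X.Modules)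
    (eA : CohB1.tensorMod M A ≅ Coh.structureModule X)
    (eB : CohB1.tensorMod M B ≅ Coh.structureModule X) : Nonempty (A ≅ B) :=
  ⟨(lid A).symm ≪≫ mapIso eB.symm (Iso.refl A) ≪≫ mapIso (braid M B) (Iso.refl A) ≪≫
    Groth.Agent.Helper13.Tensor.assoc B M A ≪≫ mapIso (Iso.refl B) eA ≪≫ rid B⟩

section ZeroDivisor

variable (M : X.Modules) (hM : PicF.IsInvertible M) (s : Coh.structureModule X ⟶ M)

/-- the map `M^∨ ⟶ O_X` dual to a section `s` of `M`. -/
noncomputable def dualMap : dual M ⟶ Coh.structureModule X :=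
  (lid (dual M)).inv ≫ Groth.Agent.Helper13.Tensor.map s (𝟙 (dual M)) ≫ (evIso M hM).hom

theorem mono_dualMap [Mono s] : Mono (dualMap M hM s) := by
  haveI : Mono (Groth.Agent.Helper13.Tensor.map s (𝟙 (dual M))) :=
    Groth.Agent.Helper13.TensorFunctor.mono_map_of_flat (dual M)
      (fun x => flat_stalk_of_isInvertible (dual M) (isInvertible_dual M hM) x) s
  unfold dualMap
  infer_instance

theorem bijective_stalkMap_map (x : X) (hx : x ∈ CohB1.genLocus M s) :
    Function.Bijective (stalkMap (Groth.Agent.Helper13.Tensor.map s (𝟙 (dual M))) x) := by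
  have hs : Function.Bijective (stalkLinearMap s x) := stalkMap_bijective_of_mem_genLocus M s hx
  have hid : Function.Bijective (stalkLinearMap (𝟙 (dual M)) x) :=
    stalkMap_bijective_of_isIso (𝟙 (dual M)) x
  have hT := bijective_tensorMap (stalkLinearMap s x) (stalkLinearMap (𝟙 (dual M)) x) hs hid
  have hcomp : (fun m => stalkMap (Groth.Agent.Helper13.Tensor.map s (𝟙 (dual M))) x m) =
      (stalkTensorEquiv M (dual M) x) ∘
        (TensorProduct.map (stalkLinearMap s x) (stalkLinearMap (𝟙 (dual M)) x)) ∘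
          (stalkTensorEquiv (Coh.structureModule X) (dual M) x).symm := by
    funext m
    obtain ⟨z, rfl⟩ := (stalkTensorEquiv (Coh.structureModule X) (dual M) x).surjective m
    rw [stalkMap_map, Function.comp_apply, Function.comp_apply, LinearEquiv.symm_apply_apply]
  show Function.Bijective (fun m => stalkMap (Groth.Agent.Helper13.Tensor.map s (𝟙 (dual M))) x m)
  rw [hcomp]
  exact (stalkTensorEquiv M (dual M) x).bijective.comp
    (hT.comp (stalkTensorEquiv (Coh.structureModule X) (dual M) x).symm.bijective)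

theorem bijective_stalkMap_dualMap (x : X) (hx : x ∈ CohB1.genLocus M s) :
    Function.Bijective (stalkMap (dualMap M hM s) x) := by
  have h1 : Function.Bijective (stalkMap (lid (dual M)).inv x) :=
    stalkMap_bijective_of_isIso _ x
  have h2 := bijective_stalkMap_map M s x hx
  have h3 : Function.Bijective (stalkMap (evIso M hM).hom x) := stalkMap_bijective_of_isIso _ x
  have hcomp : (fun m => stalkMap (dualMap M hM s) x m) =
      (fun m => stalkMap (evIso M hM).hom x m) ∘
        (fun m => stalkMap (Groth.Agent.Helper13.Tensor.map s (𝟙 (dual M))) x m) ∘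
          (fun m => stalkMap (lid (dual M)).inv x m) := by
    funext m
    unfold dualMap
    rw [Groth.Agent.Helper13.PbInv.stalkMap_comp, Groth.Agent.Helper13.PbInv.stalkMap_comp]
    rfl
  show Function.Bijective (fun m => stalkMap (dualMap M hM s) x m)
  rw [hcomp]
  exact h3.comp (h2.comp h1)

/-- **The zero divisor of a regular section** of an invertible module `M`: an effective Cartier
divisor `D` with `M ⊗ I_D ≅ O_X` whose support misses the locus where the section generates. -/
theorem exists_effCartier_of_regular_section (M : X.Modules) (hM : PicF.IsInvertible M)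
    (s : Coh.structureModule X ⟶ M) [Mono s] (E : Set X)
    (hE : ∀ x ∈ E, x ∈ CohB1.genLocus M s) :
    ∃ D : X.IdealSheafData, BlowUp.IsEffCartierIdeal D ∧ Disjoint E (D.support : Set X) ∧
      Nonempty (CohB1.tensorMod M (ClSub.idealMod D) ≅ Coh.structureModule X) := by
  have hJ : PicF.IsInvertible (dual M) := isInvertible_dual M hM
  haveI : (dual M).IsQuasicoherent := isQuasicoherent_of_isInvertible (dual M) hJ
  haveI : Mono (dualMap M hM s) := mono_dualMap M hM s
  let e₁ : ClSub.idealMod (idealSheafData (dualMap M hM s)) ≅ dual M :=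
    Groth.Agent.Lead.IdealOfMono.idealModIso' (dualMap M hM s)
  refine ⟨idealSheafData (dualMap M hM s), ?_, ?_, ⟨mapIso (Iso.refl M) e₁ ≪≫ evIso M hM⟩⟩
  · exact (Groth.Agent.S8914.result _).1 (isInvertible_of_iso e₁.symm hJ)
  · rw [Set.disjoint_left]
    intro x hxE hxD
    have hbij := bijective_stalkMap_dualMap M hM s x (hE x hxE)
    obtain ⟨κ, hκ⟩ := hbij.2 ((unitStalkEquiv x).symm 1)
    obtain ⟨V₀, hxV₀, k₀, rfl⟩ := TopCat.Presheaf.exists_germ_eq (dual M).presheaf κ
    rw [stalkMap_germ] at hκ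
    have h1 : X.presheaf.germ V₀ x hxV₀ (japp (dualMap M hM s) V₀ k₀) =
        X.presheaf.germ V₀ x hxV₀ 1 := by
      have h2 := congrArg (unitStalkEquiv x) hκ
      rw [unitStalkEquiv_germ, LinearEquiv.apply_symm_apply] at h2
      rw [map_one]
      exact h2
    obtain ⟨W, hxW, i₁, i₂, hi⟩ := TopCat.Presheaf.germ_eq X.presheaf x hxV₀ hxV₀ _ _ h1
    rw [map_one] at hi
    have h3 : japp (dualMap M hM s) W ((dual M).presheaf.map (homOfLE i₁.le).op k₀) = 1 := by
      rw [japp_res]
      exact hi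
    exact notMem_support_idealSheafData (dualMap M hM s) x hxW _ h3 hxD

end ZeroDivisor

/-- **On a Noetherian scheme with an ample invertible module every invertible module is a
difference of effective Cartier divisors missing a given finite set.** -/
theorem main [IsNoetherian X] (L : X.Modules) (hL : CohB1.IsAmple L)
    (N : X.Modules) (hN : PicF.IsInvertible N) (E : Set X) (hE : E.Finite) :
    ∃ D D' : X.IdealSheafData, BlowUp.IsEffCartierIdeal D ∧ BlowUp.IsEffCartierIdeal D' ∧
      Disjoint E (D.support : Set X) ∧ Disjoint E (D'.support : Set X) ∧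
      Nonempty (CohB1.tensorMod N (ClSub.idealMod D) ≅ ClSub.idealMod D') := by
  classical
  have hfin := Groth.Agent.Lead.RegSec.finite_weakAss (X := X)
  let Z : Finset X := hE.toFinset ∪ hfin.toFinset
  obtain ⟨N₁, h₁⟩ := Groth.Agent.Helper13.SemiLocal.exists_section_twist_generating_all L hL N hN Z
  obtain ⟨N₂, h₂⟩ := Groth.Agent.Helper13.SemiLocal.exists_section_twist_generating_all L hL
    (Coh.structureModule X) isInvertible_structureModule Z
  obtain ⟨n, hn₁, hn₂⟩ : ∃ n, N₁ ≤ n ∧ N₂ ≤ n := ⟨max N₁ N₂, le_max_left _ _, le_max_right _ _⟩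
  obtain ⟨s₁, hs₁⟩ := h₁ n hn₁
  obtain ⟨s₂, hs₂⟩ := h₂ n hn₂
  have hPinv : PicF.IsInvertible (CohB1.tensorPow L n) := isInvertible_tensorPow L hL.1 _
  have hM₁ : PicF.IsInvertible (CohB1.tensorMod N (CohB1.tensorPow L n)) := isInvertible_tensorMod _ _ hN hPinv
  have hM₂ : PicF.IsInvertible (CohB1.tensorMod (Coh.structureModule X) (CohB1.tensorPow L n)) :=
    isInvertible_tensorMod _ _ isInvertible_structureModule hPinv
  have hmono : ∀ (M : X.Modules) (hM : PicF.IsInvertible M) (s : Coh.structureModule X ⟶ M),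
      (∀ z ∈ Z, z ∈ CohB1.genLocus M s) → Mono s := by
    intro M hM s hs
    rw [← homOfSec_sec M s]
    apply Groth.Agent.Lead.RegSec.mono_homOfSec_of_isGen M hM
    intro x hx
    have hxZ : x ∈ Z := by
      rw [Finset.mem_union]
      exact Or.inr (hfin.mem_toFinset.2 hx)
    exact (mem_genLocus_iff_isGen M s hM x).1 (hs x hxZ)
  haveI := hmono _ hM₁ s₁ hs₁
  haveI := hmono _ hM₂ s₂ hs₂
  have hEZ : ∀ x ∈ E, x ∈ Z := by
    intro x hx
    rw [Finset.mem_union]
    exact Or.inl (hE.mem_toFinset.2 hx)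
  obtain ⟨D₁, hD₁, hdis₁, ⟨e₁⟩⟩ := exists_effCartier_of_regular_section _ hM₁ s₁ E
    (fun x hx => hs₁ x (hEZ x hx))
  obtain ⟨D₂, hD₂, hdis₂, ⟨e₂⟩⟩ := exists_effCartier_of_regular_section _ hM₂ s₂ E
    (fun x hx => hs₂ x (hEZ x hx))
  refine ⟨D₁, D₂, hD₁, hD₂, hdis₁, hdis₂, ?_⟩
  -- `(O ⊗ P) ⊗ (N ⊗ I₁) ≅ P ⊗ (N ⊗ I₁) ≅ (P ⊗ N) ⊗ I₁ ≅ (N ⊗ P) ⊗ I₁ ≅ O`
  let eA : CohB1.tensorMod (CohB1.tensorMod (Coh.structureModule X) (CohB1.tensorPow L n))
      (CohB1.tensorMod N (ClSub.idealMod D₁)) ≅ Coh.structureModule X :=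
    mapIso (lid (CohB1.tensorPow L n)) (Iso.refl _) ≪≫
      (Groth.Agent.Helper13.Tensor.assoc (CohB1.tensorPow L n) N _).symm ≪≫
      mapIso (braid (CohB1.tensorPow L n) N) (Iso.refl _) ≪≫ e₁
  exact nonempty_iso_of_inverse _ _ _ eA e₂

end Groth.Agent.Lead.ZeroDiv
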